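import Mathlib
import Cfsg.Agent.Helper9.T11.Chk

set_option autoImplicit false
set_option Elab.async false

/-!
A part of the enumeration on 11 points: the test holds at every permutation of the part.
-/

namespace Cfsg.Agent.Helper9.T11

set_option maxRecDepth 100000 in
theorem ch_1_10_2_3_4 : enum 11 ck11 1 5 4401680 1055 6 4 = true := by
  decide +kernel

set_option maxRecDepth 100000 in
theorem ch_1_10_2_3_5 : enum 11 ck11 1 5 5450256 1071 6 5 = true := by
  decide +kernel

set_option maxRecDepth 100000 in
theorem ch_1_10_2_3_6 : enum 11 ck11 1 5 6498832 1103 6 6 = true := by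
  decide +kernel

set_option maxRecDepth 100000 in
theorem ch_1_10_2_3_7 : enum 11 ck11 1 5 7547408 1167 6 7 = true := by
  decide +kernel

set_option maxRecDepth 100000 in
theorem ch_1_10_2_3_8 : enum 11 ck11 1 5 8595984 1295 6 8 = true := by
  decide +kernel

set_option maxRecDepth 100000 in
theorem ch_1_10_2_3_9 : enum 11 ck11 1 5 9644560 1551 6 9 = true := by
  decide +kernel

theorem ch_1_10_2_3 : enum 11 ck11 1 6 207376 1039 5 3 = true := by
  refine enum_intro 11 ck11 1 5 207376 1039 5 3 ?_
  intro v hv hb hd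
  interval_cases v
  · exact absurd hb (by decide)
  · exact absurd hb (by decide)
  · exact absurd hb (by decide)
  · exact absurd hb (by decide)
  · exact ch_1_10_2_3_4
  · exact ch_1_10_2_3_5
  · exact ch_1_10_2_3_6
  · exact ch_1_10_2_3_7
  · exact ch_1_10_2_3_8
  · exact ch_1_10_2_3_9
  · exact absurd hb (by decide)

set_option maxRecDepth 100000 in
theorem ch_1_10_2_4_3 : enum 11 ck11 1 5 3418640 1055 6 3 = true := by
  decide +kernel

set_option maxRecDepth 100000 in
theorem ch_1_10_2_4_5 : enum 11 ck11 1 5 5515792 1079 6 5 = true := by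
  decide +kernel

set_option maxRecDepth 100000 in
theorem ch_1_10_2_4_6 : enum 11 ck11 1 5 6564368 1111 6 6 = true := by
  decide +kernel

set_option maxRecDepth 100000 in
theorem ch_1_10_2_4_7 : enum 11 ck11 1 5 7612944 1175 6 7 = true := by
  decide +kernel

set_option maxRecDepth 100000 in
theorem ch_1_10_2_4_8 : enum 11 ck11 1 5 8661520 1303 6 8 = true := by
  decide +kernel

set_option maxRecDepth 100000 in
theorem ch_1_10_2_4_9 : enum 11 ck11 1 5 9710096 1559 6 9 = true := by
  decide +kernel

theorem ch_1_10_2_4 : enum 11 ck11 1 6 272912 1047 5 4 = true := by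
  refine enum_intro 11 ck11 1 5 272912 1047 5 4 ?_
  intro v hv hb hd
  interval_cases v
  · exact absurd hb (by decide)
  · exact absurd hb (by decide)
  · exact absurd hb (by decide)
  · exact ch_1_10_2_4_3
  · exact absurd hb (by decide)
  · exact ch_1_10_2_4_5
  · exact ch_1_10_2_4_6
  · exact ch_1_10_2_4_7
  · exact ch_1_10_2_4_8
  · exact ch_1_10_2_4_9
  · exact absurd hb (by decide)

set_option maxRecDepth 100000 in
theorem ch_1_10_2_5_3 : enum 11 ck11 1 5 3484176 1071 6 3 = true := by
  decide +kernel

set_option maxRecDepth 100000 in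
theorem ch_1_10_2_5_4 : enum 11 ck11 1 5 4532752 1079 6 4 = true := by
  decide +kernel

set_option maxRecDepth 100000 in
theorem ch_1_10_2_5_6 : enum 11 ck11 1 5 6629904 1127 6 6 = true := by
  decide +kernel

set_option maxRecDepth 100000 in
theorem ch_1_10_2_5_7 : enum 11 ck11 1 5 7678480 1191 6 7 = true := by
  decide +kernel

set_option maxRecDepth 100000 in
theorem ch_1_10_2_5_8 : enum 11 ck11 1 5 8727056 1319 6 8 = true := by
  decide +kernel

set_option maxRecDepth 100000 in
theorem ch_1_10_2_5_9 : enum 11 ck11 1 5 9775632 1575 6 9 = true := by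
  decide +kernel

theorem ch_1_10_2_5 : enum 11 ck11 1 6 338448 1063 5 5 = true := by
  refine enum_intro 11 ck11 1 5 338448 1063 5 5 ?_
  intro v hv hb hd
  interval_cases v
  · exact absurd hb (by decide)
  · exact absurd hb (by decide)
  · exact absurd hb (by decide)
  · exact ch_1_10_2_5_3
  · exact ch_1_10_2_5_4
  · exact absurd hb (by decide)
  · exact ch_1_10_2_5_6
  · exact ch_1_10_2_5_7
  · exact ch_1_10_2_5_8
  · exact ch_1_10_2_5_9
  · exact absurd hb (by decide)

set_option maxRecDepth 100000 in
theorem ch_1_10_2_6_3 : enum 11 ck11 1 5 3549712 1103 6 3 = true := by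
  decide +kernel

set_option maxRecDepth 100000 in
theorem ch_1_10_2_6_4 : enum 11 ck11 1 5 4598288 1111 6 4 = true := by
  decide +kernel

set_option maxRecDepth 100000 in
theorem ch_1_10_2_6_5 : enum 11 ck11 1 5 5646864 1127 6 5 = true := by
  decide +kernel

set_option maxRecDepth 100000 in
theorem ch_1_10_2_6_7 : enum 11 ck11 1 5 7744016 1223 6 7 = true := by
  decide +kernel

set_option maxRecDepth 100000 in
theorem ch_1_10_2_6_8 : enum 11 ck11 1 5 8792592 1351 6 8 = true := by
  decide +kernel

set_option maxRecDepth 100000 in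
theorem ch_1_10_2_6_9 : enum 11 ck11 1 5 9841168 1607 6 9 = true := by
  decide +kernel

theorem ch_1_10_2_6 : enum 11 ck11 1 6 403984 1095 5 6 = true := by
  refine enum_intro 11 ck11 1 5 403984 1095 5 6 ?_
  intro v hv hb hd
  interval_cases v
  · exact absurd hb (by decide)
  · exact absurd hb (by decide)
  · exact absurd hb (by decide)
  · exact ch_1_10_2_6_3
  · exact ch_1_10_2_6_4
  · exact ch_1_10_2_6_5
  · exact absurd hb (by decide)
  · exact ch_1_10_2_6_7
  · exact ch_1_10_2_6_8
  · exact ch_1_10_2_6_9
  · exact absurd hb (by decide)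

set_option maxRecDepth 100000 in
theorem ch_1_10_2_7_3 : enum 11 ck11 1 5 3615248 1167 6 3 = true := by
  decide +kernel

set_option maxRecDepth 100000 in
theorem ch_1_10_2_7_4 : enum 11 ck11 1 5 4663824 1175 6 4 = true := by
  decide +kernel

set_option maxRecDepth 100000 in
theorem ch_1_10_2_7_5 : enum 11 ck11 1 5 5712400 1191 6 5 = true := by
  decide +kernel

set_option maxRecDepth 100000 in
theorem ch_1_10_2_7_6 : enum 11 ck11 1 5 6760976 1223 6 6 = true := by
  decide +kernel

set_option maxRecDepth 100000 in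
theorem ch_1_10_2_7_8 : enum 11 ck11 1 5 8858128 1415 6 8 = true := by
  decide +kernel

set_option maxRecDepth 100000 in
theorem ch_1_10_2_7_9 : enum 11 ck11 1 5 9906704 1671 6 9 = true := by
  decide +kernel

theorem ch_1_10_2_7 : enum 11 ck11 1 6 469520 1159 5 7 = true := by
  refine enum_intro 11 ck11 1 5 469520 1159 5 7 ?_
  intro v hv hb hd
  interval_cases v
  · exact absurd hb (by decide)
  · exact absurd hb (by decide)
  · exact absurd hb (by decide)
  · exact ch_1_10_2_7_3
  · exact ch_1_10_2_7_4
  · exact ch_1_10_2_7_5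
  · exact ch_1_10_2_7_6
  · exact absurd hb (by decide)
  · exact ch_1_10_2_7_8
  · exact ch_1_10_2_7_9
  · exact absurd hb (by decide)

set_option maxRecDepth 100000 in
theorem ch_1_10_2_8_3 : enum 11 ck11 1 5 3680784 1295 6 3 = true := by
  decide +kernel

set_option maxRecDepth 100000 in
theorem ch_1_10_2_8_4 : enum 11 ck11 1 5 4729360 1303 6 4 = true := by
  decide +kernel

set_option maxRecDepth 100000 in
theorem ch_1_10_2_8_5 : enum 11 ck11 1 5 5777936 1319 6 5 = true := by
  decide +kernel

set_option maxRecDepth 100000 in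
theorem ch_1_10_2_8_6 : enum 11 ck11 1 5 6826512 1351 6 6 = true := by
  decide +kernel

set_option maxRecDepth 100000 in
theorem ch_1_10_2_8_7 : enum 11 ck11 1 5 7875088 1415 6 7 = true := by
  decide +kernel

set_option maxRecDepth 100000 in
theorem ch_1_10_2_8_9 : enum 11 ck11 1 5 9972240 1799 6 9 = true := by
  decide +kernel

theorem ch_1_10_2_8 : enum 11 ck11 1 6 535056 1287 5 8 = true := by
  refine enum_intro 11 ck11 1 5 535056 1287 5 8 ?_
  intro v hv hb hd
  interval_cases v
  · exact absurd hb (by decide)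
  · exact absurd hb (by decide)
  · exact absurd hb (by decide)
  · exact ch_1_10_2_8_3
  · exact ch_1_10_2_8_4
  · exact ch_1_10_2_8_5
  · exact ch_1_10_2_8_6
  · exact ch_1_10_2_8_7
  · exact absurd hb (by decide)
  · exact ch_1_10_2_8_9
  · exact absurd hb (by decide)

set_option maxRecDepth 100000 in
theorem ch_1_10_2_9_3 : enum 11 ck11 1 5 3746320 1551 6 3 = true := by
  decide +kernel

set_option maxRecDepth 100000 in
theorem ch_1_10_2_9_4 : enum 11 ck11 1 5 4794896 1559 6 4 = true := by
  decide +kernel

set_option maxRecDepth 100000 in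
theorem ch_1_10_2_9_5 : enum 11 ck11 1 5 5843472 1575 6 5 = true := by
  decide +kernel

set_option maxRecDepth 100000 in
theorem ch_1_10_2_9_6 : enum 11 ck11 1 5 6892048 1607 6 6 = true := by
  decide +kernel

set_option maxRecDepth 100000 in
theorem ch_1_10_2_9_7 : enum 11 ck11 1 5 7940624 1671 6 7 = true := by
  decide +kernel

set_option maxRecDepth 100000 in
theorem ch_1_10_2_9_8 : enum 11 ck11 1 5 8989200 1799 6 8 = true := by
  decide +kernel

theorem ch_1_10_2_9 : enum 11 ck11 1 6 600592 1543 5 9 = true := by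
  refine enum_intro 11 ck11 1 5 600592 1543 5 9 ?_
  intro v hv hb hd
  interval_cases v
  · exact absurd hb (by decide)
  · exact absurd hb (by decide)
  · exact absurd hb (by decide)
  · exact ch_1_10_2_9_3
  · exact ch_1_10_2_9_4
  · exact ch_1_10_2_9_5
  · exact ch_1_10_2_9_6
  · exact ch_1_10_2_9_7
  · exact ch_1_10_2_9_8
  · exact absurd hb (by decide)
  · exact absurd hb (by decide)

theorem ch_1_10_2 : enum 11 ck11 1 7 10768 1031 4 2 = true := by
  refine enum_intro 11 ck11 1 6 10768 1031 4 2 ?_
  intro v hv hb hd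
  interval_cases v
  · exact absurd hb (by decide)
  · exact absurd hb (by decide)
  · exact absurd hb (by decide)
  · exact ch_1_10_2_3
  · exact ch_1_10_2_4
  · exact ch_1_10_2_5
  · exact ch_1_10_2_6
  · exact ch_1_10_2_7
  · exact ch_1_10_2_8
  · exact ch_1_10_2_9
  · exact absurd hb (by decide)

set_option maxRecDepth 100000 in
theorem ch_1_10_3_2_4 : enum 11 ck11 1 5 4340240 1055 6 4 = true := by
  decide +kernel

set_option maxRecDepth 100000 in
theorem ch_1_10_3_2_5 : enum 11 ck11 1 5 5388816 1071 6 5 = true := by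
  decide +kernel

set_option maxRecDepth 100000 in
theorem ch_1_10_3_2_6 : enum 11 ck11 1 5 6437392 1103 6 6 = true := by
  decide +kernel

set_option maxRecDepth 100000 in
theorem ch_1_10_3_2_7 : enum 11 ck11 1 5 7485968 1167 6 7 = true := by
  decide +kernel

set_option maxRecDepth 100000 in
theorem ch_1_10_3_2_8 : enum 11 ck11 1 5 8534544 1295 6 8 = true := by
  decide +kernel

set_option maxRecDepth 100000 in
theorem ch_1_10_3_2_9 : enum 11 ck11 1 5 9583120 1551 6 9 = true := by
  decide +kernel

theorem ch_1_10_3_2 : enum 11 ck11 1 6 145936 1039 5 2 = true := by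
  refine enum_intro 11 ck11 1 5 145936 1039 5 2 ?_
  intro v hv hb hd
  interval_cases v
  · exact absurd hb (by decide)
  · exact absurd hb (by decide)
  · exact absurd hb (by decide)
  · exact absurd hb (by decide)
  · exact ch_1_10_3_2_4
  · exact ch_1_10_3_2_5
  · exact ch_1_10_3_2_6
  · exact ch_1_10_3_2_7
  · exact ch_1_10_3_2_8
  · exact ch_1_10_3_2_9
  · exact absurd hb (by decide)

set_option maxRecDepth 100000 in
theorem ch_1_10_3_4_2 : enum 11 ck11 1 5 2374160 1055 6 2 = true := by
  decide +kernel

set_option maxRecDepth 100000 in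
theorem ch_1_10_3_4_5 : enum 11 ck11 1 5 5519888 1083 6 5 = true := by
  decide +kernel

set_option maxRecDepth 100000 in
theorem ch_1_10_3_4_6 : enum 11 ck11 1 5 6568464 1115 6 6 = true := by
  decide +kernel

set_option maxRecDepth 100000 in
theorem ch_1_10_3_4_7 : enum 11 ck11 1 5 7617040 1179 6 7 = true := by
  decide +kernel

set_option maxRecDepth 100000 in
theorem ch_1_10_3_4_8 : enum 11 ck11 1 5 8665616 1307 6 8 = true := by
  decide +kernel

set_option maxRecDepth 100000 in
theorem ch_1_10_3_4_9 : enum 11 ck11 1 5 9714192 1563 6 9 = true := by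
  decide +kernel

theorem ch_1_10_3_4 : enum 11 ck11 1 6 277008 1051 5 4 = true := by
  refine enum_intro 11 ck11 1 5 277008 1051 5 4 ?_
  intro v hv hb hd
  interval_cases v
  · exact absurd hb (by decide)
  · exact absurd hb (by decide)
  · exact ch_1_10_3_4_2
  · exact absurd hb (by decide)
  · exact absurd hb (by decide)
  · exact ch_1_10_3_4_5
  · exact ch_1_10_3_4_6
  · exact ch_1_10_3_4_7
  · exact ch_1_10_3_4_8
  · exact ch_1_10_3_4_9
  · exact absurd hb (by decide)

set_option maxRecDepth 100000 in
theorem ch_1_10_3_5_2 : enum 11 ck11 1 5 2439696 1071 6 2 = true := by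
  decide +kernel

set_option maxRecDepth 100000 in
theorem ch_1_10_3_5_4 : enum 11 ck11 1 5 4536848 1083 6 4 = true := by
  decide +kernel

set_option maxRecDepth 100000 in
theorem ch_1_10_3_5_6 : enum 11 ck11 1 5 6634000 1131 6 6 = true := by
  decide +kernel

set_option maxRecDepth 100000 in
theorem ch_1_10_3_5_7 : enum 11 ck11 1 5 7682576 1195 6 7 = true := by
  decide +kernel

set_option maxRecDepth 100000 in
theorem ch_1_10_3_5_8 : enum 11 ck11 1 5 8731152 1323 6 8 = true := by
  decide +kernel

set_option maxRecDepth 100000 in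
theorem ch_1_10_3_5_9 : enum 11 ck11 1 5 9779728 1579 6 9 = true := by
  decide +kernel

theorem ch_1_10_3_5 : enum 11 ck11 1 6 342544 1067 5 5 = true := by
  refine enum_intro 11 ck11 1 5 342544 1067 5 5 ?_
  intro v hv hb hd
  interval_cases v
  · exact absurd hb (by decide)
  · exact absurd hb (by decide)
  · exact ch_1_10_3_5_2
  · exact absurd hb (by decide)
  · exact ch_1_10_3_5_4
  · exact absurd hb (by decide)
  · exact ch_1_10_3_5_6
  · exact ch_1_10_3_5_7
  · exact ch_1_10_3_5_8
  · exact ch_1_10_3_5_9
  · exact absurd hb (by decide)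

set_option maxRecDepth 100000 in
theorem ch_1_10_3_6_2 : enum 11 ck11 1 5 2505232 1103 6 2 = true := by
  decide +kernel

set_option maxRecDepth 100000 in
theorem ch_1_10_3_6_4 : enum 11 ck11 1 5 4602384 1115 6 4 = true := by
  decide +kernel

set_option maxRecDepth 100000 in
theorem ch_1_10_3_6_5 : enum 11 ck11 1 5 5650960 1131 6 5 = true := by
  decide +kernel

set_option maxRecDepth 100000 in
theorem ch_1_10_3_6_7 : enum 11 ck11 1 5 7748112 1227 6 7 = true := by
  decide +kernel

set_option maxRecDepth 100000 in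
theorem ch_1_10_3_6_8 : enum 11 ck11 1 5 8796688 1355 6 8 = true := by
  decide +kernel

set_option maxRecDepth 100000 in
theorem ch_1_10_3_6_9 : enum 11 ck11 1 5 9845264 1611 6 9 = true := by
  decide +kernel

theorem ch_1_10_3_6 : enum 11 ck11 1 6 408080 1099 5 6 = true := by
  refine enum_intro 11 ck11 1 5 408080 1099 5 6 ?_
  intro v hv hb hd
  interval_cases v
  · exact absurd hb (by decide)
  · exact absurd hb (by decide)
  · exact ch_1_10_3_6_2
  · exact absurd hb (by decide)
  · exact ch_1_10_3_6_4
  · exact ch_1_10_3_6_5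
  · exact absurd hb (by decide)
  · exact ch_1_10_3_6_7
  · exact ch_1_10_3_6_8
  · exact ch_1_10_3_6_9
  · exact absurd hb (by decide)

set_option maxRecDepth 100000 in
theorem ch_1_10_3_7_2 : enum 11 ck11 1 5 2570768 1167 6 2 = true := by
  decide +kernel

set_option maxRecDepth 100000 in
theorem ch_1_10_3_7_4 : enum 11 ck11 1 5 4667920 1179 6 4 = true := by
  decide +kernel

set_option maxRecDepth 100000 in
theorem ch_1_10_3_7_5 : enum 11 ck11 1 5 5716496 1195 6 5 = true := by
  decide +kernel

set_option maxRecDepth 100000 in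
theorem ch_1_10_3_7_6 : enum 11 ck11 1 5 6765072 1227 6 6 = true := by
  decide +kernel

set_option maxRecDepth 100000 in
theorem ch_1_10_3_7_8 : enum 11 ck11 1 5 8862224 1419 6 8 = true := by
  decide +kernel

set_option maxRecDepth 100000 in
theorem ch_1_10_3_7_9 : enum 11 ck11 1 5 9910800 1675 6 9 = true := by
  decide +kernel

theorem ch_1_10_3_7 : enum 11 ck11 1 6 473616 1163 5 7 = true := by
  refine enum_intro 11 ck11 1 5 473616 1163 5 7 ?_
  intro v hv hb hd
  interval_cases v
  · exact absurd hb (by decide)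
  · exact absurd hb (by decide)
  · exact ch_1_10_3_7_2
  · exact absurd hb (by decide)
  · exact ch_1_10_3_7_4
  · exact ch_1_10_3_7_5
  · exact ch_1_10_3_7_6
  · exact absurd hb (by decide)
  · exact ch_1_10_3_7_8
  · exact ch_1_10_3_7_9
  · exact absurd hb (by decide)

set_option maxRecDepth 100000 in
theorem ch_1_10_3_8_2 : enum 11 ck11 1 5 2636304 1295 6 2 = true := by
  decide +kernel

set_option maxRecDepth 100000 in
theorem ch_1_10_3_8_4 : enum 11 ck11 1 5 4733456 1307 6 4 = true := by
  decide +kernel

set_option maxRecDepth 100000 in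
theorem ch_1_10_3_8_5 : enum 11 ck11 1 5 5782032 1323 6 5 = true := by
  decide +kernel

set_option maxRecDepth 100000 in
theorem ch_1_10_3_8_6 : enum 11 ck11 1 5 6830608 1355 6 6 = true := by
  decide +kernel

set_option maxRecDepth 100000 in
theorem ch_1_10_3_8_7 : enum 11 ck11 1 5 7879184 1419 6 7 = true := by
  decide +kernel

set_option maxRecDepth 100000 in
theorem ch_1_10_3_8_9 : enum 11 ck11 1 5 9976336 1803 6 9 = true := by
  decide +kernel

theorem ch_1_10_3_8 : enum 11 ck11 1 6 539152 1291 5 8 = true := by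
  refine enum_intro 11 ck11 1 5 539152 1291 5 8 ?_
  intro v hv hb hd
  interval_cases v
  · exact absurd hb (by decide)
  · exact absurd hb (by decide)
  · exact ch_1_10_3_8_2
  · exact absurd hb (by decide)
  · exact ch_1_10_3_8_4
  · exact ch_1_10_3_8_5
  · exact ch_1_10_3_8_6
  · exact ch_1_10_3_8_7
  · exact absurd hb (by decide)
  · exact ch_1_10_3_8_9
  · exact absurd hb (by decide)

set_option maxRecDepth 100000 in
theorem ch_1_10_3_9_2 : enum 11 ck11 1 5 2701840 1551 6 2 = true := by
  decide +kernel

set_option maxRecDepth 100000 in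
theorem ch_1_10_3_9_4 : enum 11 ck11 1 5 4798992 1563 6 4 = true := by
  decide +kernel

set_option maxRecDepth 100000 in
theorem ch_1_10_3_9_5 : enum 11 ck11 1 5 5847568 1579 6 5 = true := by
  decide +kernel

set_option maxRecDepth 100000 in
theorem ch_1_10_3_9_6 : enum 11 ck11 1 5 6896144 1611 6 6 = true := by
  decide +kernel

set_option maxRecDepth 100000 in
theorem ch_1_10_3_9_7 : enum 11 ck11 1 5 7944720 1675 6 7 = true := by
  decide +kernel

set_option maxRecDepth 100000 in
theorem ch_1_10_3_9_8 : enum 11 ck11 1 5 8993296 1803 6 8 = true := by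
  decide +kernel

theorem ch_1_10_3_9 : enum 11 ck11 1 6 604688 1547 5 9 = true := by
  refine enum_intro 11 ck11 1 5 604688 1547 5 9 ?_
  intro v hv hb hd
  interval_cases v
  · exact absurd hb (by decide)
  · exact absurd hb (by decide)
  · exact ch_1_10_3_9_2
  · exact absurd hb (by decide)
  · exact ch_1_10_3_9_4
  · exact ch_1_10_3_9_5
  · exact ch_1_10_3_9_6
  · exact ch_1_10_3_9_7
  · exact ch_1_10_3_9_8
  · exact absurd hb (by decide)
  · exact absurd hb (by decide)

theorem ch_1_10_3 : enum 11 ck11 1 7 14864 1035 4 3 = true := by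
  refine enum_intro 11 ck11 1 6 14864 1035 4 3 ?_
  intro v hv hb hd
  interval_cases v
  · exact absurd hb (by decide)
  · exact absurd hb (by decide)
  · exact ch_1_10_3_2
  · exact absurd hb (by decide)
  · exact ch_1_10_3_4
  · exact ch_1_10_3_5
  · exact ch_1_10_3_6
  · exact ch_1_10_3_7
  · exact ch_1_10_3_8
  · exact ch_1_10_3_9
  · exact absurd hb (by decide)

set_option maxRecDepth 100000 in
theorem ch_1_10_4_2_3 : enum 11 ck11 1 5 3295760 1055 6 3 = true := by
  decide +kernel

set_option maxRecDepth 100000 in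
theorem ch_1_10_4_2_5 : enum 11 ck11 1 5 5392912 1079 6 5 = true := by
  decide +kernel

set_option maxRecDepth 100000 in
theorem ch_1_10_4_2_6 : enum 11 ck11 1 5 6441488 1111 6 6 = true := by
  decide +kernel

set_option maxRecDepth 100000 in
theorem ch_1_10_4_2_7 : enum 11 ck11 1 5 7490064 1175 6 7 = true := by
  decide +kernel

set_option maxRecDepth 100000 in
theorem ch_1_10_4_2_8 : enum 11 ck11 1 5 8538640 1303 6 8 = true := by
  decide +kernel

set_option maxRecDepth 100000 in
theorem ch_1_10_4_2_9 : enum 11 ck11 1 5 9587216 1559 6 9 = true := by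
  decide +kernel

theorem ch_1_10_4_2 : enum 11 ck11 1 6 150032 1047 5 2 = true := by
  refine enum_intro 11 ck11 1 5 150032 1047 5 2 ?_
  intro v hv hb hd
  interval_cases v
  · exact absurd hb (by decide)
  · exact absurd hb (by decide)
  · exact absurd hb (by decide)
  · exact ch_1_10_4_2_3
  · exact absurd hb (by decide)
  · exact ch_1_10_4_2_5
  · exact ch_1_10_4_2_6
  · exact ch_1_10_4_2_7
  · exact ch_1_10_4_2_8
  · exact ch_1_10_4_2_9
  · exact absurd hb (by decide)

set_option maxRecDepth 100000 in
theorem ch_1_10_4_3_2 : enum 11 ck11 1 5 2312720 1055 6 2 = true := by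
  decide +kernel

set_option maxRecDepth 100000 in
theorem ch_1_10_4_3_5 : enum 11 ck11 1 5 5458448 1083 6 5 = true := by
  decide +kernel

set_option maxRecDepth 100000 in
theorem ch_1_10_4_3_6 : enum 11 ck11 1 5 6507024 1115 6 6 = true := by
  decide +kernel

set_option maxRecDepth 100000 in
theorem ch_1_10_4_3_7 : enum 11 ck11 1 5 7555600 1179 6 7 = true := by
  decide +kernel

set_option maxRecDepth 100000 in
theorem ch_1_10_4_3_8 : enum 11 ck11 1 5 8604176 1307 6 8 = true := by
  decide +kernel

set_option maxRecDepth 100000 in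
theorem ch_1_10_4_3_9 : enum 11 ck11 1 5 9652752 1563 6 9 = true := by
  decide +kernel

theorem ch_1_10_4_3 : enum 11 ck11 1 6 215568 1051 5 3 = true := by
  refine enum_intro 11 ck11 1 5 215568 1051 5 3 ?_
  intro v hv hb hd
  interval_cases v
  · exact absurd hb (by decide)
  · exact absurd hb (by decide)
  · exact ch_1_10_4_3_2
  · exact absurd hb (by decide)
  · exact absurd hb (by decide)
  · exact ch_1_10_4_3_5
  · exact ch_1_10_4_3_6
  · exact ch_1_10_4_3_7
  · exact ch_1_10_4_3_8
  · exact ch_1_10_4_3_9
  · exact absurd hb (by decide)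

set_option maxRecDepth 100000 in
theorem ch_1_10_4_5_2 : enum 11 ck11 1 5 2443792 1079 6 2 = true := by
  decide +kernel

set_option maxRecDepth 100000 in
theorem ch_1_10_4_5_3 : enum 11 ck11 1 5 3492368 1083 6 3 = true := by
  decide +kernel

set_option maxRecDepth 100000 in
theorem ch_1_10_4_5_6 : enum 11 ck11 1 5 6638096 1139 6 6 = true := by
  decide +kernel

set_option maxRecDepth 100000 in
theorem ch_1_10_4_5_7 : enum 11 ck11 1 5 7686672 1203 6 7 = true := by
  decide +kernel

set_option maxRecDepth 100000 in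
theorem ch_1_10_4_5_8 : enum 11 ck11 1 5 8735248 1331 6 8 = true := by
  decide +kernel

set_option maxRecDepth 100000 in
theorem ch_1_10_4_5_9 : enum 11 ck11 1 5 9783824 1587 6 9 = true := by
  decide +kernel

theorem ch_1_10_4_5 : enum 11 ck11 1 6 346640 1075 5 5 = true := by
  refine enum_intro 11 ck11 1 5 346640 1075 5 5 ?_
  intro v hv hb hd
  interval_cases v
  · exact absurd hb (by decide)
  · exact absurd hb (by decide)
  · exact ch_1_10_4_5_2
  · exact ch_1_10_4_5_3
  · exact absurd hb (by decide)
  · exact absurd hb (by decide)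
  · exact ch_1_10_4_5_6
  · exact ch_1_10_4_5_7
  · exact ch_1_10_4_5_8
  · exact ch_1_10_4_5_9
  · exact absurd hb (by decide)

set_option maxRecDepth 100000 in
theorem ch_1_10_4_6_2 : enum 11 ck11 1 5 2509328 1111 6 2 = true := by
  decide +kernel

set_option maxRecDepth 100000 in
theorem ch_1_10_4_6_3 : enum 11 ck11 1 5 3557904 1115 6 3 = true := by
  decide +kernel

set_option maxRecDepth 100000 in
theorem ch_1_10_4_6_5 : enum 11 ck11 1 5 5655056 1139 6 5 = true := by
  decide +kernel

set_option maxRecDepth 100000 in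
theorem ch_1_10_4_6_7 : enum 11 ck11 1 5 7752208 1235 6 7 = true := by
  decide +kernel

set_option maxRecDepth 100000 in
theorem ch_1_10_4_6_8 : enum 11 ck11 1 5 8800784 1363 6 8 = true := by
  decide +kernel

set_option maxRecDepth 100000 in
theorem ch_1_10_4_6_9 : enum 11 ck11 1 5 9849360 1619 6 9 = true := by
  decide +kernel

theorem ch_1_10_4_6 : enum 11 ck11 1 6 412176 1107 5 6 = true := by
  refine enum_intro 11 ck11 1 5 412176 1107 5 6 ?_
  intro v hv hb hd
  interval_cases v
  · exact absurd hb (by decide)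
  · exact absurd hb (by decide)
  · exact ch_1_10_4_6_2
  · exact ch_1_10_4_6_3
  · exact absurd hb (by decide)
  · exact ch_1_10_4_6_5
  · exact absurd hb (by decide)
  · exact ch_1_10_4_6_7
  · exact ch_1_10_4_6_8
  · exact ch_1_10_4_6_9
  · exact absurd hb (by decide)

set_option maxRecDepth 100000 in
theorem ch_1_10_4_7_2 : enum 11 ck11 1 5 2574864 1175 6 2 = true := by
  decide +kernel

set_option maxRecDepth 100000 in
theorem ch_1_10_4_7_3 : enum 11 ck11 1 5 3623440 1179 6 3 = true := by
  decide +kernel

set_option maxRecDepth 100000 in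
theorem ch_1_10_4_7_5 : enum 11 ck11 1 5 5720592 1203 6 5 = true := by
  decide +kernel

set_option maxRecDepth 100000 in
theorem ch_1_10_4_7_6 : enum 11 ck11 1 5 6769168 1235 6 6 = true := by
  decide +kernel

set_option maxRecDepth 100000 in
theorem ch_1_10_4_7_8 : enum 11 ck11 1 5 8866320 1427 6 8 = true := by
  decide +kernel

set_option maxRecDepth 100000 in
theorem ch_1_10_4_7_9 : enum 11 ck11 1 5 9914896 1683 6 9 = true := by
  decide +kernel

theorem ch_1_10_4_7 : enum 11 ck11 1 6 477712 1171 5 7 = true := by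
  refine enum_intro 11 ck11 1 5 477712 1171 5 7 ?_
  intro v hv hb hd
  interval_cases v
  · exact absurd hb (by decide)
  · exact absurd hb (by decide)
  · exact ch_1_10_4_7_2
  · exact ch_1_10_4_7_3
  · exact absurd hb (by decide)
  · exact ch_1_10_4_7_5
  · exact ch_1_10_4_7_6
  · exact absurd hb (by decide)
  · exact ch_1_10_4_7_8
  · exact ch_1_10_4_7_9
  · exact absurd hb (by decide)

set_option maxRecDepth 100000 in
theorem ch_1_10_4_8_2 : enum 11 ck11 1 5 2640400 1303 6 2 = true := by
  decide +kernel

set_option maxRecDepth 100000 in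
theorem ch_1_10_4_8_3 : enum 11 ck11 1 5 3688976 1307 6 3 = true := by
  decide +kernel

set_option maxRecDepth 100000 in
theorem ch_1_10_4_8_5 : enum 11 ck11 1 5 5786128 1331 6 5 = true := by
  decide +kernel

set_option maxRecDepth 100000 in
theorem ch_1_10_4_8_6 : enum 11 ck11 1 5 6834704 1363 6 6 = true := by
  decide +kernel

set_option maxRecDepth 100000 in
theorem ch_1_10_4_8_7 : enum 11 ck11 1 5 7883280 1427 6 7 = true := by
  decide +kernel

set_option maxRecDepth 100000 in
theorem ch_1_10_4_8_9 : enum 11 ck11 1 5 9980432 1811 6 9 = true := by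
  decide +kernel

theorem ch_1_10_4_8 : enum 11 ck11 1 6 543248 1299 5 8 = true := by
  refine enum_intro 11 ck11 1 5 543248 1299 5 8 ?_
  intro v hv hb hd
  interval_cases v
  · exact absurd hb (by decide)
  · exact absurd hb (by decide)
  · exact ch_1_10_4_8_2
  · exact ch_1_10_4_8_3
  · exact absurd hb (by decide)
  · exact ch_1_10_4_8_5
  · exact ch_1_10_4_8_6
  · exact ch_1_10_4_8_7
  · exact absurd hb (by decide)
  · exact ch_1_10_4_8_9
  · exact absurd hb (by decide)

set_option maxRecDepth 100000 in
theorem ch_1_10_4_9_2 : enum 11 ck11 1 5 2705936 1559 6 2 = true := by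
  decide +kernel

set_option maxRecDepth 100000 in
theorem ch_1_10_4_9_3 : enum 11 ck11 1 5 3754512 1563 6 3 = true := by
  decide +kernel

set_option maxRecDepth 100000 in
theorem ch_1_10_4_9_5 : enum 11 ck11 1 5 5851664 1587 6 5 = true := by
  decide +kernel

set_option maxRecDepth 100000 in
theorem ch_1_10_4_9_6 : enum 11 ck11 1 5 6900240 1619 6 6 = true := by
  decide +kernel

set_option maxRecDepth 100000 in
theorem ch_1_10_4_9_7 : enum 11 ck11 1 5 7948816 1683 6 7 = true := by
  decide +kernel

set_option maxRecDepth 100000 in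
theorem ch_1_10_4_9_8 : enum 11 ck11 1 5 8997392 1811 6 8 = true := by
  decide +kernel

theorem ch_1_10_4_9 : enum 11 ck11 1 6 608784 1555 5 9 = true := by
  refine enum_intro 11 ck11 1 5 608784 1555 5 9 ?_
  intro v hv hb hd
  interval_cases v
  · exact absurd hb (by decide)
  · exact absurd hb (by decide)
  · exact ch_1_10_4_9_2
  · exact ch_1_10_4_9_3
  · exact absurd hb (by decide)
  · exact ch_1_10_4_9_5
  · exact ch_1_10_4_9_6
  · exact ch_1_10_4_9_7
  · exact ch_1_10_4_9_8
  · exact absurd hb (by decide)
  · exact absurd hb (by decide)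

theorem ch_1_10_4 : enum 11 ck11 1 7 18960 1043 4 4 = true := by
  refine enum_intro 11 ck11 1 6 18960 1043 4 4 ?_
  intro v hv hb hd
  interval_cases v
  · exact absurd hb (by decide)
  · exact absurd hb (by decide)
  · exact ch_1_10_4_2
  · exact ch_1_10_4_3
  · exact absurd hb (by decide)
  · exact ch_1_10_4_5
  · exact ch_1_10_4_6
  · exact ch_1_10_4_7
  · exact ch_1_10_4_8
  · exact ch_1_10_4_9
  · exact absurd hb (by decide)

end Cfsg.Agent.Helper9.T11
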