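import Mathlib
import Cfsg.Agent.Helper9.T11.Chk

set_option autoImplicit false
set_option Elab.async false

/-!
A part of the enumeration on 11 points: the test holds at every permutation of the part.
-/

namespace Cfsg.Agent.Helper9.T11

set_option maxRecDepth 100000 in
theorem ch_1_10_5_2_3 : enum 11 ck11 1 5 3299856 1071 6 3 = true := by
  decide +kernel

set_option maxRecDepth 100000 in
theorem ch_1_10_5_2_4 : enum 11 ck11 1 5 4348432 1079 6 4 = true := by
  decide +kernel

set_option maxRecDepth 100000 in
theorem ch_1_10_5_2_6 : enum 11 ck11 1 5 6445584 1127 6 6 = true := by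
  decide +kernel

set_option maxRecDepth 100000 in
theorem ch_1_10_5_2_7 : enum 11 ck11 1 5 7494160 1191 6 7 = true := by
  decide +kernel

set_option maxRecDepth 100000 in
theorem ch_1_10_5_2_8 : enum 11 ck11 1 5 8542736 1319 6 8 = true := by
  decide +kernel

set_option maxRecDepth 100000 in
theorem ch_1_10_5_2_9 : enum 11 ck11 1 5 9591312 1575 6 9 = true := by
  decide +kernel

theorem ch_1_10_5_2 : enum 11 ck11 1 6 154128 1063 5 2 = true := by
  refine enum_intro 11 ck11 1 5 154128 1063 5 2 ?_
  intro v hv hb hd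
  interval_cases v
  · exact absurd hb (by decide)
  · exact absurd hb (by decide)
  · exact absurd hb (by decide)
  · exact ch_1_10_5_2_3
  · exact ch_1_10_5_2_4
  · exact absurd hb (by decide)
  · exact ch_1_10_5_2_6
  · exact ch_1_10_5_2_7
  · exact ch_1_10_5_2_8
  · exact ch_1_10_5_2_9
  · exact absurd hb (by decide)

set_option maxRecDepth 100000 in
theorem ch_1_10_5_3_2 : enum 11 ck11 1 5 2316816 1071 6 2 = true := by
  decide +kernel

set_option maxRecDepth 100000 in
theorem ch_1_10_5_3_4 : enum 11 ck11 1 5 4413968 1083 6 4 = true := by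
  decide +kernel

set_option maxRecDepth 100000 in
theorem ch_1_10_5_3_6 : enum 11 ck11 1 5 6511120 1131 6 6 = true := by
  decide +kernel

set_option maxRecDepth 100000 in
theorem ch_1_10_5_3_7 : enum 11 ck11 1 5 7559696 1195 6 7 = true := by
  decide +kernel

set_option maxRecDepth 100000 in
theorem ch_1_10_5_3_8 : enum 11 ck11 1 5 8608272 1323 6 8 = true := by
  decide +kernel

set_option maxRecDepth 100000 in
theorem ch_1_10_5_3_9 : enum 11 ck11 1 5 9656848 1579 6 9 = true := by
  decide +kernel

theorem ch_1_10_5_3 : enum 11 ck11 1 6 219664 1067 5 3 = true := by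
  refine enum_intro 11 ck11 1 5 219664 1067 5 3 ?_
  intro v hv hb hd
  interval_cases v
  · exact absurd hb (by decide)
  · exact absurd hb (by decide)
  · exact ch_1_10_5_3_2
  · exact absurd hb (by decide)
  · exact ch_1_10_5_3_4
  · exact absurd hb (by decide)
  · exact ch_1_10_5_3_6
  · exact ch_1_10_5_3_7
  · exact ch_1_10_5_3_8
  · exact ch_1_10_5_3_9
  · exact absurd hb (by decide)

set_option maxRecDepth 100000 in
theorem ch_1_10_5_4_2 : enum 11 ck11 1 5 2382352 1079 6 2 = true := by
  decide +kernel

set_option maxRecDepth 100000 in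
theorem ch_1_10_5_4_3 : enum 11 ck11 1 5 3430928 1083 6 3 = true := by
  decide +kernel

set_option maxRecDepth 100000 in
theorem ch_1_10_5_4_6 : enum 11 ck11 1 5 6576656 1139 6 6 = true := by
  decide +kernel

set_option maxRecDepth 100000 in
theorem ch_1_10_5_4_7 : enum 11 ck11 1 5 7625232 1203 6 7 = true := by
  decide +kernel

set_option maxRecDepth 100000 in
theorem ch_1_10_5_4_8 : enum 11 ck11 1 5 8673808 1331 6 8 = true := by
  decide +kernel

set_option maxRecDepth 100000 in
theorem ch_1_10_5_4_9 : enum 11 ck11 1 5 9722384 1587 6 9 = true := by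
  decide +kernel

theorem ch_1_10_5_4 : enum 11 ck11 1 6 285200 1075 5 4 = true := by
  refine enum_intro 11 ck11 1 5 285200 1075 5 4 ?_
  intro v hv hb hd
  interval_cases v
  · exact absurd hb (by decide)
  · exact absurd hb (by decide)
  · exact ch_1_10_5_4_2
  · exact ch_1_10_5_4_3
  · exact absurd hb (by decide)
  · exact absurd hb (by decide)
  · exact ch_1_10_5_4_6
  · exact ch_1_10_5_4_7
  · exact ch_1_10_5_4_8
  · exact ch_1_10_5_4_9
  · exact absurd hb (by decide)

set_option maxRecDepth 100000 in
theorem ch_1_10_5_6_2 : enum 11 ck11 1 5 2513424 1127 6 2 = true := by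
  decide +kernel

set_option maxRecDepth 100000 in
theorem ch_1_10_5_6_3 : enum 11 ck11 1 5 3562000 1131 6 3 = true := by
  decide +kernel

set_option maxRecDepth 100000 in
theorem ch_1_10_5_6_4 : enum 11 ck11 1 5 4610576 1139 6 4 = true := by
  decide +kernel

set_option maxRecDepth 100000 in
theorem ch_1_10_5_6_7 : enum 11 ck11 1 5 7756304 1251 6 7 = true := by
  decide +kernel

set_option maxRecDepth 100000 in
theorem ch_1_10_5_6_8 : enum 11 ck11 1 5 8804880 1379 6 8 = true := by
  decide +kernel

set_option maxRecDepth 100000 in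
theorem ch_1_10_5_6_9 : enum 11 ck11 1 5 9853456 1635 6 9 = true := by
  decide +kernel

theorem ch_1_10_5_6 : enum 11 ck11 1 6 416272 1123 5 6 = true := by
  refine enum_intro 11 ck11 1 5 416272 1123 5 6 ?_
  intro v hv hb hd
  interval_cases v
  · exact absurd hb (by decide)
  · exact absurd hb (by decide)
  · exact ch_1_10_5_6_2
  · exact ch_1_10_5_6_3
  · exact ch_1_10_5_6_4
  · exact absurd hb (by decide)
  · exact absurd hb (by decide)
  · exact ch_1_10_5_6_7
  · exact ch_1_10_5_6_8
  · exact ch_1_10_5_6_9
  · exact absurd hb (by decide)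

set_option maxRecDepth 100000 in
theorem ch_1_10_5_7_2 : enum 11 ck11 1 5 2578960 1191 6 2 = true := by
  decide +kernel

set_option maxRecDepth 100000 in
theorem ch_1_10_5_7_3 : enum 11 ck11 1 5 3627536 1195 6 3 = true := by
  decide +kernel

set_option maxRecDepth 100000 in
theorem ch_1_10_5_7_4 : enum 11 ck11 1 5 4676112 1203 6 4 = true := by
  decide +kernel

set_option maxRecDepth 100000 in
theorem ch_1_10_5_7_6 : enum 11 ck11 1 5 6773264 1251 6 6 = true := by
  decide +kernel

set_option maxRecDepth 100000 in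
theorem ch_1_10_5_7_8 : enum 11 ck11 1 5 8870416 1443 6 8 = true := by
  decide +kernel

set_option maxRecDepth 100000 in
theorem ch_1_10_5_7_9 : enum 11 ck11 1 5 9918992 1699 6 9 = true := by
  decide +kernel

theorem ch_1_10_5_7 : enum 11 ck11 1 6 481808 1187 5 7 = true := by
  refine enum_intro 11 ck11 1 5 481808 1187 5 7 ?_
  intro v hv hb hd
  interval_cases v
  · exact absurd hb (by decide)
  · exact absurd hb (by decide)
  · exact ch_1_10_5_7_2
  · exact ch_1_10_5_7_3
  · exact ch_1_10_5_7_4
  · exact absurd hb (by decide)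
  · exact ch_1_10_5_7_6
  · exact absurd hb (by decide)
  · exact ch_1_10_5_7_8
  · exact ch_1_10_5_7_9
  · exact absurd hb (by decide)

set_option maxRecDepth 100000 in
theorem ch_1_10_5_8_2 : enum 11 ck11 1 5 2644496 1319 6 2 = true := by
  decide +kernel

set_option maxRecDepth 100000 in
theorem ch_1_10_5_8_3 : enum 11 ck11 1 5 3693072 1323 6 3 = true := by
  decide +kernel

set_option maxRecDepth 100000 in
theorem ch_1_10_5_8_4 : enum 11 ck11 1 5 4741648 1331 6 4 = true := by
  decide +kernel

set_option maxRecDepth 100000 in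
theorem ch_1_10_5_8_6 : enum 11 ck11 1 5 6838800 1379 6 6 = true := by
  decide +kernel

set_option maxRecDepth 100000 in
theorem ch_1_10_5_8_7 : enum 11 ck11 1 5 7887376 1443 6 7 = true := by
  decide +kernel

set_option maxRecDepth 100000 in
theorem ch_1_10_5_8_9 : enum 11 ck11 1 5 9984528 1827 6 9 = true := by
  decide +kernel

theorem ch_1_10_5_8 : enum 11 ck11 1 6 547344 1315 5 8 = true := by
  refine enum_intro 11 ck11 1 5 547344 1315 5 8 ?_
  intro v hv hb hd
  interval_cases v
  · exact absurd hb (by decide)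
  · exact absurd hb (by decide)
  · exact ch_1_10_5_8_2
  · exact ch_1_10_5_8_3
  · exact ch_1_10_5_8_4
  · exact absurd hb (by decide)
  · exact ch_1_10_5_8_6
  · exact ch_1_10_5_8_7
  · exact absurd hb (by decide)
  · exact ch_1_10_5_8_9
  · exact absurd hb (by decide)

set_option maxRecDepth 100000 in
theorem ch_1_10_5_9_2 : enum 11 ck11 1 5 2710032 1575 6 2 = true := by
  decide +kernel

set_option maxRecDepth 100000 in
theorem ch_1_10_5_9_3 : enum 11 ck11 1 5 3758608 1579 6 3 = true := by
  decide +kernel

set_option maxRecDepth 100000 in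
theorem ch_1_10_5_9_4 : enum 11 ck11 1 5 4807184 1587 6 4 = true := by
  decide +kernel

set_option maxRecDepth 100000 in
theorem ch_1_10_5_9_6 : enum 11 ck11 1 5 6904336 1635 6 6 = true := by
  decide +kernel

set_option maxRecDepth 100000 in
theorem ch_1_10_5_9_7 : enum 11 ck11 1 5 7952912 1699 6 7 = true := by
  decide +kernel

set_option maxRecDepth 100000 in
theorem ch_1_10_5_9_8 : enum 11 ck11 1 5 9001488 1827 6 8 = true := by
  decide +kernel

theorem ch_1_10_5_9 : enum 11 ck11 1 6 612880 1571 5 9 = true := by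
  refine enum_intro 11 ck11 1 5 612880 1571 5 9 ?_
  intro v hv hb hd
  interval_cases v
  · exact absurd hb (by decide)
  · exact absurd hb (by decide)
  · exact ch_1_10_5_9_2
  · exact ch_1_10_5_9_3
  · exact ch_1_10_5_9_4
  · exact absurd hb (by decide)
  · exact ch_1_10_5_9_6
  · exact ch_1_10_5_9_7
  · exact ch_1_10_5_9_8
  · exact absurd hb (by decide)
  · exact absurd hb (by decide)

theorem ch_1_10_5 : enum 11 ck11 1 7 23056 1059 4 5 = true := by
  refine enum_intro 11 ck11 1 6 23056 1059 4 5 ?_
  intro v hv hb hd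
  interval_cases v
  · exact absurd hb (by decide)
  · exact absurd hb (by decide)
  · exact ch_1_10_5_2
  · exact ch_1_10_5_3
  · exact ch_1_10_5_4
  · exact absurd hb (by decide)
  · exact ch_1_10_5_6
  · exact ch_1_10_5_7
  · exact ch_1_10_5_8
  · exact ch_1_10_5_9
  · exact absurd hb (by decide)

set_option maxRecDepth 100000 in
theorem ch_1_10_6_2_3 : enum 11 ck11 1 5 3303952 1103 6 3 = true := by
  decide +kernel

set_option maxRecDepth 100000 in
theorem ch_1_10_6_2_4 : enum 11 ck11 1 5 4352528 1111 6 4 = true := by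
  decide +kernel

set_option maxRecDepth 100000 in
theorem ch_1_10_6_2_5 : enum 11 ck11 1 5 5401104 1127 6 5 = true := by
  decide +kernel

set_option maxRecDepth 100000 in
theorem ch_1_10_6_2_7 : enum 11 ck11 1 5 7498256 1223 6 7 = true := by
  decide +kernel

set_option maxRecDepth 100000 in
theorem ch_1_10_6_2_8 : enum 11 ck11 1 5 8546832 1351 6 8 = true := by
  decide +kernel

set_option maxRecDepth 100000 in
theorem ch_1_10_6_2_9 : enum 11 ck11 1 5 9595408 1607 6 9 = true := by
  decide +kernel

theorem ch_1_10_6_2 : enum 11 ck11 1 6 158224 1095 5 2 = true := by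
  refine enum_intro 11 ck11 1 5 158224 1095 5 2 ?_
  intro v hv hb hd
  interval_cases v
  · exact absurd hb (by decide)
  · exact absurd hb (by decide)
  · exact absurd hb (by decide)
  · exact ch_1_10_6_2_3
  · exact ch_1_10_6_2_4
  · exact ch_1_10_6_2_5
  · exact absurd hb (by decide)
  · exact ch_1_10_6_2_7
  · exact ch_1_10_6_2_8
  · exact ch_1_10_6_2_9
  · exact absurd hb (by decide)

set_option maxRecDepth 100000 in
theorem ch_1_10_6_3_2 : enum 11 ck11 1 5 2320912 1103 6 2 = true := by
  decide +kernel

set_option maxRecDepth 100000 in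
theorem ch_1_10_6_3_4 : enum 11 ck11 1 5 4418064 1115 6 4 = true := by
  decide +kernel

set_option maxRecDepth 100000 in
theorem ch_1_10_6_3_5 : enum 11 ck11 1 5 5466640 1131 6 5 = true := by
  decide +kernel

set_option maxRecDepth 100000 in
theorem ch_1_10_6_3_7 : enum 11 ck11 1 5 7563792 1227 6 7 = true := by
  decide +kernel

set_option maxRecDepth 100000 in
theorem ch_1_10_6_3_8 : enum 11 ck11 1 5 8612368 1355 6 8 = true := by
  decide +kernel

set_option maxRecDepth 100000 in
theorem ch_1_10_6_3_9 : enum 11 ck11 1 5 9660944 1611 6 9 = true := by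
  decide +kernel

theorem ch_1_10_6_3 : enum 11 ck11 1 6 223760 1099 5 3 = true := by
  refine enum_intro 11 ck11 1 5 223760 1099 5 3 ?_
  intro v hv hb hd
  interval_cases v
  · exact absurd hb (by decide)
  · exact absurd hb (by decide)
  · exact ch_1_10_6_3_2
  · exact absurd hb (by decide)
  · exact ch_1_10_6_3_4
  · exact ch_1_10_6_3_5
  · exact absurd hb (by decide)
  · exact ch_1_10_6_3_7
  · exact ch_1_10_6_3_8
  · exact ch_1_10_6_3_9
  · exact absurd hb (by decide)

set_option maxRecDepth 100000 in
theorem ch_1_10_6_4_2 : enum 11 ck11 1 5 2386448 1111 6 2 = true := by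
  decide +kernel

set_option maxRecDepth 100000 in
theorem ch_1_10_6_4_3 : enum 11 ck11 1 5 3435024 1115 6 3 = true := by
  decide +kernel

set_option maxRecDepth 100000 in
theorem ch_1_10_6_4_5 : enum 11 ck11 1 5 5532176 1139 6 5 = true := by
  decide +kernel

set_option maxRecDepth 100000 in
theorem ch_1_10_6_4_7 : enum 11 ck11 1 5 7629328 1235 6 7 = true := by
  decide +kernel

set_option maxRecDepth 100000 in
theorem ch_1_10_6_4_8 : enum 11 ck11 1 5 8677904 1363 6 8 = true := by
  decide +kernel

set_option maxRecDepth 100000 in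
theorem ch_1_10_6_4_9 : enum 11 ck11 1 5 9726480 1619 6 9 = true := by
  decide +kernel

theorem ch_1_10_6_4 : enum 11 ck11 1 6 289296 1107 5 4 = true := by
  refine enum_intro 11 ck11 1 5 289296 1107 5 4 ?_
  intro v hv hb hd
  interval_cases v
  · exact absurd hb (by decide)
  · exact absurd hb (by decide)
  · exact ch_1_10_6_4_2
  · exact ch_1_10_6_4_3
  · exact absurd hb (by decide)
  · exact ch_1_10_6_4_5
  · exact absurd hb (by decide)
  · exact ch_1_10_6_4_7
  · exact ch_1_10_6_4_8
  · exact ch_1_10_6_4_9
  · exact absurd hb (by decide)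

set_option maxRecDepth 100000 in
theorem ch_1_10_6_5_2 : enum 11 ck11 1 5 2451984 1127 6 2 = true := by
  decide +kernel

set_option maxRecDepth 100000 in
theorem ch_1_10_6_5_3 : enum 11 ck11 1 5 3500560 1131 6 3 = true := by
  decide +kernel

set_option maxRecDepth 100000 in
theorem ch_1_10_6_5_4 : enum 11 ck11 1 5 4549136 1139 6 4 = true := by
  decide +kernel

set_option maxRecDepth 100000 in
theorem ch_1_10_6_5_7 : enum 11 ck11 1 5 7694864 1251 6 7 = true := by
  decide +kernel

set_option maxRecDepth 100000 in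
theorem ch_1_10_6_5_8 : enum 11 ck11 1 5 8743440 1379 6 8 = true := by
  decide +kernel

set_option maxRecDepth 100000 in
theorem ch_1_10_6_5_9 : enum 11 ck11 1 5 9792016 1635 6 9 = true := by
  decide +kernel

theorem ch_1_10_6_5 : enum 11 ck11 1 6 354832 1123 5 5 = true := by
  refine enum_intro 11 ck11 1 5 354832 1123 5 5 ?_
  intro v hv hb hd
  interval_cases v
  · exact absurd hb (by decide)
  · exact absurd hb (by decide)
  · exact ch_1_10_6_5_2
  · exact ch_1_10_6_5_3
  · exact ch_1_10_6_5_4
  · exact absurd hb (by decide)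
  · exact absurd hb (by decide)
  · exact ch_1_10_6_5_7
  · exact ch_1_10_6_5_8
  · exact ch_1_10_6_5_9
  · exact absurd hb (by decide)

set_option maxRecDepth 100000 in
theorem ch_1_10_6_7_2 : enum 11 ck11 1 5 2583056 1223 6 2 = true := by
  decide +kernel

set_option maxRecDepth 100000 in
theorem ch_1_10_6_7_3 : enum 11 ck11 1 5 3631632 1227 6 3 = true := by
  decide +kernel

set_option maxRecDepth 100000 in
theorem ch_1_10_6_7_4 : enum 11 ck11 1 5 4680208 1235 6 4 = true := by
  decide +kernel

set_option maxRecDepth 100000 in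
theorem ch_1_10_6_7_5 : enum 11 ck11 1 5 5728784 1251 6 5 = true := by
  decide +kernel

set_option maxRecDepth 100000 in
theorem ch_1_10_6_7_8 : enum 11 ck11 1 5 8874512 1475 6 8 = true := by
  decide +kernel

set_option maxRecDepth 100000 in
theorem ch_1_10_6_7_9 : enum 11 ck11 1 5 9923088 1731 6 9 = true := by
  decide +kernel

theorem ch_1_10_6_7 : enum 11 ck11 1 6 485904 1219 5 7 = true := by
  refine enum_intro 11 ck11 1 5 485904 1219 5 7 ?_
  intro v hv hb hd
  interval_cases v
  · exact absurd hb (by decide)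
  · exact absurd hb (by decide)
  · exact ch_1_10_6_7_2
  · exact ch_1_10_6_7_3
  · exact ch_1_10_6_7_4
  · exact ch_1_10_6_7_5
  · exact absurd hb (by decide)
  · exact absurd hb (by decide)
  · exact ch_1_10_6_7_8
  · exact ch_1_10_6_7_9
  · exact absurd hb (by decide)

set_option maxRecDepth 100000 in
theorem ch_1_10_6_8_2 : enum 11 ck11 1 5 2648592 1351 6 2 = true := by
  decide +kernel

set_option maxRecDepth 100000 in
theorem ch_1_10_6_8_3 : enum 11 ck11 1 5 3697168 1355 6 3 = true := by
  decide +kernel

set_option maxRecDepth 100000 in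
theorem ch_1_10_6_8_4 : enum 11 ck11 1 5 4745744 1363 6 4 = true := by
  decide +kernel

set_option maxRecDepth 100000 in
theorem ch_1_10_6_8_5 : enum 11 ck11 1 5 5794320 1379 6 5 = true := by
  decide +kernel

set_option maxRecDepth 100000 in
theorem ch_1_10_6_8_7 : enum 11 ck11 1 5 7891472 1475 6 7 = true := by
  decide +kernel

set_option maxRecDepth 100000 in
theorem ch_1_10_6_8_9 : enum 11 ck11 1 5 9988624 1859 6 9 = true := by
  decide +kernel

theorem ch_1_10_6_8 : enum 11 ck11 1 6 551440 1347 5 8 = true := by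
  refine enum_intro 11 ck11 1 5 551440 1347 5 8 ?_
  intro v hv hb hd
  interval_cases v
  · exact absurd hb (by decide)
  · exact absurd hb (by decide)
  · exact ch_1_10_6_8_2
  · exact ch_1_10_6_8_3
  · exact ch_1_10_6_8_4
  · exact ch_1_10_6_8_5
  · exact absurd hb (by decide)
  · exact ch_1_10_6_8_7
  · exact absurd hb (by decide)
  · exact ch_1_10_6_8_9
  · exact absurd hb (by decide)

set_option maxRecDepth 100000 in
theorem ch_1_10_6_9_2 : enum 11 ck11 1 5 2714128 1607 6 2 = true := by
  decide +kernel

set_option maxRecDepth 100000 in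
theorem ch_1_10_6_9_3 : enum 11 ck11 1 5 3762704 1611 6 3 = true := by
  decide +kernel

set_option maxRecDepth 100000 in
theorem ch_1_10_6_9_4 : enum 11 ck11 1 5 4811280 1619 6 4 = true := by
  decide +kernel

set_option maxRecDepth 100000 in
theorem ch_1_10_6_9_5 : enum 11 ck11 1 5 5859856 1635 6 5 = true := by
  decide +kernel

set_option maxRecDepth 100000 in
theorem ch_1_10_6_9_7 : enum 11 ck11 1 5 7957008 1731 6 7 = true := by
  decide +kernel

set_option maxRecDepth 100000 in
theorem ch_1_10_6_9_8 : enum 11 ck11 1 5 9005584 1859 6 8 = true := by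
  decide +kernel

theorem ch_1_10_6_9 : enum 11 ck11 1 6 616976 1603 5 9 = true := by
  refine enum_intro 11 ck11 1 5 616976 1603 5 9 ?_
  intro v hv hb hd
  interval_cases v
  · exact absurd hb (by decide)
  · exact absurd hb (by decide)
  · exact ch_1_10_6_9_2
  · exact ch_1_10_6_9_3
  · exact ch_1_10_6_9_4
  · exact ch_1_10_6_9_5
  · exact absurd hb (by decide)
  · exact ch_1_10_6_9_7
  · exact ch_1_10_6_9_8
  · exact absurd hb (by decide)
  · exact absurd hb (by decide)

theorem ch_1_10_6 : enum 11 ck11 1 7 27152 1091 4 6 = true := by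
  refine enum_intro 11 ck11 1 6 27152 1091 4 6 ?_
  intro v hv hb hd
  interval_cases v
  · exact absurd hb (by decide)
  · exact absurd hb (by decide)
  · exact ch_1_10_6_2
  · exact ch_1_10_6_3
  · exact ch_1_10_6_4
  · exact ch_1_10_6_5
  · exact absurd hb (by decide)
  · exact ch_1_10_6_7
  · exact ch_1_10_6_8
  · exact ch_1_10_6_9
  · exact absurd hb (by decide)

set_option maxRecDepth 100000 in
theorem ch_1_10_7_2_3 : enum 11 ck11 1 5 3308048 1167 6 3 = true := by
  decide +kernel

set_option maxRecDepth 100000 in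
theorem ch_1_10_7_2_4 : enum 11 ck11 1 5 4356624 1175 6 4 = true := by
  decide +kernel

set_option maxRecDepth 100000 in
theorem ch_1_10_7_2_5 : enum 11 ck11 1 5 5405200 1191 6 5 = true := by
  decide +kernel

set_option maxRecDepth 100000 in
theorem ch_1_10_7_2_6 : enum 11 ck11 1 5 6453776 1223 6 6 = true := by
  decide +kernel

set_option maxRecDepth 100000 in
theorem ch_1_10_7_2_8 : enum 11 ck11 1 5 8550928 1415 6 8 = true := by
  decide +kernel

set_option maxRecDepth 100000 in
theorem ch_1_10_7_2_9 : enum 11 ck11 1 5 9599504 1671 6 9 = true := by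
  decide +kernel

theorem ch_1_10_7_2 : enum 11 ck11 1 6 162320 1159 5 2 = true := by
  refine enum_intro 11 ck11 1 5 162320 1159 5 2 ?_
  intro v hv hb hd
  interval_cases v
  · exact absurd hb (by decide)
  · exact absurd hb (by decide)
  · exact absurd hb (by decide)
  · exact ch_1_10_7_2_3
  · exact ch_1_10_7_2_4
  · exact ch_1_10_7_2_5
  · exact ch_1_10_7_2_6
  · exact absurd hb (by decide)
  · exact ch_1_10_7_2_8
  · exact ch_1_10_7_2_9
  · exact absurd hb (by decide)

set_option maxRecDepth 100000 in
theorem ch_1_10_7_3_2 : enum 11 ck11 1 5 2325008 1167 6 2 = true := by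
  decide +kernel

set_option maxRecDepth 100000 in
theorem ch_1_10_7_3_4 : enum 11 ck11 1 5 4422160 1179 6 4 = true := by
  decide +kernel

set_option maxRecDepth 100000 in
theorem ch_1_10_7_3_5 : enum 11 ck11 1 5 5470736 1195 6 5 = true := by
  decide +kernel

set_option maxRecDepth 100000 in
theorem ch_1_10_7_3_6 : enum 11 ck11 1 5 6519312 1227 6 6 = true := by
  decide +kernel

set_option maxRecDepth 100000 in
theorem ch_1_10_7_3_8 : enum 11 ck11 1 5 8616464 1419 6 8 = true := by
  decide +kernel

set_option maxRecDepth 100000 in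
theorem ch_1_10_7_3_9 : enum 11 ck11 1 5 9665040 1675 6 9 = true := by
  decide +kernel

theorem ch_1_10_7_3 : enum 11 ck11 1 6 227856 1163 5 3 = true := by
  refine enum_intro 11 ck11 1 5 227856 1163 5 3 ?_
  intro v hv hb hd
  interval_cases v
  · exact absurd hb (by decide)
  · exact absurd hb (by decide)
  · exact ch_1_10_7_3_2
  · exact absurd hb (by decide)
  · exact ch_1_10_7_3_4
  · exact ch_1_10_7_3_5
  · exact ch_1_10_7_3_6
  · exact absurd hb (by decide)
  · exact ch_1_10_7_3_8
  · exact ch_1_10_7_3_9
  · exact absurd hb (by decide)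

set_option maxRecDepth 100000 in
theorem ch_1_10_7_4_2 : enum 11 ck11 1 5 2390544 1175 6 2 = true := by
  decide +kernel

set_option maxRecDepth 100000 in
theorem ch_1_10_7_4_3 : enum 11 ck11 1 5 3439120 1179 6 3 = true := by
  decide +kernel

set_option maxRecDepth 100000 in
theorem ch_1_10_7_4_5 : enum 11 ck11 1 5 5536272 1203 6 5 = true := by
  decide +kernel

set_option maxRecDepth 100000 in
theorem ch_1_10_7_4_6 : enum 11 ck11 1 5 6584848 1235 6 6 = true := by
  decide +kernel

set_option maxRecDepth 100000 in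
theorem ch_1_10_7_4_8 : enum 11 ck11 1 5 8682000 1427 6 8 = true := by
  decide +kernel

set_option maxRecDepth 100000 in
theorem ch_1_10_7_4_9 : enum 11 ck11 1 5 9730576 1683 6 9 = true := by
  decide +kernel

theorem ch_1_10_7_4 : enum 11 ck11 1 6 293392 1171 5 4 = true := by
  refine enum_intro 11 ck11 1 5 293392 1171 5 4 ?_
  intro v hv hb hd
  interval_cases v
  · exact absurd hb (by decide)
  · exact absurd hb (by decide)
  · exact ch_1_10_7_4_2
  · exact ch_1_10_7_4_3
  · exact absurd hb (by decide)
  · exact ch_1_10_7_4_5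
  · exact ch_1_10_7_4_6
  · exact absurd hb (by decide)
  · exact ch_1_10_7_4_8
  · exact ch_1_10_7_4_9
  · exact absurd hb (by decide)

set_option maxRecDepth 100000 in
theorem ch_1_10_7_5_2 : enum 11 ck11 1 5 2456080 1191 6 2 = true := by
  decide +kernel

set_option maxRecDepth 100000 in
theorem ch_1_10_7_5_3 : enum 11 ck11 1 5 3504656 1195 6 3 = true := by
  decide +kernel

set_option maxRecDepth 100000 in
theorem ch_1_10_7_5_4 : enum 11 ck11 1 5 4553232 1203 6 4 = true := by
  decide +kernel

set_option maxRecDepth 100000 in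
theorem ch_1_10_7_5_6 : enum 11 ck11 1 5 6650384 1251 6 6 = true := by
  decide +kernel

set_option maxRecDepth 100000 in
theorem ch_1_10_7_5_8 : enum 11 ck11 1 5 8747536 1443 6 8 = true := by
  decide +kernel

set_option maxRecDepth 100000 in
theorem ch_1_10_7_5_9 : enum 11 ck11 1 5 9796112 1699 6 9 = true := by
  decide +kernel

theorem ch_1_10_7_5 : enum 11 ck11 1 6 358928 1187 5 5 = true := by
  refine enum_intro 11 ck11 1 5 358928 1187 5 5 ?_
  intro v hv hb hd
  interval_cases v
  · exact absurd hb (by decide)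
  · exact absurd hb (by decide)
  · exact ch_1_10_7_5_2
  · exact ch_1_10_7_5_3
  · exact ch_1_10_7_5_4
  · exact absurd hb (by decide)
  · exact ch_1_10_7_5_6
  · exact absurd hb (by decide)
  · exact ch_1_10_7_5_8
  · exact ch_1_10_7_5_9
  · exact absurd hb (by decide)

set_option maxRecDepth 100000 in
theorem ch_1_10_7_6_2 : enum 11 ck11 1 5 2521616 1223 6 2 = true := by
  decide +kernel

set_option maxRecDepth 100000 in
theorem ch_1_10_7_6_3 : enum 11 ck11 1 5 3570192 1227 6 3 = true := by
  decide +kernel

set_option maxRecDepth 100000 in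
theorem ch_1_10_7_6_4 : enum 11 ck11 1 5 4618768 1235 6 4 = true := by
  decide +kernel

set_option maxRecDepth 100000 in
theorem ch_1_10_7_6_5 : enum 11 ck11 1 5 5667344 1251 6 5 = true := by
  decide +kernel

set_option maxRecDepth 100000 in
theorem ch_1_10_7_6_8 : enum 11 ck11 1 5 8813072 1475 6 8 = true := by
  decide +kernel

set_option maxRecDepth 100000 in
theorem ch_1_10_7_6_9 : enum 11 ck11 1 5 9861648 1731 6 9 = true := by
  decide +kernel

theorem ch_1_10_7_6 : enum 11 ck11 1 6 424464 1219 5 6 = true := by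
  refine enum_intro 11 ck11 1 5 424464 1219 5 6 ?_
  intro v hv hb hd
  interval_cases v
  · exact absurd hb (by decide)
  · exact absurd hb (by decide)
  · exact ch_1_10_7_6_2
  · exact ch_1_10_7_6_3
  · exact ch_1_10_7_6_4
  · exact ch_1_10_7_6_5
  · exact absurd hb (by decide)
  · exact absurd hb (by decide)
  · exact ch_1_10_7_6_8
  · exact ch_1_10_7_6_9
  · exact absurd hb (by decide)

set_option maxRecDepth 100000 in
theorem ch_1_10_7_8_2 : enum 11 ck11 1 5 2652688 1415 6 2 = true := by
  decide +kernel

set_option maxRecDepth 100000 in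
theorem ch_1_10_7_8_3 : enum 11 ck11 1 5 3701264 1419 6 3 = true := by
  decide +kernel

set_option maxRecDepth 100000 in
theorem ch_1_10_7_8_4 : enum 11 ck11 1 5 4749840 1427 6 4 = true := by
  decide +kernel

set_option maxRecDepth 100000 in
theorem ch_1_10_7_8_5 : enum 11 ck11 1 5 5798416 1443 6 5 = true := by
  decide +kernel

set_option maxRecDepth 100000 in
theorem ch_1_10_7_8_6 : enum 11 ck11 1 5 6846992 1475 6 6 = true := by
  decide +kernel

set_option maxRecDepth 100000 in
theorem ch_1_10_7_8_9 : enum 11 ck11 1 5 9992720 1923 6 9 = true := by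
  decide +kernel

theorem ch_1_10_7_8 : enum 11 ck11 1 6 555536 1411 5 8 = true := by
  refine enum_intro 11 ck11 1 5 555536 1411 5 8 ?_
  intro v hv hb hd
  interval_cases v
  · exact absurd hb (by decide)
  · exact absurd hb (by decide)
  · exact ch_1_10_7_8_2
  · exact ch_1_10_7_8_3
  · exact ch_1_10_7_8_4
  · exact ch_1_10_7_8_5
  · exact ch_1_10_7_8_6
  · exact absurd hb (by decide)
  · exact absurd hb (by decide)
  · exact ch_1_10_7_8_9
  · exact absurd hb (by decide)

set_option maxRecDepth 100000 in
theorem ch_1_10_7_9_2 : enum 11 ck11 1 5 2718224 1671 6 2 = true := by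
  decide +kernel

set_option maxRecDepth 100000 in
theorem ch_1_10_7_9_3 : enum 11 ck11 1 5 3766800 1675 6 3 = true := by
  decide +kernel

set_option maxRecDepth 100000 in
theorem ch_1_10_7_9_4 : enum 11 ck11 1 5 4815376 1683 6 4 = true := by
  decide +kernel

set_option maxRecDepth 100000 in
theorem ch_1_10_7_9_5 : enum 11 ck11 1 5 5863952 1699 6 5 = true := by
  decide +kernel

set_option maxRecDepth 100000 in
theorem ch_1_10_7_9_6 : enum 11 ck11 1 5 6912528 1731 6 6 = true := by
  decide +kernel

set_option maxRecDepth 100000 in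
theorem ch_1_10_7_9_8 : enum 11 ck11 1 5 9009680 1923 6 8 = true := by
  decide +kernel

theorem ch_1_10_7_9 : enum 11 ck11 1 6 621072 1667 5 9 = true := by
  refine enum_intro 11 ck11 1 5 621072 1667 5 9 ?_
  intro v hv hb hd
  interval_cases v
  · exact absurd hb (by decide)
  · exact absurd hb (by decide)
  · exact ch_1_10_7_9_2
  · exact ch_1_10_7_9_3
  · exact ch_1_10_7_9_4
  · exact ch_1_10_7_9_5
  · exact ch_1_10_7_9_6
  · exact absurd hb (by decide)
  · exact ch_1_10_7_9_8
  · exact absurd hb (by decide)
  · exact absurd hb (by decide)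

theorem ch_1_10_7 : enum 11 ck11 1 7 31248 1155 4 7 = true := by
  refine enum_intro 11 ck11 1 6 31248 1155 4 7 ?_
  intro v hv hb hd
  interval_cases v
  · exact absurd hb (by decide)
  · exact absurd hb (by decide)
  · exact ch_1_10_7_2
  · exact ch_1_10_7_3
  · exact ch_1_10_7_4
  · exact ch_1_10_7_5
  · exact ch_1_10_7_6
  · exact absurd hb (by decide)
  · exact ch_1_10_7_8
  · exact ch_1_10_7_9
  · exact absurd hb (by decide)

end Cfsg.Agent.Helper9.T11
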