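import Mathlib
import Cfsg.Agent.Helper9.T11.Chk

set_option autoImplicit false
set_option Elab.async false

/-!
A part of the enumeration on 11 points: the test holds at every permutation of the part.
-/

namespace Cfsg.Agent.Helper9.T11

set_option maxRecDepth 100000 in
theorem ch_1_10_8_2_3 : enum 11 ck11 1 5 3312144 1295 6 3 = true := by
  decide +kernel

set_option maxRecDepth 100000 in
theorem ch_1_10_8_2_4 : enum 11 ck11 1 5 4360720 1303 6 4 = true := by
  decide +kernel

set_option maxRecDepth 100000 in
theorem ch_1_10_8_2_5 : enum 11 ck11 1 5 5409296 1319 6 5 = true := by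
  decide +kernel

set_option maxRecDepth 100000 in
theorem ch_1_10_8_2_6 : enum 11 ck11 1 5 6457872 1351 6 6 = true := by
  decide +kernel

set_option maxRecDepth 100000 in
theorem ch_1_10_8_2_7 : enum 11 ck11 1 5 7506448 1415 6 7 = true := by
  decide +kernel

set_option maxRecDepth 100000 in
theorem ch_1_10_8_2_9 : enum 11 ck11 1 5 9603600 1799 6 9 = true := by
  decide +kernel

theorem ch_1_10_8_2 : enum 11 ck11 1 6 166416 1287 5 2 = true := by
  refine enum_intro 11 ck11 1 5 166416 1287 5 2 ?_
  intro v hv hb hd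
  interval_cases v
  · exact absurd hb (by decide)
  · exact absurd hb (by decide)
  · exact absurd hb (by decide)
  · exact ch_1_10_8_2_3
  · exact ch_1_10_8_2_4
  · exact ch_1_10_8_2_5
  · exact ch_1_10_8_2_6
  · exact ch_1_10_8_2_7
  · exact absurd hb (by decide)
  · exact ch_1_10_8_2_9
  · exact absurd hb (by decide)

set_option maxRecDepth 100000 in
theorem ch_1_10_8_3_2 : enum 11 ck11 1 5 2329104 1295 6 2 = true := by
  decide +kernel

set_option maxRecDepth 100000 in
theorem ch_1_10_8_3_4 : enum 11 ck11 1 5 4426256 1307 6 4 = true := by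
  decide +kernel

set_option maxRecDepth 100000 in
theorem ch_1_10_8_3_5 : enum 11 ck11 1 5 5474832 1323 6 5 = true := by
  decide +kernel

set_option maxRecDepth 100000 in
theorem ch_1_10_8_3_6 : enum 11 ck11 1 5 6523408 1355 6 6 = true := by
  decide +kernel

set_option maxRecDepth 100000 in
theorem ch_1_10_8_3_7 : enum 11 ck11 1 5 7571984 1419 6 7 = true := by
  decide +kernel

set_option maxRecDepth 100000 in
theorem ch_1_10_8_3_9 : enum 11 ck11 1 5 9669136 1803 6 9 = true := by
  decide +kernel

theorem ch_1_10_8_3 : enum 11 ck11 1 6 231952 1291 5 3 = true := by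
  refine enum_intro 11 ck11 1 5 231952 1291 5 3 ?_
  intro v hv hb hd
  interval_cases v
  · exact absurd hb (by decide)
  · exact absurd hb (by decide)
  · exact ch_1_10_8_3_2
  · exact absurd hb (by decide)
  · exact ch_1_10_8_3_4
  · exact ch_1_10_8_3_5
  · exact ch_1_10_8_3_6
  · exact ch_1_10_8_3_7
  · exact absurd hb (by decide)
  · exact ch_1_10_8_3_9
  · exact absurd hb (by decide)

set_option maxRecDepth 100000 in
theorem ch_1_10_8_4_2 : enum 11 ck11 1 5 2394640 1303 6 2 = true := by
  decide +kernel

set_option maxRecDepth 100000 in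
theorem ch_1_10_8_4_3 : enum 11 ck11 1 5 3443216 1307 6 3 = true := by
  decide +kernel

set_option maxRecDepth 100000 in
theorem ch_1_10_8_4_5 : enum 11 ck11 1 5 5540368 1331 6 5 = true := by
  decide +kernel

set_option maxRecDepth 100000 in
theorem ch_1_10_8_4_6 : enum 11 ck11 1 5 6588944 1363 6 6 = true := by
  decide +kernel

set_option maxRecDepth 100000 in
theorem ch_1_10_8_4_7 : enum 11 ck11 1 5 7637520 1427 6 7 = true := by
  decide +kernel

set_option maxRecDepth 100000 in
theorem ch_1_10_8_4_9 : enum 11 ck11 1 5 9734672 1811 6 9 = true := by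
  decide +kernel

theorem ch_1_10_8_4 : enum 11 ck11 1 6 297488 1299 5 4 = true := by
  refine enum_intro 11 ck11 1 5 297488 1299 5 4 ?_
  intro v hv hb hd
  interval_cases v
  · exact absurd hb (by decide)
  · exact absurd hb (by decide)
  · exact ch_1_10_8_4_2
  · exact ch_1_10_8_4_3
  · exact absurd hb (by decide)
  · exact ch_1_10_8_4_5
  · exact ch_1_10_8_4_6
  · exact ch_1_10_8_4_7
  · exact absurd hb (by decide)
  · exact ch_1_10_8_4_9
  · exact absurd hb (by decide)

set_option maxRecDepth 100000 in
theorem ch_1_10_8_5_2 : enum 11 ck11 1 5 2460176 1319 6 2 = true := by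
  decide +kernel

set_option maxRecDepth 100000 in
theorem ch_1_10_8_5_3 : enum 11 ck11 1 5 3508752 1323 6 3 = true := by
  decide +kernel

set_option maxRecDepth 100000 in
theorem ch_1_10_8_5_4 : enum 11 ck11 1 5 4557328 1331 6 4 = true := by
  decide +kernel

set_option maxRecDepth 100000 in
theorem ch_1_10_8_5_6 : enum 11 ck11 1 5 6654480 1379 6 6 = true := by
  decide +kernel

set_option maxRecDepth 100000 in
theorem ch_1_10_8_5_7 : enum 11 ck11 1 5 7703056 1443 6 7 = true := by
  decide +kernel

set_option maxRecDepth 100000 in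
theorem ch_1_10_8_5_9 : enum 11 ck11 1 5 9800208 1827 6 9 = true := by
  decide +kernel

theorem ch_1_10_8_5 : enum 11 ck11 1 6 363024 1315 5 5 = true := by
  refine enum_intro 11 ck11 1 5 363024 1315 5 5 ?_
  intro v hv hb hd
  interval_cases v
  · exact absurd hb (by decide)
  · exact absurd hb (by decide)
  · exact ch_1_10_8_5_2
  · exact ch_1_10_8_5_3
  · exact ch_1_10_8_5_4
  · exact absurd hb (by decide)
  · exact ch_1_10_8_5_6
  · exact ch_1_10_8_5_7
  · exact absurd hb (by decide)
  · exact ch_1_10_8_5_9
  · exact absurd hb (by decide)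

set_option maxRecDepth 100000 in
theorem ch_1_10_8_6_2 : enum 11 ck11 1 5 2525712 1351 6 2 = true := by
  decide +kernel

set_option maxRecDepth 100000 in
theorem ch_1_10_8_6_3 : enum 11 ck11 1 5 3574288 1355 6 3 = true := by
  decide +kernel

set_option maxRecDepth 100000 in
theorem ch_1_10_8_6_4 : enum 11 ck11 1 5 4622864 1363 6 4 = true := by
  decide +kernel

set_option maxRecDepth 100000 in
theorem ch_1_10_8_6_5 : enum 11 ck11 1 5 5671440 1379 6 5 = true := by
  decide +kernel

set_option maxRecDepth 100000 in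
theorem ch_1_10_8_6_7 : enum 11 ck11 1 5 7768592 1475 6 7 = true := by
  decide +kernel

set_option maxRecDepth 100000 in
theorem ch_1_10_8_6_9 : enum 11 ck11 1 5 9865744 1859 6 9 = true := by
  decide +kernel

theorem ch_1_10_8_6 : enum 11 ck11 1 6 428560 1347 5 6 = true := by
  refine enum_intro 11 ck11 1 5 428560 1347 5 6 ?_
  intro v hv hb hd
  interval_cases v
  · exact absurd hb (by decide)
  · exact absurd hb (by decide)
  · exact ch_1_10_8_6_2
  · exact ch_1_10_8_6_3
  · exact ch_1_10_8_6_4
  · exact ch_1_10_8_6_5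
  · exact absurd hb (by decide)
  · exact ch_1_10_8_6_7
  · exact absurd hb (by decide)
  · exact ch_1_10_8_6_9
  · exact absurd hb (by decide)

set_option maxRecDepth 100000 in
theorem ch_1_10_8_7_2 : enum 11 ck11 1 5 2591248 1415 6 2 = true := by
  decide +kernel

set_option maxRecDepth 100000 in
theorem ch_1_10_8_7_3 : enum 11 ck11 1 5 3639824 1419 6 3 = true := by
  decide +kernel

set_option maxRecDepth 100000 in
theorem ch_1_10_8_7_4 : enum 11 ck11 1 5 4688400 1427 6 4 = true := by
  decide +kernel

set_option maxRecDepth 100000 in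
theorem ch_1_10_8_7_5 : enum 11 ck11 1 5 5736976 1443 6 5 = true := by
  decide +kernel

set_option maxRecDepth 100000 in
theorem ch_1_10_8_7_6 : enum 11 ck11 1 5 6785552 1475 6 6 = true := by
  decide +kernel

set_option maxRecDepth 100000 in
theorem ch_1_10_8_7_9 : enum 11 ck11 1 5 9931280 1923 6 9 = true := by
  decide +kernel

theorem ch_1_10_8_7 : enum 11 ck11 1 6 494096 1411 5 7 = true := by
  refine enum_intro 11 ck11 1 5 494096 1411 5 7 ?_
  intro v hv hb hd
  interval_cases v
  · exact absurd hb (by decide)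
  · exact absurd hb (by decide)
  · exact ch_1_10_8_7_2
  · exact ch_1_10_8_7_3
  · exact ch_1_10_8_7_4
  · exact ch_1_10_8_7_5
  · exact ch_1_10_8_7_6
  · exact absurd hb (by decide)
  · exact absurd hb (by decide)
  · exact ch_1_10_8_7_9
  · exact absurd hb (by decide)

set_option maxRecDepth 100000 in
theorem ch_1_10_8_9_2 : enum 11 ck11 1 5 2722320 1799 6 2 = true := by
  decide +kernel

set_option maxRecDepth 100000 in
theorem ch_1_10_8_9_3 : enum 11 ck11 1 5 3770896 1803 6 3 = true := by
  decide +kernel

set_option maxRecDepth 100000 in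
theorem ch_1_10_8_9_4 : enum 11 ck11 1 5 4819472 1811 6 4 = true := by
  decide +kernel

set_option maxRecDepth 100000 in
theorem ch_1_10_8_9_5 : enum 11 ck11 1 5 5868048 1827 6 5 = true := by
  decide +kernel

set_option maxRecDepth 100000 in
theorem ch_1_10_8_9_6 : enum 11 ck11 1 5 6916624 1859 6 6 = true := by
  decide +kernel

set_option maxRecDepth 100000 in
theorem ch_1_10_8_9_7 : enum 11 ck11 1 5 7965200 1923 6 7 = true := by
  decide +kernel

theorem ch_1_10_8_9 : enum 11 ck11 1 6 625168 1795 5 9 = true := by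
  refine enum_intro 11 ck11 1 5 625168 1795 5 9 ?_
  intro v hv hb hd
  interval_cases v
  · exact absurd hb (by decide)
  · exact absurd hb (by decide)
  · exact ch_1_10_8_9_2
  · exact ch_1_10_8_9_3
  · exact ch_1_10_8_9_4
  · exact ch_1_10_8_9_5
  · exact ch_1_10_8_9_6
  · exact ch_1_10_8_9_7
  · exact absurd hb (by decide)
  · exact absurd hb (by decide)
  · exact absurd hb (by decide)

theorem ch_1_10_8 : enum 11 ck11 1 7 35344 1283 4 8 = true := by
  refine enum_intro 11 ck11 1 6 35344 1283 4 8 ?_
  intro v hv hb hd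
  interval_cases v
  · exact absurd hb (by decide)
  · exact absurd hb (by decide)
  · exact ch_1_10_8_2
  · exact ch_1_10_8_3
  · exact ch_1_10_8_4
  · exact ch_1_10_8_5
  · exact ch_1_10_8_6
  · exact ch_1_10_8_7
  · exact absurd hb (by decide)
  · exact ch_1_10_8_9
  · exact absurd hb (by decide)

set_option maxRecDepth 100000 in
theorem ch_1_10_9_2_3 : enum 11 ck11 1 5 3316240 1551 6 3 = true := by
  decide +kernel

set_option maxRecDepth 100000 in
theorem ch_1_10_9_2_4 : enum 11 ck11 1 5 4364816 1559 6 4 = true := by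
  decide +kernel

set_option maxRecDepth 100000 in
theorem ch_1_10_9_2_5 : enum 11 ck11 1 5 5413392 1575 6 5 = true := by
  decide +kernel

set_option maxRecDepth 100000 in
theorem ch_1_10_9_2_6 : enum 11 ck11 1 5 6461968 1607 6 6 = true := by
  decide +kernel

set_option maxRecDepth 100000 in
theorem ch_1_10_9_2_7 : enum 11 ck11 1 5 7510544 1671 6 7 = true := by
  decide +kernel

set_option maxRecDepth 100000 in
theorem ch_1_10_9_2_8 : enum 11 ck11 1 5 8559120 1799 6 8 = true := by
  decide +kernel

theorem ch_1_10_9_2 : enum 11 ck11 1 6 170512 1543 5 2 = true := by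
  refine enum_intro 11 ck11 1 5 170512 1543 5 2 ?_
  intro v hv hb hd
  interval_cases v
  · exact absurd hb (by decide)
  · exact absurd hb (by decide)
  · exact absurd hb (by decide)
  · exact ch_1_10_9_2_3
  · exact ch_1_10_9_2_4
  · exact ch_1_10_9_2_5
  · exact ch_1_10_9_2_6
  · exact ch_1_10_9_2_7
  · exact ch_1_10_9_2_8
  · exact absurd hb (by decide)
  · exact absurd hb (by decide)

set_option maxRecDepth 100000 in
theorem ch_1_10_9_3_2 : enum 11 ck11 1 5 2333200 1551 6 2 = true := by
  decide +kernel

set_option maxRecDepth 100000 in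
theorem ch_1_10_9_3_4 : enum 11 ck11 1 5 4430352 1563 6 4 = true := by
  decide +kernel

set_option maxRecDepth 100000 in
theorem ch_1_10_9_3_5 : enum 11 ck11 1 5 5478928 1579 6 5 = true := by
  decide +kernel

set_option maxRecDepth 100000 in
theorem ch_1_10_9_3_6 : enum 11 ck11 1 5 6527504 1611 6 6 = true := by
  decide +kernel

set_option maxRecDepth 100000 in
theorem ch_1_10_9_3_7 : enum 11 ck11 1 5 7576080 1675 6 7 = true := by
  decide +kernel

set_option maxRecDepth 100000 in
theorem ch_1_10_9_3_8 : enum 11 ck11 1 5 8624656 1803 6 8 = true := by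
  decide +kernel

theorem ch_1_10_9_3 : enum 11 ck11 1 6 236048 1547 5 3 = true := by
  refine enum_intro 11 ck11 1 5 236048 1547 5 3 ?_
  intro v hv hb hd
  interval_cases v
  · exact absurd hb (by decide)
  · exact absurd hb (by decide)
  · exact ch_1_10_9_3_2
  · exact absurd hb (by decide)
  · exact ch_1_10_9_3_4
  · exact ch_1_10_9_3_5
  · exact ch_1_10_9_3_6
  · exact ch_1_10_9_3_7
  · exact ch_1_10_9_3_8
  · exact absurd hb (by decide)
  · exact absurd hb (by decide)

set_option maxRecDepth 100000 in
theorem ch_1_10_9_4_2 : enum 11 ck11 1 5 2398736 1559 6 2 = true := by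
  decide +kernel

set_option maxRecDepth 100000 in
theorem ch_1_10_9_4_3 : enum 11 ck11 1 5 3447312 1563 6 3 = true := by
  decide +kernel

set_option maxRecDepth 100000 in
theorem ch_1_10_9_4_5 : enum 11 ck11 1 5 5544464 1587 6 5 = true := by
  decide +kernel

set_option maxRecDepth 100000 in
theorem ch_1_10_9_4_6 : enum 11 ck11 1 5 6593040 1619 6 6 = true := by
  decide +kernel

set_option maxRecDepth 100000 in
theorem ch_1_10_9_4_7 : enum 11 ck11 1 5 7641616 1683 6 7 = true := by
  decide +kernel

set_option maxRecDepth 100000 in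
theorem ch_1_10_9_4_8 : enum 11 ck11 1 5 8690192 1811 6 8 = true := by
  decide +kernel

theorem ch_1_10_9_4 : enum 11 ck11 1 6 301584 1555 5 4 = true := by
  refine enum_intro 11 ck11 1 5 301584 1555 5 4 ?_
  intro v hv hb hd
  interval_cases v
  · exact absurd hb (by decide)
  · exact absurd hb (by decide)
  · exact ch_1_10_9_4_2
  · exact ch_1_10_9_4_3
  · exact absurd hb (by decide)
  · exact ch_1_10_9_4_5
  · exact ch_1_10_9_4_6
  · exact ch_1_10_9_4_7
  · exact ch_1_10_9_4_8
  · exact absurd hb (by decide)
  · exact absurd hb (by decide)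

set_option maxRecDepth 100000 in
theorem ch_1_10_9_5_2 : enum 11 ck11 1 5 2464272 1575 6 2 = true := by
  decide +kernel

set_option maxRecDepth 100000 in
theorem ch_1_10_9_5_3 : enum 11 ck11 1 5 3512848 1579 6 3 = true := by
  decide +kernel

set_option maxRecDepth 100000 in
theorem ch_1_10_9_5_4 : enum 11 ck11 1 5 4561424 1587 6 4 = true := by
  decide +kernel

set_option maxRecDepth 100000 in
theorem ch_1_10_9_5_6 : enum 11 ck11 1 5 6658576 1635 6 6 = true := by
  decide +kernel

set_option maxRecDepth 100000 in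
theorem ch_1_10_9_5_7 : enum 11 ck11 1 5 7707152 1699 6 7 = true := by
  decide +kernel

set_option maxRecDepth 100000 in
theorem ch_1_10_9_5_8 : enum 11 ck11 1 5 8755728 1827 6 8 = true := by
  decide +kernel

theorem ch_1_10_9_5 : enum 11 ck11 1 6 367120 1571 5 5 = true := by
  refine enum_intro 11 ck11 1 5 367120 1571 5 5 ?_
  intro v hv hb hd
  interval_cases v
  · exact absurd hb (by decide)
  · exact absurd hb (by decide)
  · exact ch_1_10_9_5_2
  · exact ch_1_10_9_5_3
  · exact ch_1_10_9_5_4
  · exact absurd hb (by decide)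
  · exact ch_1_10_9_5_6
  · exact ch_1_10_9_5_7
  · exact ch_1_10_9_5_8
  · exact absurd hb (by decide)
  · exact absurd hb (by decide)

set_option maxRecDepth 100000 in
theorem ch_1_10_9_6_2 : enum 11 ck11 1 5 2529808 1607 6 2 = true := by
  decide +kernel

set_option maxRecDepth 100000 in
theorem ch_1_10_9_6_3 : enum 11 ck11 1 5 3578384 1611 6 3 = true := by
  decide +kernel

set_option maxRecDepth 100000 in
theorem ch_1_10_9_6_4 : enum 11 ck11 1 5 4626960 1619 6 4 = true := by
  decide +kernel

set_option maxRecDepth 100000 in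
theorem ch_1_10_9_6_5 : enum 11 ck11 1 5 5675536 1635 6 5 = true := by
  decide +kernel

set_option maxRecDepth 100000 in
theorem ch_1_10_9_6_7 : enum 11 ck11 1 5 7772688 1731 6 7 = true := by
  decide +kernel

set_option maxRecDepth 100000 in
theorem ch_1_10_9_6_8 : enum 11 ck11 1 5 8821264 1859 6 8 = true := by
  decide +kernel

theorem ch_1_10_9_6 : enum 11 ck11 1 6 432656 1603 5 6 = true := by
  refine enum_intro 11 ck11 1 5 432656 1603 5 6 ?_
  intro v hv hb hd
  interval_cases v
  · exact absurd hb (by decide)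
  · exact absurd hb (by decide)
  · exact ch_1_10_9_6_2
  · exact ch_1_10_9_6_3
  · exact ch_1_10_9_6_4
  · exact ch_1_10_9_6_5
  · exact absurd hb (by decide)
  · exact ch_1_10_9_6_7
  · exact ch_1_10_9_6_8
  · exact absurd hb (by decide)
  · exact absurd hb (by decide)

set_option maxRecDepth 100000 in
theorem ch_1_10_9_7_2 : enum 11 ck11 1 5 2595344 1671 6 2 = true := by
  decide +kernel

set_option maxRecDepth 100000 in
theorem ch_1_10_9_7_3 : enum 11 ck11 1 5 3643920 1675 6 3 = true := by
  decide +kernel

set_option maxRecDepth 100000 in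
theorem ch_1_10_9_7_4 : enum 11 ck11 1 5 4692496 1683 6 4 = true := by
  decide +kernel

set_option maxRecDepth 100000 in
theorem ch_1_10_9_7_5 : enum 11 ck11 1 5 5741072 1699 6 5 = true := by
  decide +kernel

set_option maxRecDepth 100000 in
theorem ch_1_10_9_7_6 : enum 11 ck11 1 5 6789648 1731 6 6 = true := by
  decide +kernel

set_option maxRecDepth 100000 in
theorem ch_1_10_9_7_8 : enum 11 ck11 1 5 8886800 1923 6 8 = true := by
  decide +kernel

theorem ch_1_10_9_7 : enum 11 ck11 1 6 498192 1667 5 7 = true := by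
  refine enum_intro 11 ck11 1 5 498192 1667 5 7 ?_
  intro v hv hb hd
  interval_cases v
  · exact absurd hb (by decide)
  · exact absurd hb (by decide)
  · exact ch_1_10_9_7_2
  · exact ch_1_10_9_7_3
  · exact ch_1_10_9_7_4
  · exact ch_1_10_9_7_5
  · exact ch_1_10_9_7_6
  · exact absurd hb (by decide)
  · exact ch_1_10_9_7_8
  · exact absurd hb (by decide)
  · exact absurd hb (by decide)

set_option maxRecDepth 100000 in
theorem ch_1_10_9_8_2 : enum 11 ck11 1 5 2660880 1799 6 2 = true := by
  decide +kernel

set_option maxRecDepth 100000 in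
theorem ch_1_10_9_8_3 : enum 11 ck11 1 5 3709456 1803 6 3 = true := by
  decide +kernel

set_option maxRecDepth 100000 in
theorem ch_1_10_9_8_4 : enum 11 ck11 1 5 4758032 1811 6 4 = true := by
  decide +kernel

set_option maxRecDepth 100000 in
theorem ch_1_10_9_8_5 : enum 11 ck11 1 5 5806608 1827 6 5 = true := by
  decide +kernel

set_option maxRecDepth 100000 in
theorem ch_1_10_9_8_6 : enum 11 ck11 1 5 6855184 1859 6 6 = true := by
  decide +kernel

set_option maxRecDepth 100000 in
theorem ch_1_10_9_8_7 : enum 11 ck11 1 5 7903760 1923 6 7 = true := by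
  decide +kernel

theorem ch_1_10_9_8 : enum 11 ck11 1 6 563728 1795 5 8 = true := by
  refine enum_intro 11 ck11 1 5 563728 1795 5 8 ?_
  intro v hv hb hd
  interval_cases v
  · exact absurd hb (by decide)
  · exact absurd hb (by decide)
  · exact ch_1_10_9_8_2
  · exact ch_1_10_9_8_3
  · exact ch_1_10_9_8_4
  · exact ch_1_10_9_8_5
  · exact ch_1_10_9_8_6
  · exact ch_1_10_9_8_7
  · exact absurd hb (by decide)
  · exact absurd hb (by decide)
  · exact absurd hb (by decide)

theorem ch_1_10_9 : enum 11 ck11 1 7 39440 1539 4 9 = true := by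
  refine enum_intro 11 ck11 1 6 39440 1539 4 9 ?_
  intro v hv hb hd
  interval_cases v
  · exact absurd hb (by decide)
  · exact absurd hb (by decide)
  · exact ch_1_10_9_2
  · exact ch_1_10_9_3
  · exact ch_1_10_9_4
  · exact ch_1_10_9_5
  · exact ch_1_10_9_6
  · exact ch_1_10_9_7
  · exact ch_1_10_9_8
  · exact absurd hb (by decide)
  · exact absurd hb (by decide)

end Cfsg.Agent.Helper9.T11
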