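import Mathlib
import Cfsg.Agent.Helper9.T11.Chk

set_option autoImplicit false
set_option Elab.async false

/-!
A part of the enumeration on 11 points: the test holds at every permutation of the part.
-/

namespace Cfsg.Agent.Helper9.T11

set_option maxRecDepth 100000 in
theorem ch_1_2_3_4_5 : enum 11 ck11 1 5 5517840 63 6 5 = true := by
  decide +kernel

set_option maxRecDepth 100000 in
theorem ch_1_2_3_4_6 : enum 11 ck11 1 5 6566416 95 6 6 = true := by
  decide +kernel

set_option maxRecDepth 100000 in
theorem ch_1_2_3_4_7 : enum 11 ck11 1 5 7614992 159 6 7 = true := by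
  decide +kernel

set_option maxRecDepth 100000 in
theorem ch_1_2_3_4_8 : enum 11 ck11 1 5 8663568 287 6 8 = true := by
  decide +kernel

set_option maxRecDepth 100000 in
theorem ch_1_2_3_4_9 : enum 11 ck11 1 5 9712144 543 6 9 = true := by
  decide +kernel

set_option maxRecDepth 100000 in
theorem ch_1_2_3_4_10 : enum 11 ck11 1 5 10760720 1055 6 10 = true := by
  decide +kernel

theorem ch_1_2_3_4 : enum 11 ck11 1 6 274960 31 5 4 = true := by
  refine enum_intro 11 ck11 1 5 274960 31 5 4 ?_
  intro v hv hb hd
  interval_cases v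
  · exact absurd hb (by decide)
  · exact absurd hb (by decide)
  · exact absurd hb (by decide)
  · exact absurd hb (by decide)
  · exact absurd hb (by decide)
  · exact ch_1_2_3_4_5
  · exact ch_1_2_3_4_6
  · exact ch_1_2_3_4_7
  · exact ch_1_2_3_4_8
  · exact ch_1_2_3_4_9
  · exact ch_1_2_3_4_10

set_option maxRecDepth 100000 in
theorem ch_1_2_3_5_4 : enum 11 ck11 1 5 4534800 63 6 4 = true := by
  decide +kernel

set_option maxRecDepth 100000 in
theorem ch_1_2_3_5_6 : enum 11 ck11 1 5 6631952 111 6 6 = true := by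
  decide +kernel

set_option maxRecDepth 100000 in
theorem ch_1_2_3_5_7 : enum 11 ck11 1 5 7680528 175 6 7 = true := by
  decide +kernel

set_option maxRecDepth 100000 in
theorem ch_1_2_3_5_8 : enum 11 ck11 1 5 8729104 303 6 8 = true := by
  decide +kernel

set_option maxRecDepth 100000 in
theorem ch_1_2_3_5_9 : enum 11 ck11 1 5 9777680 559 6 9 = true := by
  decide +kernel

set_option maxRecDepth 100000 in
theorem ch_1_2_3_5_10 : enum 11 ck11 1 5 10826256 1071 6 10 = true := by
  decide +kernel

theorem ch_1_2_3_5 : enum 11 ck11 1 6 340496 47 5 5 = true := by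
  refine enum_intro 11 ck11 1 5 340496 47 5 5 ?_
  intro v hv hb hd
  interval_cases v
  · exact absurd hb (by decide)
  · exact absurd hb (by decide)
  · exact absurd hb (by decide)
  · exact absurd hb (by decide)
  · exact ch_1_2_3_5_4
  · exact absurd hb (by decide)
  · exact ch_1_2_3_5_6
  · exact ch_1_2_3_5_7
  · exact ch_1_2_3_5_8
  · exact ch_1_2_3_5_9
  · exact ch_1_2_3_5_10

set_option maxRecDepth 100000 in
theorem ch_1_2_3_6_4 : enum 11 ck11 1 5 4600336 95 6 4 = true := by
  decide +kernel

set_option maxRecDepth 100000 in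
theorem ch_1_2_3_6_5 : enum 11 ck11 1 5 5648912 111 6 5 = true := by
  decide +kernel

set_option maxRecDepth 100000 in
theorem ch_1_2_3_6_7 : enum 11 ck11 1 5 7746064 207 6 7 = true := by
  decide +kernel

set_option maxRecDepth 100000 in
theorem ch_1_2_3_6_8 : enum 11 ck11 1 5 8794640 335 6 8 = true := by
  decide +kernel

set_option maxRecDepth 100000 in
theorem ch_1_2_3_6_9 : enum 11 ck11 1 5 9843216 591 6 9 = true := by
  decide +kernel

set_option maxRecDepth 100000 in
theorem ch_1_2_3_6_10 : enum 11 ck11 1 5 10891792 1103 6 10 = true := by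
  decide +kernel

theorem ch_1_2_3_6 : enum 11 ck11 1 6 406032 79 5 6 = true := by
  refine enum_intro 11 ck11 1 5 406032 79 5 6 ?_
  intro v hv hb hd
  interval_cases v
  · exact absurd hb (by decide)
  · exact absurd hb (by decide)
  · exact absurd hb (by decide)
  · exact absurd hb (by decide)
  · exact ch_1_2_3_6_4
  · exact ch_1_2_3_6_5
  · exact absurd hb (by decide)
  · exact ch_1_2_3_6_7
  · exact ch_1_2_3_6_8
  · exact ch_1_2_3_6_9
  · exact ch_1_2_3_6_10

set_option maxRecDepth 100000 in
theorem ch_1_2_3_7_4 : enum 11 ck11 1 5 4665872 159 6 4 = true := by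
  decide +kernel

set_option maxRecDepth 100000 in
theorem ch_1_2_3_7_5 : enum 11 ck11 1 5 5714448 175 6 5 = true := by
  decide +kernel

set_option maxRecDepth 100000 in
theorem ch_1_2_3_7_6 : enum 11 ck11 1 5 6763024 207 6 6 = true := by
  decide +kernel

set_option maxRecDepth 100000 in
theorem ch_1_2_3_7_8 : enum 11 ck11 1 5 8860176 399 6 8 = true := by
  decide +kernel

set_option maxRecDepth 100000 in
theorem ch_1_2_3_7_9 : enum 11 ck11 1 5 9908752 655 6 9 = true := by
  decide +kernel

set_option maxRecDepth 100000 in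
theorem ch_1_2_3_7_10 : enum 11 ck11 1 5 10957328 1167 6 10 = true := by
  decide +kernel

theorem ch_1_2_3_7 : enum 11 ck11 1 6 471568 143 5 7 = true := by
  refine enum_intro 11 ck11 1 5 471568 143 5 7 ?_
  intro v hv hb hd
  interval_cases v
  · exact absurd hb (by decide)
  · exact absurd hb (by decide)
  · exact absurd hb (by decide)
  · exact absurd hb (by decide)
  · exact ch_1_2_3_7_4
  · exact ch_1_2_3_7_5
  · exact ch_1_2_3_7_6
  · exact absurd hb (by decide)
  · exact ch_1_2_3_7_8
  · exact ch_1_2_3_7_9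
  · exact ch_1_2_3_7_10

set_option maxRecDepth 100000 in
theorem ch_1_2_3_8_4 : enum 11 ck11 1 5 4731408 287 6 4 = true := by
  decide +kernel

set_option maxRecDepth 100000 in
theorem ch_1_2_3_8_5 : enum 11 ck11 1 5 5779984 303 6 5 = true := by
  decide +kernel

set_option maxRecDepth 100000 in
theorem ch_1_2_3_8_6 : enum 11 ck11 1 5 6828560 335 6 6 = true := by
  decide +kernel

set_option maxRecDepth 100000 in
theorem ch_1_2_3_8_7 : enum 11 ck11 1 5 7877136 399 6 7 = true := by
  decide +kernel

set_option maxRecDepth 100000 in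
theorem ch_1_2_3_8_9 : enum 11 ck11 1 5 9974288 783 6 9 = true := by
  decide +kernel

set_option maxRecDepth 100000 in
theorem ch_1_2_3_8_10 : enum 11 ck11 1 5 11022864 1295 6 10 = true := by
  decide +kernel

theorem ch_1_2_3_8 : enum 11 ck11 1 6 537104 271 5 8 = true := by
  refine enum_intro 11 ck11 1 5 537104 271 5 8 ?_
  intro v hv hb hd
  interval_cases v
  · exact absurd hb (by decide)
  · exact absurd hb (by decide)
  · exact absurd hb (by decide)
  · exact absurd hb (by decide)
  · exact ch_1_2_3_8_4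
  · exact ch_1_2_3_8_5
  · exact ch_1_2_3_8_6
  · exact ch_1_2_3_8_7
  · exact absurd hb (by decide)
  · exact ch_1_2_3_8_9
  · exact ch_1_2_3_8_10

set_option maxRecDepth 100000 in
theorem ch_1_2_3_9_4 : enum 11 ck11 1 5 4796944 543 6 4 = true := by
  decide +kernel

set_option maxRecDepth 100000 in
theorem ch_1_2_3_9_5 : enum 11 ck11 1 5 5845520 559 6 5 = true := by
  decide +kernel

set_option maxRecDepth 100000 in
theorem ch_1_2_3_9_6 : enum 11 ck11 1 5 6894096 591 6 6 = true := by
  decide +kernel

set_option maxRecDepth 100000 in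
theorem ch_1_2_3_9_7 : enum 11 ck11 1 5 7942672 655 6 7 = true := by
  decide +kernel

set_option maxRecDepth 100000 in
theorem ch_1_2_3_9_8 : enum 11 ck11 1 5 8991248 783 6 8 = true := by
  decide +kernel

set_option maxRecDepth 100000 in
theorem ch_1_2_3_9_10 : enum 11 ck11 1 5 11088400 1551 6 10 = true := by
  decide +kernel

theorem ch_1_2_3_9 : enum 11 ck11 1 6 602640 527 5 9 = true := by
  refine enum_intro 11 ck11 1 5 602640 527 5 9 ?_
  intro v hv hb hd
  interval_cases v
  · exact absurd hb (by decide)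
  · exact absurd hb (by decide)
  · exact absurd hb (by decide)
  · exact absurd hb (by decide)
  · exact ch_1_2_3_9_4
  · exact ch_1_2_3_9_5
  · exact ch_1_2_3_9_6
  · exact ch_1_2_3_9_7
  · exact ch_1_2_3_9_8
  · exact absurd hb (by decide)
  · exact ch_1_2_3_9_10

set_option maxRecDepth 100000 in
theorem ch_1_2_3_10_4 : enum 11 ck11 1 5 4862480 1055 6 4 = true := by
  decide +kernel

set_option maxRecDepth 100000 in
theorem ch_1_2_3_10_5 : enum 11 ck11 1 5 5911056 1071 6 5 = true := by
  decide +kernel

set_option maxRecDepth 100000 in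
theorem ch_1_2_3_10_6 : enum 11 ck11 1 5 6959632 1103 6 6 = true := by
  decide +kernel

set_option maxRecDepth 100000 in
theorem ch_1_2_3_10_7 : enum 11 ck11 1 5 8008208 1167 6 7 = true := by
  decide +kernel

set_option maxRecDepth 100000 in
theorem ch_1_2_3_10_8 : enum 11 ck11 1 5 9056784 1295 6 8 = true := by
  decide +kernel

set_option maxRecDepth 100000 in
theorem ch_1_2_3_10_9 : enum 11 ck11 1 5 10105360 1551 6 9 = true := by
  decide +kernel

theorem ch_1_2_3_10 : enum 11 ck11 1 6 668176 1039 5 10 = true := by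
  refine enum_intro 11 ck11 1 5 668176 1039 5 10 ?_
  intro v hv hb hd
  interval_cases v
  · exact absurd hb (by decide)
  · exact absurd hb (by decide)
  · exact absurd hb (by decide)
  · exact absurd hb (by decide)
  · exact ch_1_2_3_10_4
  · exact ch_1_2_3_10_5
  · exact ch_1_2_3_10_6
  · exact ch_1_2_3_10_7
  · exact ch_1_2_3_10_8
  · exact ch_1_2_3_10_9
  · exact absurd hb (by decide)

theorem ch_1_2_3 : enum 11 ck11 1 7 12816 15 4 3 = true := by
  refine enum_intro 11 ck11 1 6 12816 15 4 3 ?_
  intro v hv hb hd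
  interval_cases v
  · exact absurd hb (by decide)
  · exact absurd hb (by decide)
  · exact absurd hb (by decide)
  · exact absurd hb (by decide)
  · exact ch_1_2_3_4
  · exact ch_1_2_3_5
  · exact ch_1_2_3_6
  · exact ch_1_2_3_7
  · exact ch_1_2_3_8
  · exact ch_1_2_3_9
  · exact ch_1_2_3_10

set_option maxRecDepth 100000 in
theorem ch_1_2_4_3_5 : enum 11 ck11 1 5 5456400 63 6 5 = true := by
  decide +kernel

set_option maxRecDepth 100000 in
theorem ch_1_2_4_3_6 : enum 11 ck11 1 5 6504976 95 6 6 = true := by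
  decide +kernel

set_option maxRecDepth 100000 in
theorem ch_1_2_4_3_7 : enum 11 ck11 1 5 7553552 159 6 7 = true := by
  decide +kernel

set_option maxRecDepth 100000 in
theorem ch_1_2_4_3_8 : enum 11 ck11 1 5 8602128 287 6 8 = true := by
  decide +kernel

set_option maxRecDepth 100000 in
theorem ch_1_2_4_3_9 : enum 11 ck11 1 5 9650704 543 6 9 = true := by
  decide +kernel

set_option maxRecDepth 100000 in
theorem ch_1_2_4_3_10 : enum 11 ck11 1 5 10699280 1055 6 10 = true := by
  decide +kernel

theorem ch_1_2_4_3 : enum 11 ck11 1 6 213520 31 5 3 = true := by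
  refine enum_intro 11 ck11 1 5 213520 31 5 3 ?_
  intro v hv hb hd
  interval_cases v
  · exact absurd hb (by decide)
  · exact absurd hb (by decide)
  · exact absurd hb (by decide)
  · exact absurd hb (by decide)
  · exact absurd hb (by decide)
  · exact ch_1_2_4_3_5
  · exact ch_1_2_4_3_6
  · exact ch_1_2_4_3_7
  · exact ch_1_2_4_3_8
  · exact ch_1_2_4_3_9
  · exact ch_1_2_4_3_10

set_option maxRecDepth 100000 in
theorem ch_1_2_4_5_3 : enum 11 ck11 1 5 3490320 63 6 3 = true := by
  decide +kernel

set_option maxRecDepth 100000 in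
theorem ch_1_2_4_5_6 : enum 11 ck11 1 5 6636048 119 6 6 = true := by
  decide +kernel

set_option maxRecDepth 100000 in
theorem ch_1_2_4_5_7 : enum 11 ck11 1 5 7684624 183 6 7 = true := by
  decide +kernel

set_option maxRecDepth 100000 in
theorem ch_1_2_4_5_8 : enum 11 ck11 1 5 8733200 311 6 8 = true := by
  decide +kernel

set_option maxRecDepth 100000 in
theorem ch_1_2_4_5_9 : enum 11 ck11 1 5 9781776 567 6 9 = true := by
  decide +kernel

set_option maxRecDepth 100000 in
theorem ch_1_2_4_5_10 : enum 11 ck11 1 5 10830352 1079 6 10 = true := by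
  decide +kernel

theorem ch_1_2_4_5 : enum 11 ck11 1 6 344592 55 5 5 = true := by
  refine enum_intro 11 ck11 1 5 344592 55 5 5 ?_
  intro v hv hb hd
  interval_cases v
  · exact absurd hb (by decide)
  · exact absurd hb (by decide)
  · exact absurd hb (by decide)
  · exact ch_1_2_4_5_3
  · exact absurd hb (by decide)
  · exact absurd hb (by decide)
  · exact ch_1_2_4_5_6
  · exact ch_1_2_4_5_7
  · exact ch_1_2_4_5_8
  · exact ch_1_2_4_5_9
  · exact ch_1_2_4_5_10

set_option maxRecDepth 100000 in
theorem ch_1_2_4_6_3 : enum 11 ck11 1 5 3555856 95 6 3 = true := by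
  decide +kernel

set_option maxRecDepth 100000 in
theorem ch_1_2_4_6_5 : enum 11 ck11 1 5 5653008 119 6 5 = true := by
  decide +kernel

set_option maxRecDepth 100000 in
theorem ch_1_2_4_6_7 : enum 11 ck11 1 5 7750160 215 6 7 = true := by
  decide +kernel

set_option maxRecDepth 100000 in
theorem ch_1_2_4_6_8 : enum 11 ck11 1 5 8798736 343 6 8 = true := by
  decide +kernel

set_option maxRecDepth 100000 in
theorem ch_1_2_4_6_9 : enum 11 ck11 1 5 9847312 599 6 9 = true := by
  decide +kernel

set_option maxRecDepth 100000 in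
theorem ch_1_2_4_6_10 : enum 11 ck11 1 5 10895888 1111 6 10 = true := by
  decide +kernel

theorem ch_1_2_4_6 : enum 11 ck11 1 6 410128 87 5 6 = true := by
  refine enum_intro 11 ck11 1 5 410128 87 5 6 ?_
  intro v hv hb hd
  interval_cases v
  · exact absurd hb (by decide)
  · exact absurd hb (by decide)
  · exact absurd hb (by decide)
  · exact ch_1_2_4_6_3
  · exact absurd hb (by decide)
  · exact ch_1_2_4_6_5
  · exact absurd hb (by decide)
  · exact ch_1_2_4_6_7
  · exact ch_1_2_4_6_8
  · exact ch_1_2_4_6_9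
  · exact ch_1_2_4_6_10

set_option maxRecDepth 100000 in
theorem ch_1_2_4_7_3 : enum 11 ck11 1 5 3621392 159 6 3 = true := by
  decide +kernel

set_option maxRecDepth 100000 in
theorem ch_1_2_4_7_5 : enum 11 ck11 1 5 5718544 183 6 5 = true := by
  decide +kernel

set_option maxRecDepth 100000 in
theorem ch_1_2_4_7_6 : enum 11 ck11 1 5 6767120 215 6 6 = true := by
  decide +kernel

set_option maxRecDepth 100000 in
theorem ch_1_2_4_7_8 : enum 11 ck11 1 5 8864272 407 6 8 = true := by
  decide +kernel

set_option maxRecDepth 100000 in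
theorem ch_1_2_4_7_9 : enum 11 ck11 1 5 9912848 663 6 9 = true := by
  decide +kernel

set_option maxRecDepth 100000 in
theorem ch_1_2_4_7_10 : enum 11 ck11 1 5 10961424 1175 6 10 = true := by
  decide +kernel

theorem ch_1_2_4_7 : enum 11 ck11 1 6 475664 151 5 7 = true := by
  refine enum_intro 11 ck11 1 5 475664 151 5 7 ?_
  intro v hv hb hd
  interval_cases v
  · exact absurd hb (by decide)
  · exact absurd hb (by decide)
  · exact absurd hb (by decide)
  · exact ch_1_2_4_7_3
  · exact absurd hb (by decide)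
  · exact ch_1_2_4_7_5
  · exact ch_1_2_4_7_6
  · exact absurd hb (by decide)
  · exact ch_1_2_4_7_8
  · exact ch_1_2_4_7_9
  · exact ch_1_2_4_7_10

set_option maxRecDepth 100000 in
theorem ch_1_2_4_8_3 : enum 11 ck11 1 5 3686928 287 6 3 = true := by
  decide +kernel

set_option maxRecDepth 100000 in
theorem ch_1_2_4_8_5 : enum 11 ck11 1 5 5784080 311 6 5 = true := by
  decide +kernel

set_option maxRecDepth 100000 in
theorem ch_1_2_4_8_6 : enum 11 ck11 1 5 6832656 343 6 6 = true := by
  decide +kernel

set_option maxRecDepth 100000 in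
theorem ch_1_2_4_8_7 : enum 11 ck11 1 5 7881232 407 6 7 = true := by
  decide +kernel

set_option maxRecDepth 100000 in
theorem ch_1_2_4_8_9 : enum 11 ck11 1 5 9978384 791 6 9 = true := by
  decide +kernel

set_option maxRecDepth 100000 in
theorem ch_1_2_4_8_10 : enum 11 ck11 1 5 11026960 1303 6 10 = true := by
  decide +kernel

theorem ch_1_2_4_8 : enum 11 ck11 1 6 541200 279 5 8 = true := by
  refine enum_intro 11 ck11 1 5 541200 279 5 8 ?_
  intro v hv hb hd
  interval_cases v
  · exact absurd hb (by decide)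
  · exact absurd hb (by decide)
  · exact absurd hb (by decide)
  · exact ch_1_2_4_8_3
  · exact absurd hb (by decide)
  · exact ch_1_2_4_8_5
  · exact ch_1_2_4_8_6
  · exact ch_1_2_4_8_7
  · exact absurd hb (by decide)
  · exact ch_1_2_4_8_9
  · exact ch_1_2_4_8_10

set_option maxRecDepth 100000 in
theorem ch_1_2_4_9_3 : enum 11 ck11 1 5 3752464 543 6 3 = true := by
  decide +kernel

set_option maxRecDepth 100000 in
theorem ch_1_2_4_9_5 : enum 11 ck11 1 5 5849616 567 6 5 = true := by
  decide +kernel

set_option maxRecDepth 100000 in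
theorem ch_1_2_4_9_6 : enum 11 ck11 1 5 6898192 599 6 6 = true := by
  decide +kernel

set_option maxRecDepth 100000 in
theorem ch_1_2_4_9_7 : enum 11 ck11 1 5 7946768 663 6 7 = true := by
  decide +kernel

set_option maxRecDepth 100000 in
theorem ch_1_2_4_9_8 : enum 11 ck11 1 5 8995344 791 6 8 = true := by
  decide +kernel

set_option maxRecDepth 100000 in
theorem ch_1_2_4_9_10 : enum 11 ck11 1 5 11092496 1559 6 10 = true := by
  decide +kernel

theorem ch_1_2_4_9 : enum 11 ck11 1 6 606736 535 5 9 = true := by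
  refine enum_intro 11 ck11 1 5 606736 535 5 9 ?_
  intro v hv hb hd
  interval_cases v
  · exact absurd hb (by decide)
  · exact absurd hb (by decide)
  · exact absurd hb (by decide)
  · exact ch_1_2_4_9_3
  · exact absurd hb (by decide)
  · exact ch_1_2_4_9_5
  · exact ch_1_2_4_9_6
  · exact ch_1_2_4_9_7
  · exact ch_1_2_4_9_8
  · exact absurd hb (by decide)
  · exact ch_1_2_4_9_10

set_option maxRecDepth 100000 in
theorem ch_1_2_4_10_3 : enum 11 ck11 1 5 3818000 1055 6 3 = true := by
  decide +kernel

set_option maxRecDepth 100000 in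
theorem ch_1_2_4_10_5 : enum 11 ck11 1 5 5915152 1079 6 5 = true := by
  decide +kernel

set_option maxRecDepth 100000 in
theorem ch_1_2_4_10_6 : enum 11 ck11 1 5 6963728 1111 6 6 = true := by
  decide +kernel

set_option maxRecDepth 100000 in
theorem ch_1_2_4_10_7 : enum 11 ck11 1 5 8012304 1175 6 7 = true := by
  decide +kernel

set_option maxRecDepth 100000 in
theorem ch_1_2_4_10_8 : enum 11 ck11 1 5 9060880 1303 6 8 = true := by
  decide +kernel

set_option maxRecDepth 100000 in
theorem ch_1_2_4_10_9 : enum 11 ck11 1 5 10109456 1559 6 9 = true := by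
  decide +kernel

theorem ch_1_2_4_10 : enum 11 ck11 1 6 672272 1047 5 10 = true := by
  refine enum_intro 11 ck11 1 5 672272 1047 5 10 ?_
  intro v hv hb hd
  interval_cases v
  · exact absurd hb (by decide)
  · exact absurd hb (by decide)
  · exact absurd hb (by decide)
  · exact ch_1_2_4_10_3
  · exact absurd hb (by decide)
  · exact ch_1_2_4_10_5
  · exact ch_1_2_4_10_6
  · exact ch_1_2_4_10_7
  · exact ch_1_2_4_10_8
  · exact ch_1_2_4_10_9
  · exact absurd hb (by decide)

theorem ch_1_2_4 : enum 11 ck11 1 7 16912 23 4 4 = true := by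
  refine enum_intro 11 ck11 1 6 16912 23 4 4 ?_
  intro v hv hb hd
  interval_cases v
  · exact absurd hb (by decide)
  · exact absurd hb (by decide)
  · exact absurd hb (by decide)
  · exact ch_1_2_4_3
  · exact absurd hb (by decide)
  · exact ch_1_2_4_5
  · exact ch_1_2_4_6
  · exact ch_1_2_4_7
  · exact ch_1_2_4_8
  · exact ch_1_2_4_9
  · exact ch_1_2_4_10

set_option maxRecDepth 100000 in
theorem ch_1_2_5_3_4 : enum 11 ck11 1 5 4411920 63 6 4 = true := by
  decide +kernel

set_option maxRecDepth 100000 in
theorem ch_1_2_5_3_6 : enum 11 ck11 1 5 6509072 111 6 6 = true := by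
  decide +kernel

set_option maxRecDepth 100000 in
theorem ch_1_2_5_3_7 : enum 11 ck11 1 5 7557648 175 6 7 = true := by
  decide +kernel

set_option maxRecDepth 100000 in
theorem ch_1_2_5_3_8 : enum 11 ck11 1 5 8606224 303 6 8 = true := by
  decide +kernel

set_option maxRecDepth 100000 in
theorem ch_1_2_5_3_9 : enum 11 ck11 1 5 9654800 559 6 9 = true := by
  decide +kernel

set_option maxRecDepth 100000 in
theorem ch_1_2_5_3_10 : enum 11 ck11 1 5 10703376 1071 6 10 = true := by
  decide +kernel

theorem ch_1_2_5_3 : enum 11 ck11 1 6 217616 47 5 3 = true := by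
  refine enum_intro 11 ck11 1 5 217616 47 5 3 ?_
  intro v hv hb hd
  interval_cases v
  · exact absurd hb (by decide)
  · exact absurd hb (by decide)
  · exact absurd hb (by decide)
  · exact absurd hb (by decide)
  · exact ch_1_2_5_3_4
  · exact absurd hb (by decide)
  · exact ch_1_2_5_3_6
  · exact ch_1_2_5_3_7
  · exact ch_1_2_5_3_8
  · exact ch_1_2_5_3_9
  · exact ch_1_2_5_3_10

set_option maxRecDepth 100000 in
theorem ch_1_2_5_4_3 : enum 11 ck11 1 5 3428880 63 6 3 = true := by
  decide +kernel

set_option maxRecDepth 100000 in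
theorem ch_1_2_5_4_6 : enum 11 ck11 1 5 6574608 119 6 6 = true := by
  decide +kernel

set_option maxRecDepth 100000 in
theorem ch_1_2_5_4_7 : enum 11 ck11 1 5 7623184 183 6 7 = true := by
  decide +kernel

set_option maxRecDepth 100000 in
theorem ch_1_2_5_4_8 : enum 11 ck11 1 5 8671760 311 6 8 = true := by
  decide +kernel

set_option maxRecDepth 100000 in
theorem ch_1_2_5_4_9 : enum 11 ck11 1 5 9720336 567 6 9 = true := by
  decide +kernel

set_option maxRecDepth 100000 in
theorem ch_1_2_5_4_10 : enum 11 ck11 1 5 10768912 1079 6 10 = true := by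
  decide +kernel

theorem ch_1_2_5_4 : enum 11 ck11 1 6 283152 55 5 4 = true := by
  refine enum_intro 11 ck11 1 5 283152 55 5 4 ?_
  intro v hv hb hd
  interval_cases v
  · exact absurd hb (by decide)
  · exact absurd hb (by decide)
  · exact absurd hb (by decide)
  · exact ch_1_2_5_4_3
  · exact absurd hb (by decide)
  · exact absurd hb (by decide)
  · exact ch_1_2_5_4_6
  · exact ch_1_2_5_4_7
  · exact ch_1_2_5_4_8
  · exact ch_1_2_5_4_9
  · exact ch_1_2_5_4_10

set_option maxRecDepth 100000 in
theorem ch_1_2_5_6_3 : enum 11 ck11 1 5 3559952 111 6 3 = true := by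
  decide +kernel

set_option maxRecDepth 100000 in
theorem ch_1_2_5_6_4 : enum 11 ck11 1 5 4608528 119 6 4 = true := by
  decide +kernel

set_option maxRecDepth 100000 in
theorem ch_1_2_5_6_7 : enum 11 ck11 1 5 7754256 231 6 7 = true := by
  decide +kernel

set_option maxRecDepth 100000 in
theorem ch_1_2_5_6_8 : enum 11 ck11 1 5 8802832 359 6 8 = true := by
  decide +kernel

set_option maxRecDepth 100000 in
theorem ch_1_2_5_6_9 : enum 11 ck11 1 5 9851408 615 6 9 = true := by
  decide +kernel

set_option maxRecDepth 100000 in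
theorem ch_1_2_5_6_10 : enum 11 ck11 1 5 10899984 1127 6 10 = true := by
  decide +kernel

theorem ch_1_2_5_6 : enum 11 ck11 1 6 414224 103 5 6 = true := by
  refine enum_intro 11 ck11 1 5 414224 103 5 6 ?_
  intro v hv hb hd
  interval_cases v
  · exact absurd hb (by decide)
  · exact absurd hb (by decide)
  · exact absurd hb (by decide)
  · exact ch_1_2_5_6_3
  · exact ch_1_2_5_6_4
  · exact absurd hb (by decide)
  · exact absurd hb (by decide)
  · exact ch_1_2_5_6_7
  · exact ch_1_2_5_6_8
  · exact ch_1_2_5_6_9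
  · exact ch_1_2_5_6_10

set_option maxRecDepth 100000 in
theorem ch_1_2_5_7_3 : enum 11 ck11 1 5 3625488 175 6 3 = true := by
  decide +kernel

set_option maxRecDepth 100000 in
theorem ch_1_2_5_7_4 : enum 11 ck11 1 5 4674064 183 6 4 = true := by
  decide +kernel

set_option maxRecDepth 100000 in
theorem ch_1_2_5_7_6 : enum 11 ck11 1 5 6771216 231 6 6 = true := by
  decide +kernel

set_option maxRecDepth 100000 in
theorem ch_1_2_5_7_8 : enum 11 ck11 1 5 8868368 423 6 8 = true := by
  decide +kernel

set_option maxRecDepth 100000 in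
theorem ch_1_2_5_7_9 : enum 11 ck11 1 5 9916944 679 6 9 = true := by
  decide +kernel

set_option maxRecDepth 100000 in
theorem ch_1_2_5_7_10 : enum 11 ck11 1 5 10965520 1191 6 10 = true := by
  decide +kernel

theorem ch_1_2_5_7 : enum 11 ck11 1 6 479760 167 5 7 = true := by
  refine enum_intro 11 ck11 1 5 479760 167 5 7 ?_
  intro v hv hb hd
  interval_cases v
  · exact absurd hb (by decide)
  · exact absurd hb (by decide)
  · exact absurd hb (by decide)
  · exact ch_1_2_5_7_3
  · exact ch_1_2_5_7_4
  · exact absurd hb (by decide)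
  · exact ch_1_2_5_7_6
  · exact absurd hb (by decide)
  · exact ch_1_2_5_7_8
  · exact ch_1_2_5_7_9
  · exact ch_1_2_5_7_10

set_option maxRecDepth 100000 in
theorem ch_1_2_5_8_3 : enum 11 ck11 1 5 3691024 303 6 3 = true := by
  decide +kernel

set_option maxRecDepth 100000 in
theorem ch_1_2_5_8_4 : enum 11 ck11 1 5 4739600 311 6 4 = true := by
  decide +kernel

set_option maxRecDepth 100000 in
theorem ch_1_2_5_8_6 : enum 11 ck11 1 5 6836752 359 6 6 = true := by
  decide +kernel

set_option maxRecDepth 100000 in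
theorem ch_1_2_5_8_7 : enum 11 ck11 1 5 7885328 423 6 7 = true := by
  decide +kernel

set_option maxRecDepth 100000 in
theorem ch_1_2_5_8_9 : enum 11 ck11 1 5 9982480 807 6 9 = true := by
  decide +kernel

set_option maxRecDepth 100000 in
theorem ch_1_2_5_8_10 : enum 11 ck11 1 5 11031056 1319 6 10 = true := by
  decide +kernel

theorem ch_1_2_5_8 : enum 11 ck11 1 6 545296 295 5 8 = true := by
  refine enum_intro 11 ck11 1 5 545296 295 5 8 ?_
  intro v hv hb hd
  interval_cases v
  · exact absurd hb (by decide)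
  · exact absurd hb (by decide)
  · exact absurd hb (by decide)
  · exact ch_1_2_5_8_3
  · exact ch_1_2_5_8_4
  · exact absurd hb (by decide)
  · exact ch_1_2_5_8_6
  · exact ch_1_2_5_8_7
  · exact absurd hb (by decide)
  · exact ch_1_2_5_8_9
  · exact ch_1_2_5_8_10

set_option maxRecDepth 100000 in
theorem ch_1_2_5_9_3 : enum 11 ck11 1 5 3756560 559 6 3 = true := by
  decide +kernel

set_option maxRecDepth 100000 in
theorem ch_1_2_5_9_4 : enum 11 ck11 1 5 4805136 567 6 4 = true := by
  decide +kernel

set_option maxRecDepth 100000 in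
theorem ch_1_2_5_9_6 : enum 11 ck11 1 5 6902288 615 6 6 = true := by
  decide +kernel

set_option maxRecDepth 100000 in
theorem ch_1_2_5_9_7 : enum 11 ck11 1 5 7950864 679 6 7 = true := by
  decide +kernel

set_option maxRecDepth 100000 in
theorem ch_1_2_5_9_8 : enum 11 ck11 1 5 8999440 807 6 8 = true := by
  decide +kernel

set_option maxRecDepth 100000 in
theorem ch_1_2_5_9_10 : enum 11 ck11 1 5 11096592 1575 6 10 = true := by
  decide +kernel

theorem ch_1_2_5_9 : enum 11 ck11 1 6 610832 551 5 9 = true := by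
  refine enum_intro 11 ck11 1 5 610832 551 5 9 ?_
  intro v hv hb hd
  interval_cases v
  · exact absurd hb (by decide)
  · exact absurd hb (by decide)
  · exact absurd hb (by decide)
  · exact ch_1_2_5_9_3
  · exact ch_1_2_5_9_4
  · exact absurd hb (by decide)
  · exact ch_1_2_5_9_6
  · exact ch_1_2_5_9_7
  · exact ch_1_2_5_9_8
  · exact absurd hb (by decide)
  · exact ch_1_2_5_9_10

set_option maxRecDepth 100000 in
theorem ch_1_2_5_10_3 : enum 11 ck11 1 5 3822096 1071 6 3 = true := by
  decide +kernel

set_option maxRecDepth 100000 in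
theorem ch_1_2_5_10_4 : enum 11 ck11 1 5 4870672 1079 6 4 = true := by
  decide +kernel

set_option maxRecDepth 100000 in
theorem ch_1_2_5_10_6 : enum 11 ck11 1 5 6967824 1127 6 6 = true := by
  decide +kernel

set_option maxRecDepth 100000 in
theorem ch_1_2_5_10_7 : enum 11 ck11 1 5 8016400 1191 6 7 = true := by
  decide +kernel

set_option maxRecDepth 100000 in
theorem ch_1_2_5_10_8 : enum 11 ck11 1 5 9064976 1319 6 8 = true := by
  decide +kernel

set_option maxRecDepth 100000 in
theorem ch_1_2_5_10_9 : enum 11 ck11 1 5 10113552 1575 6 9 = true := by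
  decide +kernel

theorem ch_1_2_5_10 : enum 11 ck11 1 6 676368 1063 5 10 = true := by
  refine enum_intro 11 ck11 1 5 676368 1063 5 10 ?_
  intro v hv hb hd
  interval_cases v
  · exact absurd hb (by decide)
  · exact absurd hb (by decide)
  · exact absurd hb (by decide)
  · exact ch_1_2_5_10_3
  · exact ch_1_2_5_10_4
  · exact absurd hb (by decide)
  · exact ch_1_2_5_10_6
  · exact ch_1_2_5_10_7
  · exact ch_1_2_5_10_8
  · exact ch_1_2_5_10_9
  · exact absurd hb (by decide)

theorem ch_1_2_5 : enum 11 ck11 1 7 21008 39 4 5 = true := by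
  refine enum_intro 11 ck11 1 6 21008 39 4 5 ?_
  intro v hv hb hd
  interval_cases v
  · exact absurd hb (by decide)
  · exact absurd hb (by decide)
  · exact absurd hb (by decide)
  · exact ch_1_2_5_3
  · exact ch_1_2_5_4
  · exact absurd hb (by decide)
  · exact ch_1_2_5_6
  · exact ch_1_2_5_7
  · exact ch_1_2_5_8
  · exact ch_1_2_5_9
  · exact ch_1_2_5_10

end Cfsg.Agent.Helper9.T11
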