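import Mathlib
import Cfsg.Agent.Helper9.T11.Chk

set_option autoImplicit false
set_option Elab.async false

/-!
A part of the enumeration on 11 points: the test holds at every permutation of the part.
-/

namespace Cfsg.Agent.Helper9.T11

set_option maxRecDepth 100000 in
theorem ch_1_2_6_3_4 : enum 11 ck11 1 5 4416016 95 6 4 = true := by
  decide +kernel

set_option maxRecDepth 100000 in
theorem ch_1_2_6_3_5 : enum 11 ck11 1 5 5464592 111 6 5 = true := by
  decide +kernel

set_option maxRecDepth 100000 in
theorem ch_1_2_6_3_7 : enum 11 ck11 1 5 7561744 207 6 7 = true := by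
  decide +kernel

set_option maxRecDepth 100000 in
theorem ch_1_2_6_3_8 : enum 11 ck11 1 5 8610320 335 6 8 = true := by
  decide +kernel

set_option maxRecDepth 100000 in
theorem ch_1_2_6_3_9 : enum 11 ck11 1 5 9658896 591 6 9 = true := by
  decide +kernel

set_option maxRecDepth 100000 in
theorem ch_1_2_6_3_10 : enum 11 ck11 1 5 10707472 1103 6 10 = true := by
  decide +kernel

theorem ch_1_2_6_3 : enum 11 ck11 1 6 221712 79 5 3 = true := by
  refine enum_intro 11 ck11 1 5 221712 79 5 3 ?_
  intro v hv hb hd
  interval_cases v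
  · exact absurd hb (by decide)
  · exact absurd hb (by decide)
  · exact absurd hb (by decide)
  · exact absurd hb (by decide)
  · exact ch_1_2_6_3_4
  · exact ch_1_2_6_3_5
  · exact absurd hb (by decide)
  · exact ch_1_2_6_3_7
  · exact ch_1_2_6_3_8
  · exact ch_1_2_6_3_9
  · exact ch_1_2_6_3_10

set_option maxRecDepth 100000 in
theorem ch_1_2_6_4_3 : enum 11 ck11 1 5 3432976 95 6 3 = true := by
  decide +kernel

set_option maxRecDepth 100000 in
theorem ch_1_2_6_4_5 : enum 11 ck11 1 5 5530128 119 6 5 = true := by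
  decide +kernel

set_option maxRecDepth 100000 in
theorem ch_1_2_6_4_7 : enum 11 ck11 1 5 7627280 215 6 7 = true := by
  decide +kernel

set_option maxRecDepth 100000 in
theorem ch_1_2_6_4_8 : enum 11 ck11 1 5 8675856 343 6 8 = true := by
  decide +kernel

set_option maxRecDepth 100000 in
theorem ch_1_2_6_4_9 : enum 11 ck11 1 5 9724432 599 6 9 = true := by
  decide +kernel

set_option maxRecDepth 100000 in
theorem ch_1_2_6_4_10 : enum 11 ck11 1 5 10773008 1111 6 10 = true := by
  decide +kernel

theorem ch_1_2_6_4 : enum 11 ck11 1 6 287248 87 5 4 = true := by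
  refine enum_intro 11 ck11 1 5 287248 87 5 4 ?_
  intro v hv hb hd
  interval_cases v
  · exact absurd hb (by decide)
  · exact absurd hb (by decide)
  · exact absurd hb (by decide)
  · exact ch_1_2_6_4_3
  · exact absurd hb (by decide)
  · exact ch_1_2_6_4_5
  · exact absurd hb (by decide)
  · exact ch_1_2_6_4_7
  · exact ch_1_2_6_4_8
  · exact ch_1_2_6_4_9
  · exact ch_1_2_6_4_10

set_option maxRecDepth 100000 in
theorem ch_1_2_6_5_3 : enum 11 ck11 1 5 3498512 111 6 3 = true := by
  decide +kernel

set_option maxRecDepth 100000 in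
theorem ch_1_2_6_5_4 : enum 11 ck11 1 5 4547088 119 6 4 = true := by
  decide +kernel

set_option maxRecDepth 100000 in
theorem ch_1_2_6_5_7 : enum 11 ck11 1 5 7692816 231 6 7 = true := by
  decide +kernel

set_option maxRecDepth 100000 in
theorem ch_1_2_6_5_8 : enum 11 ck11 1 5 8741392 359 6 8 = true := by
  decide +kernel

set_option maxRecDepth 100000 in
theorem ch_1_2_6_5_9 : enum 11 ck11 1 5 9789968 615 6 9 = true := by
  decide +kernel

set_option maxRecDepth 100000 in
theorem ch_1_2_6_5_10 : enum 11 ck11 1 5 10838544 1127 6 10 = true := by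
  decide +kernel

theorem ch_1_2_6_5 : enum 11 ck11 1 6 352784 103 5 5 = true := by
  refine enum_intro 11 ck11 1 5 352784 103 5 5 ?_
  intro v hv hb hd
  interval_cases v
  · exact absurd hb (by decide)
  · exact absurd hb (by decide)
  · exact absurd hb (by decide)
  · exact ch_1_2_6_5_3
  · exact ch_1_2_6_5_4
  · exact absurd hb (by decide)
  · exact absurd hb (by decide)
  · exact ch_1_2_6_5_7
  · exact ch_1_2_6_5_8
  · exact ch_1_2_6_5_9
  · exact ch_1_2_6_5_10

set_option maxRecDepth 100000 in
theorem ch_1_2_6_7_3 : enum 11 ck11 1 5 3629584 207 6 3 = true := by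
  decide +kernel

set_option maxRecDepth 100000 in
theorem ch_1_2_6_7_4 : enum 11 ck11 1 5 4678160 215 6 4 = true := by
  decide +kernel

set_option maxRecDepth 100000 in
theorem ch_1_2_6_7_5 : enum 11 ck11 1 5 5726736 231 6 5 = true := by
  decide +kernel

set_option maxRecDepth 100000 in
theorem ch_1_2_6_7_8 : enum 11 ck11 1 5 8872464 455 6 8 = true := by
  decide +kernel

set_option maxRecDepth 100000 in
theorem ch_1_2_6_7_9 : enum 11 ck11 1 5 9921040 711 6 9 = true := by
  decide +kernel

set_option maxRecDepth 100000 in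
theorem ch_1_2_6_7_10 : enum 11 ck11 1 5 10969616 1223 6 10 = true := by
  decide +kernel

theorem ch_1_2_6_7 : enum 11 ck11 1 6 483856 199 5 7 = true := by
  refine enum_intro 11 ck11 1 5 483856 199 5 7 ?_
  intro v hv hb hd
  interval_cases v
  · exact absurd hb (by decide)
  · exact absurd hb (by decide)
  · exact absurd hb (by decide)
  · exact ch_1_2_6_7_3
  · exact ch_1_2_6_7_4
  · exact ch_1_2_6_7_5
  · exact absurd hb (by decide)
  · exact absurd hb (by decide)
  · exact ch_1_2_6_7_8
  · exact ch_1_2_6_7_9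
  · exact ch_1_2_6_7_10

set_option maxRecDepth 100000 in
theorem ch_1_2_6_8_3 : enum 11 ck11 1 5 3695120 335 6 3 = true := by
  decide +kernel

set_option maxRecDepth 100000 in
theorem ch_1_2_6_8_4 : enum 11 ck11 1 5 4743696 343 6 4 = true := by
  decide +kernel

set_option maxRecDepth 100000 in
theorem ch_1_2_6_8_5 : enum 11 ck11 1 5 5792272 359 6 5 = true := by
  decide +kernel

set_option maxRecDepth 100000 in
theorem ch_1_2_6_8_7 : enum 11 ck11 1 5 7889424 455 6 7 = true := by
  decide +kernel

set_option maxRecDepth 100000 in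
theorem ch_1_2_6_8_9 : enum 11 ck11 1 5 9986576 839 6 9 = true := by
  decide +kernel

set_option maxRecDepth 100000 in
theorem ch_1_2_6_8_10 : enum 11 ck11 1 5 11035152 1351 6 10 = true := by
  decide +kernel

theorem ch_1_2_6_8 : enum 11 ck11 1 6 549392 327 5 8 = true := by
  refine enum_intro 11 ck11 1 5 549392 327 5 8 ?_
  intro v hv hb hd
  interval_cases v
  · exact absurd hb (by decide)
  · exact absurd hb (by decide)
  · exact absurd hb (by decide)
  · exact ch_1_2_6_8_3
  · exact ch_1_2_6_8_4
  · exact ch_1_2_6_8_5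
  · exact absurd hb (by decide)
  · exact ch_1_2_6_8_7
  · exact absurd hb (by decide)
  · exact ch_1_2_6_8_9
  · exact ch_1_2_6_8_10

set_option maxRecDepth 100000 in
theorem ch_1_2_6_9_3 : enum 11 ck11 1 5 3760656 591 6 3 = true := by
  decide +kernel

set_option maxRecDepth 100000 in
theorem ch_1_2_6_9_4 : enum 11 ck11 1 5 4809232 599 6 4 = true := by
  decide +kernel

set_option maxRecDepth 100000 in
theorem ch_1_2_6_9_5 : enum 11 ck11 1 5 5857808 615 6 5 = true := by
  decide +kernel

set_option maxRecDepth 100000 in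
theorem ch_1_2_6_9_7 : enum 11 ck11 1 5 7954960 711 6 7 = true := by
  decide +kernel

set_option maxRecDepth 100000 in
theorem ch_1_2_6_9_8 : enum 11 ck11 1 5 9003536 839 6 8 = true := by
  decide +kernel

set_option maxRecDepth 100000 in
theorem ch_1_2_6_9_10 : enum 11 ck11 1 5 11100688 1607 6 10 = true := by
  decide +kernel

theorem ch_1_2_6_9 : enum 11 ck11 1 6 614928 583 5 9 = true := by
  refine enum_intro 11 ck11 1 5 614928 583 5 9 ?_
  intro v hv hb hd
  interval_cases v
  · exact absurd hb (by decide)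
  · exact absurd hb (by decide)
  · exact absurd hb (by decide)
  · exact ch_1_2_6_9_3
  · exact ch_1_2_6_9_4
  · exact ch_1_2_6_9_5
  · exact absurd hb (by decide)
  · exact ch_1_2_6_9_7
  · exact ch_1_2_6_9_8
  · exact absurd hb (by decide)
  · exact ch_1_2_6_9_10

set_option maxRecDepth 100000 in
theorem ch_1_2_6_10_3 : enum 11 ck11 1 5 3826192 1103 6 3 = true := by
  decide +kernel

set_option maxRecDepth 100000 in
theorem ch_1_2_6_10_4 : enum 11 ck11 1 5 4874768 1111 6 4 = true := by
  decide +kernel

set_option maxRecDepth 100000 in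
theorem ch_1_2_6_10_5 : enum 11 ck11 1 5 5923344 1127 6 5 = true := by
  decide +kernel

set_option maxRecDepth 100000 in
theorem ch_1_2_6_10_7 : enum 11 ck11 1 5 8020496 1223 6 7 = true := by
  decide +kernel

set_option maxRecDepth 100000 in
theorem ch_1_2_6_10_8 : enum 11 ck11 1 5 9069072 1351 6 8 = true := by
  decide +kernel

set_option maxRecDepth 100000 in
theorem ch_1_2_6_10_9 : enum 11 ck11 1 5 10117648 1607 6 9 = true := by
  decide +kernel

theorem ch_1_2_6_10 : enum 11 ck11 1 6 680464 1095 5 10 = true := by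
  refine enum_intro 11 ck11 1 5 680464 1095 5 10 ?_
  intro v hv hb hd
  interval_cases v
  · exact absurd hb (by decide)
  · exact absurd hb (by decide)
  · exact absurd hb (by decide)
  · exact ch_1_2_6_10_3
  · exact ch_1_2_6_10_4
  · exact ch_1_2_6_10_5
  · exact absurd hb (by decide)
  · exact ch_1_2_6_10_7
  · exact ch_1_2_6_10_8
  · exact ch_1_2_6_10_9
  · exact absurd hb (by decide)

theorem ch_1_2_6 : enum 11 ck11 1 7 25104 71 4 6 = true := by
  refine enum_intro 11 ck11 1 6 25104 71 4 6 ?_
  intro v hv hb hd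
  interval_cases v
  · exact absurd hb (by decide)
  · exact absurd hb (by decide)
  · exact absurd hb (by decide)
  · exact ch_1_2_6_3
  · exact ch_1_2_6_4
  · exact ch_1_2_6_5
  · exact absurd hb (by decide)
  · exact ch_1_2_6_7
  · exact ch_1_2_6_8
  · exact ch_1_2_6_9
  · exact ch_1_2_6_10

set_option maxRecDepth 100000 in
theorem ch_1_2_7_3_4 : enum 11 ck11 1 5 4420112 159 6 4 = true := by
  decide +kernel

set_option maxRecDepth 100000 in
theorem ch_1_2_7_3_5 : enum 11 ck11 1 5 5468688 175 6 5 = true := by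
  decide +kernel

set_option maxRecDepth 100000 in
theorem ch_1_2_7_3_6 : enum 11 ck11 1 5 6517264 207 6 6 = true := by
  decide +kernel

set_option maxRecDepth 100000 in
theorem ch_1_2_7_3_8 : enum 11 ck11 1 5 8614416 399 6 8 = true := by
  decide +kernel

set_option maxRecDepth 100000 in
theorem ch_1_2_7_3_9 : enum 11 ck11 1 5 9662992 655 6 9 = true := by
  decide +kernel

set_option maxRecDepth 100000 in
theorem ch_1_2_7_3_10 : enum 11 ck11 1 5 10711568 1167 6 10 = true := by
  decide +kernel

theorem ch_1_2_7_3 : enum 11 ck11 1 6 225808 143 5 3 = true := by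
  refine enum_intro 11 ck11 1 5 225808 143 5 3 ?_
  intro v hv hb hd
  interval_cases v
  · exact absurd hb (by decide)
  · exact absurd hb (by decide)
  · exact absurd hb (by decide)
  · exact absurd hb (by decide)
  · exact ch_1_2_7_3_4
  · exact ch_1_2_7_3_5
  · exact ch_1_2_7_3_6
  · exact absurd hb (by decide)
  · exact ch_1_2_7_3_8
  · exact ch_1_2_7_3_9
  · exact ch_1_2_7_3_10

set_option maxRecDepth 100000 in
theorem ch_1_2_7_4_3 : enum 11 ck11 1 5 3437072 159 6 3 = true := by
  decide +kernel

set_option maxRecDepth 100000 in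
theorem ch_1_2_7_4_5 : enum 11 ck11 1 5 5534224 183 6 5 = true := by
  decide +kernel

set_option maxRecDepth 100000 in
theorem ch_1_2_7_4_6 : enum 11 ck11 1 5 6582800 215 6 6 = true := by
  decide +kernel

set_option maxRecDepth 100000 in
theorem ch_1_2_7_4_8 : enum 11 ck11 1 5 8679952 407 6 8 = true := by
  decide +kernel

set_option maxRecDepth 100000 in
theorem ch_1_2_7_4_9 : enum 11 ck11 1 5 9728528 663 6 9 = true := by
  decide +kernel

set_option maxRecDepth 100000 in
theorem ch_1_2_7_4_10 : enum 11 ck11 1 5 10777104 1175 6 10 = true := by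
  decide +kernel

theorem ch_1_2_7_4 : enum 11 ck11 1 6 291344 151 5 4 = true := by
  refine enum_intro 11 ck11 1 5 291344 151 5 4 ?_
  intro v hv hb hd
  interval_cases v
  · exact absurd hb (by decide)
  · exact absurd hb (by decide)
  · exact absurd hb (by decide)
  · exact ch_1_2_7_4_3
  · exact absurd hb (by decide)
  · exact ch_1_2_7_4_5
  · exact ch_1_2_7_4_6
  · exact absurd hb (by decide)
  · exact ch_1_2_7_4_8
  · exact ch_1_2_7_4_9
  · exact ch_1_2_7_4_10

set_option maxRecDepth 100000 in
theorem ch_1_2_7_5_3 : enum 11 ck11 1 5 3502608 175 6 3 = true := by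
  decide +kernel

set_option maxRecDepth 100000 in
theorem ch_1_2_7_5_4 : enum 11 ck11 1 5 4551184 183 6 4 = true := by
  decide +kernel

set_option maxRecDepth 100000 in
theorem ch_1_2_7_5_6 : enum 11 ck11 1 5 6648336 231 6 6 = true := by
  decide +kernel

set_option maxRecDepth 100000 in
theorem ch_1_2_7_5_8 : enum 11 ck11 1 5 8745488 423 6 8 = true := by
  decide +kernel

set_option maxRecDepth 100000 in
theorem ch_1_2_7_5_9 : enum 11 ck11 1 5 9794064 679 6 9 = true := by
  decide +kernel

set_option maxRecDepth 100000 in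
theorem ch_1_2_7_5_10 : enum 11 ck11 1 5 10842640 1191 6 10 = true := by
  decide +kernel

theorem ch_1_2_7_5 : enum 11 ck11 1 6 356880 167 5 5 = true := by
  refine enum_intro 11 ck11 1 5 356880 167 5 5 ?_
  intro v hv hb hd
  interval_cases v
  · exact absurd hb (by decide)
  · exact absurd hb (by decide)
  · exact absurd hb (by decide)
  · exact ch_1_2_7_5_3
  · exact ch_1_2_7_5_4
  · exact absurd hb (by decide)
  · exact ch_1_2_7_5_6
  · exact absurd hb (by decide)
  · exact ch_1_2_7_5_8
  · exact ch_1_2_7_5_9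
  · exact ch_1_2_7_5_10

set_option maxRecDepth 100000 in
theorem ch_1_2_7_6_3 : enum 11 ck11 1 5 3568144 207 6 3 = true := by
  decide +kernel

set_option maxRecDepth 100000 in
theorem ch_1_2_7_6_4 : enum 11 ck11 1 5 4616720 215 6 4 = true := by
  decide +kernel

set_option maxRecDepth 100000 in
theorem ch_1_2_7_6_5 : enum 11 ck11 1 5 5665296 231 6 5 = true := by
  decide +kernel

set_option maxRecDepth 100000 in
theorem ch_1_2_7_6_8 : enum 11 ck11 1 5 8811024 455 6 8 = true := by
  decide +kernel

set_option maxRecDepth 100000 in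
theorem ch_1_2_7_6_9 : enum 11 ck11 1 5 9859600 711 6 9 = true := by
  decide +kernel

set_option maxRecDepth 100000 in
theorem ch_1_2_7_6_10 : enum 11 ck11 1 5 10908176 1223 6 10 = true := by
  decide +kernel

theorem ch_1_2_7_6 : enum 11 ck11 1 6 422416 199 5 6 = true := by
  refine enum_intro 11 ck11 1 5 422416 199 5 6 ?_
  intro v hv hb hd
  interval_cases v
  · exact absurd hb (by decide)
  · exact absurd hb (by decide)
  · exact absurd hb (by decide)
  · exact ch_1_2_7_6_3
  · exact ch_1_2_7_6_4
  · exact ch_1_2_7_6_5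
  · exact absurd hb (by decide)
  · exact absurd hb (by decide)
  · exact ch_1_2_7_6_8
  · exact ch_1_2_7_6_9
  · exact ch_1_2_7_6_10

set_option maxRecDepth 100000 in
theorem ch_1_2_7_8_3 : enum 11 ck11 1 5 3699216 399 6 3 = true := by
  decide +kernel

set_option maxRecDepth 100000 in
theorem ch_1_2_7_8_4 : enum 11 ck11 1 5 4747792 407 6 4 = true := by
  decide +kernel

set_option maxRecDepth 100000 in
theorem ch_1_2_7_8_5 : enum 11 ck11 1 5 5796368 423 6 5 = true := by
  decide +kernel

set_option maxRecDepth 100000 in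
theorem ch_1_2_7_8_6 : enum 11 ck11 1 5 6844944 455 6 6 = true := by
  decide +kernel

set_option maxRecDepth 100000 in
theorem ch_1_2_7_8_9 : enum 11 ck11 1 5 9990672 903 6 9 = true := by
  decide +kernel

set_option maxRecDepth 100000 in
theorem ch_1_2_7_8_10 : enum 11 ck11 1 5 11039248 1415 6 10 = true := by
  decide +kernel

theorem ch_1_2_7_8 : enum 11 ck11 1 6 553488 391 5 8 = true := by
  refine enum_intro 11 ck11 1 5 553488 391 5 8 ?_
  intro v hv hb hd
  interval_cases v
  · exact absurd hb (by decide)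
  · exact absurd hb (by decide)
  · exact absurd hb (by decide)
  · exact ch_1_2_7_8_3
  · exact ch_1_2_7_8_4
  · exact ch_1_2_7_8_5
  · exact ch_1_2_7_8_6
  · exact absurd hb (by decide)
  · exact absurd hb (by decide)
  · exact ch_1_2_7_8_9
  · exact ch_1_2_7_8_10

set_option maxRecDepth 100000 in
theorem ch_1_2_7_9_3 : enum 11 ck11 1 5 3764752 655 6 3 = true := by
  decide +kernel

set_option maxRecDepth 100000 in
theorem ch_1_2_7_9_4 : enum 11 ck11 1 5 4813328 663 6 4 = true := by
  decide +kernel

set_option maxRecDepth 100000 in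
theorem ch_1_2_7_9_5 : enum 11 ck11 1 5 5861904 679 6 5 = true := by
  decide +kernel

set_option maxRecDepth 100000 in
theorem ch_1_2_7_9_6 : enum 11 ck11 1 5 6910480 711 6 6 = true := by
  decide +kernel

set_option maxRecDepth 100000 in
theorem ch_1_2_7_9_8 : enum 11 ck11 1 5 9007632 903 6 8 = true := by
  decide +kernel

set_option maxRecDepth 100000 in
theorem ch_1_2_7_9_10 : enum 11 ck11 1 5 11104784 1671 6 10 = true := by
  decide +kernel

theorem ch_1_2_7_9 : enum 11 ck11 1 6 619024 647 5 9 = true := by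
  refine enum_intro 11 ck11 1 5 619024 647 5 9 ?_
  intro v hv hb hd
  interval_cases v
  · exact absurd hb (by decide)
  · exact absurd hb (by decide)
  · exact absurd hb (by decide)
  · exact ch_1_2_7_9_3
  · exact ch_1_2_7_9_4
  · exact ch_1_2_7_9_5
  · exact ch_1_2_7_9_6
  · exact absurd hb (by decide)
  · exact ch_1_2_7_9_8
  · exact absurd hb (by decide)
  · exact ch_1_2_7_9_10

set_option maxRecDepth 100000 in
theorem ch_1_2_7_10_3 : enum 11 ck11 1 5 3830288 1167 6 3 = true := by
  decide +kernel

set_option maxRecDepth 100000 in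
theorem ch_1_2_7_10_4 : enum 11 ck11 1 5 4878864 1175 6 4 = true := by
  decide +kernel

set_option maxRecDepth 100000 in
theorem ch_1_2_7_10_5 : enum 11 ck11 1 5 5927440 1191 6 5 = true := by
  decide +kernel

set_option maxRecDepth 100000 in
theorem ch_1_2_7_10_6 : enum 11 ck11 1 5 6976016 1223 6 6 = true := by
  decide +kernel

set_option maxRecDepth 100000 in
theorem ch_1_2_7_10_8 : enum 11 ck11 1 5 9073168 1415 6 8 = true := by
  decide +kernel

set_option maxRecDepth 100000 in
theorem ch_1_2_7_10_9 : enum 11 ck11 1 5 10121744 1671 6 9 = true := by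
  decide +kernel

theorem ch_1_2_7_10 : enum 11 ck11 1 6 684560 1159 5 10 = true := by
  refine enum_intro 11 ck11 1 5 684560 1159 5 10 ?_
  intro v hv hb hd
  interval_cases v
  · exact absurd hb (by decide)
  · exact absurd hb (by decide)
  · exact absurd hb (by decide)
  · exact ch_1_2_7_10_3
  · exact ch_1_2_7_10_4
  · exact ch_1_2_7_10_5
  · exact ch_1_2_7_10_6
  · exact absurd hb (by decide)
  · exact ch_1_2_7_10_8
  · exact ch_1_2_7_10_9
  · exact absurd hb (by decide)

theorem ch_1_2_7 : enum 11 ck11 1 7 29200 135 4 7 = true := by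
  refine enum_intro 11 ck11 1 6 29200 135 4 7 ?_
  intro v hv hb hd
  interval_cases v
  · exact absurd hb (by decide)
  · exact absurd hb (by decide)
  · exact absurd hb (by decide)
  · exact ch_1_2_7_3
  · exact ch_1_2_7_4
  · exact ch_1_2_7_5
  · exact ch_1_2_7_6
  · exact absurd hb (by decide)
  · exact ch_1_2_7_8
  · exact ch_1_2_7_9
  · exact ch_1_2_7_10

set_option maxRecDepth 100000 in
theorem ch_1_2_8_3_4 : enum 11 ck11 1 5 4424208 287 6 4 = true := by
  decide +kernel

set_option maxRecDepth 100000 in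
theorem ch_1_2_8_3_5 : enum 11 ck11 1 5 5472784 303 6 5 = true := by
  decide +kernel

set_option maxRecDepth 100000 in
theorem ch_1_2_8_3_6 : enum 11 ck11 1 5 6521360 335 6 6 = true := by
  decide +kernel

set_option maxRecDepth 100000 in
theorem ch_1_2_8_3_7 : enum 11 ck11 1 5 7569936 399 6 7 = true := by
  decide +kernel

set_option maxRecDepth 100000 in
theorem ch_1_2_8_3_9 : enum 11 ck11 1 5 9667088 783 6 9 = true := by
  decide +kernel

set_option maxRecDepth 100000 in
theorem ch_1_2_8_3_10 : enum 11 ck11 1 5 10715664 1295 6 10 = true := by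
  decide +kernel

theorem ch_1_2_8_3 : enum 11 ck11 1 6 229904 271 5 3 = true := by
  refine enum_intro 11 ck11 1 5 229904 271 5 3 ?_
  intro v hv hb hd
  interval_cases v
  · exact absurd hb (by decide)
  · exact absurd hb (by decide)
  · exact absurd hb (by decide)
  · exact absurd hb (by decide)
  · exact ch_1_2_8_3_4
  · exact ch_1_2_8_3_5
  · exact ch_1_2_8_3_6
  · exact ch_1_2_8_3_7
  · exact absurd hb (by decide)
  · exact ch_1_2_8_3_9
  · exact ch_1_2_8_3_10

set_option maxRecDepth 100000 in
theorem ch_1_2_8_4_3 : enum 11 ck11 1 5 3441168 287 6 3 = true := by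
  decide +kernel

set_option maxRecDepth 100000 in
theorem ch_1_2_8_4_5 : enum 11 ck11 1 5 5538320 311 6 5 = true := by
  decide +kernel

set_option maxRecDepth 100000 in
theorem ch_1_2_8_4_6 : enum 11 ck11 1 5 6586896 343 6 6 = true := by
  decide +kernel

set_option maxRecDepth 100000 in
theorem ch_1_2_8_4_7 : enum 11 ck11 1 5 7635472 407 6 7 = true := by
  decide +kernel

set_option maxRecDepth 100000 in
theorem ch_1_2_8_4_9 : enum 11 ck11 1 5 9732624 791 6 9 = true := by
  decide +kernel

set_option maxRecDepth 100000 in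
theorem ch_1_2_8_4_10 : enum 11 ck11 1 5 10781200 1303 6 10 = true := by
  decide +kernel

theorem ch_1_2_8_4 : enum 11 ck11 1 6 295440 279 5 4 = true := by
  refine enum_intro 11 ck11 1 5 295440 279 5 4 ?_
  intro v hv hb hd
  interval_cases v
  · exact absurd hb (by decide)
  · exact absurd hb (by decide)
  · exact absurd hb (by decide)
  · exact ch_1_2_8_4_3
  · exact absurd hb (by decide)
  · exact ch_1_2_8_4_5
  · exact ch_1_2_8_4_6
  · exact ch_1_2_8_4_7
  · exact absurd hb (by decide)
  · exact ch_1_2_8_4_9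
  · exact ch_1_2_8_4_10

set_option maxRecDepth 100000 in
theorem ch_1_2_8_5_3 : enum 11 ck11 1 5 3506704 303 6 3 = true := by
  decide +kernel

set_option maxRecDepth 100000 in
theorem ch_1_2_8_5_4 : enum 11 ck11 1 5 4555280 311 6 4 = true := by
  decide +kernel

set_option maxRecDepth 100000 in
theorem ch_1_2_8_5_6 : enum 11 ck11 1 5 6652432 359 6 6 = true := by
  decide +kernel

set_option maxRecDepth 100000 in
theorem ch_1_2_8_5_7 : enum 11 ck11 1 5 7701008 423 6 7 = true := by
  decide +kernel

set_option maxRecDepth 100000 in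
theorem ch_1_2_8_5_9 : enum 11 ck11 1 5 9798160 807 6 9 = true := by
  decide +kernel

set_option maxRecDepth 100000 in
theorem ch_1_2_8_5_10 : enum 11 ck11 1 5 10846736 1319 6 10 = true := by
  decide +kernel

theorem ch_1_2_8_5 : enum 11 ck11 1 6 360976 295 5 5 = true := by
  refine enum_intro 11 ck11 1 5 360976 295 5 5 ?_
  intro v hv hb hd
  interval_cases v
  · exact absurd hb (by decide)
  · exact absurd hb (by decide)
  · exact absurd hb (by decide)
  · exact ch_1_2_8_5_3
  · exact ch_1_2_8_5_4
  · exact absurd hb (by decide)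
  · exact ch_1_2_8_5_6
  · exact ch_1_2_8_5_7
  · exact absurd hb (by decide)
  · exact ch_1_2_8_5_9
  · exact ch_1_2_8_5_10

set_option maxRecDepth 100000 in
theorem ch_1_2_8_6_3 : enum 11 ck11 1 5 3572240 335 6 3 = true := by
  decide +kernel

set_option maxRecDepth 100000 in
theorem ch_1_2_8_6_4 : enum 11 ck11 1 5 4620816 343 6 4 = true := by
  decide +kernel

set_option maxRecDepth 100000 in
theorem ch_1_2_8_6_5 : enum 11 ck11 1 5 5669392 359 6 5 = true := by
  decide +kernel

set_option maxRecDepth 100000 in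
theorem ch_1_2_8_6_7 : enum 11 ck11 1 5 7766544 455 6 7 = true := by
  decide +kernel

set_option maxRecDepth 100000 in
theorem ch_1_2_8_6_9 : enum 11 ck11 1 5 9863696 839 6 9 = true := by
  decide +kernel

set_option maxRecDepth 100000 in
theorem ch_1_2_8_6_10 : enum 11 ck11 1 5 10912272 1351 6 10 = true := by
  decide +kernel

theorem ch_1_2_8_6 : enum 11 ck11 1 6 426512 327 5 6 = true := by
  refine enum_intro 11 ck11 1 5 426512 327 5 6 ?_
  intro v hv hb hd
  interval_cases v
  · exact absurd hb (by decide)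
  · exact absurd hb (by decide)
  · exact absurd hb (by decide)
  · exact ch_1_2_8_6_3
  · exact ch_1_2_8_6_4
  · exact ch_1_2_8_6_5
  · exact absurd hb (by decide)
  · exact ch_1_2_8_6_7
  · exact absurd hb (by decide)
  · exact ch_1_2_8_6_9
  · exact ch_1_2_8_6_10

set_option maxRecDepth 100000 in
theorem ch_1_2_8_7_3 : enum 11 ck11 1 5 3637776 399 6 3 = true := by
  decide +kernel

set_option maxRecDepth 100000 in
theorem ch_1_2_8_7_4 : enum 11 ck11 1 5 4686352 407 6 4 = true := by
  decide +kernel

set_option maxRecDepth 100000 in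
theorem ch_1_2_8_7_5 : enum 11 ck11 1 5 5734928 423 6 5 = true := by
  decide +kernel

set_option maxRecDepth 100000 in
theorem ch_1_2_8_7_6 : enum 11 ck11 1 5 6783504 455 6 6 = true := by
  decide +kernel

set_option maxRecDepth 100000 in
theorem ch_1_2_8_7_9 : enum 11 ck11 1 5 9929232 903 6 9 = true := by
  decide +kernel

set_option maxRecDepth 100000 in
theorem ch_1_2_8_7_10 : enum 11 ck11 1 5 10977808 1415 6 10 = true := by
  decide +kernel

theorem ch_1_2_8_7 : enum 11 ck11 1 6 492048 391 5 7 = true := by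
  refine enum_intro 11 ck11 1 5 492048 391 5 7 ?_
  intro v hv hb hd
  interval_cases v
  · exact absurd hb (by decide)
  · exact absurd hb (by decide)
  · exact absurd hb (by decide)
  · exact ch_1_2_8_7_3
  · exact ch_1_2_8_7_4
  · exact ch_1_2_8_7_5
  · exact ch_1_2_8_7_6
  · exact absurd hb (by decide)
  · exact absurd hb (by decide)
  · exact ch_1_2_8_7_9
  · exact ch_1_2_8_7_10

set_option maxRecDepth 100000 in
theorem ch_1_2_8_9_3 : enum 11 ck11 1 5 3768848 783 6 3 = true := by
  decide +kernel

set_option maxRecDepth 100000 in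
theorem ch_1_2_8_9_4 : enum 11 ck11 1 5 4817424 791 6 4 = true := by
  decide +kernel

set_option maxRecDepth 100000 in
theorem ch_1_2_8_9_5 : enum 11 ck11 1 5 5866000 807 6 5 = true := by
  decide +kernel

set_option maxRecDepth 100000 in
theorem ch_1_2_8_9_6 : enum 11 ck11 1 5 6914576 839 6 6 = true := by
  decide +kernel

set_option maxRecDepth 100000 in
theorem ch_1_2_8_9_7 : enum 11 ck11 1 5 7963152 903 6 7 = true := by
  decide +kernel

set_option maxRecDepth 100000 in
theorem ch_1_2_8_9_10 : enum 11 ck11 1 5 11108880 1799 6 10 = true := by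
  decide +kernel

theorem ch_1_2_8_9 : enum 11 ck11 1 6 623120 775 5 9 = true := by
  refine enum_intro 11 ck11 1 5 623120 775 5 9 ?_
  intro v hv hb hd
  interval_cases v
  · exact absurd hb (by decide)
  · exact absurd hb (by decide)
  · exact absurd hb (by decide)
  · exact ch_1_2_8_9_3
  · exact ch_1_2_8_9_4
  · exact ch_1_2_8_9_5
  · exact ch_1_2_8_9_6
  · exact ch_1_2_8_9_7
  · exact absurd hb (by decide)
  · exact absurd hb (by decide)
  · exact ch_1_2_8_9_10

set_option maxRecDepth 100000 in
theorem ch_1_2_8_10_3 : enum 11 ck11 1 5 3834384 1295 6 3 = true := by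
  decide +kernel

set_option maxRecDepth 100000 in
theorem ch_1_2_8_10_4 : enum 11 ck11 1 5 4882960 1303 6 4 = true := by
  decide +kernel

set_option maxRecDepth 100000 in
theorem ch_1_2_8_10_5 : enum 11 ck11 1 5 5931536 1319 6 5 = true := by
  decide +kernel

set_option maxRecDepth 100000 in
theorem ch_1_2_8_10_6 : enum 11 ck11 1 5 6980112 1351 6 6 = true := by
  decide +kernel

set_option maxRecDepth 100000 in
theorem ch_1_2_8_10_7 : enum 11 ck11 1 5 8028688 1415 6 7 = true := by
  decide +kernel

set_option maxRecDepth 100000 in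
theorem ch_1_2_8_10_9 : enum 11 ck11 1 5 10125840 1799 6 9 = true := by
  decide +kernel

theorem ch_1_2_8_10 : enum 11 ck11 1 6 688656 1287 5 10 = true := by
  refine enum_intro 11 ck11 1 5 688656 1287 5 10 ?_
  intro v hv hb hd
  interval_cases v
  · exact absurd hb (by decide)
  · exact absurd hb (by decide)
  · exact absurd hb (by decide)
  · exact ch_1_2_8_10_3
  · exact ch_1_2_8_10_4
  · exact ch_1_2_8_10_5
  · exact ch_1_2_8_10_6
  · exact ch_1_2_8_10_7
  · exact absurd hb (by decide)
  · exact ch_1_2_8_10_9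
  · exact absurd hb (by decide)

theorem ch_1_2_8 : enum 11 ck11 1 7 33296 263 4 8 = true := by
  refine enum_intro 11 ck11 1 6 33296 263 4 8 ?_
  intro v hv hb hd
  interval_cases v
  · exact absurd hb (by decide)
  · exact absurd hb (by decide)
  · exact absurd hb (by decide)
  · exact ch_1_2_8_3
  · exact ch_1_2_8_4
  · exact ch_1_2_8_5
  · exact ch_1_2_8_6
  · exact ch_1_2_8_7
  · exact absurd hb (by decide)
  · exact ch_1_2_8_9
  · exact ch_1_2_8_10

end Cfsg.Agent.Helper9.T11
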