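import Mathlib
import Cfsg.Agent.Helper9.T11.Chk

set_option autoImplicit false
set_option Elab.async false

/-!
A part of the enumeration on 11 points: the test holds at every permutation of the part.
-/

namespace Cfsg.Agent.Helper9.T11

set_option maxRecDepth 100000 in
theorem ch_1_2_9_3_4 : enum 11 ck11 1 5 4428304 543 6 4 = true := by
  decide +kernel

set_option maxRecDepth 100000 in
theorem ch_1_2_9_3_5 : enum 11 ck11 1 5 5476880 559 6 5 = true := by
  decide +kernel

set_option maxRecDepth 100000 in
theorem ch_1_2_9_3_6 : enum 11 ck11 1 5 6525456 591 6 6 = true := by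
  decide +kernel

set_option maxRecDepth 100000 in
theorem ch_1_2_9_3_7 : enum 11 ck11 1 5 7574032 655 6 7 = true := by
  decide +kernel

set_option maxRecDepth 100000 in
theorem ch_1_2_9_3_8 : enum 11 ck11 1 5 8622608 783 6 8 = true := by
  decide +kernel

set_option maxRecDepth 100000 in
theorem ch_1_2_9_3_10 : enum 11 ck11 1 5 10719760 1551 6 10 = true := by
  decide +kernel

theorem ch_1_2_9_3 : enum 11 ck11 1 6 234000 527 5 3 = true := by
  refine enum_intro 11 ck11 1 5 234000 527 5 3 ?_
  intro v hv hb hd
  interval_cases v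
  · exact absurd hb (by decide)
  · exact absurd hb (by decide)
  · exact absurd hb (by decide)
  · exact absurd hb (by decide)
  · exact ch_1_2_9_3_4
  · exact ch_1_2_9_3_5
  · exact ch_1_2_9_3_6
  · exact ch_1_2_9_3_7
  · exact ch_1_2_9_3_8
  · exact absurd hb (by decide)
  · exact ch_1_2_9_3_10

set_option maxRecDepth 100000 in
theorem ch_1_2_9_4_3 : enum 11 ck11 1 5 3445264 543 6 3 = true := by
  decide +kernel

set_option maxRecDepth 100000 in
theorem ch_1_2_9_4_5 : enum 11 ck11 1 5 5542416 567 6 5 = true := by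
  decide +kernel

set_option maxRecDepth 100000 in
theorem ch_1_2_9_4_6 : enum 11 ck11 1 5 6590992 599 6 6 = true := by
  decide +kernel

set_option maxRecDepth 100000 in
theorem ch_1_2_9_4_7 : enum 11 ck11 1 5 7639568 663 6 7 = true := by
  decide +kernel

set_option maxRecDepth 100000 in
theorem ch_1_2_9_4_8 : enum 11 ck11 1 5 8688144 791 6 8 = true := by
  decide +kernel

set_option maxRecDepth 100000 in
theorem ch_1_2_9_4_10 : enum 11 ck11 1 5 10785296 1559 6 10 = true := by
  decide +kernel

theorem ch_1_2_9_4 : enum 11 ck11 1 6 299536 535 5 4 = true := by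
  refine enum_intro 11 ck11 1 5 299536 535 5 4 ?_
  intro v hv hb hd
  interval_cases v
  · exact absurd hb (by decide)
  · exact absurd hb (by decide)
  · exact absurd hb (by decide)
  · exact ch_1_2_9_4_3
  · exact absurd hb (by decide)
  · exact ch_1_2_9_4_5
  · exact ch_1_2_9_4_6
  · exact ch_1_2_9_4_7
  · exact ch_1_2_9_4_8
  · exact absurd hb (by decide)
  · exact ch_1_2_9_4_10

set_option maxRecDepth 100000 in
theorem ch_1_2_9_5_3 : enum 11 ck11 1 5 3510800 559 6 3 = true := by
  decide +kernel

set_option maxRecDepth 100000 in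
theorem ch_1_2_9_5_4 : enum 11 ck11 1 5 4559376 567 6 4 = true := by
  decide +kernel

set_option maxRecDepth 100000 in
theorem ch_1_2_9_5_6 : enum 11 ck11 1 5 6656528 615 6 6 = true := by
  decide +kernel

set_option maxRecDepth 100000 in
theorem ch_1_2_9_5_7 : enum 11 ck11 1 5 7705104 679 6 7 = true := by
  decide +kernel

set_option maxRecDepth 100000 in
theorem ch_1_2_9_5_8 : enum 11 ck11 1 5 8753680 807 6 8 = true := by
  decide +kernel

set_option maxRecDepth 100000 in
theorem ch_1_2_9_5_10 : enum 11 ck11 1 5 10850832 1575 6 10 = true := by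
  decide +kernel

theorem ch_1_2_9_5 : enum 11 ck11 1 6 365072 551 5 5 = true := by
  refine enum_intro 11 ck11 1 5 365072 551 5 5 ?_
  intro v hv hb hd
  interval_cases v
  · exact absurd hb (by decide)
  · exact absurd hb (by decide)
  · exact absurd hb (by decide)
  · exact ch_1_2_9_5_3
  · exact ch_1_2_9_5_4
  · exact absurd hb (by decide)
  · exact ch_1_2_9_5_6
  · exact ch_1_2_9_5_7
  · exact ch_1_2_9_5_8
  · exact absurd hb (by decide)
  · exact ch_1_2_9_5_10

set_option maxRecDepth 100000 in
theorem ch_1_2_9_6_3 : enum 11 ck11 1 5 3576336 591 6 3 = true := by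
  decide +kernel

set_option maxRecDepth 100000 in
theorem ch_1_2_9_6_4 : enum 11 ck11 1 5 4624912 599 6 4 = true := by
  decide +kernel

set_option maxRecDepth 100000 in
theorem ch_1_2_9_6_5 : enum 11 ck11 1 5 5673488 615 6 5 = true := by
  decide +kernel

set_option maxRecDepth 100000 in
theorem ch_1_2_9_6_7 : enum 11 ck11 1 5 7770640 711 6 7 = true := by
  decide +kernel

set_option maxRecDepth 100000 in
theorem ch_1_2_9_6_8 : enum 11 ck11 1 5 8819216 839 6 8 = true := by
  decide +kernel

set_option maxRecDepth 100000 in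
theorem ch_1_2_9_6_10 : enum 11 ck11 1 5 10916368 1607 6 10 = true := by
  decide +kernel

theorem ch_1_2_9_6 : enum 11 ck11 1 6 430608 583 5 6 = true := by
  refine enum_intro 11 ck11 1 5 430608 583 5 6 ?_
  intro v hv hb hd
  interval_cases v
  · exact absurd hb (by decide)
  · exact absurd hb (by decide)
  · exact absurd hb (by decide)
  · exact ch_1_2_9_6_3
  · exact ch_1_2_9_6_4
  · exact ch_1_2_9_6_5
  · exact absurd hb (by decide)
  · exact ch_1_2_9_6_7
  · exact ch_1_2_9_6_8
  · exact absurd hb (by decide)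
  · exact ch_1_2_9_6_10

set_option maxRecDepth 100000 in
theorem ch_1_2_9_7_3 : enum 11 ck11 1 5 3641872 655 6 3 = true := by
  decide +kernel

set_option maxRecDepth 100000 in
theorem ch_1_2_9_7_4 : enum 11 ck11 1 5 4690448 663 6 4 = true := by
  decide +kernel

set_option maxRecDepth 100000 in
theorem ch_1_2_9_7_5 : enum 11 ck11 1 5 5739024 679 6 5 = true := by
  decide +kernel

set_option maxRecDepth 100000 in
theorem ch_1_2_9_7_6 : enum 11 ck11 1 5 6787600 711 6 6 = true := by
  decide +kernel

set_option maxRecDepth 100000 in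
theorem ch_1_2_9_7_8 : enum 11 ck11 1 5 8884752 903 6 8 = true := by
  decide +kernel

set_option maxRecDepth 100000 in
theorem ch_1_2_9_7_10 : enum 11 ck11 1 5 10981904 1671 6 10 = true := by
  decide +kernel

theorem ch_1_2_9_7 : enum 11 ck11 1 6 496144 647 5 7 = true := by
  refine enum_intro 11 ck11 1 5 496144 647 5 7 ?_
  intro v hv hb hd
  interval_cases v
  · exact absurd hb (by decide)
  · exact absurd hb (by decide)
  · exact absurd hb (by decide)
  · exact ch_1_2_9_7_3
  · exact ch_1_2_9_7_4
  · exact ch_1_2_9_7_5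
  · exact ch_1_2_9_7_6
  · exact absurd hb (by decide)
  · exact ch_1_2_9_7_8
  · exact absurd hb (by decide)
  · exact ch_1_2_9_7_10

set_option maxRecDepth 100000 in
theorem ch_1_2_9_8_3 : enum 11 ck11 1 5 3707408 783 6 3 = true := by
  decide +kernel

set_option maxRecDepth 100000 in
theorem ch_1_2_9_8_4 : enum 11 ck11 1 5 4755984 791 6 4 = true := by
  decide +kernel

set_option maxRecDepth 100000 in
theorem ch_1_2_9_8_5 : enum 11 ck11 1 5 5804560 807 6 5 = true := by
  decide +kernel

set_option maxRecDepth 100000 in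
theorem ch_1_2_9_8_6 : enum 11 ck11 1 5 6853136 839 6 6 = true := by
  decide +kernel

set_option maxRecDepth 100000 in
theorem ch_1_2_9_8_7 : enum 11 ck11 1 5 7901712 903 6 7 = true := by
  decide +kernel

set_option maxRecDepth 100000 in
theorem ch_1_2_9_8_10 : enum 11 ck11 1 5 11047440 1799 6 10 = true := by
  decide +kernel

theorem ch_1_2_9_8 : enum 11 ck11 1 6 561680 775 5 8 = true := by
  refine enum_intro 11 ck11 1 5 561680 775 5 8 ?_
  intro v hv hb hd
  interval_cases v
  · exact absurd hb (by decide)
  · exact absurd hb (by decide)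
  · exact absurd hb (by decide)
  · exact ch_1_2_9_8_3
  · exact ch_1_2_9_8_4
  · exact ch_1_2_9_8_5
  · exact ch_1_2_9_8_6
  · exact ch_1_2_9_8_7
  · exact absurd hb (by decide)
  · exact absurd hb (by decide)
  · exact ch_1_2_9_8_10

set_option maxRecDepth 100000 in
theorem ch_1_2_9_10_3 : enum 11 ck11 1 5 3838480 1551 6 3 = true := by
  decide +kernel

set_option maxRecDepth 100000 in
theorem ch_1_2_9_10_4 : enum 11 ck11 1 5 4887056 1559 6 4 = true := by
  decide +kernel

set_option maxRecDepth 100000 in
theorem ch_1_2_9_10_5 : enum 11 ck11 1 5 5935632 1575 6 5 = true := by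
  decide +kernel

set_option maxRecDepth 100000 in
theorem ch_1_2_9_10_6 : enum 11 ck11 1 5 6984208 1607 6 6 = true := by
  decide +kernel

set_option maxRecDepth 100000 in
theorem ch_1_2_9_10_7 : enum 11 ck11 1 5 8032784 1671 6 7 = true := by
  decide +kernel

set_option maxRecDepth 100000 in
theorem ch_1_2_9_10_8 : enum 11 ck11 1 5 9081360 1799 6 8 = true := by
  decide +kernel

theorem ch_1_2_9_10 : enum 11 ck11 1 6 692752 1543 5 10 = true := by
  refine enum_intro 11 ck11 1 5 692752 1543 5 10 ?_
  intro v hv hb hd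
  interval_cases v
  · exact absurd hb (by decide)
  · exact absurd hb (by decide)
  · exact absurd hb (by decide)
  · exact ch_1_2_9_10_3
  · exact ch_1_2_9_10_4
  · exact ch_1_2_9_10_5
  · exact ch_1_2_9_10_6
  · exact ch_1_2_9_10_7
  · exact ch_1_2_9_10_8
  · exact absurd hb (by decide)
  · exact absurd hb (by decide)

theorem ch_1_2_9 : enum 11 ck11 1 7 37392 519 4 9 = true := by
  refine enum_intro 11 ck11 1 6 37392 519 4 9 ?_
  intro v hv hb hd
  interval_cases v
  · exact absurd hb (by decide)
  · exact absurd hb (by decide)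
  · exact absurd hb (by decide)
  · exact ch_1_2_9_3
  · exact ch_1_2_9_4
  · exact ch_1_2_9_5
  · exact ch_1_2_9_6
  · exact ch_1_2_9_7
  · exact ch_1_2_9_8
  · exact absurd hb (by decide)
  · exact ch_1_2_9_10

set_option maxRecDepth 100000 in
theorem ch_1_2_10_3_4 : enum 11 ck11 1 5 4432400 1055 6 4 = true := by
  decide +kernel

set_option maxRecDepth 100000 in
theorem ch_1_2_10_3_5 : enum 11 ck11 1 5 5480976 1071 6 5 = true := by
  decide +kernel

set_option maxRecDepth 100000 in
theorem ch_1_2_10_3_6 : enum 11 ck11 1 5 6529552 1103 6 6 = true := by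
  decide +kernel

set_option maxRecDepth 100000 in
theorem ch_1_2_10_3_7 : enum 11 ck11 1 5 7578128 1167 6 7 = true := by
  decide +kernel

set_option maxRecDepth 100000 in
theorem ch_1_2_10_3_8 : enum 11 ck11 1 5 8626704 1295 6 8 = true := by
  decide +kernel

set_option maxRecDepth 100000 in
theorem ch_1_2_10_3_9 : enum 11 ck11 1 5 9675280 1551 6 9 = true := by
  decide +kernel

theorem ch_1_2_10_3 : enum 11 ck11 1 6 238096 1039 5 3 = true := by
  refine enum_intro 11 ck11 1 5 238096 1039 5 3 ?_
  intro v hv hb hd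
  interval_cases v
  · exact absurd hb (by decide)
  · exact absurd hb (by decide)
  · exact absurd hb (by decide)
  · exact absurd hb (by decide)
  · exact ch_1_2_10_3_4
  · exact ch_1_2_10_3_5
  · exact ch_1_2_10_3_6
  · exact ch_1_2_10_3_7
  · exact ch_1_2_10_3_8
  · exact ch_1_2_10_3_9
  · exact absurd hb (by decide)

set_option maxRecDepth 100000 in
theorem ch_1_2_10_4_3 : enum 11 ck11 1 5 3449360 1055 6 3 = true := by
  decide +kernel

set_option maxRecDepth 100000 in
theorem ch_1_2_10_4_5 : enum 11 ck11 1 5 5546512 1079 6 5 = true := by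
  decide +kernel

set_option maxRecDepth 100000 in
theorem ch_1_2_10_4_6 : enum 11 ck11 1 5 6595088 1111 6 6 = true := by
  decide +kernel

set_option maxRecDepth 100000 in
theorem ch_1_2_10_4_7 : enum 11 ck11 1 5 7643664 1175 6 7 = true := by
  decide +kernel

set_option maxRecDepth 100000 in
theorem ch_1_2_10_4_8 : enum 11 ck11 1 5 8692240 1303 6 8 = true := by
  decide +kernel

set_option maxRecDepth 100000 in
theorem ch_1_2_10_4_9 : enum 11 ck11 1 5 9740816 1559 6 9 = true := by
  decide +kernel

theorem ch_1_2_10_4 : enum 11 ck11 1 6 303632 1047 5 4 = true := by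
  refine enum_intro 11 ck11 1 5 303632 1047 5 4 ?_
  intro v hv hb hd
  interval_cases v
  · exact absurd hb (by decide)
  · exact absurd hb (by decide)
  · exact absurd hb (by decide)
  · exact ch_1_2_10_4_3
  · exact absurd hb (by decide)
  · exact ch_1_2_10_4_5
  · exact ch_1_2_10_4_6
  · exact ch_1_2_10_4_7
  · exact ch_1_2_10_4_8
  · exact ch_1_2_10_4_9
  · exact absurd hb (by decide)

set_option maxRecDepth 100000 in
theorem ch_1_2_10_5_3 : enum 11 ck11 1 5 3514896 1071 6 3 = true := by
  decide +kernel

set_option maxRecDepth 100000 in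
theorem ch_1_2_10_5_4 : enum 11 ck11 1 5 4563472 1079 6 4 = true := by
  decide +kernel

set_option maxRecDepth 100000 in
theorem ch_1_2_10_5_6 : enum 11 ck11 1 5 6660624 1127 6 6 = true := by
  decide +kernel

set_option maxRecDepth 100000 in
theorem ch_1_2_10_5_7 : enum 11 ck11 1 5 7709200 1191 6 7 = true := by
  decide +kernel

set_option maxRecDepth 100000 in
theorem ch_1_2_10_5_8 : enum 11 ck11 1 5 8757776 1319 6 8 = true := by
  decide +kernel

set_option maxRecDepth 100000 in
theorem ch_1_2_10_5_9 : enum 11 ck11 1 5 9806352 1575 6 9 = true := by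
  decide +kernel

theorem ch_1_2_10_5 : enum 11 ck11 1 6 369168 1063 5 5 = true := by
  refine enum_intro 11 ck11 1 5 369168 1063 5 5 ?_
  intro v hv hb hd
  interval_cases v
  · exact absurd hb (by decide)
  · exact absurd hb (by decide)
  · exact absurd hb (by decide)
  · exact ch_1_2_10_5_3
  · exact ch_1_2_10_5_4
  · exact absurd hb (by decide)
  · exact ch_1_2_10_5_6
  · exact ch_1_2_10_5_7
  · exact ch_1_2_10_5_8
  · exact ch_1_2_10_5_9
  · exact absurd hb (by decide)

set_option maxRecDepth 100000 in
theorem ch_1_2_10_6_3 : enum 11 ck11 1 5 3580432 1103 6 3 = true := by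
  decide +kernel

set_option maxRecDepth 100000 in
theorem ch_1_2_10_6_4 : enum 11 ck11 1 5 4629008 1111 6 4 = true := by
  decide +kernel

set_option maxRecDepth 100000 in
theorem ch_1_2_10_6_5 : enum 11 ck11 1 5 5677584 1127 6 5 = true := by
  decide +kernel

set_option maxRecDepth 100000 in
theorem ch_1_2_10_6_7 : enum 11 ck11 1 5 7774736 1223 6 7 = true := by
  decide +kernel

set_option maxRecDepth 100000 in
theorem ch_1_2_10_6_8 : enum 11 ck11 1 5 8823312 1351 6 8 = true := by
  decide +kernel

set_option maxRecDepth 100000 in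
theorem ch_1_2_10_6_9 : enum 11 ck11 1 5 9871888 1607 6 9 = true := by
  decide +kernel

theorem ch_1_2_10_6 : enum 11 ck11 1 6 434704 1095 5 6 = true := by
  refine enum_intro 11 ck11 1 5 434704 1095 5 6 ?_
  intro v hv hb hd
  interval_cases v
  · exact absurd hb (by decide)
  · exact absurd hb (by decide)
  · exact absurd hb (by decide)
  · exact ch_1_2_10_6_3
  · exact ch_1_2_10_6_4
  · exact ch_1_2_10_6_5
  · exact absurd hb (by decide)
  · exact ch_1_2_10_6_7
  · exact ch_1_2_10_6_8
  · exact ch_1_2_10_6_9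
  · exact absurd hb (by decide)

set_option maxRecDepth 100000 in
theorem ch_1_2_10_7_3 : enum 11 ck11 1 5 3645968 1167 6 3 = true := by
  decide +kernel

set_option maxRecDepth 100000 in
theorem ch_1_2_10_7_4 : enum 11 ck11 1 5 4694544 1175 6 4 = true := by
  decide +kernel

set_option maxRecDepth 100000 in
theorem ch_1_2_10_7_5 : enum 11 ck11 1 5 5743120 1191 6 5 = true := by
  decide +kernel

set_option maxRecDepth 100000 in
theorem ch_1_2_10_7_6 : enum 11 ck11 1 5 6791696 1223 6 6 = true := by
  decide +kernel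

set_option maxRecDepth 100000 in
theorem ch_1_2_10_7_8 : enum 11 ck11 1 5 8888848 1415 6 8 = true := by
  decide +kernel

set_option maxRecDepth 100000 in
theorem ch_1_2_10_7_9 : enum 11 ck11 1 5 9937424 1671 6 9 = true := by
  decide +kernel

theorem ch_1_2_10_7 : enum 11 ck11 1 6 500240 1159 5 7 = true := by
  refine enum_intro 11 ck11 1 5 500240 1159 5 7 ?_
  intro v hv hb hd
  interval_cases v
  · exact absurd hb (by decide)
  · exact absurd hb (by decide)
  · exact absurd hb (by decide)
  · exact ch_1_2_10_7_3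
  · exact ch_1_2_10_7_4
  · exact ch_1_2_10_7_5
  · exact ch_1_2_10_7_6
  · exact absurd hb (by decide)
  · exact ch_1_2_10_7_8
  · exact ch_1_2_10_7_9
  · exact absurd hb (by decide)

set_option maxRecDepth 100000 in
theorem ch_1_2_10_8_3 : enum 11 ck11 1 5 3711504 1295 6 3 = true := by
  decide +kernel

set_option maxRecDepth 100000 in
theorem ch_1_2_10_8_4 : enum 11 ck11 1 5 4760080 1303 6 4 = true := by
  decide +kernel

set_option maxRecDepth 100000 in
theorem ch_1_2_10_8_5 : enum 11 ck11 1 5 5808656 1319 6 5 = true := by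
  decide +kernel

set_option maxRecDepth 100000 in
theorem ch_1_2_10_8_6 : enum 11 ck11 1 5 6857232 1351 6 6 = true := by
  decide +kernel

set_option maxRecDepth 100000 in
theorem ch_1_2_10_8_7 : enum 11 ck11 1 5 7905808 1415 6 7 = true := by
  decide +kernel

set_option maxRecDepth 100000 in
theorem ch_1_2_10_8_9 : enum 11 ck11 1 5 10002960 1799 6 9 = true := by
  decide +kernel

theorem ch_1_2_10_8 : enum 11 ck11 1 6 565776 1287 5 8 = true := by
  refine enum_intro 11 ck11 1 5 565776 1287 5 8 ?_
  intro v hv hb hd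
  interval_cases v
  · exact absurd hb (by decide)
  · exact absurd hb (by decide)
  · exact absurd hb (by decide)
  · exact ch_1_2_10_8_3
  · exact ch_1_2_10_8_4
  · exact ch_1_2_10_8_5
  · exact ch_1_2_10_8_6
  · exact ch_1_2_10_8_7
  · exact absurd hb (by decide)
  · exact ch_1_2_10_8_9
  · exact absurd hb (by decide)

set_option maxRecDepth 100000 in
theorem ch_1_2_10_9_3 : enum 11 ck11 1 5 3777040 1551 6 3 = true := by
  decide +kernel

set_option maxRecDepth 100000 in
theorem ch_1_2_10_9_4 : enum 11 ck11 1 5 4825616 1559 6 4 = true := by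
  decide +kernel

set_option maxRecDepth 100000 in
theorem ch_1_2_10_9_5 : enum 11 ck11 1 5 5874192 1575 6 5 = true := by
  decide +kernel

set_option maxRecDepth 100000 in
theorem ch_1_2_10_9_6 : enum 11 ck11 1 5 6922768 1607 6 6 = true := by
  decide +kernel

set_option maxRecDepth 100000 in
theorem ch_1_2_10_9_7 : enum 11 ck11 1 5 7971344 1671 6 7 = true := by
  decide +kernel

set_option maxRecDepth 100000 in
theorem ch_1_2_10_9_8 : enum 11 ck11 1 5 9019920 1799 6 8 = true := by
  decide +kernel

theorem ch_1_2_10_9 : enum 11 ck11 1 6 631312 1543 5 9 = true := by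
  refine enum_intro 11 ck11 1 5 631312 1543 5 9 ?_
  intro v hv hb hd
  interval_cases v
  · exact absurd hb (by decide)
  · exact absurd hb (by decide)
  · exact absurd hb (by decide)
  · exact ch_1_2_10_9_3
  · exact ch_1_2_10_9_4
  · exact ch_1_2_10_9_5
  · exact ch_1_2_10_9_6
  · exact ch_1_2_10_9_7
  · exact ch_1_2_10_9_8
  · exact absurd hb (by decide)
  · exact absurd hb (by decide)

theorem ch_1_2_10 : enum 11 ck11 1 7 41488 1031 4 10 = true := by
  refine enum_intro 11 ck11 1 6 41488 1031 4 10 ?_
  intro v hv hb hd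
  interval_cases v
  · exact absurd hb (by decide)
  · exact absurd hb (by decide)
  · exact absurd hb (by decide)
  · exact ch_1_2_10_3
  · exact ch_1_2_10_4
  · exact ch_1_2_10_5
  · exact ch_1_2_10_6
  · exact ch_1_2_10_7
  · exact ch_1_2_10_8
  · exact ch_1_2_10_9
  · exact absurd hb (by decide)

end Cfsg.Agent.Helper9.T11
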