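import Mathlib
import Cfsg.Agent.Helper9.T11.Chk

set_option autoImplicit false
set_option Elab.async false

/-!
A part of the enumeration on 11 points: the test holds at every permutation of the part.
-/

namespace Cfsg.Agent.Helper9.T11

set_option maxRecDepth 100000 in
theorem ch_1_3_2_4_5 : enum 11 ck11 1 5 5514000 63 6 5 = true := by
  decide +kernel

set_option maxRecDepth 100000 in
theorem ch_1_3_2_4_6 : enum 11 ck11 1 5 6562576 95 6 6 = true := by
  decide +kernel

set_option maxRecDepth 100000 in
theorem ch_1_3_2_4_7 : enum 11 ck11 1 5 7611152 159 6 7 = true := by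
  decide +kernel

set_option maxRecDepth 100000 in
theorem ch_1_3_2_4_8 : enum 11 ck11 1 5 8659728 287 6 8 = true := by
  decide +kernel

set_option maxRecDepth 100000 in
theorem ch_1_3_2_4_9 : enum 11 ck11 1 5 9708304 543 6 9 = true := by
  decide +kernel

set_option maxRecDepth 100000 in
theorem ch_1_3_2_4_10 : enum 11 ck11 1 5 10756880 1055 6 10 = true := by
  decide +kernel

theorem ch_1_3_2_4 : enum 11 ck11 1 6 271120 31 5 4 = true := by
  refine enum_intro 11 ck11 1 5 271120 31 5 4 ?_
  intro v hv hb hd
  interval_cases v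
  · exact absurd hb (by decide)
  · exact absurd hb (by decide)
  · exact absurd hb (by decide)
  · exact absurd hb (by decide)
  · exact absurd hb (by decide)
  · exact ch_1_3_2_4_5
  · exact ch_1_3_2_4_6
  · exact ch_1_3_2_4_7
  · exact ch_1_3_2_4_8
  · exact ch_1_3_2_4_9
  · exact ch_1_3_2_4_10

set_option maxRecDepth 100000 in
theorem ch_1_3_2_5_4 : enum 11 ck11 1 5 4530960 63 6 4 = true := by
  decide +kernel

set_option maxRecDepth 100000 in
theorem ch_1_3_2_5_6 : enum 11 ck11 1 5 6628112 111 6 6 = true := by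
  decide +kernel

set_option maxRecDepth 100000 in
theorem ch_1_3_2_5_7 : enum 11 ck11 1 5 7676688 175 6 7 = true := by
  decide +kernel

set_option maxRecDepth 100000 in
theorem ch_1_3_2_5_8 : enum 11 ck11 1 5 8725264 303 6 8 = true := by
  decide +kernel

set_option maxRecDepth 100000 in
theorem ch_1_3_2_5_9 : enum 11 ck11 1 5 9773840 559 6 9 = true := by
  decide +kernel

set_option maxRecDepth 100000 in
theorem ch_1_3_2_5_10 : enum 11 ck11 1 5 10822416 1071 6 10 = true := by
  decide +kernel

theorem ch_1_3_2_5 : enum 11 ck11 1 6 336656 47 5 5 = true := by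
  refine enum_intro 11 ck11 1 5 336656 47 5 5 ?_
  intro v hv hb hd
  interval_cases v
  · exact absurd hb (by decide)
  · exact absurd hb (by decide)
  · exact absurd hb (by decide)
  · exact absurd hb (by decide)
  · exact ch_1_3_2_5_4
  · exact absurd hb (by decide)
  · exact ch_1_3_2_5_6
  · exact ch_1_3_2_5_7
  · exact ch_1_3_2_5_8
  · exact ch_1_3_2_5_9
  · exact ch_1_3_2_5_10

set_option maxRecDepth 100000 in
theorem ch_1_3_2_6_4 : enum 11 ck11 1 5 4596496 95 6 4 = true := by
  decide +kernel

set_option maxRecDepth 100000 in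
theorem ch_1_3_2_6_5 : enum 11 ck11 1 5 5645072 111 6 5 = true := by
  decide +kernel

set_option maxRecDepth 100000 in
theorem ch_1_3_2_6_7 : enum 11 ck11 1 5 7742224 207 6 7 = true := by
  decide +kernel

set_option maxRecDepth 100000 in
theorem ch_1_3_2_6_8 : enum 11 ck11 1 5 8790800 335 6 8 = true := by
  decide +kernel

set_option maxRecDepth 100000 in
theorem ch_1_3_2_6_9 : enum 11 ck11 1 5 9839376 591 6 9 = true := by
  decide +kernel

set_option maxRecDepth 100000 in
theorem ch_1_3_2_6_10 : enum 11 ck11 1 5 10887952 1103 6 10 = true := by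
  decide +kernel

theorem ch_1_3_2_6 : enum 11 ck11 1 6 402192 79 5 6 = true := by
  refine enum_intro 11 ck11 1 5 402192 79 5 6 ?_
  intro v hv hb hd
  interval_cases v
  · exact absurd hb (by decide)
  · exact absurd hb (by decide)
  · exact absurd hb (by decide)
  · exact absurd hb (by decide)
  · exact ch_1_3_2_6_4
  · exact ch_1_3_2_6_5
  · exact absurd hb (by decide)
  · exact ch_1_3_2_6_7
  · exact ch_1_3_2_6_8
  · exact ch_1_3_2_6_9
  · exact ch_1_3_2_6_10

set_option maxRecDepth 100000 in
theorem ch_1_3_2_7_4 : enum 11 ck11 1 5 4662032 159 6 4 = true := by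
  decide +kernel

set_option maxRecDepth 100000 in
theorem ch_1_3_2_7_5 : enum 11 ck11 1 5 5710608 175 6 5 = true := by
  decide +kernel

set_option maxRecDepth 100000 in
theorem ch_1_3_2_7_6 : enum 11 ck11 1 5 6759184 207 6 6 = true := by
  decide +kernel

set_option maxRecDepth 100000 in
theorem ch_1_3_2_7_8 : enum 11 ck11 1 5 8856336 399 6 8 = true := by
  decide +kernel

set_option maxRecDepth 100000 in
theorem ch_1_3_2_7_9 : enum 11 ck11 1 5 9904912 655 6 9 = true := by
  decide +kernel

set_option maxRecDepth 100000 in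
theorem ch_1_3_2_7_10 : enum 11 ck11 1 5 10953488 1167 6 10 = true := by
  decide +kernel

theorem ch_1_3_2_7 : enum 11 ck11 1 6 467728 143 5 7 = true := by
  refine enum_intro 11 ck11 1 5 467728 143 5 7 ?_
  intro v hv hb hd
  interval_cases v
  · exact absurd hb (by decide)
  · exact absurd hb (by decide)
  · exact absurd hb (by decide)
  · exact absurd hb (by decide)
  · exact ch_1_3_2_7_4
  · exact ch_1_3_2_7_5
  · exact ch_1_3_2_7_6
  · exact absurd hb (by decide)
  · exact ch_1_3_2_7_8
  · exact ch_1_3_2_7_9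
  · exact ch_1_3_2_7_10

set_option maxRecDepth 100000 in
theorem ch_1_3_2_8_4 : enum 11 ck11 1 5 4727568 287 6 4 = true := by
  decide +kernel

set_option maxRecDepth 100000 in
theorem ch_1_3_2_8_5 : enum 11 ck11 1 5 5776144 303 6 5 = true := by
  decide +kernel

set_option maxRecDepth 100000 in
theorem ch_1_3_2_8_6 : enum 11 ck11 1 5 6824720 335 6 6 = true := by
  decide +kernel

set_option maxRecDepth 100000 in
theorem ch_1_3_2_8_7 : enum 11 ck11 1 5 7873296 399 6 7 = true := by
  decide +kernel

set_option maxRecDepth 100000 in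
theorem ch_1_3_2_8_9 : enum 11 ck11 1 5 9970448 783 6 9 = true := by
  decide +kernel

set_option maxRecDepth 100000 in
theorem ch_1_3_2_8_10 : enum 11 ck11 1 5 11019024 1295 6 10 = true := by
  decide +kernel

theorem ch_1_3_2_8 : enum 11 ck11 1 6 533264 271 5 8 = true := by
  refine enum_intro 11 ck11 1 5 533264 271 5 8 ?_
  intro v hv hb hd
  interval_cases v
  · exact absurd hb (by decide)
  · exact absurd hb (by decide)
  · exact absurd hb (by decide)
  · exact absurd hb (by decide)
  · exact ch_1_3_2_8_4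
  · exact ch_1_3_2_8_5
  · exact ch_1_3_2_8_6
  · exact ch_1_3_2_8_7
  · exact absurd hb (by decide)
  · exact ch_1_3_2_8_9
  · exact ch_1_3_2_8_10

set_option maxRecDepth 100000 in
theorem ch_1_3_2_9_4 : enum 11 ck11 1 5 4793104 543 6 4 = true := by
  decide +kernel

set_option maxRecDepth 100000 in
theorem ch_1_3_2_9_5 : enum 11 ck11 1 5 5841680 559 6 5 = true := by
  decide +kernel

set_option maxRecDepth 100000 in
theorem ch_1_3_2_9_6 : enum 11 ck11 1 5 6890256 591 6 6 = true := by
  decide +kernel

set_option maxRecDepth 100000 in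
theorem ch_1_3_2_9_7 : enum 11 ck11 1 5 7938832 655 6 7 = true := by
  decide +kernel

set_option maxRecDepth 100000 in
theorem ch_1_3_2_9_8 : enum 11 ck11 1 5 8987408 783 6 8 = true := by
  decide +kernel

set_option maxRecDepth 100000 in
theorem ch_1_3_2_9_10 : enum 11 ck11 1 5 11084560 1551 6 10 = true := by
  decide +kernel

theorem ch_1_3_2_9 : enum 11 ck11 1 6 598800 527 5 9 = true := by
  refine enum_intro 11 ck11 1 5 598800 527 5 9 ?_
  intro v hv hb hd
  interval_cases v
  · exact absurd hb (by decide)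
  · exact absurd hb (by decide)
  · exact absurd hb (by decide)
  · exact absurd hb (by decide)
  · exact ch_1_3_2_9_4
  · exact ch_1_3_2_9_5
  · exact ch_1_3_2_9_6
  · exact ch_1_3_2_9_7
  · exact ch_1_3_2_9_8
  · exact absurd hb (by decide)
  · exact ch_1_3_2_9_10

set_option maxRecDepth 100000 in
theorem ch_1_3_2_10_4 : enum 11 ck11 1 5 4858640 1055 6 4 = true := by
  decide +kernel

set_option maxRecDepth 100000 in
theorem ch_1_3_2_10_5 : enum 11 ck11 1 5 5907216 1071 6 5 = true := by
  decide +kernel

set_option maxRecDepth 100000 in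
theorem ch_1_3_2_10_6 : enum 11 ck11 1 5 6955792 1103 6 6 = true := by
  decide +kernel

set_option maxRecDepth 100000 in
theorem ch_1_3_2_10_7 : enum 11 ck11 1 5 8004368 1167 6 7 = true := by
  decide +kernel

set_option maxRecDepth 100000 in
theorem ch_1_3_2_10_8 : enum 11 ck11 1 5 9052944 1295 6 8 = true := by
  decide +kernel

set_option maxRecDepth 100000 in
theorem ch_1_3_2_10_9 : enum 11 ck11 1 5 10101520 1551 6 9 = true := by
  decide +kernel

theorem ch_1_3_2_10 : enum 11 ck11 1 6 664336 1039 5 10 = true := by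
  refine enum_intro 11 ck11 1 5 664336 1039 5 10 ?_
  intro v hv hb hd
  interval_cases v
  · exact absurd hb (by decide)
  · exact absurd hb (by decide)
  · exact absurd hb (by decide)
  · exact absurd hb (by decide)
  · exact ch_1_3_2_10_4
  · exact ch_1_3_2_10_5
  · exact ch_1_3_2_10_6
  · exact ch_1_3_2_10_7
  · exact ch_1_3_2_10_8
  · exact ch_1_3_2_10_9
  · exact absurd hb (by decide)

theorem ch_1_3_2 : enum 11 ck11 1 7 8976 15 4 2 = true := by
  refine enum_intro 11 ck11 1 6 8976 15 4 2 ?_
  intro v hv hb hd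
  interval_cases v
  · exact absurd hb (by decide)
  · exact absurd hb (by decide)
  · exact absurd hb (by decide)
  · exact absurd hb (by decide)
  · exact ch_1_3_2_4
  · exact ch_1_3_2_5
  · exact ch_1_3_2_6
  · exact ch_1_3_2_7
  · exact ch_1_3_2_8
  · exact ch_1_3_2_9
  · exact ch_1_3_2_10

set_option maxRecDepth 100000 in
theorem ch_1_3_4_2_5 : enum 11 ck11 1 5 5391120 63 6 5 = true := by
  decide +kernel

set_option maxRecDepth 100000 in
theorem ch_1_3_4_2_6 : enum 11 ck11 1 5 6439696 95 6 6 = true := by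
  decide +kernel

set_option maxRecDepth 100000 in
theorem ch_1_3_4_2_7 : enum 11 ck11 1 5 7488272 159 6 7 = true := by
  decide +kernel

set_option maxRecDepth 100000 in
theorem ch_1_3_4_2_8 : enum 11 ck11 1 5 8536848 287 6 8 = true := by
  decide +kernel

set_option maxRecDepth 100000 in
theorem ch_1_3_4_2_9 : enum 11 ck11 1 5 9585424 543 6 9 = true := by
  decide +kernel

set_option maxRecDepth 100000 in
theorem ch_1_3_4_2_10 : enum 11 ck11 1 5 10634000 1055 6 10 = true := by
  decide +kernel

theorem ch_1_3_4_2 : enum 11 ck11 1 6 148240 31 5 2 = true := by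
  refine enum_intro 11 ck11 1 5 148240 31 5 2 ?_
  intro v hv hb hd
  interval_cases v
  · exact absurd hb (by decide)
  · exact absurd hb (by decide)
  · exact absurd hb (by decide)
  · exact absurd hb (by decide)
  · exact absurd hb (by decide)
  · exact ch_1_3_4_2_5
  · exact ch_1_3_4_2_6
  · exact ch_1_3_4_2_7
  · exact ch_1_3_4_2_8
  · exact ch_1_3_4_2_9
  · exact ch_1_3_4_2_10

set_option maxRecDepth 100000 in
theorem ch_1_3_4_5_2 : enum 11 ck11 1 5 2442000 63 6 2 = true := by
  decide +kernel

set_option maxRecDepth 100000 in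
theorem ch_1_3_4_5_6 : enum 11 ck11 1 5 6636304 123 6 6 = true := by
  decide +kernel

set_option maxRecDepth 100000 in
theorem ch_1_3_4_5_7 : enum 11 ck11 1 5 7684880 187 6 7 = true := by
  decide +kernel

set_option maxRecDepth 100000 in
theorem ch_1_3_4_5_8 : enum 11 ck11 1 5 8733456 315 6 8 = true := by
  decide +kernel

set_option maxRecDepth 100000 in
theorem ch_1_3_4_5_9 : enum 11 ck11 1 5 9782032 571 6 9 = true := by
  decide +kernel

set_option maxRecDepth 100000 in
theorem ch_1_3_4_5_10 : enum 11 ck11 1 5 10830608 1083 6 10 = true := by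
  decide +kernel

theorem ch_1_3_4_5 : enum 11 ck11 1 6 344848 59 5 5 = true := by
  refine enum_intro 11 ck11 1 5 344848 59 5 5 ?_
  intro v hv hb hd
  interval_cases v
  · exact absurd hb (by decide)
  · exact absurd hb (by decide)
  · exact ch_1_3_4_5_2
  · exact absurd hb (by decide)
  · exact absurd hb (by decide)
  · exact absurd hb (by decide)
  · exact ch_1_3_4_5_6
  · exact ch_1_3_4_5_7
  · exact ch_1_3_4_5_8
  · exact ch_1_3_4_5_9
  · exact ch_1_3_4_5_10

set_option maxRecDepth 100000 in
theorem ch_1_3_4_6_2 : enum 11 ck11 1 5 2507536 95 6 2 = true := by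
  decide +kernel

set_option maxRecDepth 100000 in
theorem ch_1_3_4_6_5 : enum 11 ck11 1 5 5653264 123 6 5 = true := by
  decide +kernel

set_option maxRecDepth 100000 in
theorem ch_1_3_4_6_7 : enum 11 ck11 1 5 7750416 219 6 7 = true := by
  decide +kernel

set_option maxRecDepth 100000 in
theorem ch_1_3_4_6_8 : enum 11 ck11 1 5 8798992 347 6 8 = true := by
  decide +kernel

set_option maxRecDepth 100000 in
theorem ch_1_3_4_6_9 : enum 11 ck11 1 5 9847568 603 6 9 = true := by
  decide +kernel

set_option maxRecDepth 100000 in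
theorem ch_1_3_4_6_10 : enum 11 ck11 1 5 10896144 1115 6 10 = true := by
  decide +kernel

theorem ch_1_3_4_6 : enum 11 ck11 1 6 410384 91 5 6 = true := by
  refine enum_intro 11 ck11 1 5 410384 91 5 6 ?_
  intro v hv hb hd
  interval_cases v
  · exact absurd hb (by decide)
  · exact absurd hb (by decide)
  · exact ch_1_3_4_6_2
  · exact absurd hb (by decide)
  · exact absurd hb (by decide)
  · exact ch_1_3_4_6_5
  · exact absurd hb (by decide)
  · exact ch_1_3_4_6_7
  · exact ch_1_3_4_6_8
  · exact ch_1_3_4_6_9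
  · exact ch_1_3_4_6_10

set_option maxRecDepth 100000 in
theorem ch_1_3_4_7_2 : enum 11 ck11 1 5 2573072 159 6 2 = true := by
  decide +kernel

set_option maxRecDepth 100000 in
theorem ch_1_3_4_7_5 : enum 11 ck11 1 5 5718800 187 6 5 = true := by
  decide +kernel

set_option maxRecDepth 100000 in
theorem ch_1_3_4_7_6 : enum 11 ck11 1 5 6767376 219 6 6 = true := by
  decide +kernel

set_option maxRecDepth 100000 in
theorem ch_1_3_4_7_8 : enum 11 ck11 1 5 8864528 411 6 8 = true := by
  decide +kernel

set_option maxRecDepth 100000 in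
theorem ch_1_3_4_7_9 : enum 11 ck11 1 5 9913104 667 6 9 = true := by
  decide +kernel

set_option maxRecDepth 100000 in
theorem ch_1_3_4_7_10 : enum 11 ck11 1 5 10961680 1179 6 10 = true := by
  decide +kernel

theorem ch_1_3_4_7 : enum 11 ck11 1 6 475920 155 5 7 = true := by
  refine enum_intro 11 ck11 1 5 475920 155 5 7 ?_
  intro v hv hb hd
  interval_cases v
  · exact absurd hb (by decide)
  · exact absurd hb (by decide)
  · exact ch_1_3_4_7_2
  · exact absurd hb (by decide)
  · exact absurd hb (by decide)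
  · exact ch_1_3_4_7_5
  · exact ch_1_3_4_7_6
  · exact absurd hb (by decide)
  · exact ch_1_3_4_7_8
  · exact ch_1_3_4_7_9
  · exact ch_1_3_4_7_10

set_option maxRecDepth 100000 in
theorem ch_1_3_4_8_2 : enum 11 ck11 1 5 2638608 287 6 2 = true := by
  decide +kernel

set_option maxRecDepth 100000 in
theorem ch_1_3_4_8_5 : enum 11 ck11 1 5 5784336 315 6 5 = true := by
  decide +kernel

set_option maxRecDepth 100000 in
theorem ch_1_3_4_8_6 : enum 11 ck11 1 5 6832912 347 6 6 = true := by
  decide +kernel

set_option maxRecDepth 100000 in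
theorem ch_1_3_4_8_7 : enum 11 ck11 1 5 7881488 411 6 7 = true := by
  decide +kernel

set_option maxRecDepth 100000 in
theorem ch_1_3_4_8_9 : enum 11 ck11 1 5 9978640 795 6 9 = true := by
  decide +kernel

set_option maxRecDepth 100000 in
theorem ch_1_3_4_8_10 : enum 11 ck11 1 5 11027216 1307 6 10 = true := by
  decide +kernel

theorem ch_1_3_4_8 : enum 11 ck11 1 6 541456 283 5 8 = true := by
  refine enum_intro 11 ck11 1 5 541456 283 5 8 ?_
  intro v hv hb hd
  interval_cases v
  · exact absurd hb (by decide)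
  · exact absurd hb (by decide)
  · exact ch_1_3_4_8_2
  · exact absurd hb (by decide)
  · exact absurd hb (by decide)
  · exact ch_1_3_4_8_5
  · exact ch_1_3_4_8_6
  · exact ch_1_3_4_8_7
  · exact absurd hb (by decide)
  · exact ch_1_3_4_8_9
  · exact ch_1_3_4_8_10

set_option maxRecDepth 100000 in
theorem ch_1_3_4_9_2 : enum 11 ck11 1 5 2704144 543 6 2 = true := by
  decide +kernel

set_option maxRecDepth 100000 in
theorem ch_1_3_4_9_5 : enum 11 ck11 1 5 5849872 571 6 5 = true := by
  decide +kernel

set_option maxRecDepth 100000 in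
theorem ch_1_3_4_9_6 : enum 11 ck11 1 5 6898448 603 6 6 = true := by
  decide +kernel

set_option maxRecDepth 100000 in
theorem ch_1_3_4_9_7 : enum 11 ck11 1 5 7947024 667 6 7 = true := by
  decide +kernel

set_option maxRecDepth 100000 in
theorem ch_1_3_4_9_8 : enum 11 ck11 1 5 8995600 795 6 8 = true := by
  decide +kernel

set_option maxRecDepth 100000 in
theorem ch_1_3_4_9_10 : enum 11 ck11 1 5 11092752 1563 6 10 = true := by
  decide +kernel

theorem ch_1_3_4_9 : enum 11 ck11 1 6 606992 539 5 9 = true := by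
  refine enum_intro 11 ck11 1 5 606992 539 5 9 ?_
  intro v hv hb hd
  interval_cases v
  · exact absurd hb (by decide)
  · exact absurd hb (by decide)
  · exact ch_1_3_4_9_2
  · exact absurd hb (by decide)
  · exact absurd hb (by decide)
  · exact ch_1_3_4_9_5
  · exact ch_1_3_4_9_6
  · exact ch_1_3_4_9_7
  · exact ch_1_3_4_9_8
  · exact absurd hb (by decide)
  · exact ch_1_3_4_9_10

set_option maxRecDepth 100000 in
theorem ch_1_3_4_10_2 : enum 11 ck11 1 5 2769680 1055 6 2 = true := by
  decide +kernel

set_option maxRecDepth 100000 in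
theorem ch_1_3_4_10_5 : enum 11 ck11 1 5 5915408 1083 6 5 = true := by
  decide +kernel

set_option maxRecDepth 100000 in
theorem ch_1_3_4_10_6 : enum 11 ck11 1 5 6963984 1115 6 6 = true := by
  decide +kernel

set_option maxRecDepth 100000 in
theorem ch_1_3_4_10_7 : enum 11 ck11 1 5 8012560 1179 6 7 = true := by
  decide +kernel

set_option maxRecDepth 100000 in
theorem ch_1_3_4_10_8 : enum 11 ck11 1 5 9061136 1307 6 8 = true := by
  decide +kernel

set_option maxRecDepth 100000 in
theorem ch_1_3_4_10_9 : enum 11 ck11 1 5 10109712 1563 6 9 = true := by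
  decide +kernel

theorem ch_1_3_4_10 : enum 11 ck11 1 6 672528 1051 5 10 = true := by
  refine enum_intro 11 ck11 1 5 672528 1051 5 10 ?_
  intro v hv hb hd
  interval_cases v
  · exact absurd hb (by decide)
  · exact absurd hb (by decide)
  · exact ch_1_3_4_10_2
  · exact absurd hb (by decide)
  · exact absurd hb (by decide)
  · exact ch_1_3_4_10_5
  · exact ch_1_3_4_10_6
  · exact ch_1_3_4_10_7
  · exact ch_1_3_4_10_8
  · exact ch_1_3_4_10_9
  · exact absurd hb (by decide)

theorem ch_1_3_4 : enum 11 ck11 1 7 17168 27 4 4 = true := by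
  refine enum_intro 11 ck11 1 6 17168 27 4 4 ?_
  intro v hv hb hd
  interval_cases v
  · exact absurd hb (by decide)
  · exact absurd hb (by decide)
  · exact ch_1_3_4_2
  · exact absurd hb (by decide)
  · exact absurd hb (by decide)
  · exact ch_1_3_4_5
  · exact ch_1_3_4_6
  · exact ch_1_3_4_7
  · exact ch_1_3_4_8
  · exact ch_1_3_4_9
  · exact ch_1_3_4_10

set_option maxRecDepth 100000 in
theorem ch_1_3_5_2_4 : enum 11 ck11 1 5 4346640 63 6 4 = true := by
  decide +kernel

set_option maxRecDepth 100000 in
theorem ch_1_3_5_2_6 : enum 11 ck11 1 5 6443792 111 6 6 = true := by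
  decide +kernel

set_option maxRecDepth 100000 in
theorem ch_1_3_5_2_7 : enum 11 ck11 1 5 7492368 175 6 7 = true := by
  decide +kernel

set_option maxRecDepth 100000 in
theorem ch_1_3_5_2_8 : enum 11 ck11 1 5 8540944 303 6 8 = true := by
  decide +kernel

set_option maxRecDepth 100000 in
theorem ch_1_3_5_2_9 : enum 11 ck11 1 5 9589520 559 6 9 = true := by
  decide +kernel

set_option maxRecDepth 100000 in
theorem ch_1_3_5_2_10 : enum 11 ck11 1 5 10638096 1071 6 10 = true := by
  decide +kernel

theorem ch_1_3_5_2 : enum 11 ck11 1 6 152336 47 5 2 = true := by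
  refine enum_intro 11 ck11 1 5 152336 47 5 2 ?_
  intro v hv hb hd
  interval_cases v
  · exact absurd hb (by decide)
  · exact absurd hb (by decide)
  · exact absurd hb (by decide)
  · exact absurd hb (by decide)
  · exact ch_1_3_5_2_4
  · exact absurd hb (by decide)
  · exact ch_1_3_5_2_6
  · exact ch_1_3_5_2_7
  · exact ch_1_3_5_2_8
  · exact ch_1_3_5_2_9
  · exact ch_1_3_5_2_10

set_option maxRecDepth 100000 in
theorem ch_1_3_5_4_2 : enum 11 ck11 1 5 2380560 63 6 2 = true := by
  decide +kernel

set_option maxRecDepth 100000 in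
theorem ch_1_3_5_4_6 : enum 11 ck11 1 5 6574864 123 6 6 = true := by
  decide +kernel

set_option maxRecDepth 100000 in
theorem ch_1_3_5_4_7 : enum 11 ck11 1 5 7623440 187 6 7 = true := by
  decide +kernel

set_option maxRecDepth 100000 in
theorem ch_1_3_5_4_8 : enum 11 ck11 1 5 8672016 315 6 8 = true := by
  decide +kernel

set_option maxRecDepth 100000 in
theorem ch_1_3_5_4_9 : enum 11 ck11 1 5 9720592 571 6 9 = true := by
  decide +kernel

set_option maxRecDepth 100000 in
theorem ch_1_3_5_4_10 : enum 11 ck11 1 5 10769168 1083 6 10 = true := by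
  decide +kernel

theorem ch_1_3_5_4 : enum 11 ck11 1 6 283408 59 5 4 = true := by
  refine enum_intro 11 ck11 1 5 283408 59 5 4 ?_
  intro v hv hb hd
  interval_cases v
  · exact absurd hb (by decide)
  · exact absurd hb (by decide)
  · exact ch_1_3_5_4_2
  · exact absurd hb (by decide)
  · exact absurd hb (by decide)
  · exact absurd hb (by decide)
  · exact ch_1_3_5_4_6
  · exact ch_1_3_5_4_7
  · exact ch_1_3_5_4_8
  · exact ch_1_3_5_4_9
  · exact ch_1_3_5_4_10

set_option maxRecDepth 100000 in
theorem ch_1_3_5_6_2 : enum 11 ck11 1 5 2511632 111 6 2 = true := by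
  decide +kernel

set_option maxRecDepth 100000 in
theorem ch_1_3_5_6_4 : enum 11 ck11 1 5 4608784 123 6 4 = true := by
  decide +kernel

set_option maxRecDepth 100000 in
theorem ch_1_3_5_6_7 : enum 11 ck11 1 5 7754512 235 6 7 = true := by
  decide +kernel

set_option maxRecDepth 100000 in
theorem ch_1_3_5_6_8 : enum 11 ck11 1 5 8803088 363 6 8 = true := by
  decide +kernel

set_option maxRecDepth 100000 in
theorem ch_1_3_5_6_9 : enum 11 ck11 1 5 9851664 619 6 9 = true := by
  decide +kernel

set_option maxRecDepth 100000 in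
theorem ch_1_3_5_6_10 : enum 11 ck11 1 5 10900240 1131 6 10 = true := by
  decide +kernel

theorem ch_1_3_5_6 : enum 11 ck11 1 6 414480 107 5 6 = true := by
  refine enum_intro 11 ck11 1 5 414480 107 5 6 ?_
  intro v hv hb hd
  interval_cases v
  · exact absurd hb (by decide)
  · exact absurd hb (by decide)
  · exact ch_1_3_5_6_2
  · exact absurd hb (by decide)
  · exact ch_1_3_5_6_4
  · exact absurd hb (by decide)
  · exact absurd hb (by decide)
  · exact ch_1_3_5_6_7
  · exact ch_1_3_5_6_8
  · exact ch_1_3_5_6_9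
  · exact ch_1_3_5_6_10

set_option maxRecDepth 100000 in
theorem ch_1_3_5_7_2 : enum 11 ck11 1 5 2577168 175 6 2 = true := by
  decide +kernel

set_option maxRecDepth 100000 in
theorem ch_1_3_5_7_4 : enum 11 ck11 1 5 4674320 187 6 4 = true := by
  decide +kernel

set_option maxRecDepth 100000 in
theorem ch_1_3_5_7_6 : enum 11 ck11 1 5 6771472 235 6 6 = true := by
  decide +kernel

set_option maxRecDepth 100000 in
theorem ch_1_3_5_7_8 : enum 11 ck11 1 5 8868624 427 6 8 = true := by
  decide +kernel

set_option maxRecDepth 100000 in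
theorem ch_1_3_5_7_9 : enum 11 ck11 1 5 9917200 683 6 9 = true := by
  decide +kernel

set_option maxRecDepth 100000 in
theorem ch_1_3_5_7_10 : enum 11 ck11 1 5 10965776 1195 6 10 = true := by
  decide +kernel

theorem ch_1_3_5_7 : enum 11 ck11 1 6 480016 171 5 7 = true := by
  refine enum_intro 11 ck11 1 5 480016 171 5 7 ?_
  intro v hv hb hd
  interval_cases v
  · exact absurd hb (by decide)
  · exact absurd hb (by decide)
  · exact ch_1_3_5_7_2
  · exact absurd hb (by decide)
  · exact ch_1_3_5_7_4
  · exact absurd hb (by decide)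
  · exact ch_1_3_5_7_6
  · exact absurd hb (by decide)
  · exact ch_1_3_5_7_8
  · exact ch_1_3_5_7_9
  · exact ch_1_3_5_7_10

set_option maxRecDepth 100000 in
theorem ch_1_3_5_8_2 : enum 11 ck11 1 5 2642704 303 6 2 = true := by
  decide +kernel

set_option maxRecDepth 100000 in
theorem ch_1_3_5_8_4 : enum 11 ck11 1 5 4739856 315 6 4 = true := by
  decide +kernel

set_option maxRecDepth 100000 in
theorem ch_1_3_5_8_6 : enum 11 ck11 1 5 6837008 363 6 6 = true := by
  decide +kernel

set_option maxRecDepth 100000 in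
theorem ch_1_3_5_8_7 : enum 11 ck11 1 5 7885584 427 6 7 = true := by
  decide +kernel

set_option maxRecDepth 100000 in
theorem ch_1_3_5_8_9 : enum 11 ck11 1 5 9982736 811 6 9 = true := by
  decide +kernel

set_option maxRecDepth 100000 in
theorem ch_1_3_5_8_10 : enum 11 ck11 1 5 11031312 1323 6 10 = true := by
  decide +kernel

theorem ch_1_3_5_8 : enum 11 ck11 1 6 545552 299 5 8 = true := by
  refine enum_intro 11 ck11 1 5 545552 299 5 8 ?_
  intro v hv hb hd
  interval_cases v
  · exact absurd hb (by decide)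
  · exact absurd hb (by decide)
  · exact ch_1_3_5_8_2
  · exact absurd hb (by decide)
  · exact ch_1_3_5_8_4
  · exact absurd hb (by decide)
  · exact ch_1_3_5_8_6
  · exact ch_1_3_5_8_7
  · exact absurd hb (by decide)
  · exact ch_1_3_5_8_9
  · exact ch_1_3_5_8_10

set_option maxRecDepth 100000 in
theorem ch_1_3_5_9_2 : enum 11 ck11 1 5 2708240 559 6 2 = true := by
  decide +kernel

set_option maxRecDepth 100000 in
theorem ch_1_3_5_9_4 : enum 11 ck11 1 5 4805392 571 6 4 = true := by
  decide +kernel

set_option maxRecDepth 100000 in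
theorem ch_1_3_5_9_6 : enum 11 ck11 1 5 6902544 619 6 6 = true := by
  decide +kernel

set_option maxRecDepth 100000 in
theorem ch_1_3_5_9_7 : enum 11 ck11 1 5 7951120 683 6 7 = true := by
  decide +kernel

set_option maxRecDepth 100000 in
theorem ch_1_3_5_9_8 : enum 11 ck11 1 5 8999696 811 6 8 = true := by
  decide +kernel

set_option maxRecDepth 100000 in
theorem ch_1_3_5_9_10 : enum 11 ck11 1 5 11096848 1579 6 10 = true := by
  decide +kernel

theorem ch_1_3_5_9 : enum 11 ck11 1 6 611088 555 5 9 = true := by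
  refine enum_intro 11 ck11 1 5 611088 555 5 9 ?_
  intro v hv hb hd
  interval_cases v
  · exact absurd hb (by decide)
  · exact absurd hb (by decide)
  · exact ch_1_3_5_9_2
  · exact absurd hb (by decide)
  · exact ch_1_3_5_9_4
  · exact absurd hb (by decide)
  · exact ch_1_3_5_9_6
  · exact ch_1_3_5_9_7
  · exact ch_1_3_5_9_8
  · exact absurd hb (by decide)
  · exact ch_1_3_5_9_10

set_option maxRecDepth 100000 in
theorem ch_1_3_5_10_2 : enum 11 ck11 1 5 2773776 1071 6 2 = true := by
  decide +kernel

set_option maxRecDepth 100000 in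
theorem ch_1_3_5_10_4 : enum 11 ck11 1 5 4870928 1083 6 4 = true := by
  decide +kernel

set_option maxRecDepth 100000 in
theorem ch_1_3_5_10_6 : enum 11 ck11 1 5 6968080 1131 6 6 = true := by
  decide +kernel

set_option maxRecDepth 100000 in
theorem ch_1_3_5_10_7 : enum 11 ck11 1 5 8016656 1195 6 7 = true := by
  decide +kernel

set_option maxRecDepth 100000 in
theorem ch_1_3_5_10_8 : enum 11 ck11 1 5 9065232 1323 6 8 = true := by
  decide +kernel

set_option maxRecDepth 100000 in
theorem ch_1_3_5_10_9 : enum 11 ck11 1 5 10113808 1579 6 9 = true := by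
  decide +kernel

theorem ch_1_3_5_10 : enum 11 ck11 1 6 676624 1067 5 10 = true := by
  refine enum_intro 11 ck11 1 5 676624 1067 5 10 ?_
  intro v hv hb hd
  interval_cases v
  · exact absurd hb (by decide)
  · exact absurd hb (by decide)
  · exact ch_1_3_5_10_2
  · exact absurd hb (by decide)
  · exact ch_1_3_5_10_4
  · exact absurd hb (by decide)
  · exact ch_1_3_5_10_6
  · exact ch_1_3_5_10_7
  · exact ch_1_3_5_10_8
  · exact ch_1_3_5_10_9
  · exact absurd hb (by decide)

theorem ch_1_3_5 : enum 11 ck11 1 7 21264 43 4 5 = true := by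
  refine enum_intro 11 ck11 1 6 21264 43 4 5 ?_
  intro v hv hb hd
  interval_cases v
  · exact absurd hb (by decide)
  · exact absurd hb (by decide)
  · exact ch_1_3_5_2
  · exact absurd hb (by decide)
  · exact ch_1_3_5_4
  · exact absurd hb (by decide)
  · exact ch_1_3_5_6
  · exact ch_1_3_5_7
  · exact ch_1_3_5_8
  · exact ch_1_3_5_9
  · exact ch_1_3_5_10

end Cfsg.Agent.Helper9.T11
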