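import Mathlib
import Cfsg.Agent.Helper9.T11.Chk

set_option autoImplicit false
set_option Elab.async false

/-!
A part of the enumeration on 11 points: the test holds at every permutation of the part.
-/

namespace Cfsg.Agent.Helper9.T11

set_option maxRecDepth 100000 in
theorem ch_1_3_6_2_4 : enum 11 ck11 1 5 4350736 95 6 4 = true := by
  decide +kernel

set_option maxRecDepth 100000 in
theorem ch_1_3_6_2_5 : enum 11 ck11 1 5 5399312 111 6 5 = true := by
  decide +kernel

set_option maxRecDepth 100000 in
theorem ch_1_3_6_2_7 : enum 11 ck11 1 5 7496464 207 6 7 = true := by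
  decide +kernel

set_option maxRecDepth 100000 in
theorem ch_1_3_6_2_8 : enum 11 ck11 1 5 8545040 335 6 8 = true := by
  decide +kernel

set_option maxRecDepth 100000 in
theorem ch_1_3_6_2_9 : enum 11 ck11 1 5 9593616 591 6 9 = true := by
  decide +kernel

set_option maxRecDepth 100000 in
theorem ch_1_3_6_2_10 : enum 11 ck11 1 5 10642192 1103 6 10 = true := by
  decide +kernel

theorem ch_1_3_6_2 : enum 11 ck11 1 6 156432 79 5 2 = true := by
  refine enum_intro 11 ck11 1 5 156432 79 5 2 ?_
  intro v hv hb hd
  interval_cases v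
  · exact absurd hb (by decide)
  · exact absurd hb (by decide)
  · exact absurd hb (by decide)
  · exact absurd hb (by decide)
  · exact ch_1_3_6_2_4
  · exact ch_1_3_6_2_5
  · exact absurd hb (by decide)
  · exact ch_1_3_6_2_7
  · exact ch_1_3_6_2_8
  · exact ch_1_3_6_2_9
  · exact ch_1_3_6_2_10

set_option maxRecDepth 100000 in
theorem ch_1_3_6_4_2 : enum 11 ck11 1 5 2384656 95 6 2 = true := by
  decide +kernel

set_option maxRecDepth 100000 in
theorem ch_1_3_6_4_5 : enum 11 ck11 1 5 5530384 123 6 5 = true := by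
  decide +kernel

set_option maxRecDepth 100000 in
theorem ch_1_3_6_4_7 : enum 11 ck11 1 5 7627536 219 6 7 = true := by
  decide +kernel

set_option maxRecDepth 100000 in
theorem ch_1_3_6_4_8 : enum 11 ck11 1 5 8676112 347 6 8 = true := by
  decide +kernel

set_option maxRecDepth 100000 in
theorem ch_1_3_6_4_9 : enum 11 ck11 1 5 9724688 603 6 9 = true := by
  decide +kernel

set_option maxRecDepth 100000 in
theorem ch_1_3_6_4_10 : enum 11 ck11 1 5 10773264 1115 6 10 = true := by
  decide +kernel

theorem ch_1_3_6_4 : enum 11 ck11 1 6 287504 91 5 4 = true := by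
  refine enum_intro 11 ck11 1 5 287504 91 5 4 ?_
  intro v hv hb hd
  interval_cases v
  · exact absurd hb (by decide)
  · exact absurd hb (by decide)
  · exact ch_1_3_6_4_2
  · exact absurd hb (by decide)
  · exact absurd hb (by decide)
  · exact ch_1_3_6_4_5
  · exact absurd hb (by decide)
  · exact ch_1_3_6_4_7
  · exact ch_1_3_6_4_8
  · exact ch_1_3_6_4_9
  · exact ch_1_3_6_4_10

set_option maxRecDepth 100000 in
theorem ch_1_3_6_5_2 : enum 11 ck11 1 5 2450192 111 6 2 = true := by
  decide +kernel

set_option maxRecDepth 100000 in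
theorem ch_1_3_6_5_4 : enum 11 ck11 1 5 4547344 123 6 4 = true := by
  decide +kernel

set_option maxRecDepth 100000 in
theorem ch_1_3_6_5_7 : enum 11 ck11 1 5 7693072 235 6 7 = true := by
  decide +kernel

set_option maxRecDepth 100000 in
theorem ch_1_3_6_5_8 : enum 11 ck11 1 5 8741648 363 6 8 = true := by
  decide +kernel

set_option maxRecDepth 100000 in
theorem ch_1_3_6_5_9 : enum 11 ck11 1 5 9790224 619 6 9 = true := by
  decide +kernel

set_option maxRecDepth 100000 in
theorem ch_1_3_6_5_10 : enum 11 ck11 1 5 10838800 1131 6 10 = true := by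
  decide +kernel

theorem ch_1_3_6_5 : enum 11 ck11 1 6 353040 107 5 5 = true := by
  refine enum_intro 11 ck11 1 5 353040 107 5 5 ?_
  intro v hv hb hd
  interval_cases v
  · exact absurd hb (by decide)
  · exact absurd hb (by decide)
  · exact ch_1_3_6_5_2
  · exact absurd hb (by decide)
  · exact ch_1_3_6_5_4
  · exact absurd hb (by decide)
  · exact absurd hb (by decide)
  · exact ch_1_3_6_5_7
  · exact ch_1_3_6_5_8
  · exact ch_1_3_6_5_9
  · exact ch_1_3_6_5_10

set_option maxRecDepth 100000 in
theorem ch_1_3_6_7_2 : enum 11 ck11 1 5 2581264 207 6 2 = true := by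
  decide +kernel

set_option maxRecDepth 100000 in
theorem ch_1_3_6_7_4 : enum 11 ck11 1 5 4678416 219 6 4 = true := by
  decide +kernel

set_option maxRecDepth 100000 in
theorem ch_1_3_6_7_5 : enum 11 ck11 1 5 5726992 235 6 5 = true := by
  decide +kernel

set_option maxRecDepth 100000 in
theorem ch_1_3_6_7_8 : enum 11 ck11 1 5 8872720 459 6 8 = true := by
  decide +kernel

set_option maxRecDepth 100000 in
theorem ch_1_3_6_7_9 : enum 11 ck11 1 5 9921296 715 6 9 = true := by
  decide +kernel

set_option maxRecDepth 100000 in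
theorem ch_1_3_6_7_10 : enum 11 ck11 1 5 10969872 1227 6 10 = true := by
  decide +kernel

theorem ch_1_3_6_7 : enum 11 ck11 1 6 484112 203 5 7 = true := by
  refine enum_intro 11 ck11 1 5 484112 203 5 7 ?_
  intro v hv hb hd
  interval_cases v
  · exact absurd hb (by decide)
  · exact absurd hb (by decide)
  · exact ch_1_3_6_7_2
  · exact absurd hb (by decide)
  · exact ch_1_3_6_7_4
  · exact ch_1_3_6_7_5
  · exact absurd hb (by decide)
  · exact absurd hb (by decide)
  · exact ch_1_3_6_7_8
  · exact ch_1_3_6_7_9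
  · exact ch_1_3_6_7_10

set_option maxRecDepth 100000 in
theorem ch_1_3_6_8_2 : enum 11 ck11 1 5 2646800 335 6 2 = true := by
  decide +kernel

set_option maxRecDepth 100000 in
theorem ch_1_3_6_8_4 : enum 11 ck11 1 5 4743952 347 6 4 = true := by
  decide +kernel

set_option maxRecDepth 100000 in
theorem ch_1_3_6_8_5 : enum 11 ck11 1 5 5792528 363 6 5 = true := by
  decide +kernel

set_option maxRecDepth 100000 in
theorem ch_1_3_6_8_7 : enum 11 ck11 1 5 7889680 459 6 7 = true := by
  decide +kernel

set_option maxRecDepth 100000 in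
theorem ch_1_3_6_8_9 : enum 11 ck11 1 5 9986832 843 6 9 = true := by
  decide +kernel

set_option maxRecDepth 100000 in
theorem ch_1_3_6_8_10 : enum 11 ck11 1 5 11035408 1355 6 10 = true := by
  decide +kernel

theorem ch_1_3_6_8 : enum 11 ck11 1 6 549648 331 5 8 = true := by
  refine enum_intro 11 ck11 1 5 549648 331 5 8 ?_
  intro v hv hb hd
  interval_cases v
  · exact absurd hb (by decide)
  · exact absurd hb (by decide)
  · exact ch_1_3_6_8_2
  · exact absurd hb (by decide)
  · exact ch_1_3_6_8_4
  · exact ch_1_3_6_8_5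
  · exact absurd hb (by decide)
  · exact ch_1_3_6_8_7
  · exact absurd hb (by decide)
  · exact ch_1_3_6_8_9
  · exact ch_1_3_6_8_10

set_option maxRecDepth 100000 in
theorem ch_1_3_6_9_2 : enum 11 ck11 1 5 2712336 591 6 2 = true := by
  decide +kernel

set_option maxRecDepth 100000 in
theorem ch_1_3_6_9_4 : enum 11 ck11 1 5 4809488 603 6 4 = true := by
  decide +kernel

set_option maxRecDepth 100000 in
theorem ch_1_3_6_9_5 : enum 11 ck11 1 5 5858064 619 6 5 = true := by
  decide +kernel

set_option maxRecDepth 100000 in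
theorem ch_1_3_6_9_7 : enum 11 ck11 1 5 7955216 715 6 7 = true := by
  decide +kernel

set_option maxRecDepth 100000 in
theorem ch_1_3_6_9_8 : enum 11 ck11 1 5 9003792 843 6 8 = true := by
  decide +kernel

set_option maxRecDepth 100000 in
theorem ch_1_3_6_9_10 : enum 11 ck11 1 5 11100944 1611 6 10 = true := by
  decide +kernel

theorem ch_1_3_6_9 : enum 11 ck11 1 6 615184 587 5 9 = true := by
  refine enum_intro 11 ck11 1 5 615184 587 5 9 ?_
  intro v hv hb hd
  interval_cases v
  · exact absurd hb (by decide)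
  · exact absurd hb (by decide)
  · exact ch_1_3_6_9_2
  · exact absurd hb (by decide)
  · exact ch_1_3_6_9_4
  · exact ch_1_3_6_9_5
  · exact absurd hb (by decide)
  · exact ch_1_3_6_9_7
  · exact ch_1_3_6_9_8
  · exact absurd hb (by decide)
  · exact ch_1_3_6_9_10

set_option maxRecDepth 100000 in
theorem ch_1_3_6_10_2 : enum 11 ck11 1 5 2777872 1103 6 2 = true := by
  decide +kernel

set_option maxRecDepth 100000 in
theorem ch_1_3_6_10_4 : enum 11 ck11 1 5 4875024 1115 6 4 = true := by
  decide +kernel

set_option maxRecDepth 100000 in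
theorem ch_1_3_6_10_5 : enum 11 ck11 1 5 5923600 1131 6 5 = true := by
  decide +kernel

set_option maxRecDepth 100000 in
theorem ch_1_3_6_10_7 : enum 11 ck11 1 5 8020752 1227 6 7 = true := by
  decide +kernel

set_option maxRecDepth 100000 in
theorem ch_1_3_6_10_8 : enum 11 ck11 1 5 9069328 1355 6 8 = true := by
  decide +kernel

set_option maxRecDepth 100000 in
theorem ch_1_3_6_10_9 : enum 11 ck11 1 5 10117904 1611 6 9 = true := by
  decide +kernel

theorem ch_1_3_6_10 : enum 11 ck11 1 6 680720 1099 5 10 = true := by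
  refine enum_intro 11 ck11 1 5 680720 1099 5 10 ?_
  intro v hv hb hd
  interval_cases v
  · exact absurd hb (by decide)
  · exact absurd hb (by decide)
  · exact ch_1_3_6_10_2
  · exact absurd hb (by decide)
  · exact ch_1_3_6_10_4
  · exact ch_1_3_6_10_5
  · exact absurd hb (by decide)
  · exact ch_1_3_6_10_7
  · exact ch_1_3_6_10_8
  · exact ch_1_3_6_10_9
  · exact absurd hb (by decide)

theorem ch_1_3_6 : enum 11 ck11 1 7 25360 75 4 6 = true := by
  refine enum_intro 11 ck11 1 6 25360 75 4 6 ?_
  intro v hv hb hd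
  interval_cases v
  · exact absurd hb (by decide)
  · exact absurd hb (by decide)
  · exact ch_1_3_6_2
  · exact absurd hb (by decide)
  · exact ch_1_3_6_4
  · exact ch_1_3_6_5
  · exact absurd hb (by decide)
  · exact ch_1_3_6_7
  · exact ch_1_3_6_8
  · exact ch_1_3_6_9
  · exact ch_1_3_6_10

set_option maxRecDepth 100000 in
theorem ch_1_3_7_2_4 : enum 11 ck11 1 5 4354832 159 6 4 = true := by
  decide +kernel

set_option maxRecDepth 100000 in
theorem ch_1_3_7_2_5 : enum 11 ck11 1 5 5403408 175 6 5 = true := by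
  decide +kernel

set_option maxRecDepth 100000 in
theorem ch_1_3_7_2_6 : enum 11 ck11 1 5 6451984 207 6 6 = true := by
  decide +kernel

set_option maxRecDepth 100000 in
theorem ch_1_3_7_2_8 : enum 11 ck11 1 5 8549136 399 6 8 = true := by
  decide +kernel

set_option maxRecDepth 100000 in
theorem ch_1_3_7_2_9 : enum 11 ck11 1 5 9597712 655 6 9 = true := by
  decide +kernel

set_option maxRecDepth 100000 in
theorem ch_1_3_7_2_10 : enum 11 ck11 1 5 10646288 1167 6 10 = true := by
  decide +kernel

theorem ch_1_3_7_2 : enum 11 ck11 1 6 160528 143 5 2 = true := by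
  refine enum_intro 11 ck11 1 5 160528 143 5 2 ?_
  intro v hv hb hd
  interval_cases v
  · exact absurd hb (by decide)
  · exact absurd hb (by decide)
  · exact absurd hb (by decide)
  · exact absurd hb (by decide)
  · exact ch_1_3_7_2_4
  · exact ch_1_3_7_2_5
  · exact ch_1_3_7_2_6
  · exact absurd hb (by decide)
  · exact ch_1_3_7_2_8
  · exact ch_1_3_7_2_9
  · exact ch_1_3_7_2_10

set_option maxRecDepth 100000 in
theorem ch_1_3_7_4_2 : enum 11 ck11 1 5 2388752 159 6 2 = true := by
  decide +kernel

set_option maxRecDepth 100000 in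
theorem ch_1_3_7_4_5 : enum 11 ck11 1 5 5534480 187 6 5 = true := by
  decide +kernel

set_option maxRecDepth 100000 in
theorem ch_1_3_7_4_6 : enum 11 ck11 1 5 6583056 219 6 6 = true := by
  decide +kernel

set_option maxRecDepth 100000 in
theorem ch_1_3_7_4_8 : enum 11 ck11 1 5 8680208 411 6 8 = true := by
  decide +kernel

set_option maxRecDepth 100000 in
theorem ch_1_3_7_4_9 : enum 11 ck11 1 5 9728784 667 6 9 = true := by
  decide +kernel

set_option maxRecDepth 100000 in
theorem ch_1_3_7_4_10 : enum 11 ck11 1 5 10777360 1179 6 10 = true := by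
  decide +kernel

theorem ch_1_3_7_4 : enum 11 ck11 1 6 291600 155 5 4 = true := by
  refine enum_intro 11 ck11 1 5 291600 155 5 4 ?_
  intro v hv hb hd
  interval_cases v
  · exact absurd hb (by decide)
  · exact absurd hb (by decide)
  · exact ch_1_3_7_4_2
  · exact absurd hb (by decide)
  · exact absurd hb (by decide)
  · exact ch_1_3_7_4_5
  · exact ch_1_3_7_4_6
  · exact absurd hb (by decide)
  · exact ch_1_3_7_4_8
  · exact ch_1_3_7_4_9
  · exact ch_1_3_7_4_10

set_option maxRecDepth 100000 in
theorem ch_1_3_7_5_2 : enum 11 ck11 1 5 2454288 175 6 2 = true := by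
  decide +kernel

set_option maxRecDepth 100000 in
theorem ch_1_3_7_5_4 : enum 11 ck11 1 5 4551440 187 6 4 = true := by
  decide +kernel

set_option maxRecDepth 100000 in
theorem ch_1_3_7_5_6 : enum 11 ck11 1 5 6648592 235 6 6 = true := by
  decide +kernel

set_option maxRecDepth 100000 in
theorem ch_1_3_7_5_8 : enum 11 ck11 1 5 8745744 427 6 8 = true := by
  decide +kernel

set_option maxRecDepth 100000 in
theorem ch_1_3_7_5_9 : enum 11 ck11 1 5 9794320 683 6 9 = true := by
  decide +kernel

set_option maxRecDepth 100000 in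
theorem ch_1_3_7_5_10 : enum 11 ck11 1 5 10842896 1195 6 10 = true := by
  decide +kernel

theorem ch_1_3_7_5 : enum 11 ck11 1 6 357136 171 5 5 = true := by
  refine enum_intro 11 ck11 1 5 357136 171 5 5 ?_
  intro v hv hb hd
  interval_cases v
  · exact absurd hb (by decide)
  · exact absurd hb (by decide)
  · exact ch_1_3_7_5_2
  · exact absurd hb (by decide)
  · exact ch_1_3_7_5_4
  · exact absurd hb (by decide)
  · exact ch_1_3_7_5_6
  · exact absurd hb (by decide)
  · exact ch_1_3_7_5_8
  · exact ch_1_3_7_5_9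
  · exact ch_1_3_7_5_10

set_option maxRecDepth 100000 in
theorem ch_1_3_7_6_2 : enum 11 ck11 1 5 2519824 207 6 2 = true := by
  decide +kernel

set_option maxRecDepth 100000 in
theorem ch_1_3_7_6_4 : enum 11 ck11 1 5 4616976 219 6 4 = true := by
  decide +kernel

set_option maxRecDepth 100000 in
theorem ch_1_3_7_6_5 : enum 11 ck11 1 5 5665552 235 6 5 = true := by
  decide +kernel

set_option maxRecDepth 100000 in
theorem ch_1_3_7_6_8 : enum 11 ck11 1 5 8811280 459 6 8 = true := by
  decide +kernel

set_option maxRecDepth 100000 in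
theorem ch_1_3_7_6_9 : enum 11 ck11 1 5 9859856 715 6 9 = true := by
  decide +kernel

set_option maxRecDepth 100000 in
theorem ch_1_3_7_6_10 : enum 11 ck11 1 5 10908432 1227 6 10 = true := by
  decide +kernel

theorem ch_1_3_7_6 : enum 11 ck11 1 6 422672 203 5 6 = true := by
  refine enum_intro 11 ck11 1 5 422672 203 5 6 ?_
  intro v hv hb hd
  interval_cases v
  · exact absurd hb (by decide)
  · exact absurd hb (by decide)
  · exact ch_1_3_7_6_2
  · exact absurd hb (by decide)
  · exact ch_1_3_7_6_4
  · exact ch_1_3_7_6_5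
  · exact absurd hb (by decide)
  · exact absurd hb (by decide)
  · exact ch_1_3_7_6_8
  · exact ch_1_3_7_6_9
  · exact ch_1_3_7_6_10

set_option maxRecDepth 100000 in
theorem ch_1_3_7_8_2 : enum 11 ck11 1 5 2650896 399 6 2 = true := by
  decide +kernel

set_option maxRecDepth 100000 in
theorem ch_1_3_7_8_4 : enum 11 ck11 1 5 4748048 411 6 4 = true := by
  decide +kernel

set_option maxRecDepth 100000 in
theorem ch_1_3_7_8_5 : enum 11 ck11 1 5 5796624 427 6 5 = true := by
  decide +kernel

set_option maxRecDepth 100000 in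
theorem ch_1_3_7_8_6 : enum 11 ck11 1 5 6845200 459 6 6 = true := by
  decide +kernel

set_option maxRecDepth 100000 in
theorem ch_1_3_7_8_9 : enum 11 ck11 1 5 9990928 907 6 9 = true := by
  decide +kernel

set_option maxRecDepth 100000 in
theorem ch_1_3_7_8_10 : enum 11 ck11 1 5 11039504 1419 6 10 = true := by
  decide +kernel

theorem ch_1_3_7_8 : enum 11 ck11 1 6 553744 395 5 8 = true := by
  refine enum_intro 11 ck11 1 5 553744 395 5 8 ?_
  intro v hv hb hd
  interval_cases v
  · exact absurd hb (by decide)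
  · exact absurd hb (by decide)
  · exact ch_1_3_7_8_2
  · exact absurd hb (by decide)
  · exact ch_1_3_7_8_4
  · exact ch_1_3_7_8_5
  · exact ch_1_3_7_8_6
  · exact absurd hb (by decide)
  · exact absurd hb (by decide)
  · exact ch_1_3_7_8_9
  · exact ch_1_3_7_8_10

set_option maxRecDepth 100000 in
theorem ch_1_3_7_9_2 : enum 11 ck11 1 5 2716432 655 6 2 = true := by
  decide +kernel

set_option maxRecDepth 100000 in
theorem ch_1_3_7_9_4 : enum 11 ck11 1 5 4813584 667 6 4 = true := by
  decide +kernel

set_option maxRecDepth 100000 in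
theorem ch_1_3_7_9_5 : enum 11 ck11 1 5 5862160 683 6 5 = true := by
  decide +kernel

set_option maxRecDepth 100000 in
theorem ch_1_3_7_9_6 : enum 11 ck11 1 5 6910736 715 6 6 = true := by
  decide +kernel

set_option maxRecDepth 100000 in
theorem ch_1_3_7_9_8 : enum 11 ck11 1 5 9007888 907 6 8 = true := by
  decide +kernel

set_option maxRecDepth 100000 in
theorem ch_1_3_7_9_10 : enum 11 ck11 1 5 11105040 1675 6 10 = true := by
  decide +kernel

theorem ch_1_3_7_9 : enum 11 ck11 1 6 619280 651 5 9 = true := by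
  refine enum_intro 11 ck11 1 5 619280 651 5 9 ?_
  intro v hv hb hd
  interval_cases v
  · exact absurd hb (by decide)
  · exact absurd hb (by decide)
  · exact ch_1_3_7_9_2
  · exact absurd hb (by decide)
  · exact ch_1_3_7_9_4
  · exact ch_1_3_7_9_5
  · exact ch_1_3_7_9_6
  · exact absurd hb (by decide)
  · exact ch_1_3_7_9_8
  · exact absurd hb (by decide)
  · exact ch_1_3_7_9_10

set_option maxRecDepth 100000 in
theorem ch_1_3_7_10_2 : enum 11 ck11 1 5 2781968 1167 6 2 = true := by
  decide +kernel

set_option maxRecDepth 100000 in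
theorem ch_1_3_7_10_4 : enum 11 ck11 1 5 4879120 1179 6 4 = true := by
  decide +kernel

set_option maxRecDepth 100000 in
theorem ch_1_3_7_10_5 : enum 11 ck11 1 5 5927696 1195 6 5 = true := by
  decide +kernel

set_option maxRecDepth 100000 in
theorem ch_1_3_7_10_6 : enum 11 ck11 1 5 6976272 1227 6 6 = true := by
  decide +kernel

set_option maxRecDepth 100000 in
theorem ch_1_3_7_10_8 : enum 11 ck11 1 5 9073424 1419 6 8 = true := by
  decide +kernel

set_option maxRecDepth 100000 in
theorem ch_1_3_7_10_9 : enum 11 ck11 1 5 10122000 1675 6 9 = true := by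
  decide +kernel

theorem ch_1_3_7_10 : enum 11 ck11 1 6 684816 1163 5 10 = true := by
  refine enum_intro 11 ck11 1 5 684816 1163 5 10 ?_
  intro v hv hb hd
  interval_cases v
  · exact absurd hb (by decide)
  · exact absurd hb (by decide)
  · exact ch_1_3_7_10_2
  · exact absurd hb (by decide)
  · exact ch_1_3_7_10_4
  · exact ch_1_3_7_10_5
  · exact ch_1_3_7_10_6
  · exact absurd hb (by decide)
  · exact ch_1_3_7_10_8
  · exact ch_1_3_7_10_9
  · exact absurd hb (by decide)

theorem ch_1_3_7 : enum 11 ck11 1 7 29456 139 4 7 = true := by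
  refine enum_intro 11 ck11 1 6 29456 139 4 7 ?_
  intro v hv hb hd
  interval_cases v
  · exact absurd hb (by decide)
  · exact absurd hb (by decide)
  · exact ch_1_3_7_2
  · exact absurd hb (by decide)
  · exact ch_1_3_7_4
  · exact ch_1_3_7_5
  · exact ch_1_3_7_6
  · exact absurd hb (by decide)
  · exact ch_1_3_7_8
  · exact ch_1_3_7_9
  · exact ch_1_3_7_10

set_option maxRecDepth 100000 in
theorem ch_1_3_8_2_4 : enum 11 ck11 1 5 4358928 287 6 4 = true := by
  decide +kernel

set_option maxRecDepth 100000 in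
theorem ch_1_3_8_2_5 : enum 11 ck11 1 5 5407504 303 6 5 = true := by
  decide +kernel

set_option maxRecDepth 100000 in
theorem ch_1_3_8_2_6 : enum 11 ck11 1 5 6456080 335 6 6 = true := by
  decide +kernel

set_option maxRecDepth 100000 in
theorem ch_1_3_8_2_7 : enum 11 ck11 1 5 7504656 399 6 7 = true := by
  decide +kernel

set_option maxRecDepth 100000 in
theorem ch_1_3_8_2_9 : enum 11 ck11 1 5 9601808 783 6 9 = true := by
  decide +kernel

set_option maxRecDepth 100000 in
theorem ch_1_3_8_2_10 : enum 11 ck11 1 5 10650384 1295 6 10 = true := by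
  decide +kernel

theorem ch_1_3_8_2 : enum 11 ck11 1 6 164624 271 5 2 = true := by
  refine enum_intro 11 ck11 1 5 164624 271 5 2 ?_
  intro v hv hb hd
  interval_cases v
  · exact absurd hb (by decide)
  · exact absurd hb (by decide)
  · exact absurd hb (by decide)
  · exact absurd hb (by decide)
  · exact ch_1_3_8_2_4
  · exact ch_1_3_8_2_5
  · exact ch_1_3_8_2_6
  · exact ch_1_3_8_2_7
  · exact absurd hb (by decide)
  · exact ch_1_3_8_2_9
  · exact ch_1_3_8_2_10

set_option maxRecDepth 100000 in
theorem ch_1_3_8_4_2 : enum 11 ck11 1 5 2392848 287 6 2 = true := by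
  decide +kernel

set_option maxRecDepth 100000 in
theorem ch_1_3_8_4_5 : enum 11 ck11 1 5 5538576 315 6 5 = true := by
  decide +kernel

set_option maxRecDepth 100000 in
theorem ch_1_3_8_4_6 : enum 11 ck11 1 5 6587152 347 6 6 = true := by
  decide +kernel

set_option maxRecDepth 100000 in
theorem ch_1_3_8_4_7 : enum 11 ck11 1 5 7635728 411 6 7 = true := by
  decide +kernel

set_option maxRecDepth 100000 in
theorem ch_1_3_8_4_9 : enum 11 ck11 1 5 9732880 795 6 9 = true := by
  decide +kernel

set_option maxRecDepth 100000 in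
theorem ch_1_3_8_4_10 : enum 11 ck11 1 5 10781456 1307 6 10 = true := by
  decide +kernel

theorem ch_1_3_8_4 : enum 11 ck11 1 6 295696 283 5 4 = true := by
  refine enum_intro 11 ck11 1 5 295696 283 5 4 ?_
  intro v hv hb hd
  interval_cases v
  · exact absurd hb (by decide)
  · exact absurd hb (by decide)
  · exact ch_1_3_8_4_2
  · exact absurd hb (by decide)
  · exact absurd hb (by decide)
  · exact ch_1_3_8_4_5
  · exact ch_1_3_8_4_6
  · exact ch_1_3_8_4_7
  · exact absurd hb (by decide)
  · exact ch_1_3_8_4_9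
  · exact ch_1_3_8_4_10

set_option maxRecDepth 100000 in
theorem ch_1_3_8_5_2 : enum 11 ck11 1 5 2458384 303 6 2 = true := by
  decide +kernel

set_option maxRecDepth 100000 in
theorem ch_1_3_8_5_4 : enum 11 ck11 1 5 4555536 315 6 4 = true := by
  decide +kernel

set_option maxRecDepth 100000 in
theorem ch_1_3_8_5_6 : enum 11 ck11 1 5 6652688 363 6 6 = true := by
  decide +kernel

set_option maxRecDepth 100000 in
theorem ch_1_3_8_5_7 : enum 11 ck11 1 5 7701264 427 6 7 = true := by
  decide +kernel

set_option maxRecDepth 100000 in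
theorem ch_1_3_8_5_9 : enum 11 ck11 1 5 9798416 811 6 9 = true := by
  decide +kernel

set_option maxRecDepth 100000 in
theorem ch_1_3_8_5_10 : enum 11 ck11 1 5 10846992 1323 6 10 = true := by
  decide +kernel

theorem ch_1_3_8_5 : enum 11 ck11 1 6 361232 299 5 5 = true := by
  refine enum_intro 11 ck11 1 5 361232 299 5 5 ?_
  intro v hv hb hd
  interval_cases v
  · exact absurd hb (by decide)
  · exact absurd hb (by decide)
  · exact ch_1_3_8_5_2
  · exact absurd hb (by decide)
  · exact ch_1_3_8_5_4
  · exact absurd hb (by decide)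
  · exact ch_1_3_8_5_6
  · exact ch_1_3_8_5_7
  · exact absurd hb (by decide)
  · exact ch_1_3_8_5_9
  · exact ch_1_3_8_5_10

set_option maxRecDepth 100000 in
theorem ch_1_3_8_6_2 : enum 11 ck11 1 5 2523920 335 6 2 = true := by
  decide +kernel

set_option maxRecDepth 100000 in
theorem ch_1_3_8_6_4 : enum 11 ck11 1 5 4621072 347 6 4 = true := by
  decide +kernel

set_option maxRecDepth 100000 in
theorem ch_1_3_8_6_5 : enum 11 ck11 1 5 5669648 363 6 5 = true := by
  decide +kernel

set_option maxRecDepth 100000 in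
theorem ch_1_3_8_6_7 : enum 11 ck11 1 5 7766800 459 6 7 = true := by
  decide +kernel

set_option maxRecDepth 100000 in
theorem ch_1_3_8_6_9 : enum 11 ck11 1 5 9863952 843 6 9 = true := by
  decide +kernel

set_option maxRecDepth 100000 in
theorem ch_1_3_8_6_10 : enum 11 ck11 1 5 10912528 1355 6 10 = true := by
  decide +kernel

theorem ch_1_3_8_6 : enum 11 ck11 1 6 426768 331 5 6 = true := by
  refine enum_intro 11 ck11 1 5 426768 331 5 6 ?_
  intro v hv hb hd
  interval_cases v
  · exact absurd hb (by decide)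
  · exact absurd hb (by decide)
  · exact ch_1_3_8_6_2
  · exact absurd hb (by decide)
  · exact ch_1_3_8_6_4
  · exact ch_1_3_8_6_5
  · exact absurd hb (by decide)
  · exact ch_1_3_8_6_7
  · exact absurd hb (by decide)
  · exact ch_1_3_8_6_9
  · exact ch_1_3_8_6_10

set_option maxRecDepth 100000 in
theorem ch_1_3_8_7_2 : enum 11 ck11 1 5 2589456 399 6 2 = true := by
  decide +kernel

set_option maxRecDepth 100000 in
theorem ch_1_3_8_7_4 : enum 11 ck11 1 5 4686608 411 6 4 = true := by
  decide +kernel

set_option maxRecDepth 100000 in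
theorem ch_1_3_8_7_5 : enum 11 ck11 1 5 5735184 427 6 5 = true := by
  decide +kernel

set_option maxRecDepth 100000 in
theorem ch_1_3_8_7_6 : enum 11 ck11 1 5 6783760 459 6 6 = true := by
  decide +kernel

set_option maxRecDepth 100000 in
theorem ch_1_3_8_7_9 : enum 11 ck11 1 5 9929488 907 6 9 = true := by
  decide +kernel

set_option maxRecDepth 100000 in
theorem ch_1_3_8_7_10 : enum 11 ck11 1 5 10978064 1419 6 10 = true := by
  decide +kernel

theorem ch_1_3_8_7 : enum 11 ck11 1 6 492304 395 5 7 = true := by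
  refine enum_intro 11 ck11 1 5 492304 395 5 7 ?_
  intro v hv hb hd
  interval_cases v
  · exact absurd hb (by decide)
  · exact absurd hb (by decide)
  · exact ch_1_3_8_7_2
  · exact absurd hb (by decide)
  · exact ch_1_3_8_7_4
  · exact ch_1_3_8_7_5
  · exact ch_1_3_8_7_6
  · exact absurd hb (by decide)
  · exact absurd hb (by decide)
  · exact ch_1_3_8_7_9
  · exact ch_1_3_8_7_10

set_option maxRecDepth 100000 in
theorem ch_1_3_8_9_2 : enum 11 ck11 1 5 2720528 783 6 2 = true := by
  decide +kernel

set_option maxRecDepth 100000 in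
theorem ch_1_3_8_9_4 : enum 11 ck11 1 5 4817680 795 6 4 = true := by
  decide +kernel

set_option maxRecDepth 100000 in
theorem ch_1_3_8_9_5 : enum 11 ck11 1 5 5866256 811 6 5 = true := by
  decide +kernel

set_option maxRecDepth 100000 in
theorem ch_1_3_8_9_6 : enum 11 ck11 1 5 6914832 843 6 6 = true := by
  decide +kernel

set_option maxRecDepth 100000 in
theorem ch_1_3_8_9_7 : enum 11 ck11 1 5 7963408 907 6 7 = true := by
  decide +kernel

set_option maxRecDepth 100000 in
theorem ch_1_3_8_9_10 : enum 11 ck11 1 5 11109136 1803 6 10 = true := by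
  decide +kernel

theorem ch_1_3_8_9 : enum 11 ck11 1 6 623376 779 5 9 = true := by
  refine enum_intro 11 ck11 1 5 623376 779 5 9 ?_
  intro v hv hb hd
  interval_cases v
  · exact absurd hb (by decide)
  · exact absurd hb (by decide)
  · exact ch_1_3_8_9_2
  · exact absurd hb (by decide)
  · exact ch_1_3_8_9_4
  · exact ch_1_3_8_9_5
  · exact ch_1_3_8_9_6
  · exact ch_1_3_8_9_7
  · exact absurd hb (by decide)
  · exact absurd hb (by decide)
  · exact ch_1_3_8_9_10

set_option maxRecDepth 100000 in
theorem ch_1_3_8_10_2 : enum 11 ck11 1 5 2786064 1295 6 2 = true := by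
  decide +kernel

set_option maxRecDepth 100000 in
theorem ch_1_3_8_10_4 : enum 11 ck11 1 5 4883216 1307 6 4 = true := by
  decide +kernel

set_option maxRecDepth 100000 in
theorem ch_1_3_8_10_5 : enum 11 ck11 1 5 5931792 1323 6 5 = true := by
  decide +kernel

set_option maxRecDepth 100000 in
theorem ch_1_3_8_10_6 : enum 11 ck11 1 5 6980368 1355 6 6 = true := by
  decide +kernel

set_option maxRecDepth 100000 in
theorem ch_1_3_8_10_7 : enum 11 ck11 1 5 8028944 1419 6 7 = true := by
  decide +kernel

set_option maxRecDepth 100000 in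
theorem ch_1_3_8_10_9 : enum 11 ck11 1 5 10126096 1803 6 9 = true := by
  decide +kernel

theorem ch_1_3_8_10 : enum 11 ck11 1 6 688912 1291 5 10 = true := by
  refine enum_intro 11 ck11 1 5 688912 1291 5 10 ?_
  intro v hv hb hd
  interval_cases v
  · exact absurd hb (by decide)
  · exact absurd hb (by decide)
  · exact ch_1_3_8_10_2
  · exact absurd hb (by decide)
  · exact ch_1_3_8_10_4
  · exact ch_1_3_8_10_5
  · exact ch_1_3_8_10_6
  · exact ch_1_3_8_10_7
  · exact absurd hb (by decide)
  · exact ch_1_3_8_10_9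
  · exact absurd hb (by decide)

theorem ch_1_3_8 : enum 11 ck11 1 7 33552 267 4 8 = true := by
  refine enum_intro 11 ck11 1 6 33552 267 4 8 ?_
  intro v hv hb hd
  interval_cases v
  · exact absurd hb (by decide)
  · exact absurd hb (by decide)
  · exact ch_1_3_8_2
  · exact absurd hb (by decide)
  · exact ch_1_3_8_4
  · exact ch_1_3_8_5
  · exact ch_1_3_8_6
  · exact ch_1_3_8_7
  · exact absurd hb (by decide)
  · exact ch_1_3_8_9
  · exact ch_1_3_8_10

end Cfsg.Agent.Helper9.T11
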