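import Mathlib
import Cfsg.Agent.Helper9.T11.Chk

set_option autoImplicit false
set_option Elab.async false

/-!
A part of the enumeration on 11 points: the test holds at every permutation of the part.
-/

namespace Cfsg.Agent.Helper9.T11

set_option maxRecDepth 100000 in
theorem ch_1_3_9_2_4 : enum 11 ck11 1 5 4363024 543 6 4 = true := by
  decide +kernel

set_option maxRecDepth 100000 in
theorem ch_1_3_9_2_5 : enum 11 ck11 1 5 5411600 559 6 5 = true := by
  decide +kernel

set_option maxRecDepth 100000 in
theorem ch_1_3_9_2_6 : enum 11 ck11 1 5 6460176 591 6 6 = true := by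
  decide +kernel

set_option maxRecDepth 100000 in
theorem ch_1_3_9_2_7 : enum 11 ck11 1 5 7508752 655 6 7 = true := by
  decide +kernel

set_option maxRecDepth 100000 in
theorem ch_1_3_9_2_8 : enum 11 ck11 1 5 8557328 783 6 8 = true := by
  decide +kernel

set_option maxRecDepth 100000 in
theorem ch_1_3_9_2_10 : enum 11 ck11 1 5 10654480 1551 6 10 = true := by
  decide +kernel

theorem ch_1_3_9_2 : enum 11 ck11 1 6 168720 527 5 2 = true := by
  refine enum_intro 11 ck11 1 5 168720 527 5 2 ?_
  intro v hv hb hd
  interval_cases v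
  · exact absurd hb (by decide)
  · exact absurd hb (by decide)
  · exact absurd hb (by decide)
  · exact absurd hb (by decide)
  · exact ch_1_3_9_2_4
  · exact ch_1_3_9_2_5
  · exact ch_1_3_9_2_6
  · exact ch_1_3_9_2_7
  · exact ch_1_3_9_2_8
  · exact absurd hb (by decide)
  · exact ch_1_3_9_2_10

set_option maxRecDepth 100000 in
theorem ch_1_3_9_4_2 : enum 11 ck11 1 5 2396944 543 6 2 = true := by
  decide +kernel

set_option maxRecDepth 100000 in
theorem ch_1_3_9_4_5 : enum 11 ck11 1 5 5542672 571 6 5 = true := by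
  decide +kernel

set_option maxRecDepth 100000 in
theorem ch_1_3_9_4_6 : enum 11 ck11 1 5 6591248 603 6 6 = true := by
  decide +kernel

set_option maxRecDepth 100000 in
theorem ch_1_3_9_4_7 : enum 11 ck11 1 5 7639824 667 6 7 = true := by
  decide +kernel

set_option maxRecDepth 100000 in
theorem ch_1_3_9_4_8 : enum 11 ck11 1 5 8688400 795 6 8 = true := by
  decide +kernel

set_option maxRecDepth 100000 in
theorem ch_1_3_9_4_10 : enum 11 ck11 1 5 10785552 1563 6 10 = true := by
  decide +kernel

theorem ch_1_3_9_4 : enum 11 ck11 1 6 299792 539 5 4 = true := by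
  refine enum_intro 11 ck11 1 5 299792 539 5 4 ?_
  intro v hv hb hd
  interval_cases v
  · exact absurd hb (by decide)
  · exact absurd hb (by decide)
  · exact ch_1_3_9_4_2
  · exact absurd hb (by decide)
  · exact absurd hb (by decide)
  · exact ch_1_3_9_4_5
  · exact ch_1_3_9_4_6
  · exact ch_1_3_9_4_7
  · exact ch_1_3_9_4_8
  · exact absurd hb (by decide)
  · exact ch_1_3_9_4_10

set_option maxRecDepth 100000 in
theorem ch_1_3_9_5_2 : enum 11 ck11 1 5 2462480 559 6 2 = true := by
  decide +kernel

set_option maxRecDepth 100000 in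
theorem ch_1_3_9_5_4 : enum 11 ck11 1 5 4559632 571 6 4 = true := by
  decide +kernel

set_option maxRecDepth 100000 in
theorem ch_1_3_9_5_6 : enum 11 ck11 1 5 6656784 619 6 6 = true := by
  decide +kernel

set_option maxRecDepth 100000 in
theorem ch_1_3_9_5_7 : enum 11 ck11 1 5 7705360 683 6 7 = true := by
  decide +kernel

set_option maxRecDepth 100000 in
theorem ch_1_3_9_5_8 : enum 11 ck11 1 5 8753936 811 6 8 = true := by
  decide +kernel

set_option maxRecDepth 100000 in
theorem ch_1_3_9_5_10 : enum 11 ck11 1 5 10851088 1579 6 10 = true := by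
  decide +kernel

theorem ch_1_3_9_5 : enum 11 ck11 1 6 365328 555 5 5 = true := by
  refine enum_intro 11 ck11 1 5 365328 555 5 5 ?_
  intro v hv hb hd
  interval_cases v
  · exact absurd hb (by decide)
  · exact absurd hb (by decide)
  · exact ch_1_3_9_5_2
  · exact absurd hb (by decide)
  · exact ch_1_3_9_5_4
  · exact absurd hb (by decide)
  · exact ch_1_3_9_5_6
  · exact ch_1_3_9_5_7
  · exact ch_1_3_9_5_8
  · exact absurd hb (by decide)
  · exact ch_1_3_9_5_10

set_option maxRecDepth 100000 in
theorem ch_1_3_9_6_2 : enum 11 ck11 1 5 2528016 591 6 2 = true := by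
  decide +kernel

set_option maxRecDepth 100000 in
theorem ch_1_3_9_6_4 : enum 11 ck11 1 5 4625168 603 6 4 = true := by
  decide +kernel

set_option maxRecDepth 100000 in
theorem ch_1_3_9_6_5 : enum 11 ck11 1 5 5673744 619 6 5 = true := by
  decide +kernel

set_option maxRecDepth 100000 in
theorem ch_1_3_9_6_7 : enum 11 ck11 1 5 7770896 715 6 7 = true := by
  decide +kernel

set_option maxRecDepth 100000 in
theorem ch_1_3_9_6_8 : enum 11 ck11 1 5 8819472 843 6 8 = true := by
  decide +kernel

set_option maxRecDepth 100000 in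
theorem ch_1_3_9_6_10 : enum 11 ck11 1 5 10916624 1611 6 10 = true := by
  decide +kernel

theorem ch_1_3_9_6 : enum 11 ck11 1 6 430864 587 5 6 = true := by
  refine enum_intro 11 ck11 1 5 430864 587 5 6 ?_
  intro v hv hb hd
  interval_cases v
  · exact absurd hb (by decide)
  · exact absurd hb (by decide)
  · exact ch_1_3_9_6_2
  · exact absurd hb (by decide)
  · exact ch_1_3_9_6_4
  · exact ch_1_3_9_6_5
  · exact absurd hb (by decide)
  · exact ch_1_3_9_6_7
  · exact ch_1_3_9_6_8
  · exact absurd hb (by decide)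
  · exact ch_1_3_9_6_10

set_option maxRecDepth 100000 in
theorem ch_1_3_9_7_2 : enum 11 ck11 1 5 2593552 655 6 2 = true := by
  decide +kernel

set_option maxRecDepth 100000 in
theorem ch_1_3_9_7_4 : enum 11 ck11 1 5 4690704 667 6 4 = true := by
  decide +kernel

set_option maxRecDepth 100000 in
theorem ch_1_3_9_7_5 : enum 11 ck11 1 5 5739280 683 6 5 = true := by
  decide +kernel

set_option maxRecDepth 100000 in
theorem ch_1_3_9_7_6 : enum 11 ck11 1 5 6787856 715 6 6 = true := by
  decide +kernel

set_option maxRecDepth 100000 in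
theorem ch_1_3_9_7_8 : enum 11 ck11 1 5 8885008 907 6 8 = true := by
  decide +kernel

set_option maxRecDepth 100000 in
theorem ch_1_3_9_7_10 : enum 11 ck11 1 5 10982160 1675 6 10 = true := by
  decide +kernel

theorem ch_1_3_9_7 : enum 11 ck11 1 6 496400 651 5 7 = true := by
  refine enum_intro 11 ck11 1 5 496400 651 5 7 ?_
  intro v hv hb hd
  interval_cases v
  · exact absurd hb (by decide)
  · exact absurd hb (by decide)
  · exact ch_1_3_9_7_2
  · exact absurd hb (by decide)
  · exact ch_1_3_9_7_4
  · exact ch_1_3_9_7_5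
  · exact ch_1_3_9_7_6
  · exact absurd hb (by decide)
  · exact ch_1_3_9_7_8
  · exact absurd hb (by decide)
  · exact ch_1_3_9_7_10

set_option maxRecDepth 100000 in
theorem ch_1_3_9_8_2 : enum 11 ck11 1 5 2659088 783 6 2 = true := by
  decide +kernel

set_option maxRecDepth 100000 in
theorem ch_1_3_9_8_4 : enum 11 ck11 1 5 4756240 795 6 4 = true := by
  decide +kernel

set_option maxRecDepth 100000 in
theorem ch_1_3_9_8_5 : enum 11 ck11 1 5 5804816 811 6 5 = true := by
  decide +kernel

set_option maxRecDepth 100000 in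
theorem ch_1_3_9_8_6 : enum 11 ck11 1 5 6853392 843 6 6 = true := by
  decide +kernel

set_option maxRecDepth 100000 in
theorem ch_1_3_9_8_7 : enum 11 ck11 1 5 7901968 907 6 7 = true := by
  decide +kernel

set_option maxRecDepth 100000 in
theorem ch_1_3_9_8_10 : enum 11 ck11 1 5 11047696 1803 6 10 = true := by
  decide +kernel

theorem ch_1_3_9_8 : enum 11 ck11 1 6 561936 779 5 8 = true := by
  refine enum_intro 11 ck11 1 5 561936 779 5 8 ?_
  intro v hv hb hd
  interval_cases v
  · exact absurd hb (by decide)
  · exact absurd hb (by decide)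
  · exact ch_1_3_9_8_2
  · exact absurd hb (by decide)
  · exact ch_1_3_9_8_4
  · exact ch_1_3_9_8_5
  · exact ch_1_3_9_8_6
  · exact ch_1_3_9_8_7
  · exact absurd hb (by decide)
  · exact absurd hb (by decide)
  · exact ch_1_3_9_8_10

set_option maxRecDepth 100000 in
theorem ch_1_3_9_10_2 : enum 11 ck11 1 5 2790160 1551 6 2 = true := by
  decide +kernel

set_option maxRecDepth 100000 in
theorem ch_1_3_9_10_4 : enum 11 ck11 1 5 4887312 1563 6 4 = true := by
  decide +kernel

set_option maxRecDepth 100000 in
theorem ch_1_3_9_10_5 : enum 11 ck11 1 5 5935888 1579 6 5 = true := by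
  decide +kernel

set_option maxRecDepth 100000 in
theorem ch_1_3_9_10_6 : enum 11 ck11 1 5 6984464 1611 6 6 = true := by
  decide +kernel

set_option maxRecDepth 100000 in
theorem ch_1_3_9_10_7 : enum 11 ck11 1 5 8033040 1675 6 7 = true := by
  decide +kernel

set_option maxRecDepth 100000 in
theorem ch_1_3_9_10_8 : enum 11 ck11 1 5 9081616 1803 6 8 = true := by
  decide +kernel

theorem ch_1_3_9_10 : enum 11 ck11 1 6 693008 1547 5 10 = true := by
  refine enum_intro 11 ck11 1 5 693008 1547 5 10 ?_
  intro v hv hb hd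
  interval_cases v
  · exact absurd hb (by decide)
  · exact absurd hb (by decide)
  · exact ch_1_3_9_10_2
  · exact absurd hb (by decide)
  · exact ch_1_3_9_10_4
  · exact ch_1_3_9_10_5
  · exact ch_1_3_9_10_6
  · exact ch_1_3_9_10_7
  · exact ch_1_3_9_10_8
  · exact absurd hb (by decide)
  · exact absurd hb (by decide)

theorem ch_1_3_9 : enum 11 ck11 1 7 37648 523 4 9 = true := by
  refine enum_intro 11 ck11 1 6 37648 523 4 9 ?_
  intro v hv hb hd
  interval_cases v
  · exact absurd hb (by decide)
  · exact absurd hb (by decide)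
  · exact ch_1_3_9_2
  · exact absurd hb (by decide)
  · exact ch_1_3_9_4
  · exact ch_1_3_9_5
  · exact ch_1_3_9_6
  · exact ch_1_3_9_7
  · exact ch_1_3_9_8
  · exact absurd hb (by decide)
  · exact ch_1_3_9_10

set_option maxRecDepth 100000 in
theorem ch_1_3_10_2_4 : enum 11 ck11 1 5 4367120 1055 6 4 = true := by
  decide +kernel

set_option maxRecDepth 100000 in
theorem ch_1_3_10_2_5 : enum 11 ck11 1 5 5415696 1071 6 5 = true := by
  decide +kernel

set_option maxRecDepth 100000 in
theorem ch_1_3_10_2_6 : enum 11 ck11 1 5 6464272 1103 6 6 = true := by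
  decide +kernel

set_option maxRecDepth 100000 in
theorem ch_1_3_10_2_7 : enum 11 ck11 1 5 7512848 1167 6 7 = true := by
  decide +kernel

set_option maxRecDepth 100000 in
theorem ch_1_3_10_2_8 : enum 11 ck11 1 5 8561424 1295 6 8 = true := by
  decide +kernel

set_option maxRecDepth 100000 in
theorem ch_1_3_10_2_9 : enum 11 ck11 1 5 9610000 1551 6 9 = true := by
  decide +kernel

theorem ch_1_3_10_2 : enum 11 ck11 1 6 172816 1039 5 2 = true := by
  refine enum_intro 11 ck11 1 5 172816 1039 5 2 ?_
  intro v hv hb hd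
  interval_cases v
  · exact absurd hb (by decide)
  · exact absurd hb (by decide)
  · exact absurd hb (by decide)
  · exact absurd hb (by decide)
  · exact ch_1_3_10_2_4
  · exact ch_1_3_10_2_5
  · exact ch_1_3_10_2_6
  · exact ch_1_3_10_2_7
  · exact ch_1_3_10_2_8
  · exact ch_1_3_10_2_9
  · exact absurd hb (by decide)

set_option maxRecDepth 100000 in
theorem ch_1_3_10_4_2 : enum 11 ck11 1 5 2401040 1055 6 2 = true := by
  decide +kernel

set_option maxRecDepth 100000 in
theorem ch_1_3_10_4_5 : enum 11 ck11 1 5 5546768 1083 6 5 = true := by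
  decide +kernel

set_option maxRecDepth 100000 in
theorem ch_1_3_10_4_6 : enum 11 ck11 1 5 6595344 1115 6 6 = true := by
  decide +kernel

set_option maxRecDepth 100000 in
theorem ch_1_3_10_4_7 : enum 11 ck11 1 5 7643920 1179 6 7 = true := by
  decide +kernel

set_option maxRecDepth 100000 in
theorem ch_1_3_10_4_8 : enum 11 ck11 1 5 8692496 1307 6 8 = true := by
  decide +kernel

set_option maxRecDepth 100000 in
theorem ch_1_3_10_4_9 : enum 11 ck11 1 5 9741072 1563 6 9 = true := by
  decide +kernel

theorem ch_1_3_10_4 : enum 11 ck11 1 6 303888 1051 5 4 = true := by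
  refine enum_intro 11 ck11 1 5 303888 1051 5 4 ?_
  intro v hv hb hd
  interval_cases v
  · exact absurd hb (by decide)
  · exact absurd hb (by decide)
  · exact ch_1_3_10_4_2
  · exact absurd hb (by decide)
  · exact absurd hb (by decide)
  · exact ch_1_3_10_4_5
  · exact ch_1_3_10_4_6
  · exact ch_1_3_10_4_7
  · exact ch_1_3_10_4_8
  · exact ch_1_3_10_4_9
  · exact absurd hb (by decide)

set_option maxRecDepth 100000 in
theorem ch_1_3_10_5_2 : enum 11 ck11 1 5 2466576 1071 6 2 = true := by
  decide +kernel

set_option maxRecDepth 100000 in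
theorem ch_1_3_10_5_4 : enum 11 ck11 1 5 4563728 1083 6 4 = true := by
  decide +kernel

set_option maxRecDepth 100000 in
theorem ch_1_3_10_5_6 : enum 11 ck11 1 5 6660880 1131 6 6 = true := by
  decide +kernel

set_option maxRecDepth 100000 in
theorem ch_1_3_10_5_7 : enum 11 ck11 1 5 7709456 1195 6 7 = true := by
  decide +kernel

set_option maxRecDepth 100000 in
theorem ch_1_3_10_5_8 : enum 11 ck11 1 5 8758032 1323 6 8 = true := by
  decide +kernel

set_option maxRecDepth 100000 in
theorem ch_1_3_10_5_9 : enum 11 ck11 1 5 9806608 1579 6 9 = true := by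
  decide +kernel

theorem ch_1_3_10_5 : enum 11 ck11 1 6 369424 1067 5 5 = true := by
  refine enum_intro 11 ck11 1 5 369424 1067 5 5 ?_
  intro v hv hb hd
  interval_cases v
  · exact absurd hb (by decide)
  · exact absurd hb (by decide)
  · exact ch_1_3_10_5_2
  · exact absurd hb (by decide)
  · exact ch_1_3_10_5_4
  · exact absurd hb (by decide)
  · exact ch_1_3_10_5_6
  · exact ch_1_3_10_5_7
  · exact ch_1_3_10_5_8
  · exact ch_1_3_10_5_9
  · exact absurd hb (by decide)

set_option maxRecDepth 100000 in
theorem ch_1_3_10_6_2 : enum 11 ck11 1 5 2532112 1103 6 2 = true := by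
  decide +kernel

set_option maxRecDepth 100000 in
theorem ch_1_3_10_6_4 : enum 11 ck11 1 5 4629264 1115 6 4 = true := by
  decide +kernel

set_option maxRecDepth 100000 in
theorem ch_1_3_10_6_5 : enum 11 ck11 1 5 5677840 1131 6 5 = true := by
  decide +kernel

set_option maxRecDepth 100000 in
theorem ch_1_3_10_6_7 : enum 11 ck11 1 5 7774992 1227 6 7 = true := by
  decide +kernel

set_option maxRecDepth 100000 in
theorem ch_1_3_10_6_8 : enum 11 ck11 1 5 8823568 1355 6 8 = true := by
  decide +kernel

set_option maxRecDepth 100000 in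
theorem ch_1_3_10_6_9 : enum 11 ck11 1 5 9872144 1611 6 9 = true := by
  decide +kernel

theorem ch_1_3_10_6 : enum 11 ck11 1 6 434960 1099 5 6 = true := by
  refine enum_intro 11 ck11 1 5 434960 1099 5 6 ?_
  intro v hv hb hd
  interval_cases v
  · exact absurd hb (by decide)
  · exact absurd hb (by decide)
  · exact ch_1_3_10_6_2
  · exact absurd hb (by decide)
  · exact ch_1_3_10_6_4
  · exact ch_1_3_10_6_5
  · exact absurd hb (by decide)
  · exact ch_1_3_10_6_7
  · exact ch_1_3_10_6_8
  · exact ch_1_3_10_6_9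
  · exact absurd hb (by decide)

set_option maxRecDepth 100000 in
theorem ch_1_3_10_7_2 : enum 11 ck11 1 5 2597648 1167 6 2 = true := by
  decide +kernel

set_option maxRecDepth 100000 in
theorem ch_1_3_10_7_4 : enum 11 ck11 1 5 4694800 1179 6 4 = true := by
  decide +kernel

set_option maxRecDepth 100000 in
theorem ch_1_3_10_7_5 : enum 11 ck11 1 5 5743376 1195 6 5 = true := by
  decide +kernel

set_option maxRecDepth 100000 in
theorem ch_1_3_10_7_6 : enum 11 ck11 1 5 6791952 1227 6 6 = true := by
  decide +kernel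

set_option maxRecDepth 100000 in
theorem ch_1_3_10_7_8 : enum 11 ck11 1 5 8889104 1419 6 8 = true := by
  decide +kernel

set_option maxRecDepth 100000 in
theorem ch_1_3_10_7_9 : enum 11 ck11 1 5 9937680 1675 6 9 = true := by
  decide +kernel

theorem ch_1_3_10_7 : enum 11 ck11 1 6 500496 1163 5 7 = true := by
  refine enum_intro 11 ck11 1 5 500496 1163 5 7 ?_
  intro v hv hb hd
  interval_cases v
  · exact absurd hb (by decide)
  · exact absurd hb (by decide)
  · exact ch_1_3_10_7_2
  · exact absurd hb (by decide)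
  · exact ch_1_3_10_7_4
  · exact ch_1_3_10_7_5
  · exact ch_1_3_10_7_6
  · exact absurd hb (by decide)
  · exact ch_1_3_10_7_8
  · exact ch_1_3_10_7_9
  · exact absurd hb (by decide)

set_option maxRecDepth 100000 in
theorem ch_1_3_10_8_2 : enum 11 ck11 1 5 2663184 1295 6 2 = true := by
  decide +kernel

set_option maxRecDepth 100000 in
theorem ch_1_3_10_8_4 : enum 11 ck11 1 5 4760336 1307 6 4 = true := by
  decide +kernel

set_option maxRecDepth 100000 in
theorem ch_1_3_10_8_5 : enum 11 ck11 1 5 5808912 1323 6 5 = true := by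
  decide +kernel

set_option maxRecDepth 100000 in
theorem ch_1_3_10_8_6 : enum 11 ck11 1 5 6857488 1355 6 6 = true := by
  decide +kernel

set_option maxRecDepth 100000 in
theorem ch_1_3_10_8_7 : enum 11 ck11 1 5 7906064 1419 6 7 = true := by
  decide +kernel

set_option maxRecDepth 100000 in
theorem ch_1_3_10_8_9 : enum 11 ck11 1 5 10003216 1803 6 9 = true := by
  decide +kernel

theorem ch_1_3_10_8 : enum 11 ck11 1 6 566032 1291 5 8 = true := by
  refine enum_intro 11 ck11 1 5 566032 1291 5 8 ?_
  intro v hv hb hd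
  interval_cases v
  · exact absurd hb (by decide)
  · exact absurd hb (by decide)
  · exact ch_1_3_10_8_2
  · exact absurd hb (by decide)
  · exact ch_1_3_10_8_4
  · exact ch_1_3_10_8_5
  · exact ch_1_3_10_8_6
  · exact ch_1_3_10_8_7
  · exact absurd hb (by decide)
  · exact ch_1_3_10_8_9
  · exact absurd hb (by decide)

set_option maxRecDepth 100000 in
theorem ch_1_3_10_9_2 : enum 11 ck11 1 5 2728720 1551 6 2 = true := by
  decide +kernel

set_option maxRecDepth 100000 in
theorem ch_1_3_10_9_4 : enum 11 ck11 1 5 4825872 1563 6 4 = true := by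
  decide +kernel

set_option maxRecDepth 100000 in
theorem ch_1_3_10_9_5 : enum 11 ck11 1 5 5874448 1579 6 5 = true := by
  decide +kernel

set_option maxRecDepth 100000 in
theorem ch_1_3_10_9_6 : enum 11 ck11 1 5 6923024 1611 6 6 = true := by
  decide +kernel

set_option maxRecDepth 100000 in
theorem ch_1_3_10_9_7 : enum 11 ck11 1 5 7971600 1675 6 7 = true := by
  decide +kernel

set_option maxRecDepth 100000 in
theorem ch_1_3_10_9_8 : enum 11 ck11 1 5 9020176 1803 6 8 = true := by
  decide +kernel

theorem ch_1_3_10_9 : enum 11 ck11 1 6 631568 1547 5 9 = true := by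
  refine enum_intro 11 ck11 1 5 631568 1547 5 9 ?_
  intro v hv hb hd
  interval_cases v
  · exact absurd hb (by decide)
  · exact absurd hb (by decide)
  · exact ch_1_3_10_9_2
  · exact absurd hb (by decide)
  · exact ch_1_3_10_9_4
  · exact ch_1_3_10_9_5
  · exact ch_1_3_10_9_6
  · exact ch_1_3_10_9_7
  · exact ch_1_3_10_9_8
  · exact absurd hb (by decide)
  · exact absurd hb (by decide)

theorem ch_1_3_10 : enum 11 ck11 1 7 41744 1035 4 10 = true := by
  refine enum_intro 11 ck11 1 6 41744 1035 4 10 ?_
  intro v hv hb hd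
  interval_cases v
  · exact absurd hb (by decide)
  · exact absurd hb (by decide)
  · exact ch_1_3_10_2
  · exact absurd hb (by decide)
  · exact ch_1_3_10_4
  · exact ch_1_3_10_5
  · exact ch_1_3_10_6
  · exact ch_1_3_10_7
  · exact ch_1_3_10_8
  · exact ch_1_3_10_9
  · exact absurd hb (by decide)

end Cfsg.Agent.Helper9.T11
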