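import Mathlib
import Cfsg.Agent.Helper9.T11.Chk

set_option autoImplicit false
set_option Elab.async false

/-!
A part of the enumeration on 11 points: the test holds at every permutation of the part.
-/

namespace Cfsg.Agent.Helper9.T11

set_option maxRecDepth 100000 in
theorem ch_1_4_2_3_5 : enum 11 ck11 1 5 5448720 63 6 5 = true := by
  decide +kernel

set_option maxRecDepth 100000 in
theorem ch_1_4_2_3_6 : enum 11 ck11 1 5 6497296 95 6 6 = true := by
  decide +kernel

set_option maxRecDepth 100000 in
theorem ch_1_4_2_3_7 : enum 11 ck11 1 5 7545872 159 6 7 = true := by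
  decide +kernel

set_option maxRecDepth 100000 in
theorem ch_1_4_2_3_8 : enum 11 ck11 1 5 8594448 287 6 8 = true := by
  decide +kernel

set_option maxRecDepth 100000 in
theorem ch_1_4_2_3_9 : enum 11 ck11 1 5 9643024 543 6 9 = true := by
  decide +kernel

set_option maxRecDepth 100000 in
theorem ch_1_4_2_3_10 : enum 11 ck11 1 5 10691600 1055 6 10 = true := by
  decide +kernel

theorem ch_1_4_2_3 : enum 11 ck11 1 6 205840 31 5 3 = true := by
  refine enum_intro 11 ck11 1 5 205840 31 5 3 ?_
  intro v hv hb hd
  interval_cases v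
  · exact absurd hb (by decide)
  · exact absurd hb (by decide)
  · exact absurd hb (by decide)
  · exact absurd hb (by decide)
  · exact absurd hb (by decide)
  · exact ch_1_4_2_3_5
  · exact ch_1_4_2_3_6
  · exact ch_1_4_2_3_7
  · exact ch_1_4_2_3_8
  · exact ch_1_4_2_3_9
  · exact ch_1_4_2_3_10

set_option maxRecDepth 100000 in
theorem ch_1_4_2_5_3 : enum 11 ck11 1 5 3482640 63 6 3 = true := by
  decide +kernel

set_option maxRecDepth 100000 in
theorem ch_1_4_2_5_6 : enum 11 ck11 1 5 6628368 119 6 6 = true := by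
  decide +kernel

set_option maxRecDepth 100000 in
theorem ch_1_4_2_5_7 : enum 11 ck11 1 5 7676944 183 6 7 = true := by
  decide +kernel

set_option maxRecDepth 100000 in
theorem ch_1_4_2_5_8 : enum 11 ck11 1 5 8725520 311 6 8 = true := by
  decide +kernel

set_option maxRecDepth 100000 in
theorem ch_1_4_2_5_9 : enum 11 ck11 1 5 9774096 567 6 9 = true := by
  decide +kernel

set_option maxRecDepth 100000 in
theorem ch_1_4_2_5_10 : enum 11 ck11 1 5 10822672 1079 6 10 = true := by
  decide +kernel

theorem ch_1_4_2_5 : enum 11 ck11 1 6 336912 55 5 5 = true := by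
  refine enum_intro 11 ck11 1 5 336912 55 5 5 ?_
  intro v hv hb hd
  interval_cases v
  · exact absurd hb (by decide)
  · exact absurd hb (by decide)
  · exact absurd hb (by decide)
  · exact ch_1_4_2_5_3
  · exact absurd hb (by decide)
  · exact absurd hb (by decide)
  · exact ch_1_4_2_5_6
  · exact ch_1_4_2_5_7
  · exact ch_1_4_2_5_8
  · exact ch_1_4_2_5_9
  · exact ch_1_4_2_5_10

set_option maxRecDepth 100000 in
theorem ch_1_4_2_6_3 : enum 11 ck11 1 5 3548176 95 6 3 = true := by
  decide +kernel

set_option maxRecDepth 100000 in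
theorem ch_1_4_2_6_5 : enum 11 ck11 1 5 5645328 119 6 5 = true := by
  decide +kernel

set_option maxRecDepth 100000 in
theorem ch_1_4_2_6_7 : enum 11 ck11 1 5 7742480 215 6 7 = true := by
  decide +kernel

set_option maxRecDepth 100000 in
theorem ch_1_4_2_6_8 : enum 11 ck11 1 5 8791056 343 6 8 = true := by
  decide +kernel

set_option maxRecDepth 100000 in
theorem ch_1_4_2_6_9 : enum 11 ck11 1 5 9839632 599 6 9 = true := by
  decide +kernel

set_option maxRecDepth 100000 in
theorem ch_1_4_2_6_10 : enum 11 ck11 1 5 10888208 1111 6 10 = true := by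
  decide +kernel

theorem ch_1_4_2_6 : enum 11 ck11 1 6 402448 87 5 6 = true := by
  refine enum_intro 11 ck11 1 5 402448 87 5 6 ?_
  intro v hv hb hd
  interval_cases v
  · exact absurd hb (by decide)
  · exact absurd hb (by decide)
  · exact absurd hb (by decide)
  · exact ch_1_4_2_6_3
  · exact absurd hb (by decide)
  · exact ch_1_4_2_6_5
  · exact absurd hb (by decide)
  · exact ch_1_4_2_6_7
  · exact ch_1_4_2_6_8
  · exact ch_1_4_2_6_9
  · exact ch_1_4_2_6_10

set_option maxRecDepth 100000 in
theorem ch_1_4_2_7_3 : enum 11 ck11 1 5 3613712 159 6 3 = true := by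
  decide +kernel

set_option maxRecDepth 100000 in
theorem ch_1_4_2_7_5 : enum 11 ck11 1 5 5710864 183 6 5 = true := by
  decide +kernel

set_option maxRecDepth 100000 in
theorem ch_1_4_2_7_6 : enum 11 ck11 1 5 6759440 215 6 6 = true := by
  decide +kernel

set_option maxRecDepth 100000 in
theorem ch_1_4_2_7_8 : enum 11 ck11 1 5 8856592 407 6 8 = true := by
  decide +kernel

set_option maxRecDepth 100000 in
theorem ch_1_4_2_7_9 : enum 11 ck11 1 5 9905168 663 6 9 = true := by
  decide +kernel

set_option maxRecDepth 100000 in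
theorem ch_1_4_2_7_10 : enum 11 ck11 1 5 10953744 1175 6 10 = true := by
  decide +kernel

theorem ch_1_4_2_7 : enum 11 ck11 1 6 467984 151 5 7 = true := by
  refine enum_intro 11 ck11 1 5 467984 151 5 7 ?_
  intro v hv hb hd
  interval_cases v
  · exact absurd hb (by decide)
  · exact absurd hb (by decide)
  · exact absurd hb (by decide)
  · exact ch_1_4_2_7_3
  · exact absurd hb (by decide)
  · exact ch_1_4_2_7_5
  · exact ch_1_4_2_7_6
  · exact absurd hb (by decide)
  · exact ch_1_4_2_7_8
  · exact ch_1_4_2_7_9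
  · exact ch_1_4_2_7_10

set_option maxRecDepth 100000 in
theorem ch_1_4_2_8_3 : enum 11 ck11 1 5 3679248 287 6 3 = true := by
  decide +kernel

set_option maxRecDepth 100000 in
theorem ch_1_4_2_8_5 : enum 11 ck11 1 5 5776400 311 6 5 = true := by
  decide +kernel

set_option maxRecDepth 100000 in
theorem ch_1_4_2_8_6 : enum 11 ck11 1 5 6824976 343 6 6 = true := by
  decide +kernel

set_option maxRecDepth 100000 in
theorem ch_1_4_2_8_7 : enum 11 ck11 1 5 7873552 407 6 7 = true := by
  decide +kernel

set_option maxRecDepth 100000 in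
theorem ch_1_4_2_8_9 : enum 11 ck11 1 5 9970704 791 6 9 = true := by
  decide +kernel

set_option maxRecDepth 100000 in
theorem ch_1_4_2_8_10 : enum 11 ck11 1 5 11019280 1303 6 10 = true := by
  decide +kernel

theorem ch_1_4_2_8 : enum 11 ck11 1 6 533520 279 5 8 = true := by
  refine enum_intro 11 ck11 1 5 533520 279 5 8 ?_
  intro v hv hb hd
  interval_cases v
  · exact absurd hb (by decide)
  · exact absurd hb (by decide)
  · exact absurd hb (by decide)
  · exact ch_1_4_2_8_3
  · exact absurd hb (by decide)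
  · exact ch_1_4_2_8_5
  · exact ch_1_4_2_8_6
  · exact ch_1_4_2_8_7
  · exact absurd hb (by decide)
  · exact ch_1_4_2_8_9
  · exact ch_1_4_2_8_10

set_option maxRecDepth 100000 in
theorem ch_1_4_2_9_3 : enum 11 ck11 1 5 3744784 543 6 3 = true := by
  decide +kernel

set_option maxRecDepth 100000 in
theorem ch_1_4_2_9_5 : enum 11 ck11 1 5 5841936 567 6 5 = true := by
  decide +kernel

set_option maxRecDepth 100000 in
theorem ch_1_4_2_9_6 : enum 11 ck11 1 5 6890512 599 6 6 = true := by
  decide +kernel

set_option maxRecDepth 100000 in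
theorem ch_1_4_2_9_7 : enum 11 ck11 1 5 7939088 663 6 7 = true := by
  decide +kernel

set_option maxRecDepth 100000 in
theorem ch_1_4_2_9_8 : enum 11 ck11 1 5 8987664 791 6 8 = true := by
  decide +kernel

set_option maxRecDepth 100000 in
theorem ch_1_4_2_9_10 : enum 11 ck11 1 5 11084816 1559 6 10 = true := by
  decide +kernel

theorem ch_1_4_2_9 : enum 11 ck11 1 6 599056 535 5 9 = true := by
  refine enum_intro 11 ck11 1 5 599056 535 5 9 ?_
  intro v hv hb hd
  interval_cases v
  · exact absurd hb (by decide)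
  · exact absurd hb (by decide)
  · exact absurd hb (by decide)
  · exact ch_1_4_2_9_3
  · exact absurd hb (by decide)
  · exact ch_1_4_2_9_5
  · exact ch_1_4_2_9_6
  · exact ch_1_4_2_9_7
  · exact ch_1_4_2_9_8
  · exact absurd hb (by decide)
  · exact ch_1_4_2_9_10

set_option maxRecDepth 100000 in
theorem ch_1_4_2_10_3 : enum 11 ck11 1 5 3810320 1055 6 3 = true := by
  decide +kernel

set_option maxRecDepth 100000 in
theorem ch_1_4_2_10_5 : enum 11 ck11 1 5 5907472 1079 6 5 = true := by
  decide +kernel

set_option maxRecDepth 100000 in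
theorem ch_1_4_2_10_6 : enum 11 ck11 1 5 6956048 1111 6 6 = true := by
  decide +kernel

set_option maxRecDepth 100000 in
theorem ch_1_4_2_10_7 : enum 11 ck11 1 5 8004624 1175 6 7 = true := by
  decide +kernel

set_option maxRecDepth 100000 in
theorem ch_1_4_2_10_8 : enum 11 ck11 1 5 9053200 1303 6 8 = true := by
  decide +kernel

set_option maxRecDepth 100000 in
theorem ch_1_4_2_10_9 : enum 11 ck11 1 5 10101776 1559 6 9 = true := by
  decide +kernel

theorem ch_1_4_2_10 : enum 11 ck11 1 6 664592 1047 5 10 = true := by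
  refine enum_intro 11 ck11 1 5 664592 1047 5 10 ?_
  intro v hv hb hd
  interval_cases v
  · exact absurd hb (by decide)
  · exact absurd hb (by decide)
  · exact absurd hb (by decide)
  · exact ch_1_4_2_10_3
  · exact absurd hb (by decide)
  · exact ch_1_4_2_10_5
  · exact ch_1_4_2_10_6
  · exact ch_1_4_2_10_7
  · exact ch_1_4_2_10_8
  · exact ch_1_4_2_10_9
  · exact absurd hb (by decide)

theorem ch_1_4_2 : enum 11 ck11 1 7 9232 23 4 2 = true := by
  refine enum_intro 11 ck11 1 6 9232 23 4 2 ?_
  intro v hv hb hd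
  interval_cases v
  · exact absurd hb (by decide)
  · exact absurd hb (by decide)
  · exact absurd hb (by decide)
  · exact ch_1_4_2_3
  · exact absurd hb (by decide)
  · exact ch_1_4_2_5
  · exact ch_1_4_2_6
  · exact ch_1_4_2_7
  · exact ch_1_4_2_8
  · exact ch_1_4_2_9
  · exact ch_1_4_2_10

set_option maxRecDepth 100000 in
theorem ch_1_4_3_2_5 : enum 11 ck11 1 5 5387280 63 6 5 = true := by
  decide +kernel

set_option maxRecDepth 100000 in
theorem ch_1_4_3_2_6 : enum 11 ck11 1 5 6435856 95 6 6 = true := by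
  decide +kernel

set_option maxRecDepth 100000 in
theorem ch_1_4_3_2_7 : enum 11 ck11 1 5 7484432 159 6 7 = true := by
  decide +kernel

set_option maxRecDepth 100000 in
theorem ch_1_4_3_2_8 : enum 11 ck11 1 5 8533008 287 6 8 = true := by
  decide +kernel

set_option maxRecDepth 100000 in
theorem ch_1_4_3_2_9 : enum 11 ck11 1 5 9581584 543 6 9 = true := by
  decide +kernel

set_option maxRecDepth 100000 in
theorem ch_1_4_3_2_10 : enum 11 ck11 1 5 10630160 1055 6 10 = true := by
  decide +kernel

theorem ch_1_4_3_2 : enum 11 ck11 1 6 144400 31 5 2 = true := by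
  refine enum_intro 11 ck11 1 5 144400 31 5 2 ?_
  intro v hv hb hd
  interval_cases v
  · exact absurd hb (by decide)
  · exact absurd hb (by decide)
  · exact absurd hb (by decide)
  · exact absurd hb (by decide)
  · exact absurd hb (by decide)
  · exact ch_1_4_3_2_5
  · exact ch_1_4_3_2_6
  · exact ch_1_4_3_2_7
  · exact ch_1_4_3_2_8
  · exact ch_1_4_3_2_9
  · exact ch_1_4_3_2_10

set_option maxRecDepth 100000 in
theorem ch_1_4_3_5_2 : enum 11 ck11 1 5 2438160 63 6 2 = true := by
  decide +kernel

set_option maxRecDepth 100000 in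
theorem ch_1_4_3_5_6 : enum 11 ck11 1 5 6632464 123 6 6 = true := by
  decide +kernel

set_option maxRecDepth 100000 in
theorem ch_1_4_3_5_7 : enum 11 ck11 1 5 7681040 187 6 7 = true := by
  decide +kernel

set_option maxRecDepth 100000 in
theorem ch_1_4_3_5_8 : enum 11 ck11 1 5 8729616 315 6 8 = true := by
  decide +kernel

set_option maxRecDepth 100000 in
theorem ch_1_4_3_5_9 : enum 11 ck11 1 5 9778192 571 6 9 = true := by
  decide +kernel

set_option maxRecDepth 100000 in
theorem ch_1_4_3_5_10 : enum 11 ck11 1 5 10826768 1083 6 10 = true := by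
  decide +kernel

theorem ch_1_4_3_5 : enum 11 ck11 1 6 341008 59 5 5 = true := by
  refine enum_intro 11 ck11 1 5 341008 59 5 5 ?_
  intro v hv hb hd
  interval_cases v
  · exact absurd hb (by decide)
  · exact absurd hb (by decide)
  · exact ch_1_4_3_5_2
  · exact absurd hb (by decide)
  · exact absurd hb (by decide)
  · exact absurd hb (by decide)
  · exact ch_1_4_3_5_6
  · exact ch_1_4_3_5_7
  · exact ch_1_4_3_5_8
  · exact ch_1_4_3_5_9
  · exact ch_1_4_3_5_10

set_option maxRecDepth 100000 in
theorem ch_1_4_3_6_2 : enum 11 ck11 1 5 2503696 95 6 2 = true := by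
  decide +kernel

set_option maxRecDepth 100000 in
theorem ch_1_4_3_6_5 : enum 11 ck11 1 5 5649424 123 6 5 = true := by
  decide +kernel

set_option maxRecDepth 100000 in
theorem ch_1_4_3_6_7 : enum 11 ck11 1 5 7746576 219 6 7 = true := by
  decide +kernel

set_option maxRecDepth 100000 in
theorem ch_1_4_3_6_8 : enum 11 ck11 1 5 8795152 347 6 8 = true := by
  decide +kernel

set_option maxRecDepth 100000 in
theorem ch_1_4_3_6_9 : enum 11 ck11 1 5 9843728 603 6 9 = true := by
  decide +kernel

set_option maxRecDepth 100000 in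
theorem ch_1_4_3_6_10 : enum 11 ck11 1 5 10892304 1115 6 10 = true := by
  decide +kernel

theorem ch_1_4_3_6 : enum 11 ck11 1 6 406544 91 5 6 = true := by
  refine enum_intro 11 ck11 1 5 406544 91 5 6 ?_
  intro v hv hb hd
  interval_cases v
  · exact absurd hb (by decide)
  · exact absurd hb (by decide)
  · exact ch_1_4_3_6_2
  · exact absurd hb (by decide)
  · exact absurd hb (by decide)
  · exact ch_1_4_3_6_5
  · exact absurd hb (by decide)
  · exact ch_1_4_3_6_7
  · exact ch_1_4_3_6_8
  · exact ch_1_4_3_6_9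
  · exact ch_1_4_3_6_10

set_option maxRecDepth 100000 in
theorem ch_1_4_3_7_2 : enum 11 ck11 1 5 2569232 159 6 2 = true := by
  decide +kernel

set_option maxRecDepth 100000 in
theorem ch_1_4_3_7_5 : enum 11 ck11 1 5 5714960 187 6 5 = true := by
  decide +kernel

set_option maxRecDepth 100000 in
theorem ch_1_4_3_7_6 : enum 11 ck11 1 5 6763536 219 6 6 = true := by
  decide +kernel

set_option maxRecDepth 100000 in
theorem ch_1_4_3_7_8 : enum 11 ck11 1 5 8860688 411 6 8 = true := by
  decide +kernel

set_option maxRecDepth 100000 in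
theorem ch_1_4_3_7_9 : enum 11 ck11 1 5 9909264 667 6 9 = true := by
  decide +kernel

set_option maxRecDepth 100000 in
theorem ch_1_4_3_7_10 : enum 11 ck11 1 5 10957840 1179 6 10 = true := by
  decide +kernel

theorem ch_1_4_3_7 : enum 11 ck11 1 6 472080 155 5 7 = true := by
  refine enum_intro 11 ck11 1 5 472080 155 5 7 ?_
  intro v hv hb hd
  interval_cases v
  · exact absurd hb (by decide)
  · exact absurd hb (by decide)
  · exact ch_1_4_3_7_2
  · exact absurd hb (by decide)
  · exact absurd hb (by decide)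
  · exact ch_1_4_3_7_5
  · exact ch_1_4_3_7_6
  · exact absurd hb (by decide)
  · exact ch_1_4_3_7_8
  · exact ch_1_4_3_7_9
  · exact ch_1_4_3_7_10

set_option maxRecDepth 100000 in
theorem ch_1_4_3_8_2 : enum 11 ck11 1 5 2634768 287 6 2 = true := by
  decide +kernel

set_option maxRecDepth 100000 in
theorem ch_1_4_3_8_5 : enum 11 ck11 1 5 5780496 315 6 5 = true := by
  decide +kernel

set_option maxRecDepth 100000 in
theorem ch_1_4_3_8_6 : enum 11 ck11 1 5 6829072 347 6 6 = true := by
  decide +kernel

set_option maxRecDepth 100000 in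
theorem ch_1_4_3_8_7 : enum 11 ck11 1 5 7877648 411 6 7 = true := by
  decide +kernel

set_option maxRecDepth 100000 in
theorem ch_1_4_3_8_9 : enum 11 ck11 1 5 9974800 795 6 9 = true := by
  decide +kernel

set_option maxRecDepth 100000 in
theorem ch_1_4_3_8_10 : enum 11 ck11 1 5 11023376 1307 6 10 = true := by
  decide +kernel

theorem ch_1_4_3_8 : enum 11 ck11 1 6 537616 283 5 8 = true := by
  refine enum_intro 11 ck11 1 5 537616 283 5 8 ?_
  intro v hv hb hd
  interval_cases v
  · exact absurd hb (by decide)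
  · exact absurd hb (by decide)
  · exact ch_1_4_3_8_2
  · exact absurd hb (by decide)
  · exact absurd hb (by decide)
  · exact ch_1_4_3_8_5
  · exact ch_1_4_3_8_6
  · exact ch_1_4_3_8_7
  · exact absurd hb (by decide)
  · exact ch_1_4_3_8_9
  · exact ch_1_4_3_8_10

set_option maxRecDepth 100000 in
theorem ch_1_4_3_9_2 : enum 11 ck11 1 5 2700304 543 6 2 = true := by
  decide +kernel

set_option maxRecDepth 100000 in
theorem ch_1_4_3_9_5 : enum 11 ck11 1 5 5846032 571 6 5 = true := by
  decide +kernel

set_option maxRecDepth 100000 in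
theorem ch_1_4_3_9_6 : enum 11 ck11 1 5 6894608 603 6 6 = true := by
  decide +kernel

set_option maxRecDepth 100000 in
theorem ch_1_4_3_9_7 : enum 11 ck11 1 5 7943184 667 6 7 = true := by
  decide +kernel

set_option maxRecDepth 100000 in
theorem ch_1_4_3_9_8 : enum 11 ck11 1 5 8991760 795 6 8 = true := by
  decide +kernel

set_option maxRecDepth 100000 in
theorem ch_1_4_3_9_10 : enum 11 ck11 1 5 11088912 1563 6 10 = true := by
  decide +kernel

theorem ch_1_4_3_9 : enum 11 ck11 1 6 603152 539 5 9 = true := by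
  refine enum_intro 11 ck11 1 5 603152 539 5 9 ?_
  intro v hv hb hd
  interval_cases v
  · exact absurd hb (by decide)
  · exact absurd hb (by decide)
  · exact ch_1_4_3_9_2
  · exact absurd hb (by decide)
  · exact absurd hb (by decide)
  · exact ch_1_4_3_9_5
  · exact ch_1_4_3_9_6
  · exact ch_1_4_3_9_7
  · exact ch_1_4_3_9_8
  · exact absurd hb (by decide)
  · exact ch_1_4_3_9_10

set_option maxRecDepth 100000 in
theorem ch_1_4_3_10_2 : enum 11 ck11 1 5 2765840 1055 6 2 = true := by
  decide +kernel

set_option maxRecDepth 100000 in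
theorem ch_1_4_3_10_5 : enum 11 ck11 1 5 5911568 1083 6 5 = true := by
  decide +kernel

set_option maxRecDepth 100000 in
theorem ch_1_4_3_10_6 : enum 11 ck11 1 5 6960144 1115 6 6 = true := by
  decide +kernel

set_option maxRecDepth 100000 in
theorem ch_1_4_3_10_7 : enum 11 ck11 1 5 8008720 1179 6 7 = true := by
  decide +kernel

set_option maxRecDepth 100000 in
theorem ch_1_4_3_10_8 : enum 11 ck11 1 5 9057296 1307 6 8 = true := by
  decide +kernel

set_option maxRecDepth 100000 in
theorem ch_1_4_3_10_9 : enum 11 ck11 1 5 10105872 1563 6 9 = true := by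
  decide +kernel

theorem ch_1_4_3_10 : enum 11 ck11 1 6 668688 1051 5 10 = true := by
  refine enum_intro 11 ck11 1 5 668688 1051 5 10 ?_
  intro v hv hb hd
  interval_cases v
  · exact absurd hb (by decide)
  · exact absurd hb (by decide)
  · exact ch_1_4_3_10_2
  · exact absurd hb (by decide)
  · exact absurd hb (by decide)
  · exact ch_1_4_3_10_5
  · exact ch_1_4_3_10_6
  · exact ch_1_4_3_10_7
  · exact ch_1_4_3_10_8
  · exact ch_1_4_3_10_9
  · exact absurd hb (by decide)

theorem ch_1_4_3 : enum 11 ck11 1 7 13328 27 4 3 = true := by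
  refine enum_intro 11 ck11 1 6 13328 27 4 3 ?_
  intro v hv hb hd
  interval_cases v
  · exact absurd hb (by decide)
  · exact absurd hb (by decide)
  · exact ch_1_4_3_2
  · exact absurd hb (by decide)
  · exact absurd hb (by decide)
  · exact ch_1_4_3_5
  · exact ch_1_4_3_6
  · exact ch_1_4_3_7
  · exact ch_1_4_3_8
  · exact ch_1_4_3_9
  · exact ch_1_4_3_10

set_option maxRecDepth 100000 in
theorem ch_1_4_5_2_3 : enum 11 ck11 1 5 3298320 63 6 3 = true := by
  decide +kernel

set_option maxRecDepth 100000 in
theorem ch_1_4_5_2_6 : enum 11 ck11 1 5 6444048 119 6 6 = true := by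
  decide +kernel

set_option maxRecDepth 100000 in
theorem ch_1_4_5_2_7 : enum 11 ck11 1 5 7492624 183 6 7 = true := by
  decide +kernel

set_option maxRecDepth 100000 in
theorem ch_1_4_5_2_8 : enum 11 ck11 1 5 8541200 311 6 8 = true := by
  decide +kernel

set_option maxRecDepth 100000 in
theorem ch_1_4_5_2_9 : enum 11 ck11 1 5 9589776 567 6 9 = true := by
  decide +kernel

set_option maxRecDepth 100000 in
theorem ch_1_4_5_2_10 : enum 11 ck11 1 5 10638352 1079 6 10 = true := by
  decide +kernel

theorem ch_1_4_5_2 : enum 11 ck11 1 6 152592 55 5 2 = true := by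
  refine enum_intro 11 ck11 1 5 152592 55 5 2 ?_
  intro v hv hb hd
  interval_cases v
  · exact absurd hb (by decide)
  · exact absurd hb (by decide)
  · exact absurd hb (by decide)
  · exact ch_1_4_5_2_3
  · exact absurd hb (by decide)
  · exact absurd hb (by decide)
  · exact ch_1_4_5_2_6
  · exact ch_1_4_5_2_7
  · exact ch_1_4_5_2_8
  · exact ch_1_4_5_2_9
  · exact ch_1_4_5_2_10

set_option maxRecDepth 100000 in
theorem ch_1_4_5_3_2 : enum 11 ck11 1 5 2315280 63 6 2 = true := by
  decide +kernel

set_option maxRecDepth 100000 in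
theorem ch_1_4_5_3_6 : enum 11 ck11 1 5 6509584 123 6 6 = true := by
  decide +kernel

set_option maxRecDepth 100000 in
theorem ch_1_4_5_3_7 : enum 11 ck11 1 5 7558160 187 6 7 = true := by
  decide +kernel

set_option maxRecDepth 100000 in
theorem ch_1_4_5_3_8 : enum 11 ck11 1 5 8606736 315 6 8 = true := by
  decide +kernel

set_option maxRecDepth 100000 in
theorem ch_1_4_5_3_9 : enum 11 ck11 1 5 9655312 571 6 9 = true := by
  decide +kernel

set_option maxRecDepth 100000 in
theorem ch_1_4_5_3_10 : enum 11 ck11 1 5 10703888 1083 6 10 = true := by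
  decide +kernel

theorem ch_1_4_5_3 : enum 11 ck11 1 6 218128 59 5 3 = true := by
  refine enum_intro 11 ck11 1 5 218128 59 5 3 ?_
  intro v hv hb hd
  interval_cases v
  · exact absurd hb (by decide)
  · exact absurd hb (by decide)
  · exact ch_1_4_5_3_2
  · exact absurd hb (by decide)
  · exact absurd hb (by decide)
  · exact absurd hb (by decide)
  · exact ch_1_4_5_3_6
  · exact ch_1_4_5_3_7
  · exact ch_1_4_5_3_8
  · exact ch_1_4_5_3_9
  · exact ch_1_4_5_3_10

set_option maxRecDepth 100000 in
theorem ch_1_4_5_6_2 : enum 11 ck11 1 5 2511888 119 6 2 = true := by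
  decide +kernel

set_option maxRecDepth 100000 in
theorem ch_1_4_5_6_3 : enum 11 ck11 1 5 3560464 123 6 3 = true := by
  decide +kernel

set_option maxRecDepth 100000 in
theorem ch_1_4_5_6_7 : enum 11 ck11 1 5 7754768 243 6 7 = true := by
  decide +kernel

set_option maxRecDepth 100000 in
theorem ch_1_4_5_6_8 : enum 11 ck11 1 5 8803344 371 6 8 = true := by
  decide +kernel

set_option maxRecDepth 100000 in
theorem ch_1_4_5_6_9 : enum 11 ck11 1 5 9851920 627 6 9 = true := by
  decide +kernel

set_option maxRecDepth 100000 in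
theorem ch_1_4_5_6_10 : enum 11 ck11 1 5 10900496 1139 6 10 = true := by
  decide +kernel

theorem ch_1_4_5_6 : enum 11 ck11 1 6 414736 115 5 6 = true := by
  refine enum_intro 11 ck11 1 5 414736 115 5 6 ?_
  intro v hv hb hd
  interval_cases v
  · exact absurd hb (by decide)
  · exact absurd hb (by decide)
  · exact ch_1_4_5_6_2
  · exact ch_1_4_5_6_3
  · exact absurd hb (by decide)
  · exact absurd hb (by decide)
  · exact absurd hb (by decide)
  · exact ch_1_4_5_6_7
  · exact ch_1_4_5_6_8
  · exact ch_1_4_5_6_9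
  · exact ch_1_4_5_6_10

set_option maxRecDepth 100000 in
theorem ch_1_4_5_7_2 : enum 11 ck11 1 5 2577424 183 6 2 = true := by
  decide +kernel

set_option maxRecDepth 100000 in
theorem ch_1_4_5_7_3 : enum 11 ck11 1 5 3626000 187 6 3 = true := by
  decide +kernel

set_option maxRecDepth 100000 in
theorem ch_1_4_5_7_6 : enum 11 ck11 1 5 6771728 243 6 6 = true := by
  decide +kernel

set_option maxRecDepth 100000 in
theorem ch_1_4_5_7_8 : enum 11 ck11 1 5 8868880 435 6 8 = true := by
  decide +kernel

set_option maxRecDepth 100000 in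
theorem ch_1_4_5_7_9 : enum 11 ck11 1 5 9917456 691 6 9 = true := by
  decide +kernel

set_option maxRecDepth 100000 in
theorem ch_1_4_5_7_10 : enum 11 ck11 1 5 10966032 1203 6 10 = true := by
  decide +kernel

theorem ch_1_4_5_7 : enum 11 ck11 1 6 480272 179 5 7 = true := by
  refine enum_intro 11 ck11 1 5 480272 179 5 7 ?_
  intro v hv hb hd
  interval_cases v
  · exact absurd hb (by decide)
  · exact absurd hb (by decide)
  · exact ch_1_4_5_7_2
  · exact ch_1_4_5_7_3
  · exact absurd hb (by decide)
  · exact absurd hb (by decide)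
  · exact ch_1_4_5_7_6
  · exact absurd hb (by decide)
  · exact ch_1_4_5_7_8
  · exact ch_1_4_5_7_9
  · exact ch_1_4_5_7_10

set_option maxRecDepth 100000 in
theorem ch_1_4_5_8_2 : enum 11 ck11 1 5 2642960 311 6 2 = true := by
  decide +kernel

set_option maxRecDepth 100000 in
theorem ch_1_4_5_8_3 : enum 11 ck11 1 5 3691536 315 6 3 = true := by
  decide +kernel

set_option maxRecDepth 100000 in
theorem ch_1_4_5_8_6 : enum 11 ck11 1 5 6837264 371 6 6 = true := by
  decide +kernel

set_option maxRecDepth 100000 in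
theorem ch_1_4_5_8_7 : enum 11 ck11 1 5 7885840 435 6 7 = true := by
  decide +kernel

set_option maxRecDepth 100000 in
theorem ch_1_4_5_8_9 : enum 11 ck11 1 5 9982992 819 6 9 = true := by
  decide +kernel

set_option maxRecDepth 100000 in
theorem ch_1_4_5_8_10 : enum 11 ck11 1 5 11031568 1331 6 10 = true := by
  decide +kernel

theorem ch_1_4_5_8 : enum 11 ck11 1 6 545808 307 5 8 = true := by
  refine enum_intro 11 ck11 1 5 545808 307 5 8 ?_
  intro v hv hb hd
  interval_cases v
  · exact absurd hb (by decide)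
  · exact absurd hb (by decide)
  · exact ch_1_4_5_8_2
  · exact ch_1_4_5_8_3
  · exact absurd hb (by decide)
  · exact absurd hb (by decide)
  · exact ch_1_4_5_8_6
  · exact ch_1_4_5_8_7
  · exact absurd hb (by decide)
  · exact ch_1_4_5_8_9
  · exact ch_1_4_5_8_10

set_option maxRecDepth 100000 in
theorem ch_1_4_5_9_2 : enum 11 ck11 1 5 2708496 567 6 2 = true := by
  decide +kernel

set_option maxRecDepth 100000 in
theorem ch_1_4_5_9_3 : enum 11 ck11 1 5 3757072 571 6 3 = true := by
  decide +kernel

set_option maxRecDepth 100000 in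
theorem ch_1_4_5_9_6 : enum 11 ck11 1 5 6902800 627 6 6 = true := by
  decide +kernel

set_option maxRecDepth 100000 in
theorem ch_1_4_5_9_7 : enum 11 ck11 1 5 7951376 691 6 7 = true := by
  decide +kernel

set_option maxRecDepth 100000 in
theorem ch_1_4_5_9_8 : enum 11 ck11 1 5 8999952 819 6 8 = true := by
  decide +kernel

set_option maxRecDepth 100000 in
theorem ch_1_4_5_9_10 : enum 11 ck11 1 5 11097104 1587 6 10 = true := by
  decide +kernel

theorem ch_1_4_5_9 : enum 11 ck11 1 6 611344 563 5 9 = true := by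
  refine enum_intro 11 ck11 1 5 611344 563 5 9 ?_
  intro v hv hb hd
  interval_cases v
  · exact absurd hb (by decide)
  · exact absurd hb (by decide)
  · exact ch_1_4_5_9_2
  · exact ch_1_4_5_9_3
  · exact absurd hb (by decide)
  · exact absurd hb (by decide)
  · exact ch_1_4_5_9_6
  · exact ch_1_4_5_9_7
  · exact ch_1_4_5_9_8
  · exact absurd hb (by decide)
  · exact ch_1_4_5_9_10

set_option maxRecDepth 100000 in
theorem ch_1_4_5_10_2 : enum 11 ck11 1 5 2774032 1079 6 2 = true := by
  decide +kernel

set_option maxRecDepth 100000 in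
theorem ch_1_4_5_10_3 : enum 11 ck11 1 5 3822608 1083 6 3 = true := by
  decide +kernel

set_option maxRecDepth 100000 in
theorem ch_1_4_5_10_6 : enum 11 ck11 1 5 6968336 1139 6 6 = true := by
  decide +kernel

set_option maxRecDepth 100000 in
theorem ch_1_4_5_10_7 : enum 11 ck11 1 5 8016912 1203 6 7 = true := by
  decide +kernel

set_option maxRecDepth 100000 in
theorem ch_1_4_5_10_8 : enum 11 ck11 1 5 9065488 1331 6 8 = true := by
  decide +kernel

set_option maxRecDepth 100000 in
theorem ch_1_4_5_10_9 : enum 11 ck11 1 5 10114064 1587 6 9 = true := by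
  decide +kernel

theorem ch_1_4_5_10 : enum 11 ck11 1 6 676880 1075 5 10 = true := by
  refine enum_intro 11 ck11 1 5 676880 1075 5 10 ?_
  intro v hv hb hd
  interval_cases v
  · exact absurd hb (by decide)
  · exact absurd hb (by decide)
  · exact ch_1_4_5_10_2
  · exact ch_1_4_5_10_3
  · exact absurd hb (by decide)
  · exact absurd hb (by decide)
  · exact ch_1_4_5_10_6
  · exact ch_1_4_5_10_7
  · exact ch_1_4_5_10_8
  · exact ch_1_4_5_10_9
  · exact absurd hb (by decide)

theorem ch_1_4_5 : enum 11 ck11 1 7 21520 51 4 5 = true := by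
  refine enum_intro 11 ck11 1 6 21520 51 4 5 ?_
  intro v hv hb hd
  interval_cases v
  · exact absurd hb (by decide)
  · exact absurd hb (by decide)
  · exact ch_1_4_5_2
  · exact ch_1_4_5_3
  · exact absurd hb (by decide)
  · exact absurd hb (by decide)
  · exact ch_1_4_5_6
  · exact ch_1_4_5_7
  · exact ch_1_4_5_8
  · exact ch_1_4_5_9
  · exact ch_1_4_5_10

end Cfsg.Agent.Helper9.T11
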