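import Mathlib
import Cfsg.Agent.Helper9.T11.Chk

set_option autoImplicit false
set_option Elab.async false

/-!
A part of the enumeration on 11 points: the test holds at every permutation of the part.
-/

namespace Cfsg.Agent.Helper9.T11

set_option maxRecDepth 100000 in
theorem ch_1_4_6_2_3 : enum 11 ck11 1 5 3302416 95 6 3 = true := by
  decide +kernel

set_option maxRecDepth 100000 in
theorem ch_1_4_6_2_5 : enum 11 ck11 1 5 5399568 119 6 5 = true := by
  decide +kernel

set_option maxRecDepth 100000 in
theorem ch_1_4_6_2_7 : enum 11 ck11 1 5 7496720 215 6 7 = true := by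
  decide +kernel

set_option maxRecDepth 100000 in
theorem ch_1_4_6_2_8 : enum 11 ck11 1 5 8545296 343 6 8 = true := by
  decide +kernel

set_option maxRecDepth 100000 in
theorem ch_1_4_6_2_9 : enum 11 ck11 1 5 9593872 599 6 9 = true := by
  decide +kernel

set_option maxRecDepth 100000 in
theorem ch_1_4_6_2_10 : enum 11 ck11 1 5 10642448 1111 6 10 = true := by
  decide +kernel

theorem ch_1_4_6_2 : enum 11 ck11 1 6 156688 87 5 2 = true := by
  refine enum_intro 11 ck11 1 5 156688 87 5 2 ?_
  intro v hv hb hd
  interval_cases v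
  · exact absurd hb (by decide)
  · exact absurd hb (by decide)
  · exact absurd hb (by decide)
  · exact ch_1_4_6_2_3
  · exact absurd hb (by decide)
  · exact ch_1_4_6_2_5
  · exact absurd hb (by decide)
  · exact ch_1_4_6_2_7
  · exact ch_1_4_6_2_8
  · exact ch_1_4_6_2_9
  · exact ch_1_4_6_2_10

set_option maxRecDepth 100000 in
theorem ch_1_4_6_3_2 : enum 11 ck11 1 5 2319376 95 6 2 = true := by
  decide +kernel

set_option maxRecDepth 100000 in
theorem ch_1_4_6_3_5 : enum 11 ck11 1 5 5465104 123 6 5 = true := by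
  decide +kernel

set_option maxRecDepth 100000 in
theorem ch_1_4_6_3_7 : enum 11 ck11 1 5 7562256 219 6 7 = true := by
  decide +kernel

set_option maxRecDepth 100000 in
theorem ch_1_4_6_3_8 : enum 11 ck11 1 5 8610832 347 6 8 = true := by
  decide +kernel

set_option maxRecDepth 100000 in
theorem ch_1_4_6_3_9 : enum 11 ck11 1 5 9659408 603 6 9 = true := by
  decide +kernel

set_option maxRecDepth 100000 in
theorem ch_1_4_6_3_10 : enum 11 ck11 1 5 10707984 1115 6 10 = true := by
  decide +kernel

theorem ch_1_4_6_3 : enum 11 ck11 1 6 222224 91 5 3 = true := by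
  refine enum_intro 11 ck11 1 5 222224 91 5 3 ?_
  intro v hv hb hd
  interval_cases v
  · exact absurd hb (by decide)
  · exact absurd hb (by decide)
  · exact ch_1_4_6_3_2
  · exact absurd hb (by decide)
  · exact absurd hb (by decide)
  · exact ch_1_4_6_3_5
  · exact absurd hb (by decide)
  · exact ch_1_4_6_3_7
  · exact ch_1_4_6_3_8
  · exact ch_1_4_6_3_9
  · exact ch_1_4_6_3_10

set_option maxRecDepth 100000 in
theorem ch_1_4_6_5_2 : enum 11 ck11 1 5 2450448 119 6 2 = true := by
  decide +kernel

set_option maxRecDepth 100000 in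
theorem ch_1_4_6_5_3 : enum 11 ck11 1 5 3499024 123 6 3 = true := by
  decide +kernel

set_option maxRecDepth 100000 in
theorem ch_1_4_6_5_7 : enum 11 ck11 1 5 7693328 243 6 7 = true := by
  decide +kernel

set_option maxRecDepth 100000 in
theorem ch_1_4_6_5_8 : enum 11 ck11 1 5 8741904 371 6 8 = true := by
  decide +kernel

set_option maxRecDepth 100000 in
theorem ch_1_4_6_5_9 : enum 11 ck11 1 5 9790480 627 6 9 = true := by
  decide +kernel

set_option maxRecDepth 100000 in
theorem ch_1_4_6_5_10 : enum 11 ck11 1 5 10839056 1139 6 10 = true := by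
  decide +kernel

theorem ch_1_4_6_5 : enum 11 ck11 1 6 353296 115 5 5 = true := by
  refine enum_intro 11 ck11 1 5 353296 115 5 5 ?_
  intro v hv hb hd
  interval_cases v
  · exact absurd hb (by decide)
  · exact absurd hb (by decide)
  · exact ch_1_4_6_5_2
  · exact ch_1_4_6_5_3
  · exact absurd hb (by decide)
  · exact absurd hb (by decide)
  · exact absurd hb (by decide)
  · exact ch_1_4_6_5_7
  · exact ch_1_4_6_5_8
  · exact ch_1_4_6_5_9
  · exact ch_1_4_6_5_10

set_option maxRecDepth 100000 in
theorem ch_1_4_6_7_2 : enum 11 ck11 1 5 2581520 215 6 2 = true := by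
  decide +kernel

set_option maxRecDepth 100000 in
theorem ch_1_4_6_7_3 : enum 11 ck11 1 5 3630096 219 6 3 = true := by
  decide +kernel

set_option maxRecDepth 100000 in
theorem ch_1_4_6_7_5 : enum 11 ck11 1 5 5727248 243 6 5 = true := by
  decide +kernel

set_option maxRecDepth 100000 in
theorem ch_1_4_6_7_8 : enum 11 ck11 1 5 8872976 467 6 8 = true := by
  decide +kernel

set_option maxRecDepth 100000 in
theorem ch_1_4_6_7_9 : enum 11 ck11 1 5 9921552 723 6 9 = true := by
  decide +kernel

set_option maxRecDepth 100000 in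
theorem ch_1_4_6_7_10 : enum 11 ck11 1 5 10970128 1235 6 10 = true := by
  decide +kernel

theorem ch_1_4_6_7 : enum 11 ck11 1 6 484368 211 5 7 = true := by
  refine enum_intro 11 ck11 1 5 484368 211 5 7 ?_
  intro v hv hb hd
  interval_cases v
  · exact absurd hb (by decide)
  · exact absurd hb (by decide)
  · exact ch_1_4_6_7_2
  · exact ch_1_4_6_7_3
  · exact absurd hb (by decide)
  · exact ch_1_4_6_7_5
  · exact absurd hb (by decide)
  · exact absurd hb (by decide)
  · exact ch_1_4_6_7_8
  · exact ch_1_4_6_7_9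
  · exact ch_1_4_6_7_10

set_option maxRecDepth 100000 in
theorem ch_1_4_6_8_2 : enum 11 ck11 1 5 2647056 343 6 2 = true := by
  decide +kernel

set_option maxRecDepth 100000 in
theorem ch_1_4_6_8_3 : enum 11 ck11 1 5 3695632 347 6 3 = true := by
  decide +kernel

set_option maxRecDepth 100000 in
theorem ch_1_4_6_8_5 : enum 11 ck11 1 5 5792784 371 6 5 = true := by
  decide +kernel

set_option maxRecDepth 100000 in
theorem ch_1_4_6_8_7 : enum 11 ck11 1 5 7889936 467 6 7 = true := by
  decide +kernel

set_option maxRecDepth 100000 in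
theorem ch_1_4_6_8_9 : enum 11 ck11 1 5 9987088 851 6 9 = true := by
  decide +kernel

set_option maxRecDepth 100000 in
theorem ch_1_4_6_8_10 : enum 11 ck11 1 5 11035664 1363 6 10 = true := by
  decide +kernel

theorem ch_1_4_6_8 : enum 11 ck11 1 6 549904 339 5 8 = true := by
  refine enum_intro 11 ck11 1 5 549904 339 5 8 ?_
  intro v hv hb hd
  interval_cases v
  · exact absurd hb (by decide)
  · exact absurd hb (by decide)
  · exact ch_1_4_6_8_2
  · exact ch_1_4_6_8_3
  · exact absurd hb (by decide)
  · exact ch_1_4_6_8_5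
  · exact absurd hb (by decide)
  · exact ch_1_4_6_8_7
  · exact absurd hb (by decide)
  · exact ch_1_4_6_8_9
  · exact ch_1_4_6_8_10

set_option maxRecDepth 100000 in
theorem ch_1_4_6_9_2 : enum 11 ck11 1 5 2712592 599 6 2 = true := by
  decide +kernel

set_option maxRecDepth 100000 in
theorem ch_1_4_6_9_3 : enum 11 ck11 1 5 3761168 603 6 3 = true := by
  decide +kernel

set_option maxRecDepth 100000 in
theorem ch_1_4_6_9_5 : enum 11 ck11 1 5 5858320 627 6 5 = true := by
  decide +kernel

set_option maxRecDepth 100000 in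
theorem ch_1_4_6_9_7 : enum 11 ck11 1 5 7955472 723 6 7 = true := by
  decide +kernel

set_option maxRecDepth 100000 in
theorem ch_1_4_6_9_8 : enum 11 ck11 1 5 9004048 851 6 8 = true := by
  decide +kernel

set_option maxRecDepth 100000 in
theorem ch_1_4_6_9_10 : enum 11 ck11 1 5 11101200 1619 6 10 = true := by
  decide +kernel

theorem ch_1_4_6_9 : enum 11 ck11 1 6 615440 595 5 9 = true := by
  refine enum_intro 11 ck11 1 5 615440 595 5 9 ?_
  intro v hv hb hd
  interval_cases v
  · exact absurd hb (by decide)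
  · exact absurd hb (by decide)
  · exact ch_1_4_6_9_2
  · exact ch_1_4_6_9_3
  · exact absurd hb (by decide)
  · exact ch_1_4_6_9_5
  · exact absurd hb (by decide)
  · exact ch_1_4_6_9_7
  · exact ch_1_4_6_9_8
  · exact absurd hb (by decide)
  · exact ch_1_4_6_9_10

set_option maxRecDepth 100000 in
theorem ch_1_4_6_10_2 : enum 11 ck11 1 5 2778128 1111 6 2 = true := by
  decide +kernel

set_option maxRecDepth 100000 in
theorem ch_1_4_6_10_3 : enum 11 ck11 1 5 3826704 1115 6 3 = true := by
  decide +kernel

set_option maxRecDepth 100000 in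
theorem ch_1_4_6_10_5 : enum 11 ck11 1 5 5923856 1139 6 5 = true := by
  decide +kernel

set_option maxRecDepth 100000 in
theorem ch_1_4_6_10_7 : enum 11 ck11 1 5 8021008 1235 6 7 = true := by
  decide +kernel

set_option maxRecDepth 100000 in
theorem ch_1_4_6_10_8 : enum 11 ck11 1 5 9069584 1363 6 8 = true := by
  decide +kernel

set_option maxRecDepth 100000 in
theorem ch_1_4_6_10_9 : enum 11 ck11 1 5 10118160 1619 6 9 = true := by
  decide +kernel

theorem ch_1_4_6_10 : enum 11 ck11 1 6 680976 1107 5 10 = true := by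
  refine enum_intro 11 ck11 1 5 680976 1107 5 10 ?_
  intro v hv hb hd
  interval_cases v
  · exact absurd hb (by decide)
  · exact absurd hb (by decide)
  · exact ch_1_4_6_10_2
  · exact ch_1_4_6_10_3
  · exact absurd hb (by decide)
  · exact ch_1_4_6_10_5
  · exact absurd hb (by decide)
  · exact ch_1_4_6_10_7
  · exact ch_1_4_6_10_8
  · exact ch_1_4_6_10_9
  · exact absurd hb (by decide)

theorem ch_1_4_6 : enum 11 ck11 1 7 25616 83 4 6 = true := by
  refine enum_intro 11 ck11 1 6 25616 83 4 6 ?_
  intro v hv hb hd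
  interval_cases v
  · exact absurd hb (by decide)
  · exact absurd hb (by decide)
  · exact ch_1_4_6_2
  · exact ch_1_4_6_3
  · exact absurd hb (by decide)
  · exact ch_1_4_6_5
  · exact absurd hb (by decide)
  · exact ch_1_4_6_7
  · exact ch_1_4_6_8
  · exact ch_1_4_6_9
  · exact ch_1_4_6_10

set_option maxRecDepth 100000 in
theorem ch_1_4_7_2_3 : enum 11 ck11 1 5 3306512 159 6 3 = true := by
  decide +kernel

set_option maxRecDepth 100000 in
theorem ch_1_4_7_2_5 : enum 11 ck11 1 5 5403664 183 6 5 = true := by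
  decide +kernel

set_option maxRecDepth 100000 in
theorem ch_1_4_7_2_6 : enum 11 ck11 1 5 6452240 215 6 6 = true := by
  decide +kernel

set_option maxRecDepth 100000 in
theorem ch_1_4_7_2_8 : enum 11 ck11 1 5 8549392 407 6 8 = true := by
  decide +kernel

set_option maxRecDepth 100000 in
theorem ch_1_4_7_2_9 : enum 11 ck11 1 5 9597968 663 6 9 = true := by
  decide +kernel

set_option maxRecDepth 100000 in
theorem ch_1_4_7_2_10 : enum 11 ck11 1 5 10646544 1175 6 10 = true := by
  decide +kernel

theorem ch_1_4_7_2 : enum 11 ck11 1 6 160784 151 5 2 = true := by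
  refine enum_intro 11 ck11 1 5 160784 151 5 2 ?_
  intro v hv hb hd
  interval_cases v
  · exact absurd hb (by decide)
  · exact absurd hb (by decide)
  · exact absurd hb (by decide)
  · exact ch_1_4_7_2_3
  · exact absurd hb (by decide)
  · exact ch_1_4_7_2_5
  · exact ch_1_4_7_2_6
  · exact absurd hb (by decide)
  · exact ch_1_4_7_2_8
  · exact ch_1_4_7_2_9
  · exact ch_1_4_7_2_10

set_option maxRecDepth 100000 in
theorem ch_1_4_7_3_2 : enum 11 ck11 1 5 2323472 159 6 2 = true := by
  decide +kernel

set_option maxRecDepth 100000 in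
theorem ch_1_4_7_3_5 : enum 11 ck11 1 5 5469200 187 6 5 = true := by
  decide +kernel

set_option maxRecDepth 100000 in
theorem ch_1_4_7_3_6 : enum 11 ck11 1 5 6517776 219 6 6 = true := by
  decide +kernel

set_option maxRecDepth 100000 in
theorem ch_1_4_7_3_8 : enum 11 ck11 1 5 8614928 411 6 8 = true := by
  decide +kernel

set_option maxRecDepth 100000 in
theorem ch_1_4_7_3_9 : enum 11 ck11 1 5 9663504 667 6 9 = true := by
  decide +kernel

set_option maxRecDepth 100000 in
theorem ch_1_4_7_3_10 : enum 11 ck11 1 5 10712080 1179 6 10 = true := by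
  decide +kernel

theorem ch_1_4_7_3 : enum 11 ck11 1 6 226320 155 5 3 = true := by
  refine enum_intro 11 ck11 1 5 226320 155 5 3 ?_
  intro v hv hb hd
  interval_cases v
  · exact absurd hb (by decide)
  · exact absurd hb (by decide)
  · exact ch_1_4_7_3_2
  · exact absurd hb (by decide)
  · exact absurd hb (by decide)
  · exact ch_1_4_7_3_5
  · exact ch_1_4_7_3_6
  · exact absurd hb (by decide)
  · exact ch_1_4_7_3_8
  · exact ch_1_4_7_3_9
  · exact ch_1_4_7_3_10

set_option maxRecDepth 100000 in
theorem ch_1_4_7_5_2 : enum 11 ck11 1 5 2454544 183 6 2 = true := by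
  decide +kernel

set_option maxRecDepth 100000 in
theorem ch_1_4_7_5_3 : enum 11 ck11 1 5 3503120 187 6 3 = true := by
  decide +kernel

set_option maxRecDepth 100000 in
theorem ch_1_4_7_5_6 : enum 11 ck11 1 5 6648848 243 6 6 = true := by
  decide +kernel

set_option maxRecDepth 100000 in
theorem ch_1_4_7_5_8 : enum 11 ck11 1 5 8746000 435 6 8 = true := by
  decide +kernel

set_option maxRecDepth 100000 in
theorem ch_1_4_7_5_9 : enum 11 ck11 1 5 9794576 691 6 9 = true := by
  decide +kernel

set_option maxRecDepth 100000 in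
theorem ch_1_4_7_5_10 : enum 11 ck11 1 5 10843152 1203 6 10 = true := by
  decide +kernel

theorem ch_1_4_7_5 : enum 11 ck11 1 6 357392 179 5 5 = true := by
  refine enum_intro 11 ck11 1 5 357392 179 5 5 ?_
  intro v hv hb hd
  interval_cases v
  · exact absurd hb (by decide)
  · exact absurd hb (by decide)
  · exact ch_1_4_7_5_2
  · exact ch_1_4_7_5_3
  · exact absurd hb (by decide)
  · exact absurd hb (by decide)
  · exact ch_1_4_7_5_6
  · exact absurd hb (by decide)
  · exact ch_1_4_7_5_8
  · exact ch_1_4_7_5_9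
  · exact ch_1_4_7_5_10

set_option maxRecDepth 100000 in
theorem ch_1_4_7_6_2 : enum 11 ck11 1 5 2520080 215 6 2 = true := by
  decide +kernel

set_option maxRecDepth 100000 in
theorem ch_1_4_7_6_3 : enum 11 ck11 1 5 3568656 219 6 3 = true := by
  decide +kernel

set_option maxRecDepth 100000 in
theorem ch_1_4_7_6_5 : enum 11 ck11 1 5 5665808 243 6 5 = true := by
  decide +kernel

set_option maxRecDepth 100000 in
theorem ch_1_4_7_6_8 : enum 11 ck11 1 5 8811536 467 6 8 = true := by
  decide +kernel

set_option maxRecDepth 100000 in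
theorem ch_1_4_7_6_9 : enum 11 ck11 1 5 9860112 723 6 9 = true := by
  decide +kernel

set_option maxRecDepth 100000 in
theorem ch_1_4_7_6_10 : enum 11 ck11 1 5 10908688 1235 6 10 = true := by
  decide +kernel

theorem ch_1_4_7_6 : enum 11 ck11 1 6 422928 211 5 6 = true := by
  refine enum_intro 11 ck11 1 5 422928 211 5 6 ?_
  intro v hv hb hd
  interval_cases v
  · exact absurd hb (by decide)
  · exact absurd hb (by decide)
  · exact ch_1_4_7_6_2
  · exact ch_1_4_7_6_3
  · exact absurd hb (by decide)
  · exact ch_1_4_7_6_5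
  · exact absurd hb (by decide)
  · exact absurd hb (by decide)
  · exact ch_1_4_7_6_8
  · exact ch_1_4_7_6_9
  · exact ch_1_4_7_6_10

set_option maxRecDepth 100000 in
theorem ch_1_4_7_8_2 : enum 11 ck11 1 5 2651152 407 6 2 = true := by
  decide +kernel

set_option maxRecDepth 100000 in
theorem ch_1_4_7_8_3 : enum 11 ck11 1 5 3699728 411 6 3 = true := by
  decide +kernel

set_option maxRecDepth 100000 in
theorem ch_1_4_7_8_5 : enum 11 ck11 1 5 5796880 435 6 5 = true := by
  decide +kernel

set_option maxRecDepth 100000 in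
theorem ch_1_4_7_8_6 : enum 11 ck11 1 5 6845456 467 6 6 = true := by
  decide +kernel

set_option maxRecDepth 100000 in
theorem ch_1_4_7_8_9 : enum 11 ck11 1 5 9991184 915 6 9 = true := by
  decide +kernel

set_option maxRecDepth 100000 in
theorem ch_1_4_7_8_10 : enum 11 ck11 1 5 11039760 1427 6 10 = true := by
  decide +kernel

theorem ch_1_4_7_8 : enum 11 ck11 1 6 554000 403 5 8 = true := by
  refine enum_intro 11 ck11 1 5 554000 403 5 8 ?_
  intro v hv hb hd
  interval_cases v
  · exact absurd hb (by decide)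
  · exact absurd hb (by decide)
  · exact ch_1_4_7_8_2
  · exact ch_1_4_7_8_3
  · exact absurd hb (by decide)
  · exact ch_1_4_7_8_5
  · exact ch_1_4_7_8_6
  · exact absurd hb (by decide)
  · exact absurd hb (by decide)
  · exact ch_1_4_7_8_9
  · exact ch_1_4_7_8_10

set_option maxRecDepth 100000 in
theorem ch_1_4_7_9_2 : enum 11 ck11 1 5 2716688 663 6 2 = true := by
  decide +kernel

set_option maxRecDepth 100000 in
theorem ch_1_4_7_9_3 : enum 11 ck11 1 5 3765264 667 6 3 = true := by
  decide +kernel

set_option maxRecDepth 100000 in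
theorem ch_1_4_7_9_5 : enum 11 ck11 1 5 5862416 691 6 5 = true := by
  decide +kernel

set_option maxRecDepth 100000 in
theorem ch_1_4_7_9_6 : enum 11 ck11 1 5 6910992 723 6 6 = true := by
  decide +kernel

set_option maxRecDepth 100000 in
theorem ch_1_4_7_9_8 : enum 11 ck11 1 5 9008144 915 6 8 = true := by
  decide +kernel

set_option maxRecDepth 100000 in
theorem ch_1_4_7_9_10 : enum 11 ck11 1 5 11105296 1683 6 10 = true := by
  decide +kernel

theorem ch_1_4_7_9 : enum 11 ck11 1 6 619536 659 5 9 = true := by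
  refine enum_intro 11 ck11 1 5 619536 659 5 9 ?_
  intro v hv hb hd
  interval_cases v
  · exact absurd hb (by decide)
  · exact absurd hb (by decide)
  · exact ch_1_4_7_9_2
  · exact ch_1_4_7_9_3
  · exact absurd hb (by decide)
  · exact ch_1_4_7_9_5
  · exact ch_1_4_7_9_6
  · exact absurd hb (by decide)
  · exact ch_1_4_7_9_8
  · exact absurd hb (by decide)
  · exact ch_1_4_7_9_10

set_option maxRecDepth 100000 in
theorem ch_1_4_7_10_2 : enum 11 ck11 1 5 2782224 1175 6 2 = true := by
  decide +kernel

set_option maxRecDepth 100000 in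
theorem ch_1_4_7_10_3 : enum 11 ck11 1 5 3830800 1179 6 3 = true := by
  decide +kernel

set_option maxRecDepth 100000 in
theorem ch_1_4_7_10_5 : enum 11 ck11 1 5 5927952 1203 6 5 = true := by
  decide +kernel

set_option maxRecDepth 100000 in
theorem ch_1_4_7_10_6 : enum 11 ck11 1 5 6976528 1235 6 6 = true := by
  decide +kernel

set_option maxRecDepth 100000 in
theorem ch_1_4_7_10_8 : enum 11 ck11 1 5 9073680 1427 6 8 = true := by
  decide +kernel

set_option maxRecDepth 100000 in
theorem ch_1_4_7_10_9 : enum 11 ck11 1 5 10122256 1683 6 9 = true := by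
  decide +kernel

theorem ch_1_4_7_10 : enum 11 ck11 1 6 685072 1171 5 10 = true := by
  refine enum_intro 11 ck11 1 5 685072 1171 5 10 ?_
  intro v hv hb hd
  interval_cases v
  · exact absurd hb (by decide)
  · exact absurd hb (by decide)
  · exact ch_1_4_7_10_2
  · exact ch_1_4_7_10_3
  · exact absurd hb (by decide)
  · exact ch_1_4_7_10_5
  · exact ch_1_4_7_10_6
  · exact absurd hb (by decide)
  · exact ch_1_4_7_10_8
  · exact ch_1_4_7_10_9
  · exact absurd hb (by decide)

theorem ch_1_4_7 : enum 11 ck11 1 7 29712 147 4 7 = true := by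
  refine enum_intro 11 ck11 1 6 29712 147 4 7 ?_
  intro v hv hb hd
  interval_cases v
  · exact absurd hb (by decide)
  · exact absurd hb (by decide)
  · exact ch_1_4_7_2
  · exact ch_1_4_7_3
  · exact absurd hb (by decide)
  · exact ch_1_4_7_5
  · exact ch_1_4_7_6
  · exact absurd hb (by decide)
  · exact ch_1_4_7_8
  · exact ch_1_4_7_9
  · exact ch_1_4_7_10

set_option maxRecDepth 100000 in
theorem ch_1_4_8_2_3 : enum 11 ck11 1 5 3310608 287 6 3 = true := by
  decide +kernel

set_option maxRecDepth 100000 in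
theorem ch_1_4_8_2_5 : enum 11 ck11 1 5 5407760 311 6 5 = true := by
  decide +kernel

set_option maxRecDepth 100000 in
theorem ch_1_4_8_2_6 : enum 11 ck11 1 5 6456336 343 6 6 = true := by
  decide +kernel

set_option maxRecDepth 100000 in
theorem ch_1_4_8_2_7 : enum 11 ck11 1 5 7504912 407 6 7 = true := by
  decide +kernel

set_option maxRecDepth 100000 in
theorem ch_1_4_8_2_9 : enum 11 ck11 1 5 9602064 791 6 9 = true := by
  decide +kernel

set_option maxRecDepth 100000 in
theorem ch_1_4_8_2_10 : enum 11 ck11 1 5 10650640 1303 6 10 = true := by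
  decide +kernel

theorem ch_1_4_8_2 : enum 11 ck11 1 6 164880 279 5 2 = true := by
  refine enum_intro 11 ck11 1 5 164880 279 5 2 ?_
  intro v hv hb hd
  interval_cases v
  · exact absurd hb (by decide)
  · exact absurd hb (by decide)
  · exact absurd hb (by decide)
  · exact ch_1_4_8_2_3
  · exact absurd hb (by decide)
  · exact ch_1_4_8_2_5
  · exact ch_1_4_8_2_6
  · exact ch_1_4_8_2_7
  · exact absurd hb (by decide)
  · exact ch_1_4_8_2_9
  · exact ch_1_4_8_2_10

set_option maxRecDepth 100000 in
theorem ch_1_4_8_3_2 : enum 11 ck11 1 5 2327568 287 6 2 = true := by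
  decide +kernel

set_option maxRecDepth 100000 in
theorem ch_1_4_8_3_5 : enum 11 ck11 1 5 5473296 315 6 5 = true := by
  decide +kernel

set_option maxRecDepth 100000 in
theorem ch_1_4_8_3_6 : enum 11 ck11 1 5 6521872 347 6 6 = true := by
  decide +kernel

set_option maxRecDepth 100000 in
theorem ch_1_4_8_3_7 : enum 11 ck11 1 5 7570448 411 6 7 = true := by
  decide +kernel

set_option maxRecDepth 100000 in
theorem ch_1_4_8_3_9 : enum 11 ck11 1 5 9667600 795 6 9 = true := by
  decide +kernel

set_option maxRecDepth 100000 in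
theorem ch_1_4_8_3_10 : enum 11 ck11 1 5 10716176 1307 6 10 = true := by
  decide +kernel

theorem ch_1_4_8_3 : enum 11 ck11 1 6 230416 283 5 3 = true := by
  refine enum_intro 11 ck11 1 5 230416 283 5 3 ?_
  intro v hv hb hd
  interval_cases v
  · exact absurd hb (by decide)
  · exact absurd hb (by decide)
  · exact ch_1_4_8_3_2
  · exact absurd hb (by decide)
  · exact absurd hb (by decide)
  · exact ch_1_4_8_3_5
  · exact ch_1_4_8_3_6
  · exact ch_1_4_8_3_7
  · exact absurd hb (by decide)
  · exact ch_1_4_8_3_9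
  · exact ch_1_4_8_3_10

set_option maxRecDepth 100000 in
theorem ch_1_4_8_5_2 : enum 11 ck11 1 5 2458640 311 6 2 = true := by
  decide +kernel

set_option maxRecDepth 100000 in
theorem ch_1_4_8_5_3 : enum 11 ck11 1 5 3507216 315 6 3 = true := by
  decide +kernel

set_option maxRecDepth 100000 in
theorem ch_1_4_8_5_6 : enum 11 ck11 1 5 6652944 371 6 6 = true := by
  decide +kernel

set_option maxRecDepth 100000 in
theorem ch_1_4_8_5_7 : enum 11 ck11 1 5 7701520 435 6 7 = true := by
  decide +kernel

set_option maxRecDepth 100000 in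
theorem ch_1_4_8_5_9 : enum 11 ck11 1 5 9798672 819 6 9 = true := by
  decide +kernel

set_option maxRecDepth 100000 in
theorem ch_1_4_8_5_10 : enum 11 ck11 1 5 10847248 1331 6 10 = true := by
  decide +kernel

theorem ch_1_4_8_5 : enum 11 ck11 1 6 361488 307 5 5 = true := by
  refine enum_intro 11 ck11 1 5 361488 307 5 5 ?_
  intro v hv hb hd
  interval_cases v
  · exact absurd hb (by decide)
  · exact absurd hb (by decide)
  · exact ch_1_4_8_5_2
  · exact ch_1_4_8_5_3
  · exact absurd hb (by decide)
  · exact absurd hb (by decide)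
  · exact ch_1_4_8_5_6
  · exact ch_1_4_8_5_7
  · exact absurd hb (by decide)
  · exact ch_1_4_8_5_9
  · exact ch_1_4_8_5_10

set_option maxRecDepth 100000 in
theorem ch_1_4_8_6_2 : enum 11 ck11 1 5 2524176 343 6 2 = true := by
  decide +kernel

set_option maxRecDepth 100000 in
theorem ch_1_4_8_6_3 : enum 11 ck11 1 5 3572752 347 6 3 = true := by
  decide +kernel

set_option maxRecDepth 100000 in
theorem ch_1_4_8_6_5 : enum 11 ck11 1 5 5669904 371 6 5 = true := by
  decide +kernel

set_option maxRecDepth 100000 in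
theorem ch_1_4_8_6_7 : enum 11 ck11 1 5 7767056 467 6 7 = true := by
  decide +kernel

set_option maxRecDepth 100000 in
theorem ch_1_4_8_6_9 : enum 11 ck11 1 5 9864208 851 6 9 = true := by
  decide +kernel

set_option maxRecDepth 100000 in
theorem ch_1_4_8_6_10 : enum 11 ck11 1 5 10912784 1363 6 10 = true := by
  decide +kernel

theorem ch_1_4_8_6 : enum 11 ck11 1 6 427024 339 5 6 = true := by
  refine enum_intro 11 ck11 1 5 427024 339 5 6 ?_
  intro v hv hb hd
  interval_cases v
  · exact absurd hb (by decide)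
  · exact absurd hb (by decide)
  · exact ch_1_4_8_6_2
  · exact ch_1_4_8_6_3
  · exact absurd hb (by decide)
  · exact ch_1_4_8_6_5
  · exact absurd hb (by decide)
  · exact ch_1_4_8_6_7
  · exact absurd hb (by decide)
  · exact ch_1_4_8_6_9
  · exact ch_1_4_8_6_10

set_option maxRecDepth 100000 in
theorem ch_1_4_8_7_2 : enum 11 ck11 1 5 2589712 407 6 2 = true := by
  decide +kernel

set_option maxRecDepth 100000 in
theorem ch_1_4_8_7_3 : enum 11 ck11 1 5 3638288 411 6 3 = true := by
  decide +kernel

set_option maxRecDepth 100000 in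
theorem ch_1_4_8_7_5 : enum 11 ck11 1 5 5735440 435 6 5 = true := by
  decide +kernel

set_option maxRecDepth 100000 in
theorem ch_1_4_8_7_6 : enum 11 ck11 1 5 6784016 467 6 6 = true := by
  decide +kernel

set_option maxRecDepth 100000 in
theorem ch_1_4_8_7_9 : enum 11 ck11 1 5 9929744 915 6 9 = true := by
  decide +kernel

set_option maxRecDepth 100000 in
theorem ch_1_4_8_7_10 : enum 11 ck11 1 5 10978320 1427 6 10 = true := by
  decide +kernel

theorem ch_1_4_8_7 : enum 11 ck11 1 6 492560 403 5 7 = true := by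
  refine enum_intro 11 ck11 1 5 492560 403 5 7 ?_
  intro v hv hb hd
  interval_cases v
  · exact absurd hb (by decide)
  · exact absurd hb (by decide)
  · exact ch_1_4_8_7_2
  · exact ch_1_4_8_7_3
  · exact absurd hb (by decide)
  · exact ch_1_4_8_7_5
  · exact ch_1_4_8_7_6
  · exact absurd hb (by decide)
  · exact absurd hb (by decide)
  · exact ch_1_4_8_7_9
  · exact ch_1_4_8_7_10

set_option maxRecDepth 100000 in
theorem ch_1_4_8_9_2 : enum 11 ck11 1 5 2720784 791 6 2 = true := by
  decide +kernel

set_option maxRecDepth 100000 in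
theorem ch_1_4_8_9_3 : enum 11 ck11 1 5 3769360 795 6 3 = true := by
  decide +kernel

set_option maxRecDepth 100000 in
theorem ch_1_4_8_9_5 : enum 11 ck11 1 5 5866512 819 6 5 = true := by
  decide +kernel

set_option maxRecDepth 100000 in
theorem ch_1_4_8_9_6 : enum 11 ck11 1 5 6915088 851 6 6 = true := by
  decide +kernel

set_option maxRecDepth 100000 in
theorem ch_1_4_8_9_7 : enum 11 ck11 1 5 7963664 915 6 7 = true := by
  decide +kernel

set_option maxRecDepth 100000 in
theorem ch_1_4_8_9_10 : enum 11 ck11 1 5 11109392 1811 6 10 = true := by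
  decide +kernel

theorem ch_1_4_8_9 : enum 11 ck11 1 6 623632 787 5 9 = true := by
  refine enum_intro 11 ck11 1 5 623632 787 5 9 ?_
  intro v hv hb hd
  interval_cases v
  · exact absurd hb (by decide)
  · exact absurd hb (by decide)
  · exact ch_1_4_8_9_2
  · exact ch_1_4_8_9_3
  · exact absurd hb (by decide)
  · exact ch_1_4_8_9_5
  · exact ch_1_4_8_9_6
  · exact ch_1_4_8_9_7
  · exact absurd hb (by decide)
  · exact absurd hb (by decide)
  · exact ch_1_4_8_9_10

set_option maxRecDepth 100000 in
theorem ch_1_4_8_10_2 : enum 11 ck11 1 5 2786320 1303 6 2 = true := by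
  decide +kernel

set_option maxRecDepth 100000 in
theorem ch_1_4_8_10_3 : enum 11 ck11 1 5 3834896 1307 6 3 = true := by
  decide +kernel

set_option maxRecDepth 100000 in
theorem ch_1_4_8_10_5 : enum 11 ck11 1 5 5932048 1331 6 5 = true := by
  decide +kernel

set_option maxRecDepth 100000 in
theorem ch_1_4_8_10_6 : enum 11 ck11 1 5 6980624 1363 6 6 = true := by
  decide +kernel

set_option maxRecDepth 100000 in
theorem ch_1_4_8_10_7 : enum 11 ck11 1 5 8029200 1427 6 7 = true := by
  decide +kernel

set_option maxRecDepth 100000 in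
theorem ch_1_4_8_10_9 : enum 11 ck11 1 5 10126352 1811 6 9 = true := by
  decide +kernel

theorem ch_1_4_8_10 : enum 11 ck11 1 6 689168 1299 5 10 = true := by
  refine enum_intro 11 ck11 1 5 689168 1299 5 10 ?_
  intro v hv hb hd
  interval_cases v
  · exact absurd hb (by decide)
  · exact absurd hb (by decide)
  · exact ch_1_4_8_10_2
  · exact ch_1_4_8_10_3
  · exact absurd hb (by decide)
  · exact ch_1_4_8_10_5
  · exact ch_1_4_8_10_6
  · exact ch_1_4_8_10_7
  · exact absurd hb (by decide)
  · exact ch_1_4_8_10_9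
  · exact absurd hb (by decide)

theorem ch_1_4_8 : enum 11 ck11 1 7 33808 275 4 8 = true := by
  refine enum_intro 11 ck11 1 6 33808 275 4 8 ?_
  intro v hv hb hd
  interval_cases v
  · exact absurd hb (by decide)
  · exact absurd hb (by decide)
  · exact ch_1_4_8_2
  · exact ch_1_4_8_3
  · exact absurd hb (by decide)
  · exact ch_1_4_8_5
  · exact ch_1_4_8_6
  · exact ch_1_4_8_7
  · exact absurd hb (by decide)
  · exact ch_1_4_8_9
  · exact ch_1_4_8_10

end Cfsg.Agent.Helper9.T11
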