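import Mathlib
import Cfsg.Agent.Helper9.T11.Chk

set_option autoImplicit false
set_option Elab.async false

/-!
A part of the enumeration on 11 points: the test holds at every permutation of the part.
-/

namespace Cfsg.Agent.Helper9.T11

set_option maxRecDepth 100000 in
theorem ch_1_4_9_2_3 : enum 11 ck11 1 5 3314704 543 6 3 = true := by
  decide +kernel

set_option maxRecDepth 100000 in
theorem ch_1_4_9_2_5 : enum 11 ck11 1 5 5411856 567 6 5 = true := by
  decide +kernel

set_option maxRecDepth 100000 in
theorem ch_1_4_9_2_6 : enum 11 ck11 1 5 6460432 599 6 6 = true := by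
  decide +kernel

set_option maxRecDepth 100000 in
theorem ch_1_4_9_2_7 : enum 11 ck11 1 5 7509008 663 6 7 = true := by
  decide +kernel

set_option maxRecDepth 100000 in
theorem ch_1_4_9_2_8 : enum 11 ck11 1 5 8557584 791 6 8 = true := by
  decide +kernel

set_option maxRecDepth 100000 in
theorem ch_1_4_9_2_10 : enum 11 ck11 1 5 10654736 1559 6 10 = true := by
  decide +kernel

theorem ch_1_4_9_2 : enum 11 ck11 1 6 168976 535 5 2 = true := by
  refine enum_intro 11 ck11 1 5 168976 535 5 2 ?_
  intro v hv hb hd
  interval_cases v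
  · exact absurd hb (by decide)
  · exact absurd hb (by decide)
  · exact absurd hb (by decide)
  · exact ch_1_4_9_2_3
  · exact absurd hb (by decide)
  · exact ch_1_4_9_2_5
  · exact ch_1_4_9_2_6
  · exact ch_1_4_9_2_7
  · exact ch_1_4_9_2_8
  · exact absurd hb (by decide)
  · exact ch_1_4_9_2_10

set_option maxRecDepth 100000 in
theorem ch_1_4_9_3_2 : enum 11 ck11 1 5 2331664 543 6 2 = true := by
  decide +kernel

set_option maxRecDepth 100000 in
theorem ch_1_4_9_3_5 : enum 11 ck11 1 5 5477392 571 6 5 = true := by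
  decide +kernel

set_option maxRecDepth 100000 in
theorem ch_1_4_9_3_6 : enum 11 ck11 1 5 6525968 603 6 6 = true := by
  decide +kernel

set_option maxRecDepth 100000 in
theorem ch_1_4_9_3_7 : enum 11 ck11 1 5 7574544 667 6 7 = true := by
  decide +kernel

set_option maxRecDepth 100000 in
theorem ch_1_4_9_3_8 : enum 11 ck11 1 5 8623120 795 6 8 = true := by
  decide +kernel

set_option maxRecDepth 100000 in
theorem ch_1_4_9_3_10 : enum 11 ck11 1 5 10720272 1563 6 10 = true := by
  decide +kernel

theorem ch_1_4_9_3 : enum 11 ck11 1 6 234512 539 5 3 = true := by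
  refine enum_intro 11 ck11 1 5 234512 539 5 3 ?_
  intro v hv hb hd
  interval_cases v
  · exact absurd hb (by decide)
  · exact absurd hb (by decide)
  · exact ch_1_4_9_3_2
  · exact absurd hb (by decide)
  · exact absurd hb (by decide)
  · exact ch_1_4_9_3_5
  · exact ch_1_4_9_3_6
  · exact ch_1_4_9_3_7
  · exact ch_1_4_9_3_8
  · exact absurd hb (by decide)
  · exact ch_1_4_9_3_10

set_option maxRecDepth 100000 in
theorem ch_1_4_9_5_2 : enum 11 ck11 1 5 2462736 567 6 2 = true := by
  decide +kernel

set_option maxRecDepth 100000 in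
theorem ch_1_4_9_5_3 : enum 11 ck11 1 5 3511312 571 6 3 = true := by
  decide +kernel

set_option maxRecDepth 100000 in
theorem ch_1_4_9_5_6 : enum 11 ck11 1 5 6657040 627 6 6 = true := by
  decide +kernel

set_option maxRecDepth 100000 in
theorem ch_1_4_9_5_7 : enum 11 ck11 1 5 7705616 691 6 7 = true := by
  decide +kernel

set_option maxRecDepth 100000 in
theorem ch_1_4_9_5_8 : enum 11 ck11 1 5 8754192 819 6 8 = true := by
  decide +kernel

set_option maxRecDepth 100000 in
theorem ch_1_4_9_5_10 : enum 11 ck11 1 5 10851344 1587 6 10 = true := by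
  decide +kernel

theorem ch_1_4_9_5 : enum 11 ck11 1 6 365584 563 5 5 = true := by
  refine enum_intro 11 ck11 1 5 365584 563 5 5 ?_
  intro v hv hb hd
  interval_cases v
  · exact absurd hb (by decide)
  · exact absurd hb (by decide)
  · exact ch_1_4_9_5_2
  · exact ch_1_4_9_5_3
  · exact absurd hb (by decide)
  · exact absurd hb (by decide)
  · exact ch_1_4_9_5_6
  · exact ch_1_4_9_5_7
  · exact ch_1_4_9_5_8
  · exact absurd hb (by decide)
  · exact ch_1_4_9_5_10

set_option maxRecDepth 100000 in
theorem ch_1_4_9_6_2 : enum 11 ck11 1 5 2528272 599 6 2 = true := by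
  decide +kernel

set_option maxRecDepth 100000 in
theorem ch_1_4_9_6_3 : enum 11 ck11 1 5 3576848 603 6 3 = true := by
  decide +kernel

set_option maxRecDepth 100000 in
theorem ch_1_4_9_6_5 : enum 11 ck11 1 5 5674000 627 6 5 = true := by
  decide +kernel

set_option maxRecDepth 100000 in
theorem ch_1_4_9_6_7 : enum 11 ck11 1 5 7771152 723 6 7 = true := by
  decide +kernel

set_option maxRecDepth 100000 in
theorem ch_1_4_9_6_8 : enum 11 ck11 1 5 8819728 851 6 8 = true := by
  decide +kernel

set_option maxRecDepth 100000 in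
theorem ch_1_4_9_6_10 : enum 11 ck11 1 5 10916880 1619 6 10 = true := by
  decide +kernel

theorem ch_1_4_9_6 : enum 11 ck11 1 6 431120 595 5 6 = true := by
  refine enum_intro 11 ck11 1 5 431120 595 5 6 ?_
  intro v hv hb hd
  interval_cases v
  · exact absurd hb (by decide)
  · exact absurd hb (by decide)
  · exact ch_1_4_9_6_2
  · exact ch_1_4_9_6_3
  · exact absurd hb (by decide)
  · exact ch_1_4_9_6_5
  · exact absurd hb (by decide)
  · exact ch_1_4_9_6_7
  · exact ch_1_4_9_6_8
  · exact absurd hb (by decide)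
  · exact ch_1_4_9_6_10

set_option maxRecDepth 100000 in
theorem ch_1_4_9_7_2 : enum 11 ck11 1 5 2593808 663 6 2 = true := by
  decide +kernel

set_option maxRecDepth 100000 in
theorem ch_1_4_9_7_3 : enum 11 ck11 1 5 3642384 667 6 3 = true := by
  decide +kernel

set_option maxRecDepth 100000 in
theorem ch_1_4_9_7_5 : enum 11 ck11 1 5 5739536 691 6 5 = true := by
  decide +kernel

set_option maxRecDepth 100000 in
theorem ch_1_4_9_7_6 : enum 11 ck11 1 5 6788112 723 6 6 = true := by
  decide +kernel

set_option maxRecDepth 100000 in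
theorem ch_1_4_9_7_8 : enum 11 ck11 1 5 8885264 915 6 8 = true := by
  decide +kernel

set_option maxRecDepth 100000 in
theorem ch_1_4_9_7_10 : enum 11 ck11 1 5 10982416 1683 6 10 = true := by
  decide +kernel

theorem ch_1_4_9_7 : enum 11 ck11 1 6 496656 659 5 7 = true := by
  refine enum_intro 11 ck11 1 5 496656 659 5 7 ?_
  intro v hv hb hd
  interval_cases v
  · exact absurd hb (by decide)
  · exact absurd hb (by decide)
  · exact ch_1_4_9_7_2
  · exact ch_1_4_9_7_3
  · exact absurd hb (by decide)
  · exact ch_1_4_9_7_5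
  · exact ch_1_4_9_7_6
  · exact absurd hb (by decide)
  · exact ch_1_4_9_7_8
  · exact absurd hb (by decide)
  · exact ch_1_4_9_7_10

set_option maxRecDepth 100000 in
theorem ch_1_4_9_8_2 : enum 11 ck11 1 5 2659344 791 6 2 = true := by
  decide +kernel

set_option maxRecDepth 100000 in
theorem ch_1_4_9_8_3 : enum 11 ck11 1 5 3707920 795 6 3 = true := by
  decide +kernel

set_option maxRecDepth 100000 in
theorem ch_1_4_9_8_5 : enum 11 ck11 1 5 5805072 819 6 5 = true := by
  decide +kernel

set_option maxRecDepth 100000 in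
theorem ch_1_4_9_8_6 : enum 11 ck11 1 5 6853648 851 6 6 = true := by
  decide +kernel

set_option maxRecDepth 100000 in
theorem ch_1_4_9_8_7 : enum 11 ck11 1 5 7902224 915 6 7 = true := by
  decide +kernel

set_option maxRecDepth 100000 in
theorem ch_1_4_9_8_10 : enum 11 ck11 1 5 11047952 1811 6 10 = true := by
  decide +kernel

theorem ch_1_4_9_8 : enum 11 ck11 1 6 562192 787 5 8 = true := by
  refine enum_intro 11 ck11 1 5 562192 787 5 8 ?_
  intro v hv hb hd
  interval_cases v
  · exact absurd hb (by decide)
  · exact absurd hb (by decide)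
  · exact ch_1_4_9_8_2
  · exact ch_1_4_9_8_3
  · exact absurd hb (by decide)
  · exact ch_1_4_9_8_5
  · exact ch_1_4_9_8_6
  · exact ch_1_4_9_8_7
  · exact absurd hb (by decide)
  · exact absurd hb (by decide)
  · exact ch_1_4_9_8_10

set_option maxRecDepth 100000 in
theorem ch_1_4_9_10_2 : enum 11 ck11 1 5 2790416 1559 6 2 = true := by
  decide +kernel

set_option maxRecDepth 100000 in
theorem ch_1_4_9_10_3 : enum 11 ck11 1 5 3838992 1563 6 3 = true := by
  decide +kernel

set_option maxRecDepth 100000 in
theorem ch_1_4_9_10_5 : enum 11 ck11 1 5 5936144 1587 6 5 = true := by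
  decide +kernel

set_option maxRecDepth 100000 in
theorem ch_1_4_9_10_6 : enum 11 ck11 1 5 6984720 1619 6 6 = true := by
  decide +kernel

set_option maxRecDepth 100000 in
theorem ch_1_4_9_10_7 : enum 11 ck11 1 5 8033296 1683 6 7 = true := by
  decide +kernel

set_option maxRecDepth 100000 in
theorem ch_1_4_9_10_8 : enum 11 ck11 1 5 9081872 1811 6 8 = true := by
  decide +kernel

theorem ch_1_4_9_10 : enum 11 ck11 1 6 693264 1555 5 10 = true := by
  refine enum_intro 11 ck11 1 5 693264 1555 5 10 ?_
  intro v hv hb hd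
  interval_cases v
  · exact absurd hb (by decide)
  · exact absurd hb (by decide)
  · exact ch_1_4_9_10_2
  · exact ch_1_4_9_10_3
  · exact absurd hb (by decide)
  · exact ch_1_4_9_10_5
  · exact ch_1_4_9_10_6
  · exact ch_1_4_9_10_7
  · exact ch_1_4_9_10_8
  · exact absurd hb (by decide)
  · exact absurd hb (by decide)

theorem ch_1_4_9 : enum 11 ck11 1 7 37904 531 4 9 = true := by
  refine enum_intro 11 ck11 1 6 37904 531 4 9 ?_
  intro v hv hb hd
  interval_cases v
  · exact absurd hb (by decide)
  · exact absurd hb (by decide)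
  · exact ch_1_4_9_2
  · exact ch_1_4_9_3
  · exact absurd hb (by decide)
  · exact ch_1_4_9_5
  · exact ch_1_4_9_6
  · exact ch_1_4_9_7
  · exact ch_1_4_9_8
  · exact absurd hb (by decide)
  · exact ch_1_4_9_10

set_option maxRecDepth 100000 in
theorem ch_1_4_10_2_3 : enum 11 ck11 1 5 3318800 1055 6 3 = true := by
  decide +kernel

set_option maxRecDepth 100000 in
theorem ch_1_4_10_2_5 : enum 11 ck11 1 5 5415952 1079 6 5 = true := by
  decide +kernel

set_option maxRecDepth 100000 in
theorem ch_1_4_10_2_6 : enum 11 ck11 1 5 6464528 1111 6 6 = true := by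
  decide +kernel

set_option maxRecDepth 100000 in
theorem ch_1_4_10_2_7 : enum 11 ck11 1 5 7513104 1175 6 7 = true := by
  decide +kernel

set_option maxRecDepth 100000 in
theorem ch_1_4_10_2_8 : enum 11 ck11 1 5 8561680 1303 6 8 = true := by
  decide +kernel

set_option maxRecDepth 100000 in
theorem ch_1_4_10_2_9 : enum 11 ck11 1 5 9610256 1559 6 9 = true := by
  decide +kernel

theorem ch_1_4_10_2 : enum 11 ck11 1 6 173072 1047 5 2 = true := by
  refine enum_intro 11 ck11 1 5 173072 1047 5 2 ?_
  intro v hv hb hd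
  interval_cases v
  · exact absurd hb (by decide)
  · exact absurd hb (by decide)
  · exact absurd hb (by decide)
  · exact ch_1_4_10_2_3
  · exact absurd hb (by decide)
  · exact ch_1_4_10_2_5
  · exact ch_1_4_10_2_6
  · exact ch_1_4_10_2_7
  · exact ch_1_4_10_2_8
  · exact ch_1_4_10_2_9
  · exact absurd hb (by decide)

set_option maxRecDepth 100000 in
theorem ch_1_4_10_3_2 : enum 11 ck11 1 5 2335760 1055 6 2 = true := by
  decide +kernel

set_option maxRecDepth 100000 in
theorem ch_1_4_10_3_5 : enum 11 ck11 1 5 5481488 1083 6 5 = true := by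
  decide +kernel

set_option maxRecDepth 100000 in
theorem ch_1_4_10_3_6 : enum 11 ck11 1 5 6530064 1115 6 6 = true := by
  decide +kernel

set_option maxRecDepth 100000 in
theorem ch_1_4_10_3_7 : enum 11 ck11 1 5 7578640 1179 6 7 = true := by
  decide +kernel

set_option maxRecDepth 100000 in
theorem ch_1_4_10_3_8 : enum 11 ck11 1 5 8627216 1307 6 8 = true := by
  decide +kernel

set_option maxRecDepth 100000 in
theorem ch_1_4_10_3_9 : enum 11 ck11 1 5 9675792 1563 6 9 = true := by
  decide +kernel

theorem ch_1_4_10_3 : enum 11 ck11 1 6 238608 1051 5 3 = true := by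
  refine enum_intro 11 ck11 1 5 238608 1051 5 3 ?_
  intro v hv hb hd
  interval_cases v
  · exact absurd hb (by decide)
  · exact absurd hb (by decide)
  · exact ch_1_4_10_3_2
  · exact absurd hb (by decide)
  · exact absurd hb (by decide)
  · exact ch_1_4_10_3_5
  · exact ch_1_4_10_3_6
  · exact ch_1_4_10_3_7
  · exact ch_1_4_10_3_8
  · exact ch_1_4_10_3_9
  · exact absurd hb (by decide)

set_option maxRecDepth 100000 in
theorem ch_1_4_10_5_2 : enum 11 ck11 1 5 2466832 1079 6 2 = true := by
  decide +kernel

set_option maxRecDepth 100000 in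
theorem ch_1_4_10_5_3 : enum 11 ck11 1 5 3515408 1083 6 3 = true := by
  decide +kernel

set_option maxRecDepth 100000 in
theorem ch_1_4_10_5_6 : enum 11 ck11 1 5 6661136 1139 6 6 = true := by
  decide +kernel

set_option maxRecDepth 100000 in
theorem ch_1_4_10_5_7 : enum 11 ck11 1 5 7709712 1203 6 7 = true := by
  decide +kernel

set_option maxRecDepth 100000 in
theorem ch_1_4_10_5_8 : enum 11 ck11 1 5 8758288 1331 6 8 = true := by
  decide +kernel

set_option maxRecDepth 100000 in
theorem ch_1_4_10_5_9 : enum 11 ck11 1 5 9806864 1587 6 9 = true := by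
  decide +kernel

theorem ch_1_4_10_5 : enum 11 ck11 1 6 369680 1075 5 5 = true := by
  refine enum_intro 11 ck11 1 5 369680 1075 5 5 ?_
  intro v hv hb hd
  interval_cases v
  · exact absurd hb (by decide)
  · exact absurd hb (by decide)
  · exact ch_1_4_10_5_2
  · exact ch_1_4_10_5_3
  · exact absurd hb (by decide)
  · exact absurd hb (by decide)
  · exact ch_1_4_10_5_6
  · exact ch_1_4_10_5_7
  · exact ch_1_4_10_5_8
  · exact ch_1_4_10_5_9
  · exact absurd hb (by decide)

set_option maxRecDepth 100000 in
theorem ch_1_4_10_6_2 : enum 11 ck11 1 5 2532368 1111 6 2 = true := by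
  decide +kernel

set_option maxRecDepth 100000 in
theorem ch_1_4_10_6_3 : enum 11 ck11 1 5 3580944 1115 6 3 = true := by
  decide +kernel

set_option maxRecDepth 100000 in
theorem ch_1_4_10_6_5 : enum 11 ck11 1 5 5678096 1139 6 5 = true := by
  decide +kernel

set_option maxRecDepth 100000 in
theorem ch_1_4_10_6_7 : enum 11 ck11 1 5 7775248 1235 6 7 = true := by
  decide +kernel

set_option maxRecDepth 100000 in
theorem ch_1_4_10_6_8 : enum 11 ck11 1 5 8823824 1363 6 8 = true := by
  decide +kernel

set_option maxRecDepth 100000 in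
theorem ch_1_4_10_6_9 : enum 11 ck11 1 5 9872400 1619 6 9 = true := by
  decide +kernel

theorem ch_1_4_10_6 : enum 11 ck11 1 6 435216 1107 5 6 = true := by
  refine enum_intro 11 ck11 1 5 435216 1107 5 6 ?_
  intro v hv hb hd
  interval_cases v
  · exact absurd hb (by decide)
  · exact absurd hb (by decide)
  · exact ch_1_4_10_6_2
  · exact ch_1_4_10_6_3
  · exact absurd hb (by decide)
  · exact ch_1_4_10_6_5
  · exact absurd hb (by decide)
  · exact ch_1_4_10_6_7
  · exact ch_1_4_10_6_8
  · exact ch_1_4_10_6_9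
  · exact absurd hb (by decide)

set_option maxRecDepth 100000 in
theorem ch_1_4_10_7_2 : enum 11 ck11 1 5 2597904 1175 6 2 = true := by
  decide +kernel

set_option maxRecDepth 100000 in
theorem ch_1_4_10_7_3 : enum 11 ck11 1 5 3646480 1179 6 3 = true := by
  decide +kernel

set_option maxRecDepth 100000 in
theorem ch_1_4_10_7_5 : enum 11 ck11 1 5 5743632 1203 6 5 = true := by
  decide +kernel

set_option maxRecDepth 100000 in
theorem ch_1_4_10_7_6 : enum 11 ck11 1 5 6792208 1235 6 6 = true := by
  decide +kernel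

set_option maxRecDepth 100000 in
theorem ch_1_4_10_7_8 : enum 11 ck11 1 5 8889360 1427 6 8 = true := by
  decide +kernel

set_option maxRecDepth 100000 in
theorem ch_1_4_10_7_9 : enum 11 ck11 1 5 9937936 1683 6 9 = true := by
  decide +kernel

theorem ch_1_4_10_7 : enum 11 ck11 1 6 500752 1171 5 7 = true := by
  refine enum_intro 11 ck11 1 5 500752 1171 5 7 ?_
  intro v hv hb hd
  interval_cases v
  · exact absurd hb (by decide)
  · exact absurd hb (by decide)
  · exact ch_1_4_10_7_2
  · exact ch_1_4_10_7_3
  · exact absurd hb (by decide)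
  · exact ch_1_4_10_7_5
  · exact ch_1_4_10_7_6
  · exact absurd hb (by decide)
  · exact ch_1_4_10_7_8
  · exact ch_1_4_10_7_9
  · exact absurd hb (by decide)

set_option maxRecDepth 100000 in
theorem ch_1_4_10_8_2 : enum 11 ck11 1 5 2663440 1303 6 2 = true := by
  decide +kernel

set_option maxRecDepth 100000 in
theorem ch_1_4_10_8_3 : enum 11 ck11 1 5 3712016 1307 6 3 = true := by
  decide +kernel

set_option maxRecDepth 100000 in
theorem ch_1_4_10_8_5 : enum 11 ck11 1 5 5809168 1331 6 5 = true := by
  decide +kernel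

set_option maxRecDepth 100000 in
theorem ch_1_4_10_8_6 : enum 11 ck11 1 5 6857744 1363 6 6 = true := by
  decide +kernel

set_option maxRecDepth 100000 in
theorem ch_1_4_10_8_7 : enum 11 ck11 1 5 7906320 1427 6 7 = true := by
  decide +kernel

set_option maxRecDepth 100000 in
theorem ch_1_4_10_8_9 : enum 11 ck11 1 5 10003472 1811 6 9 = true := by
  decide +kernel

theorem ch_1_4_10_8 : enum 11 ck11 1 6 566288 1299 5 8 = true := by
  refine enum_intro 11 ck11 1 5 566288 1299 5 8 ?_
  intro v hv hb hd
  interval_cases v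
  · exact absurd hb (by decide)
  · exact absurd hb (by decide)
  · exact ch_1_4_10_8_2
  · exact ch_1_4_10_8_3
  · exact absurd hb (by decide)
  · exact ch_1_4_10_8_5
  · exact ch_1_4_10_8_6
  · exact ch_1_4_10_8_7
  · exact absurd hb (by decide)
  · exact ch_1_4_10_8_9
  · exact absurd hb (by decide)

set_option maxRecDepth 100000 in
theorem ch_1_4_10_9_2 : enum 11 ck11 1 5 2728976 1559 6 2 = true := by
  decide +kernel

set_option maxRecDepth 100000 in
theorem ch_1_4_10_9_3 : enum 11 ck11 1 5 3777552 1563 6 3 = true := by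
  decide +kernel

set_option maxRecDepth 100000 in
theorem ch_1_4_10_9_5 : enum 11 ck11 1 5 5874704 1587 6 5 = true := by
  decide +kernel

set_option maxRecDepth 100000 in
theorem ch_1_4_10_9_6 : enum 11 ck11 1 5 6923280 1619 6 6 = true := by
  decide +kernel

set_option maxRecDepth 100000 in
theorem ch_1_4_10_9_7 : enum 11 ck11 1 5 7971856 1683 6 7 = true := by
  decide +kernel

set_option maxRecDepth 100000 in
theorem ch_1_4_10_9_8 : enum 11 ck11 1 5 9020432 1811 6 8 = true := by
  decide +kernel

theorem ch_1_4_10_9 : enum 11 ck11 1 6 631824 1555 5 9 = true := by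
  refine enum_intro 11 ck11 1 5 631824 1555 5 9 ?_
  intro v hv hb hd
  interval_cases v
  · exact absurd hb (by decide)
  · exact absurd hb (by decide)
  · exact ch_1_4_10_9_2
  · exact ch_1_4_10_9_3
  · exact absurd hb (by decide)
  · exact ch_1_4_10_9_5
  · exact ch_1_4_10_9_6
  · exact ch_1_4_10_9_7
  · exact ch_1_4_10_9_8
  · exact absurd hb (by decide)
  · exact absurd hb (by decide)

theorem ch_1_4_10 : enum 11 ck11 1 7 42000 1043 4 10 = true := by
  refine enum_intro 11 ck11 1 6 42000 1043 4 10 ?_
  intro v hv hb hd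
  interval_cases v
  · exact absurd hb (by decide)
  · exact absurd hb (by decide)
  · exact ch_1_4_10_2
  · exact ch_1_4_10_3
  · exact absurd hb (by decide)
  · exact ch_1_4_10_5
  · exact ch_1_4_10_6
  · exact ch_1_4_10_7
  · exact ch_1_4_10_8
  · exact ch_1_4_10_9
  · exact absurd hb (by decide)

end Cfsg.Agent.Helper9.T11
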