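import Mathlib
import Cfsg.Agent.Helper9.T11.Chk

set_option autoImplicit false
set_option Elab.async false

/-!
A part of the enumeration on 11 points: the test holds at every permutation of the part.
-/

namespace Cfsg.Agent.Helper9.T11

set_option maxRecDepth 100000 in
theorem ch_1_5_2_3_4 : enum 11 ck11 1 5 4400400 63 6 4 = true := by
  decide +kernel

set_option maxRecDepth 100000 in
theorem ch_1_5_2_3_6 : enum 11 ck11 1 5 6497552 111 6 6 = true := by
  decide +kernel

set_option maxRecDepth 100000 in
theorem ch_1_5_2_3_7 : enum 11 ck11 1 5 7546128 175 6 7 = true := by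
  decide +kernel

set_option maxRecDepth 100000 in
theorem ch_1_5_2_3_8 : enum 11 ck11 1 5 8594704 303 6 8 = true := by
  decide +kernel

set_option maxRecDepth 100000 in
theorem ch_1_5_2_3_9 : enum 11 ck11 1 5 9643280 559 6 9 = true := by
  decide +kernel

set_option maxRecDepth 100000 in
theorem ch_1_5_2_3_10 : enum 11 ck11 1 5 10691856 1071 6 10 = true := by
  decide +kernel

theorem ch_1_5_2_3 : enum 11 ck11 1 6 206096 47 5 3 = true := by
  refine enum_intro 11 ck11 1 5 206096 47 5 3 ?_
  intro v hv hb hd
  interval_cases v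
  · exact absurd hb (by decide)
  · exact absurd hb (by decide)
  · exact absurd hb (by decide)
  · exact absurd hb (by decide)
  · exact ch_1_5_2_3_4
  · exact absurd hb (by decide)
  · exact ch_1_5_2_3_6
  · exact ch_1_5_2_3_7
  · exact ch_1_5_2_3_8
  · exact ch_1_5_2_3_9
  · exact ch_1_5_2_3_10

set_option maxRecDepth 100000 in
theorem ch_1_5_2_4_3 : enum 11 ck11 1 5 3417360 63 6 3 = true := by
  decide +kernel

set_option maxRecDepth 100000 in
theorem ch_1_5_2_4_6 : enum 11 ck11 1 5 6563088 119 6 6 = true := by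
  decide +kernel

set_option maxRecDepth 100000 in
theorem ch_1_5_2_4_7 : enum 11 ck11 1 5 7611664 183 6 7 = true := by
  decide +kernel

set_option maxRecDepth 100000 in
theorem ch_1_5_2_4_8 : enum 11 ck11 1 5 8660240 311 6 8 = true := by
  decide +kernel

set_option maxRecDepth 100000 in
theorem ch_1_5_2_4_9 : enum 11 ck11 1 5 9708816 567 6 9 = true := by
  decide +kernel

set_option maxRecDepth 100000 in
theorem ch_1_5_2_4_10 : enum 11 ck11 1 5 10757392 1079 6 10 = true := by
  decide +kernel

theorem ch_1_5_2_4 : enum 11 ck11 1 6 271632 55 5 4 = true := by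
  refine enum_intro 11 ck11 1 5 271632 55 5 4 ?_
  intro v hv hb hd
  interval_cases v
  · exact absurd hb (by decide)
  · exact absurd hb (by decide)
  · exact absurd hb (by decide)
  · exact ch_1_5_2_4_3
  · exact absurd hb (by decide)
  · exact absurd hb (by decide)
  · exact ch_1_5_2_4_6
  · exact ch_1_5_2_4_7
  · exact ch_1_5_2_4_8
  · exact ch_1_5_2_4_9
  · exact ch_1_5_2_4_10

set_option maxRecDepth 100000 in
theorem ch_1_5_2_6_3 : enum 11 ck11 1 5 3548432 111 6 3 = true := by
  decide +kernel

set_option maxRecDepth 100000 in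
theorem ch_1_5_2_6_4 : enum 11 ck11 1 5 4597008 119 6 4 = true := by
  decide +kernel

set_option maxRecDepth 100000 in
theorem ch_1_5_2_6_7 : enum 11 ck11 1 5 7742736 231 6 7 = true := by
  decide +kernel

set_option maxRecDepth 100000 in
theorem ch_1_5_2_6_8 : enum 11 ck11 1 5 8791312 359 6 8 = true := by
  decide +kernel

set_option maxRecDepth 100000 in
theorem ch_1_5_2_6_9 : enum 11 ck11 1 5 9839888 615 6 9 = true := by
  decide +kernel

set_option maxRecDepth 100000 in
theorem ch_1_5_2_6_10 : enum 11 ck11 1 5 10888464 1127 6 10 = true := by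
  decide +kernel

theorem ch_1_5_2_6 : enum 11 ck11 1 6 402704 103 5 6 = true := by
  refine enum_intro 11 ck11 1 5 402704 103 5 6 ?_
  intro v hv hb hd
  interval_cases v
  · exact absurd hb (by decide)
  · exact absurd hb (by decide)
  · exact absurd hb (by decide)
  · exact ch_1_5_2_6_3
  · exact ch_1_5_2_6_4
  · exact absurd hb (by decide)
  · exact absurd hb (by decide)
  · exact ch_1_5_2_6_7
  · exact ch_1_5_2_6_8
  · exact ch_1_5_2_6_9
  · exact ch_1_5_2_6_10

set_option maxRecDepth 100000 in
theorem ch_1_5_2_7_3 : enum 11 ck11 1 5 3613968 175 6 3 = true := by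
  decide +kernel

set_option maxRecDepth 100000 in
theorem ch_1_5_2_7_4 : enum 11 ck11 1 5 4662544 183 6 4 = true := by
  decide +kernel

set_option maxRecDepth 100000 in
theorem ch_1_5_2_7_6 : enum 11 ck11 1 5 6759696 231 6 6 = true := by
  decide +kernel

set_option maxRecDepth 100000 in
theorem ch_1_5_2_7_8 : enum 11 ck11 1 5 8856848 423 6 8 = true := by
  decide +kernel

set_option maxRecDepth 100000 in
theorem ch_1_5_2_7_9 : enum 11 ck11 1 5 9905424 679 6 9 = true := by
  decide +kernel

set_option maxRecDepth 100000 in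
theorem ch_1_5_2_7_10 : enum 11 ck11 1 5 10954000 1191 6 10 = true := by
  decide +kernel

theorem ch_1_5_2_7 : enum 11 ck11 1 6 468240 167 5 7 = true := by
  refine enum_intro 11 ck11 1 5 468240 167 5 7 ?_
  intro v hv hb hd
  interval_cases v
  · exact absurd hb (by decide)
  · exact absurd hb (by decide)
  · exact absurd hb (by decide)
  · exact ch_1_5_2_7_3
  · exact ch_1_5_2_7_4
  · exact absurd hb (by decide)
  · exact ch_1_5_2_7_6
  · exact absurd hb (by decide)
  · exact ch_1_5_2_7_8
  · exact ch_1_5_2_7_9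
  · exact ch_1_5_2_7_10

set_option maxRecDepth 100000 in
theorem ch_1_5_2_8_3 : enum 11 ck11 1 5 3679504 303 6 3 = true := by
  decide +kernel

set_option maxRecDepth 100000 in
theorem ch_1_5_2_8_4 : enum 11 ck11 1 5 4728080 311 6 4 = true := by
  decide +kernel

set_option maxRecDepth 100000 in
theorem ch_1_5_2_8_6 : enum 11 ck11 1 5 6825232 359 6 6 = true := by
  decide +kernel

set_option maxRecDepth 100000 in
theorem ch_1_5_2_8_7 : enum 11 ck11 1 5 7873808 423 6 7 = true := by
  decide +kernel

set_option maxRecDepth 100000 in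
theorem ch_1_5_2_8_9 : enum 11 ck11 1 5 9970960 807 6 9 = true := by
  decide +kernel

set_option maxRecDepth 100000 in
theorem ch_1_5_2_8_10 : enum 11 ck11 1 5 11019536 1319 6 10 = true := by
  decide +kernel

theorem ch_1_5_2_8 : enum 11 ck11 1 6 533776 295 5 8 = true := by
  refine enum_intro 11 ck11 1 5 533776 295 5 8 ?_
  intro v hv hb hd
  interval_cases v
  · exact absurd hb (by decide)
  · exact absurd hb (by decide)
  · exact absurd hb (by decide)
  · exact ch_1_5_2_8_3
  · exact ch_1_5_2_8_4
  · exact absurd hb (by decide)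
  · exact ch_1_5_2_8_6
  · exact ch_1_5_2_8_7
  · exact absurd hb (by decide)
  · exact ch_1_5_2_8_9
  · exact ch_1_5_2_8_10

set_option maxRecDepth 100000 in
theorem ch_1_5_2_9_3 : enum 11 ck11 1 5 3745040 559 6 3 = true := by
  decide +kernel

set_option maxRecDepth 100000 in
theorem ch_1_5_2_9_4 : enum 11 ck11 1 5 4793616 567 6 4 = true := by
  decide +kernel

set_option maxRecDepth 100000 in
theorem ch_1_5_2_9_6 : enum 11 ck11 1 5 6890768 615 6 6 = true := by
  decide +kernel

set_option maxRecDepth 100000 in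
theorem ch_1_5_2_9_7 : enum 11 ck11 1 5 7939344 679 6 7 = true := by
  decide +kernel

set_option maxRecDepth 100000 in
theorem ch_1_5_2_9_8 : enum 11 ck11 1 5 8987920 807 6 8 = true := by
  decide +kernel

set_option maxRecDepth 100000 in
theorem ch_1_5_2_9_10 : enum 11 ck11 1 5 11085072 1575 6 10 = true := by
  decide +kernel

theorem ch_1_5_2_9 : enum 11 ck11 1 6 599312 551 5 9 = true := by
  refine enum_intro 11 ck11 1 5 599312 551 5 9 ?_
  intro v hv hb hd
  interval_cases v
  · exact absurd hb (by decide)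
  · exact absurd hb (by decide)
  · exact absurd hb (by decide)
  · exact ch_1_5_2_9_3
  · exact ch_1_5_2_9_4
  · exact absurd hb (by decide)
  · exact ch_1_5_2_9_6
  · exact ch_1_5_2_9_7
  · exact ch_1_5_2_9_8
  · exact absurd hb (by decide)
  · exact ch_1_5_2_9_10

set_option maxRecDepth 100000 in
theorem ch_1_5_2_10_3 : enum 11 ck11 1 5 3810576 1071 6 3 = true := by
  decide +kernel

set_option maxRecDepth 100000 in
theorem ch_1_5_2_10_4 : enum 11 ck11 1 5 4859152 1079 6 4 = true := by
  decide +kernel

set_option maxRecDepth 100000 in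
theorem ch_1_5_2_10_6 : enum 11 ck11 1 5 6956304 1127 6 6 = true := by
  decide +kernel

set_option maxRecDepth 100000 in
theorem ch_1_5_2_10_7 : enum 11 ck11 1 5 8004880 1191 6 7 = true := by
  decide +kernel

set_option maxRecDepth 100000 in
theorem ch_1_5_2_10_8 : enum 11 ck11 1 5 9053456 1319 6 8 = true := by
  decide +kernel

set_option maxRecDepth 100000 in
theorem ch_1_5_2_10_9 : enum 11 ck11 1 5 10102032 1575 6 9 = true := by
  decide +kernel

theorem ch_1_5_2_10 : enum 11 ck11 1 6 664848 1063 5 10 = true := by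
  refine enum_intro 11 ck11 1 5 664848 1063 5 10 ?_
  intro v hv hb hd
  interval_cases v
  · exact absurd hb (by decide)
  · exact absurd hb (by decide)
  · exact absurd hb (by decide)
  · exact ch_1_5_2_10_3
  · exact ch_1_5_2_10_4
  · exact absurd hb (by decide)
  · exact ch_1_5_2_10_6
  · exact ch_1_5_2_10_7
  · exact ch_1_5_2_10_8
  · exact ch_1_5_2_10_9
  · exact absurd hb (by decide)

theorem ch_1_5_2 : enum 11 ck11 1 7 9488 39 4 2 = true := by
  refine enum_intro 11 ck11 1 6 9488 39 4 2 ?_
  intro v hv hb hd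
  interval_cases v
  · exact absurd hb (by decide)
  · exact absurd hb (by decide)
  · exact absurd hb (by decide)
  · exact ch_1_5_2_3
  · exact ch_1_5_2_4
  · exact absurd hb (by decide)
  · exact ch_1_5_2_6
  · exact ch_1_5_2_7
  · exact ch_1_5_2_8
  · exact ch_1_5_2_9
  · exact ch_1_5_2_10

set_option maxRecDepth 100000 in
theorem ch_1_5_3_2_4 : enum 11 ck11 1 5 4338960 63 6 4 = true := by
  decide +kernel

set_option maxRecDepth 100000 in
theorem ch_1_5_3_2_6 : enum 11 ck11 1 5 6436112 111 6 6 = true := by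
  decide +kernel

set_option maxRecDepth 100000 in
theorem ch_1_5_3_2_7 : enum 11 ck11 1 5 7484688 175 6 7 = true := by
  decide +kernel

set_option maxRecDepth 100000 in
theorem ch_1_5_3_2_8 : enum 11 ck11 1 5 8533264 303 6 8 = true := by
  decide +kernel

set_option maxRecDepth 100000 in
theorem ch_1_5_3_2_9 : enum 11 ck11 1 5 9581840 559 6 9 = true := by
  decide +kernel

set_option maxRecDepth 100000 in
theorem ch_1_5_3_2_10 : enum 11 ck11 1 5 10630416 1071 6 10 = true := by
  decide +kernel

theorem ch_1_5_3_2 : enum 11 ck11 1 6 144656 47 5 2 = true := by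
  refine enum_intro 11 ck11 1 5 144656 47 5 2 ?_
  intro v hv hb hd
  interval_cases v
  · exact absurd hb (by decide)
  · exact absurd hb (by decide)
  · exact absurd hb (by decide)
  · exact absurd hb (by decide)
  · exact ch_1_5_3_2_4
  · exact absurd hb (by decide)
  · exact ch_1_5_3_2_6
  · exact ch_1_5_3_2_7
  · exact ch_1_5_3_2_8
  · exact ch_1_5_3_2_9
  · exact ch_1_5_3_2_10

set_option maxRecDepth 100000 in
theorem ch_1_5_3_4_2 : enum 11 ck11 1 5 2372880 63 6 2 = true := by
  decide +kernel

set_option maxRecDepth 100000 in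
theorem ch_1_5_3_4_6 : enum 11 ck11 1 5 6567184 123 6 6 = true := by
  decide +kernel

set_option maxRecDepth 100000 in
theorem ch_1_5_3_4_7 : enum 11 ck11 1 5 7615760 187 6 7 = true := by
  decide +kernel

set_option maxRecDepth 100000 in
theorem ch_1_5_3_4_8 : enum 11 ck11 1 5 8664336 315 6 8 = true := by
  decide +kernel

set_option maxRecDepth 100000 in
theorem ch_1_5_3_4_9 : enum 11 ck11 1 5 9712912 571 6 9 = true := by
  decide +kernel

set_option maxRecDepth 100000 in
theorem ch_1_5_3_4_10 : enum 11 ck11 1 5 10761488 1083 6 10 = true := by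
  decide +kernel

theorem ch_1_5_3_4 : enum 11 ck11 1 6 275728 59 5 4 = true := by
  refine enum_intro 11 ck11 1 5 275728 59 5 4 ?_
  intro v hv hb hd
  interval_cases v
  · exact absurd hb (by decide)
  · exact absurd hb (by decide)
  · exact ch_1_5_3_4_2
  · exact absurd hb (by decide)
  · exact absurd hb (by decide)
  · exact absurd hb (by decide)
  · exact ch_1_5_3_4_6
  · exact ch_1_5_3_4_7
  · exact ch_1_5_3_4_8
  · exact ch_1_5_3_4_9
  · exact ch_1_5_3_4_10

set_option maxRecDepth 100000 in
theorem ch_1_5_3_6_2 : enum 11 ck11 1 5 2503952 111 6 2 = true := by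
  decide +kernel

set_option maxRecDepth 100000 in
theorem ch_1_5_3_6_4 : enum 11 ck11 1 5 4601104 123 6 4 = true := by
  decide +kernel

set_option maxRecDepth 100000 in
theorem ch_1_5_3_6_7 : enum 11 ck11 1 5 7746832 235 6 7 = true := by
  decide +kernel

set_option maxRecDepth 100000 in
theorem ch_1_5_3_6_8 : enum 11 ck11 1 5 8795408 363 6 8 = true := by
  decide +kernel

set_option maxRecDepth 100000 in
theorem ch_1_5_3_6_9 : enum 11 ck11 1 5 9843984 619 6 9 = true := by
  decide +kernel

set_option maxRecDepth 100000 in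
theorem ch_1_5_3_6_10 : enum 11 ck11 1 5 10892560 1131 6 10 = true := by
  decide +kernel

theorem ch_1_5_3_6 : enum 11 ck11 1 6 406800 107 5 6 = true := by
  refine enum_intro 11 ck11 1 5 406800 107 5 6 ?_
  intro v hv hb hd
  interval_cases v
  · exact absurd hb (by decide)
  · exact absurd hb (by decide)
  · exact ch_1_5_3_6_2
  · exact absurd hb (by decide)
  · exact ch_1_5_3_6_4
  · exact absurd hb (by decide)
  · exact absurd hb (by decide)
  · exact ch_1_5_3_6_7
  · exact ch_1_5_3_6_8
  · exact ch_1_5_3_6_9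
  · exact ch_1_5_3_6_10

set_option maxRecDepth 100000 in
theorem ch_1_5_3_7_2 : enum 11 ck11 1 5 2569488 175 6 2 = true := by
  decide +kernel

set_option maxRecDepth 100000 in
theorem ch_1_5_3_7_4 : enum 11 ck11 1 5 4666640 187 6 4 = true := by
  decide +kernel

set_option maxRecDepth 100000 in
theorem ch_1_5_3_7_6 : enum 11 ck11 1 5 6763792 235 6 6 = true := by
  decide +kernel

set_option maxRecDepth 100000 in
theorem ch_1_5_3_7_8 : enum 11 ck11 1 5 8860944 427 6 8 = true := by
  decide +kernel

set_option maxRecDepth 100000 in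
theorem ch_1_5_3_7_9 : enum 11 ck11 1 5 9909520 683 6 9 = true := by
  decide +kernel

set_option maxRecDepth 100000 in
theorem ch_1_5_3_7_10 : enum 11 ck11 1 5 10958096 1195 6 10 = true := by
  decide +kernel

theorem ch_1_5_3_7 : enum 11 ck11 1 6 472336 171 5 7 = true := by
  refine enum_intro 11 ck11 1 5 472336 171 5 7 ?_
  intro v hv hb hd
  interval_cases v
  · exact absurd hb (by decide)
  · exact absurd hb (by decide)
  · exact ch_1_5_3_7_2
  · exact absurd hb (by decide)
  · exact ch_1_5_3_7_4
  · exact absurd hb (by decide)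
  · exact ch_1_5_3_7_6
  · exact absurd hb (by decide)
  · exact ch_1_5_3_7_8
  · exact ch_1_5_3_7_9
  · exact ch_1_5_3_7_10

set_option maxRecDepth 100000 in
theorem ch_1_5_3_8_2 : enum 11 ck11 1 5 2635024 303 6 2 = true := by
  decide +kernel

set_option maxRecDepth 100000 in
theorem ch_1_5_3_8_4 : enum 11 ck11 1 5 4732176 315 6 4 = true := by
  decide +kernel

set_option maxRecDepth 100000 in
theorem ch_1_5_3_8_6 : enum 11 ck11 1 5 6829328 363 6 6 = true := by
  decide +kernel

set_option maxRecDepth 100000 in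
theorem ch_1_5_3_8_7 : enum 11 ck11 1 5 7877904 427 6 7 = true := by
  decide +kernel

set_option maxRecDepth 100000 in
theorem ch_1_5_3_8_9 : enum 11 ck11 1 5 9975056 811 6 9 = true := by
  decide +kernel

set_option maxRecDepth 100000 in
theorem ch_1_5_3_8_10 : enum 11 ck11 1 5 11023632 1323 6 10 = true := by
  decide +kernel

theorem ch_1_5_3_8 : enum 11 ck11 1 6 537872 299 5 8 = true := by
  refine enum_intro 11 ck11 1 5 537872 299 5 8 ?_
  intro v hv hb hd
  interval_cases v
  · exact absurd hb (by decide)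
  · exact absurd hb (by decide)
  · exact ch_1_5_3_8_2
  · exact absurd hb (by decide)
  · exact ch_1_5_3_8_4
  · exact absurd hb (by decide)
  · exact ch_1_5_3_8_6
  · exact ch_1_5_3_8_7
  · exact absurd hb (by decide)
  · exact ch_1_5_3_8_9
  · exact ch_1_5_3_8_10

set_option maxRecDepth 100000 in
theorem ch_1_5_3_9_2 : enum 11 ck11 1 5 2700560 559 6 2 = true := by
  decide +kernel

set_option maxRecDepth 100000 in
theorem ch_1_5_3_9_4 : enum 11 ck11 1 5 4797712 571 6 4 = true := by
  decide +kernel

set_option maxRecDepth 100000 in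
theorem ch_1_5_3_9_6 : enum 11 ck11 1 5 6894864 619 6 6 = true := by
  decide +kernel

set_option maxRecDepth 100000 in
theorem ch_1_5_3_9_7 : enum 11 ck11 1 5 7943440 683 6 7 = true := by
  decide +kernel

set_option maxRecDepth 100000 in
theorem ch_1_5_3_9_8 : enum 11 ck11 1 5 8992016 811 6 8 = true := by
  decide +kernel

set_option maxRecDepth 100000 in
theorem ch_1_5_3_9_10 : enum 11 ck11 1 5 11089168 1579 6 10 = true := by
  decide +kernel

theorem ch_1_5_3_9 : enum 11 ck11 1 6 603408 555 5 9 = true := by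
  refine enum_intro 11 ck11 1 5 603408 555 5 9 ?_
  intro v hv hb hd
  interval_cases v
  · exact absurd hb (by decide)
  · exact absurd hb (by decide)
  · exact ch_1_5_3_9_2
  · exact absurd hb (by decide)
  · exact ch_1_5_3_9_4
  · exact absurd hb (by decide)
  · exact ch_1_5_3_9_6
  · exact ch_1_5_3_9_7
  · exact ch_1_5_3_9_8
  · exact absurd hb (by decide)
  · exact ch_1_5_3_9_10

set_option maxRecDepth 100000 in
theorem ch_1_5_3_10_2 : enum 11 ck11 1 5 2766096 1071 6 2 = true := by
  decide +kernel

set_option maxRecDepth 100000 in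
theorem ch_1_5_3_10_4 : enum 11 ck11 1 5 4863248 1083 6 4 = true := by
  decide +kernel

set_option maxRecDepth 100000 in
theorem ch_1_5_3_10_6 : enum 11 ck11 1 5 6960400 1131 6 6 = true := by
  decide +kernel

set_option maxRecDepth 100000 in
theorem ch_1_5_3_10_7 : enum 11 ck11 1 5 8008976 1195 6 7 = true := by
  decide +kernel

set_option maxRecDepth 100000 in
theorem ch_1_5_3_10_8 : enum 11 ck11 1 5 9057552 1323 6 8 = true := by
  decide +kernel

set_option maxRecDepth 100000 in
theorem ch_1_5_3_10_9 : enum 11 ck11 1 5 10106128 1579 6 9 = true := by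
  decide +kernel

theorem ch_1_5_3_10 : enum 11 ck11 1 6 668944 1067 5 10 = true := by
  refine enum_intro 11 ck11 1 5 668944 1067 5 10 ?_
  intro v hv hb hd
  interval_cases v
  · exact absurd hb (by decide)
  · exact absurd hb (by decide)
  · exact ch_1_5_3_10_2
  · exact absurd hb (by decide)
  · exact ch_1_5_3_10_4
  · exact absurd hb (by decide)
  · exact ch_1_5_3_10_6
  · exact ch_1_5_3_10_7
  · exact ch_1_5_3_10_8
  · exact ch_1_5_3_10_9
  · exact absurd hb (by decide)

theorem ch_1_5_3 : enum 11 ck11 1 7 13584 43 4 3 = true := by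
  refine enum_intro 11 ck11 1 6 13584 43 4 3 ?_
  intro v hv hb hd
  interval_cases v
  · exact absurd hb (by decide)
  · exact absurd hb (by decide)
  · exact ch_1_5_3_2
  · exact absurd hb (by decide)
  · exact ch_1_5_3_4
  · exact absurd hb (by decide)
  · exact ch_1_5_3_6
  · exact ch_1_5_3_7
  · exact ch_1_5_3_8
  · exact ch_1_5_3_9
  · exact ch_1_5_3_10

set_option maxRecDepth 100000 in
theorem ch_1_5_4_2_3 : enum 11 ck11 1 5 3294480 63 6 3 = true := by
  decide +kernel

set_option maxRecDepth 100000 in
theorem ch_1_5_4_2_6 : enum 11 ck11 1 5 6440208 119 6 6 = true := by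
  decide +kernel

set_option maxRecDepth 100000 in
theorem ch_1_5_4_2_7 : enum 11 ck11 1 5 7488784 183 6 7 = true := by
  decide +kernel

set_option maxRecDepth 100000 in
theorem ch_1_5_4_2_8 : enum 11 ck11 1 5 8537360 311 6 8 = true := by
  decide +kernel

set_option maxRecDepth 100000 in
theorem ch_1_5_4_2_9 : enum 11 ck11 1 5 9585936 567 6 9 = true := by
  decide +kernel

set_option maxRecDepth 100000 in
theorem ch_1_5_4_2_10 : enum 11 ck11 1 5 10634512 1079 6 10 = true := by
  decide +kernel

theorem ch_1_5_4_2 : enum 11 ck11 1 6 148752 55 5 2 = true := by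
  refine enum_intro 11 ck11 1 5 148752 55 5 2 ?_
  intro v hv hb hd
  interval_cases v
  · exact absurd hb (by decide)
  · exact absurd hb (by decide)
  · exact absurd hb (by decide)
  · exact ch_1_5_4_2_3
  · exact absurd hb (by decide)
  · exact absurd hb (by decide)
  · exact ch_1_5_4_2_6
  · exact ch_1_5_4_2_7
  · exact ch_1_5_4_2_8
  · exact ch_1_5_4_2_9
  · exact ch_1_5_4_2_10

set_option maxRecDepth 100000 in
theorem ch_1_5_4_3_2 : enum 11 ck11 1 5 2311440 63 6 2 = true := by
  decide +kernel

set_option maxRecDepth 100000 in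
theorem ch_1_5_4_3_6 : enum 11 ck11 1 5 6505744 123 6 6 = true := by
  decide +kernel

set_option maxRecDepth 100000 in
theorem ch_1_5_4_3_7 : enum 11 ck11 1 5 7554320 187 6 7 = true := by
  decide +kernel

set_option maxRecDepth 100000 in
theorem ch_1_5_4_3_8 : enum 11 ck11 1 5 8602896 315 6 8 = true := by
  decide +kernel

set_option maxRecDepth 100000 in
theorem ch_1_5_4_3_9 : enum 11 ck11 1 5 9651472 571 6 9 = true := by
  decide +kernel

set_option maxRecDepth 100000 in
theorem ch_1_5_4_3_10 : enum 11 ck11 1 5 10700048 1083 6 10 = true := by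
  decide +kernel

theorem ch_1_5_4_3 : enum 11 ck11 1 6 214288 59 5 3 = true := by
  refine enum_intro 11 ck11 1 5 214288 59 5 3 ?_
  intro v hv hb hd
  interval_cases v
  · exact absurd hb (by decide)
  · exact absurd hb (by decide)
  · exact ch_1_5_4_3_2
  · exact absurd hb (by decide)
  · exact absurd hb (by decide)
  · exact absurd hb (by decide)
  · exact ch_1_5_4_3_6
  · exact ch_1_5_4_3_7
  · exact ch_1_5_4_3_8
  · exact ch_1_5_4_3_9
  · exact ch_1_5_4_3_10

set_option maxRecDepth 100000 in
theorem ch_1_5_4_6_2 : enum 11 ck11 1 5 2508048 119 6 2 = true := by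
  decide +kernel

set_option maxRecDepth 100000 in
theorem ch_1_5_4_6_3 : enum 11 ck11 1 5 3556624 123 6 3 = true := by
  decide +kernel

set_option maxRecDepth 100000 in
theorem ch_1_5_4_6_7 : enum 11 ck11 1 5 7750928 243 6 7 = true := by
  decide +kernel

set_option maxRecDepth 100000 in
theorem ch_1_5_4_6_8 : enum 11 ck11 1 5 8799504 371 6 8 = true := by
  decide +kernel

set_option maxRecDepth 100000 in
theorem ch_1_5_4_6_9 : enum 11 ck11 1 5 9848080 627 6 9 = true := by
  decide +kernel

set_option maxRecDepth 100000 in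
theorem ch_1_5_4_6_10 : enum 11 ck11 1 5 10896656 1139 6 10 = true := by
  decide +kernel

theorem ch_1_5_4_6 : enum 11 ck11 1 6 410896 115 5 6 = true := by
  refine enum_intro 11 ck11 1 5 410896 115 5 6 ?_
  intro v hv hb hd
  interval_cases v
  · exact absurd hb (by decide)
  · exact absurd hb (by decide)
  · exact ch_1_5_4_6_2
  · exact ch_1_5_4_6_3
  · exact absurd hb (by decide)
  · exact absurd hb (by decide)
  · exact absurd hb (by decide)
  · exact ch_1_5_4_6_7
  · exact ch_1_5_4_6_8
  · exact ch_1_5_4_6_9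
  · exact ch_1_5_4_6_10

set_option maxRecDepth 100000 in
theorem ch_1_5_4_7_2 : enum 11 ck11 1 5 2573584 183 6 2 = true := by
  decide +kernel

set_option maxRecDepth 100000 in
theorem ch_1_5_4_7_3 : enum 11 ck11 1 5 3622160 187 6 3 = true := by
  decide +kernel

set_option maxRecDepth 100000 in
theorem ch_1_5_4_7_6 : enum 11 ck11 1 5 6767888 243 6 6 = true := by
  decide +kernel

set_option maxRecDepth 100000 in
theorem ch_1_5_4_7_8 : enum 11 ck11 1 5 8865040 435 6 8 = true := by
  decide +kernel

set_option maxRecDepth 100000 in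
theorem ch_1_5_4_7_9 : enum 11 ck11 1 5 9913616 691 6 9 = true := by
  decide +kernel

set_option maxRecDepth 100000 in
theorem ch_1_5_4_7_10 : enum 11 ck11 1 5 10962192 1203 6 10 = true := by
  decide +kernel

theorem ch_1_5_4_7 : enum 11 ck11 1 6 476432 179 5 7 = true := by
  refine enum_intro 11 ck11 1 5 476432 179 5 7 ?_
  intro v hv hb hd
  interval_cases v
  · exact absurd hb (by decide)
  · exact absurd hb (by decide)
  · exact ch_1_5_4_7_2
  · exact ch_1_5_4_7_3
  · exact absurd hb (by decide)
  · exact absurd hb (by decide)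
  · exact ch_1_5_4_7_6
  · exact absurd hb (by decide)
  · exact ch_1_5_4_7_8
  · exact ch_1_5_4_7_9
  · exact ch_1_5_4_7_10

set_option maxRecDepth 100000 in
theorem ch_1_5_4_8_2 : enum 11 ck11 1 5 2639120 311 6 2 = true := by
  decide +kernel

set_option maxRecDepth 100000 in
theorem ch_1_5_4_8_3 : enum 11 ck11 1 5 3687696 315 6 3 = true := by
  decide +kernel

set_option maxRecDepth 100000 in
theorem ch_1_5_4_8_6 : enum 11 ck11 1 5 6833424 371 6 6 = true := by
  decide +kernel

set_option maxRecDepth 100000 in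
theorem ch_1_5_4_8_7 : enum 11 ck11 1 5 7882000 435 6 7 = true := by
  decide +kernel

set_option maxRecDepth 100000 in
theorem ch_1_5_4_8_9 : enum 11 ck11 1 5 9979152 819 6 9 = true := by
  decide +kernel

set_option maxRecDepth 100000 in
theorem ch_1_5_4_8_10 : enum 11 ck11 1 5 11027728 1331 6 10 = true := by
  decide +kernel

theorem ch_1_5_4_8 : enum 11 ck11 1 6 541968 307 5 8 = true := by
  refine enum_intro 11 ck11 1 5 541968 307 5 8 ?_
  intro v hv hb hd
  interval_cases v
  · exact absurd hb (by decide)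
  · exact absurd hb (by decide)
  · exact ch_1_5_4_8_2
  · exact ch_1_5_4_8_3
  · exact absurd hb (by decide)
  · exact absurd hb (by decide)
  · exact ch_1_5_4_8_6
  · exact ch_1_5_4_8_7
  · exact absurd hb (by decide)
  · exact ch_1_5_4_8_9
  · exact ch_1_5_4_8_10

set_option maxRecDepth 100000 in
theorem ch_1_5_4_9_2 : enum 11 ck11 1 5 2704656 567 6 2 = true := by
  decide +kernel

set_option maxRecDepth 100000 in
theorem ch_1_5_4_9_3 : enum 11 ck11 1 5 3753232 571 6 3 = true := by
  decide +kernel

set_option maxRecDepth 100000 in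
theorem ch_1_5_4_9_6 : enum 11 ck11 1 5 6898960 627 6 6 = true := by
  decide +kernel

set_option maxRecDepth 100000 in
theorem ch_1_5_4_9_7 : enum 11 ck11 1 5 7947536 691 6 7 = true := by
  decide +kernel

set_option maxRecDepth 100000 in
theorem ch_1_5_4_9_8 : enum 11 ck11 1 5 8996112 819 6 8 = true := by
  decide +kernel

set_option maxRecDepth 100000 in
theorem ch_1_5_4_9_10 : enum 11 ck11 1 5 11093264 1587 6 10 = true := by
  decide +kernel

theorem ch_1_5_4_9 : enum 11 ck11 1 6 607504 563 5 9 = true := by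
  refine enum_intro 11 ck11 1 5 607504 563 5 9 ?_
  intro v hv hb hd
  interval_cases v
  · exact absurd hb (by decide)
  · exact absurd hb (by decide)
  · exact ch_1_5_4_9_2
  · exact ch_1_5_4_9_3
  · exact absurd hb (by decide)
  · exact absurd hb (by decide)
  · exact ch_1_5_4_9_6
  · exact ch_1_5_4_9_7
  · exact ch_1_5_4_9_8
  · exact absurd hb (by decide)
  · exact ch_1_5_4_9_10

set_option maxRecDepth 100000 in
theorem ch_1_5_4_10_2 : enum 11 ck11 1 5 2770192 1079 6 2 = true := by
  decide +kernel

set_option maxRecDepth 100000 in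
theorem ch_1_5_4_10_3 : enum 11 ck11 1 5 3818768 1083 6 3 = true := by
  decide +kernel

set_option maxRecDepth 100000 in
theorem ch_1_5_4_10_6 : enum 11 ck11 1 5 6964496 1139 6 6 = true := by
  decide +kernel

set_option maxRecDepth 100000 in
theorem ch_1_5_4_10_7 : enum 11 ck11 1 5 8013072 1203 6 7 = true := by
  decide +kernel

set_option maxRecDepth 100000 in
theorem ch_1_5_4_10_8 : enum 11 ck11 1 5 9061648 1331 6 8 = true := by
  decide +kernel

set_option maxRecDepth 100000 in
theorem ch_1_5_4_10_9 : enum 11 ck11 1 5 10110224 1587 6 9 = true := by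
  decide +kernel

theorem ch_1_5_4_10 : enum 11 ck11 1 6 673040 1075 5 10 = true := by
  refine enum_intro 11 ck11 1 5 673040 1075 5 10 ?_
  intro v hv hb hd
  interval_cases v
  · exact absurd hb (by decide)
  · exact absurd hb (by decide)
  · exact ch_1_5_4_10_2
  · exact ch_1_5_4_10_3
  · exact absurd hb (by decide)
  · exact absurd hb (by decide)
  · exact ch_1_5_4_10_6
  · exact ch_1_5_4_10_7
  · exact ch_1_5_4_10_8
  · exact ch_1_5_4_10_9
  · exact absurd hb (by decide)

theorem ch_1_5_4 : enum 11 ck11 1 7 17680 51 4 4 = true := by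
  refine enum_intro 11 ck11 1 6 17680 51 4 4 ?_
  intro v hv hb hd
  interval_cases v
  · exact absurd hb (by decide)
  · exact absurd hb (by decide)
  · exact ch_1_5_4_2
  · exact ch_1_5_4_3
  · exact absurd hb (by decide)
  · exact absurd hb (by decide)
  · exact ch_1_5_4_6
  · exact ch_1_5_4_7
  · exact ch_1_5_4_8
  · exact ch_1_5_4_9
  · exact ch_1_5_4_10

end Cfsg.Agent.Helper9.T11
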