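import Mathlib
import Cfsg.Agent.Helper9.T11.Chk

set_option autoImplicit false
set_option Elab.async false

/-!
A part of the enumeration on 11 points: the test holds at every permutation of the part.
-/

namespace Cfsg.Agent.Helper9.T11

set_option maxRecDepth 100000 in
theorem ch_1_5_6_2_3 : enum 11 ck11 1 5 3302672 111 6 3 = true := by
  decide +kernel

set_option maxRecDepth 100000 in
theorem ch_1_5_6_2_4 : enum 11 ck11 1 5 4351248 119 6 4 = true := by
  decide +kernel

set_option maxRecDepth 100000 in
theorem ch_1_5_6_2_7 : enum 11 ck11 1 5 7496976 231 6 7 = true := by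
  decide +kernel

set_option maxRecDepth 100000 in
theorem ch_1_5_6_2_8 : enum 11 ck11 1 5 8545552 359 6 8 = true := by
  decide +kernel

set_option maxRecDepth 100000 in
theorem ch_1_5_6_2_9 : enum 11 ck11 1 5 9594128 615 6 9 = true := by
  decide +kernel

set_option maxRecDepth 100000 in
theorem ch_1_5_6_2_10 : enum 11 ck11 1 5 10642704 1127 6 10 = true := by
  decide +kernel

theorem ch_1_5_6_2 : enum 11 ck11 1 6 156944 103 5 2 = true := by
  refine enum_intro 11 ck11 1 5 156944 103 5 2 ?_
  intro v hv hb hd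
  interval_cases v
  · exact absurd hb (by decide)
  · exact absurd hb (by decide)
  · exact absurd hb (by decide)
  · exact ch_1_5_6_2_3
  · exact ch_1_5_6_2_4
  · exact absurd hb (by decide)
  · exact absurd hb (by decide)
  · exact ch_1_5_6_2_7
  · exact ch_1_5_6_2_8
  · exact ch_1_5_6_2_9
  · exact ch_1_5_6_2_10

set_option maxRecDepth 100000 in
theorem ch_1_5_6_3_2 : enum 11 ck11 1 5 2319632 111 6 2 = true := by
  decide +kernel

set_option maxRecDepth 100000 in
theorem ch_1_5_6_3_4 : enum 11 ck11 1 5 4416784 123 6 4 = true := by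
  decide +kernel

set_option maxRecDepth 100000 in
theorem ch_1_5_6_3_7 : enum 11 ck11 1 5 7562512 235 6 7 = true := by
  decide +kernel

set_option maxRecDepth 100000 in
theorem ch_1_5_6_3_8 : enum 11 ck11 1 5 8611088 363 6 8 = true := by
  decide +kernel

set_option maxRecDepth 100000 in
theorem ch_1_5_6_3_9 : enum 11 ck11 1 5 9659664 619 6 9 = true := by
  decide +kernel

set_option maxRecDepth 100000 in
theorem ch_1_5_6_3_10 : enum 11 ck11 1 5 10708240 1131 6 10 = true := by
  decide +kernel

theorem ch_1_5_6_3 : enum 11 ck11 1 6 222480 107 5 3 = true := by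
  refine enum_intro 11 ck11 1 5 222480 107 5 3 ?_
  intro v hv hb hd
  interval_cases v
  · exact absurd hb (by decide)
  · exact absurd hb (by decide)
  · exact ch_1_5_6_3_2
  · exact absurd hb (by decide)
  · exact ch_1_5_6_3_4
  · exact absurd hb (by decide)
  · exact absurd hb (by decide)
  · exact ch_1_5_6_3_7
  · exact ch_1_5_6_3_8
  · exact ch_1_5_6_3_9
  · exact ch_1_5_6_3_10

set_option maxRecDepth 100000 in
theorem ch_1_5_6_4_2 : enum 11 ck11 1 5 2385168 119 6 2 = true := by
  decide +kernel

set_option maxRecDepth 100000 in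
theorem ch_1_5_6_4_3 : enum 11 ck11 1 5 3433744 123 6 3 = true := by
  decide +kernel

set_option maxRecDepth 100000 in
theorem ch_1_5_6_4_7 : enum 11 ck11 1 5 7628048 243 6 7 = true := by
  decide +kernel

set_option maxRecDepth 100000 in
theorem ch_1_5_6_4_8 : enum 11 ck11 1 5 8676624 371 6 8 = true := by
  decide +kernel

set_option maxRecDepth 100000 in
theorem ch_1_5_6_4_9 : enum 11 ck11 1 5 9725200 627 6 9 = true := by
  decide +kernel

set_option maxRecDepth 100000 in
theorem ch_1_5_6_4_10 : enum 11 ck11 1 5 10773776 1139 6 10 = true := by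
  decide +kernel

theorem ch_1_5_6_4 : enum 11 ck11 1 6 288016 115 5 4 = true := by
  refine enum_intro 11 ck11 1 5 288016 115 5 4 ?_
  intro v hv hb hd
  interval_cases v
  · exact absurd hb (by decide)
  · exact absurd hb (by decide)
  · exact ch_1_5_6_4_2
  · exact ch_1_5_6_4_3
  · exact absurd hb (by decide)
  · exact absurd hb (by decide)
  · exact absurd hb (by decide)
  · exact ch_1_5_6_4_7
  · exact ch_1_5_6_4_8
  · exact ch_1_5_6_4_9
  · exact ch_1_5_6_4_10

set_option maxRecDepth 100000 in
theorem ch_1_5_6_7_2 : enum 11 ck11 1 5 2581776 231 6 2 = true := by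
  decide +kernel

set_option maxRecDepth 100000 in
theorem ch_1_5_6_7_3 : enum 11 ck11 1 5 3630352 235 6 3 = true := by
  decide +kernel

set_option maxRecDepth 100000 in
theorem ch_1_5_6_7_4 : enum 11 ck11 1 5 4678928 243 6 4 = true := by
  decide +kernel

set_option maxRecDepth 100000 in
theorem ch_1_5_6_7_8 : enum 11 ck11 1 5 8873232 483 6 8 = true := by
  decide +kernel

set_option maxRecDepth 100000 in
theorem ch_1_5_6_7_9 : enum 11 ck11 1 5 9921808 739 6 9 = true := by
  decide +kernel

set_option maxRecDepth 100000 in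
theorem ch_1_5_6_7_10 : enum 11 ck11 1 5 10970384 1251 6 10 = true := by
  decide +kernel

theorem ch_1_5_6_7 : enum 11 ck11 1 6 484624 227 5 7 = true := by
  refine enum_intro 11 ck11 1 5 484624 227 5 7 ?_
  intro v hv hb hd
  interval_cases v
  · exact absurd hb (by decide)
  · exact absurd hb (by decide)
  · exact ch_1_5_6_7_2
  · exact ch_1_5_6_7_3
  · exact ch_1_5_6_7_4
  · exact absurd hb (by decide)
  · exact absurd hb (by decide)
  · exact absurd hb (by decide)
  · exact ch_1_5_6_7_8
  · exact ch_1_5_6_7_9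
  · exact ch_1_5_6_7_10

set_option maxRecDepth 100000 in
theorem ch_1_5_6_8_2 : enum 11 ck11 1 5 2647312 359 6 2 = true := by
  decide +kernel

set_option maxRecDepth 100000 in
theorem ch_1_5_6_8_3 : enum 11 ck11 1 5 3695888 363 6 3 = true := by
  decide +kernel

set_option maxRecDepth 100000 in
theorem ch_1_5_6_8_4 : enum 11 ck11 1 5 4744464 371 6 4 = true := by
  decide +kernel

set_option maxRecDepth 100000 in
theorem ch_1_5_6_8_7 : enum 11 ck11 1 5 7890192 483 6 7 = true := by
  decide +kernel

set_option maxRecDepth 100000 in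
theorem ch_1_5_6_8_9 : enum 11 ck11 1 5 9987344 867 6 9 = true := by
  decide +kernel

set_option maxRecDepth 100000 in
theorem ch_1_5_6_8_10 : enum 11 ck11 1 5 11035920 1379 6 10 = true := by
  decide +kernel

theorem ch_1_5_6_8 : enum 11 ck11 1 6 550160 355 5 8 = true := by
  refine enum_intro 11 ck11 1 5 550160 355 5 8 ?_
  intro v hv hb hd
  interval_cases v
  · exact absurd hb (by decide)
  · exact absurd hb (by decide)
  · exact ch_1_5_6_8_2
  · exact ch_1_5_6_8_3
  · exact ch_1_5_6_8_4
  · exact absurd hb (by decide)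
  · exact absurd hb (by decide)
  · exact ch_1_5_6_8_7
  · exact absurd hb (by decide)
  · exact ch_1_5_6_8_9
  · exact ch_1_5_6_8_10

set_option maxRecDepth 100000 in
theorem ch_1_5_6_9_2 : enum 11 ck11 1 5 2712848 615 6 2 = true := by
  decide +kernel

set_option maxRecDepth 100000 in
theorem ch_1_5_6_9_3 : enum 11 ck11 1 5 3761424 619 6 3 = true := by
  decide +kernel

set_option maxRecDepth 100000 in
theorem ch_1_5_6_9_4 : enum 11 ck11 1 5 4810000 627 6 4 = true := by
  decide +kernel

set_option maxRecDepth 100000 in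
theorem ch_1_5_6_9_7 : enum 11 ck11 1 5 7955728 739 6 7 = true := by
  decide +kernel

set_option maxRecDepth 100000 in
theorem ch_1_5_6_9_8 : enum 11 ck11 1 5 9004304 867 6 8 = true := by
  decide +kernel

set_option maxRecDepth 100000 in
theorem ch_1_5_6_9_10 : enum 11 ck11 1 5 11101456 1635 6 10 = true := by
  decide +kernel

theorem ch_1_5_6_9 : enum 11 ck11 1 6 615696 611 5 9 = true := by
  refine enum_intro 11 ck11 1 5 615696 611 5 9 ?_
  intro v hv hb hd
  interval_cases v
  · exact absurd hb (by decide)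
  · exact absurd hb (by decide)
  · exact ch_1_5_6_9_2
  · exact ch_1_5_6_9_3
  · exact ch_1_5_6_9_4
  · exact absurd hb (by decide)
  · exact absurd hb (by decide)
  · exact ch_1_5_6_9_7
  · exact ch_1_5_6_9_8
  · exact absurd hb (by decide)
  · exact ch_1_5_6_9_10

set_option maxRecDepth 100000 in
theorem ch_1_5_6_10_2 : enum 11 ck11 1 5 2778384 1127 6 2 = true := by
  decide +kernel

set_option maxRecDepth 100000 in
theorem ch_1_5_6_10_3 : enum 11 ck11 1 5 3826960 1131 6 3 = true := by
  decide +kernel

set_option maxRecDepth 100000 in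
theorem ch_1_5_6_10_4 : enum 11 ck11 1 5 4875536 1139 6 4 = true := by
  decide +kernel

set_option maxRecDepth 100000 in
theorem ch_1_5_6_10_7 : enum 11 ck11 1 5 8021264 1251 6 7 = true := by
  decide +kernel

set_option maxRecDepth 100000 in
theorem ch_1_5_6_10_8 : enum 11 ck11 1 5 9069840 1379 6 8 = true := by
  decide +kernel

set_option maxRecDepth 100000 in
theorem ch_1_5_6_10_9 : enum 11 ck11 1 5 10118416 1635 6 9 = true := by
  decide +kernel

theorem ch_1_5_6_10 : enum 11 ck11 1 6 681232 1123 5 10 = true := by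
  refine enum_intro 11 ck11 1 5 681232 1123 5 10 ?_
  intro v hv hb hd
  interval_cases v
  · exact absurd hb (by decide)
  · exact absurd hb (by decide)
  · exact ch_1_5_6_10_2
  · exact ch_1_5_6_10_3
  · exact ch_1_5_6_10_4
  · exact absurd hb (by decide)
  · exact absurd hb (by decide)
  · exact ch_1_5_6_10_7
  · exact ch_1_5_6_10_8
  · exact ch_1_5_6_10_9
  · exact absurd hb (by decide)

theorem ch_1_5_6 : enum 11 ck11 1 7 25872 99 4 6 = true := by
  refine enum_intro 11 ck11 1 6 25872 99 4 6 ?_
  intro v hv hb hd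
  interval_cases v
  · exact absurd hb (by decide)
  · exact absurd hb (by decide)
  · exact ch_1_5_6_2
  · exact ch_1_5_6_3
  · exact ch_1_5_6_4
  · exact absurd hb (by decide)
  · exact absurd hb (by decide)
  · exact ch_1_5_6_7
  · exact ch_1_5_6_8
  · exact ch_1_5_6_9
  · exact ch_1_5_6_10

set_option maxRecDepth 100000 in
theorem ch_1_5_7_2_3 : enum 11 ck11 1 5 3306768 175 6 3 = true := by
  decide +kernel

set_option maxRecDepth 100000 in
theorem ch_1_5_7_2_4 : enum 11 ck11 1 5 4355344 183 6 4 = true := by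
  decide +kernel

set_option maxRecDepth 100000 in
theorem ch_1_5_7_2_6 : enum 11 ck11 1 5 6452496 231 6 6 = true := by
  decide +kernel

set_option maxRecDepth 100000 in
theorem ch_1_5_7_2_8 : enum 11 ck11 1 5 8549648 423 6 8 = true := by
  decide +kernel

set_option maxRecDepth 100000 in
theorem ch_1_5_7_2_9 : enum 11 ck11 1 5 9598224 679 6 9 = true := by
  decide +kernel

set_option maxRecDepth 100000 in
theorem ch_1_5_7_2_10 : enum 11 ck11 1 5 10646800 1191 6 10 = true := by
  decide +kernel

theorem ch_1_5_7_2 : enum 11 ck11 1 6 161040 167 5 2 = true := by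
  refine enum_intro 11 ck11 1 5 161040 167 5 2 ?_
  intro v hv hb hd
  interval_cases v
  · exact absurd hb (by decide)
  · exact absurd hb (by decide)
  · exact absurd hb (by decide)
  · exact ch_1_5_7_2_3
  · exact ch_1_5_7_2_4
  · exact absurd hb (by decide)
  · exact ch_1_5_7_2_6
  · exact absurd hb (by decide)
  · exact ch_1_5_7_2_8
  · exact ch_1_5_7_2_9
  · exact ch_1_5_7_2_10

set_option maxRecDepth 100000 in
theorem ch_1_5_7_3_2 : enum 11 ck11 1 5 2323728 175 6 2 = true := by
  decide +kernel

set_option maxRecDepth 100000 in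
theorem ch_1_5_7_3_4 : enum 11 ck11 1 5 4420880 187 6 4 = true := by
  decide +kernel

set_option maxRecDepth 100000 in
theorem ch_1_5_7_3_6 : enum 11 ck11 1 5 6518032 235 6 6 = true := by
  decide +kernel

set_option maxRecDepth 100000 in
theorem ch_1_5_7_3_8 : enum 11 ck11 1 5 8615184 427 6 8 = true := by
  decide +kernel

set_option maxRecDepth 100000 in
theorem ch_1_5_7_3_9 : enum 11 ck11 1 5 9663760 683 6 9 = true := by
  decide +kernel

set_option maxRecDepth 100000 in
theorem ch_1_5_7_3_10 : enum 11 ck11 1 5 10712336 1195 6 10 = true := by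
  decide +kernel

theorem ch_1_5_7_3 : enum 11 ck11 1 6 226576 171 5 3 = true := by
  refine enum_intro 11 ck11 1 5 226576 171 5 3 ?_
  intro v hv hb hd
  interval_cases v
  · exact absurd hb (by decide)
  · exact absurd hb (by decide)
  · exact ch_1_5_7_3_2
  · exact absurd hb (by decide)
  · exact ch_1_5_7_3_4
  · exact absurd hb (by decide)
  · exact ch_1_5_7_3_6
  · exact absurd hb (by decide)
  · exact ch_1_5_7_3_8
  · exact ch_1_5_7_3_9
  · exact ch_1_5_7_3_10

set_option maxRecDepth 100000 in
theorem ch_1_5_7_4_2 : enum 11 ck11 1 5 2389264 183 6 2 = true := by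
  decide +kernel

set_option maxRecDepth 100000 in
theorem ch_1_5_7_4_3 : enum 11 ck11 1 5 3437840 187 6 3 = true := by
  decide +kernel

set_option maxRecDepth 100000 in
theorem ch_1_5_7_4_6 : enum 11 ck11 1 5 6583568 243 6 6 = true := by
  decide +kernel

set_option maxRecDepth 100000 in
theorem ch_1_5_7_4_8 : enum 11 ck11 1 5 8680720 435 6 8 = true := by
  decide +kernel

set_option maxRecDepth 100000 in
theorem ch_1_5_7_4_9 : enum 11 ck11 1 5 9729296 691 6 9 = true := by
  decide +kernel

set_option maxRecDepth 100000 in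
theorem ch_1_5_7_4_10 : enum 11 ck11 1 5 10777872 1203 6 10 = true := by
  decide +kernel

theorem ch_1_5_7_4 : enum 11 ck11 1 6 292112 179 5 4 = true := by
  refine enum_intro 11 ck11 1 5 292112 179 5 4 ?_
  intro v hv hb hd
  interval_cases v
  · exact absurd hb (by decide)
  · exact absurd hb (by decide)
  · exact ch_1_5_7_4_2
  · exact ch_1_5_7_4_3
  · exact absurd hb (by decide)
  · exact absurd hb (by decide)
  · exact ch_1_5_7_4_6
  · exact absurd hb (by decide)
  · exact ch_1_5_7_4_8
  · exact ch_1_5_7_4_9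
  · exact ch_1_5_7_4_10

set_option maxRecDepth 100000 in
theorem ch_1_5_7_6_2 : enum 11 ck11 1 5 2520336 231 6 2 = true := by
  decide +kernel

set_option maxRecDepth 100000 in
theorem ch_1_5_7_6_3 : enum 11 ck11 1 5 3568912 235 6 3 = true := by
  decide +kernel

set_option maxRecDepth 100000 in
theorem ch_1_5_7_6_4 : enum 11 ck11 1 5 4617488 243 6 4 = true := by
  decide +kernel

set_option maxRecDepth 100000 in
theorem ch_1_5_7_6_8 : enum 11 ck11 1 5 8811792 483 6 8 = true := by
  decide +kernel

set_option maxRecDepth 100000 in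
theorem ch_1_5_7_6_9 : enum 11 ck11 1 5 9860368 739 6 9 = true := by
  decide +kernel

set_option maxRecDepth 100000 in
theorem ch_1_5_7_6_10 : enum 11 ck11 1 5 10908944 1251 6 10 = true := by
  decide +kernel

theorem ch_1_5_7_6 : enum 11 ck11 1 6 423184 227 5 6 = true := by
  refine enum_intro 11 ck11 1 5 423184 227 5 6 ?_
  intro v hv hb hd
  interval_cases v
  · exact absurd hb (by decide)
  · exact absurd hb (by decide)
  · exact ch_1_5_7_6_2
  · exact ch_1_5_7_6_3
  · exact ch_1_5_7_6_4
  · exact absurd hb (by decide)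
  · exact absurd hb (by decide)
  · exact absurd hb (by decide)
  · exact ch_1_5_7_6_8
  · exact ch_1_5_7_6_9
  · exact ch_1_5_7_6_10

set_option maxRecDepth 100000 in
theorem ch_1_5_7_8_2 : enum 11 ck11 1 5 2651408 423 6 2 = true := by
  decide +kernel

set_option maxRecDepth 100000 in
theorem ch_1_5_7_8_3 : enum 11 ck11 1 5 3699984 427 6 3 = true := by
  decide +kernel

set_option maxRecDepth 100000 in
theorem ch_1_5_7_8_4 : enum 11 ck11 1 5 4748560 435 6 4 = true := by
  decide +kernel

set_option maxRecDepth 100000 in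
theorem ch_1_5_7_8_6 : enum 11 ck11 1 5 6845712 483 6 6 = true := by
  decide +kernel

set_option maxRecDepth 100000 in
theorem ch_1_5_7_8_9 : enum 11 ck11 1 5 9991440 931 6 9 = true := by
  decide +kernel

set_option maxRecDepth 100000 in
theorem ch_1_5_7_8_10 : enum 11 ck11 1 5 11040016 1443 6 10 = true := by
  decide +kernel

theorem ch_1_5_7_8 : enum 11 ck11 1 6 554256 419 5 8 = true := by
  refine enum_intro 11 ck11 1 5 554256 419 5 8 ?_
  intro v hv hb hd
  interval_cases v
  · exact absurd hb (by decide)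
  · exact absurd hb (by decide)
  · exact ch_1_5_7_8_2
  · exact ch_1_5_7_8_3
  · exact ch_1_5_7_8_4
  · exact absurd hb (by decide)
  · exact ch_1_5_7_8_6
  · exact absurd hb (by decide)
  · exact absurd hb (by decide)
  · exact ch_1_5_7_8_9
  · exact ch_1_5_7_8_10

set_option maxRecDepth 100000 in
theorem ch_1_5_7_9_2 : enum 11 ck11 1 5 2716944 679 6 2 = true := by
  decide +kernel

set_option maxRecDepth 100000 in
theorem ch_1_5_7_9_3 : enum 11 ck11 1 5 3765520 683 6 3 = true := by
  decide +kernel

set_option maxRecDepth 100000 in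
theorem ch_1_5_7_9_4 : enum 11 ck11 1 5 4814096 691 6 4 = true := by
  decide +kernel

set_option maxRecDepth 100000 in
theorem ch_1_5_7_9_6 : enum 11 ck11 1 5 6911248 739 6 6 = true := by
  decide +kernel

set_option maxRecDepth 100000 in
theorem ch_1_5_7_9_8 : enum 11 ck11 1 5 9008400 931 6 8 = true := by
  decide +kernel

set_option maxRecDepth 100000 in
theorem ch_1_5_7_9_10 : enum 11 ck11 1 5 11105552 1699 6 10 = true := by
  decide +kernel

theorem ch_1_5_7_9 : enum 11 ck11 1 6 619792 675 5 9 = true := by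
  refine enum_intro 11 ck11 1 5 619792 675 5 9 ?_
  intro v hv hb hd
  interval_cases v
  · exact absurd hb (by decide)
  · exact absurd hb (by decide)
  · exact ch_1_5_7_9_2
  · exact ch_1_5_7_9_3
  · exact ch_1_5_7_9_4
  · exact absurd hb (by decide)
  · exact ch_1_5_7_9_6
  · exact absurd hb (by decide)
  · exact ch_1_5_7_9_8
  · exact absurd hb (by decide)
  · exact ch_1_5_7_9_10

set_option maxRecDepth 100000 in
theorem ch_1_5_7_10_2 : enum 11 ck11 1 5 2782480 1191 6 2 = true := by
  decide +kernel

set_option maxRecDepth 100000 in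
theorem ch_1_5_7_10_3 : enum 11 ck11 1 5 3831056 1195 6 3 = true := by
  decide +kernel

set_option maxRecDepth 100000 in
theorem ch_1_5_7_10_4 : enum 11 ck11 1 5 4879632 1203 6 4 = true := by
  decide +kernel

set_option maxRecDepth 100000 in
theorem ch_1_5_7_10_6 : enum 11 ck11 1 5 6976784 1251 6 6 = true := by
  decide +kernel

set_option maxRecDepth 100000 in
theorem ch_1_5_7_10_8 : enum 11 ck11 1 5 9073936 1443 6 8 = true := by
  decide +kernel

set_option maxRecDepth 100000 in
theorem ch_1_5_7_10_9 : enum 11 ck11 1 5 10122512 1699 6 9 = true := by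
  decide +kernel

theorem ch_1_5_7_10 : enum 11 ck11 1 6 685328 1187 5 10 = true := by
  refine enum_intro 11 ck11 1 5 685328 1187 5 10 ?_
  intro v hv hb hd
  interval_cases v
  · exact absurd hb (by decide)
  · exact absurd hb (by decide)
  · exact ch_1_5_7_10_2
  · exact ch_1_5_7_10_3
  · exact ch_1_5_7_10_4
  · exact absurd hb (by decide)
  · exact ch_1_5_7_10_6
  · exact absurd hb (by decide)
  · exact ch_1_5_7_10_8
  · exact ch_1_5_7_10_9
  · exact absurd hb (by decide)

theorem ch_1_5_7 : enum 11 ck11 1 7 29968 163 4 7 = true := by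
  refine enum_intro 11 ck11 1 6 29968 163 4 7 ?_
  intro v hv hb hd
  interval_cases v
  · exact absurd hb (by decide)
  · exact absurd hb (by decide)
  · exact ch_1_5_7_2
  · exact ch_1_5_7_3
  · exact ch_1_5_7_4
  · exact absurd hb (by decide)
  · exact ch_1_5_7_6
  · exact absurd hb (by decide)
  · exact ch_1_5_7_8
  · exact ch_1_5_7_9
  · exact ch_1_5_7_10

set_option maxRecDepth 100000 in
theorem ch_1_5_8_2_3 : enum 11 ck11 1 5 3310864 303 6 3 = true := by
  decide +kernel

set_option maxRecDepth 100000 in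
theorem ch_1_5_8_2_4 : enum 11 ck11 1 5 4359440 311 6 4 = true := by
  decide +kernel

set_option maxRecDepth 100000 in
theorem ch_1_5_8_2_6 : enum 11 ck11 1 5 6456592 359 6 6 = true := by
  decide +kernel

set_option maxRecDepth 100000 in
theorem ch_1_5_8_2_7 : enum 11 ck11 1 5 7505168 423 6 7 = true := by
  decide +kernel

set_option maxRecDepth 100000 in
theorem ch_1_5_8_2_9 : enum 11 ck11 1 5 9602320 807 6 9 = true := by
  decide +kernel

set_option maxRecDepth 100000 in
theorem ch_1_5_8_2_10 : enum 11 ck11 1 5 10650896 1319 6 10 = true := by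
  decide +kernel

theorem ch_1_5_8_2 : enum 11 ck11 1 6 165136 295 5 2 = true := by
  refine enum_intro 11 ck11 1 5 165136 295 5 2 ?_
  intro v hv hb hd
  interval_cases v
  · exact absurd hb (by decide)
  · exact absurd hb (by decide)
  · exact absurd hb (by decide)
  · exact ch_1_5_8_2_3
  · exact ch_1_5_8_2_4
  · exact absurd hb (by decide)
  · exact ch_1_5_8_2_6
  · exact ch_1_5_8_2_7
  · exact absurd hb (by decide)
  · exact ch_1_5_8_2_9
  · exact ch_1_5_8_2_10

set_option maxRecDepth 100000 in
theorem ch_1_5_8_3_2 : enum 11 ck11 1 5 2327824 303 6 2 = true := by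
  decide +kernel

set_option maxRecDepth 100000 in
theorem ch_1_5_8_3_4 : enum 11 ck11 1 5 4424976 315 6 4 = true := by
  decide +kernel

set_option maxRecDepth 100000 in
theorem ch_1_5_8_3_6 : enum 11 ck11 1 5 6522128 363 6 6 = true := by
  decide +kernel

set_option maxRecDepth 100000 in
theorem ch_1_5_8_3_7 : enum 11 ck11 1 5 7570704 427 6 7 = true := by
  decide +kernel

set_option maxRecDepth 100000 in
theorem ch_1_5_8_3_9 : enum 11 ck11 1 5 9667856 811 6 9 = true := by
  decide +kernel

set_option maxRecDepth 100000 in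
theorem ch_1_5_8_3_10 : enum 11 ck11 1 5 10716432 1323 6 10 = true := by
  decide +kernel

theorem ch_1_5_8_3 : enum 11 ck11 1 6 230672 299 5 3 = true := by
  refine enum_intro 11 ck11 1 5 230672 299 5 3 ?_
  intro v hv hb hd
  interval_cases v
  · exact absurd hb (by decide)
  · exact absurd hb (by decide)
  · exact ch_1_5_8_3_2
  · exact absurd hb (by decide)
  · exact ch_1_5_8_3_4
  · exact absurd hb (by decide)
  · exact ch_1_5_8_3_6
  · exact ch_1_5_8_3_7
  · exact absurd hb (by decide)
  · exact ch_1_5_8_3_9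
  · exact ch_1_5_8_3_10

set_option maxRecDepth 100000 in
theorem ch_1_5_8_4_2 : enum 11 ck11 1 5 2393360 311 6 2 = true := by
  decide +kernel

set_option maxRecDepth 100000 in
theorem ch_1_5_8_4_3 : enum 11 ck11 1 5 3441936 315 6 3 = true := by
  decide +kernel

set_option maxRecDepth 100000 in
theorem ch_1_5_8_4_6 : enum 11 ck11 1 5 6587664 371 6 6 = true := by
  decide +kernel

set_option maxRecDepth 100000 in
theorem ch_1_5_8_4_7 : enum 11 ck11 1 5 7636240 435 6 7 = true := by
  decide +kernel

set_option maxRecDepth 100000 in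
theorem ch_1_5_8_4_9 : enum 11 ck11 1 5 9733392 819 6 9 = true := by
  decide +kernel

set_option maxRecDepth 100000 in
theorem ch_1_5_8_4_10 : enum 11 ck11 1 5 10781968 1331 6 10 = true := by
  decide +kernel

theorem ch_1_5_8_4 : enum 11 ck11 1 6 296208 307 5 4 = true := by
  refine enum_intro 11 ck11 1 5 296208 307 5 4 ?_
  intro v hv hb hd
  interval_cases v
  · exact absurd hb (by decide)
  · exact absurd hb (by decide)
  · exact ch_1_5_8_4_2
  · exact ch_1_5_8_4_3
  · exact absurd hb (by decide)
  · exact absurd hb (by decide)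
  · exact ch_1_5_8_4_6
  · exact ch_1_5_8_4_7
  · exact absurd hb (by decide)
  · exact ch_1_5_8_4_9
  · exact ch_1_5_8_4_10

set_option maxRecDepth 100000 in
theorem ch_1_5_8_6_2 : enum 11 ck11 1 5 2524432 359 6 2 = true := by
  decide +kernel

set_option maxRecDepth 100000 in
theorem ch_1_5_8_6_3 : enum 11 ck11 1 5 3573008 363 6 3 = true := by
  decide +kernel

set_option maxRecDepth 100000 in
theorem ch_1_5_8_6_4 : enum 11 ck11 1 5 4621584 371 6 4 = true := by
  decide +kernel

set_option maxRecDepth 100000 in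
theorem ch_1_5_8_6_7 : enum 11 ck11 1 5 7767312 483 6 7 = true := by
  decide +kernel

set_option maxRecDepth 100000 in
theorem ch_1_5_8_6_9 : enum 11 ck11 1 5 9864464 867 6 9 = true := by
  decide +kernel

set_option maxRecDepth 100000 in
theorem ch_1_5_8_6_10 : enum 11 ck11 1 5 10913040 1379 6 10 = true := by
  decide +kernel

theorem ch_1_5_8_6 : enum 11 ck11 1 6 427280 355 5 6 = true := by
  refine enum_intro 11 ck11 1 5 427280 355 5 6 ?_
  intro v hv hb hd
  interval_cases v
  · exact absurd hb (by decide)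
  · exact absurd hb (by decide)
  · exact ch_1_5_8_6_2
  · exact ch_1_5_8_6_3
  · exact ch_1_5_8_6_4
  · exact absurd hb (by decide)
  · exact absurd hb (by decide)
  · exact ch_1_5_8_6_7
  · exact absurd hb (by decide)
  · exact ch_1_5_8_6_9
  · exact ch_1_5_8_6_10

set_option maxRecDepth 100000 in
theorem ch_1_5_8_7_2 : enum 11 ck11 1 5 2589968 423 6 2 = true := by
  decide +kernel

set_option maxRecDepth 100000 in
theorem ch_1_5_8_7_3 : enum 11 ck11 1 5 3638544 427 6 3 = true := by
  decide +kernel

set_option maxRecDepth 100000 in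
theorem ch_1_5_8_7_4 : enum 11 ck11 1 5 4687120 435 6 4 = true := by
  decide +kernel

set_option maxRecDepth 100000 in
theorem ch_1_5_8_7_6 : enum 11 ck11 1 5 6784272 483 6 6 = true := by
  decide +kernel

set_option maxRecDepth 100000 in
theorem ch_1_5_8_7_9 : enum 11 ck11 1 5 9930000 931 6 9 = true := by
  decide +kernel

set_option maxRecDepth 100000 in
theorem ch_1_5_8_7_10 : enum 11 ck11 1 5 10978576 1443 6 10 = true := by
  decide +kernel

theorem ch_1_5_8_7 : enum 11 ck11 1 6 492816 419 5 7 = true := by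
  refine enum_intro 11 ck11 1 5 492816 419 5 7 ?_
  intro v hv hb hd
  interval_cases v
  · exact absurd hb (by decide)
  · exact absurd hb (by decide)
  · exact ch_1_5_8_7_2
  · exact ch_1_5_8_7_3
  · exact ch_1_5_8_7_4
  · exact absurd hb (by decide)
  · exact ch_1_5_8_7_6
  · exact absurd hb (by decide)
  · exact absurd hb (by decide)
  · exact ch_1_5_8_7_9
  · exact ch_1_5_8_7_10

set_option maxRecDepth 100000 in
theorem ch_1_5_8_9_2 : enum 11 ck11 1 5 2721040 807 6 2 = true := by
  decide +kernel

set_option maxRecDepth 100000 in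
theorem ch_1_5_8_9_3 : enum 11 ck11 1 5 3769616 811 6 3 = true := by
  decide +kernel

set_option maxRecDepth 100000 in
theorem ch_1_5_8_9_4 : enum 11 ck11 1 5 4818192 819 6 4 = true := by
  decide +kernel

set_option maxRecDepth 100000 in
theorem ch_1_5_8_9_6 : enum 11 ck11 1 5 6915344 867 6 6 = true := by
  decide +kernel

set_option maxRecDepth 100000 in
theorem ch_1_5_8_9_7 : enum 11 ck11 1 5 7963920 931 6 7 = true := by
  decide +kernel

set_option maxRecDepth 100000 in
theorem ch_1_5_8_9_10 : enum 11 ck11 1 5 11109648 1827 6 10 = true := by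
  decide +kernel

theorem ch_1_5_8_9 : enum 11 ck11 1 6 623888 803 5 9 = true := by
  refine enum_intro 11 ck11 1 5 623888 803 5 9 ?_
  intro v hv hb hd
  interval_cases v
  · exact absurd hb (by decide)
  · exact absurd hb (by decide)
  · exact ch_1_5_8_9_2
  · exact ch_1_5_8_9_3
  · exact ch_1_5_8_9_4
  · exact absurd hb (by decide)
  · exact ch_1_5_8_9_6
  · exact ch_1_5_8_9_7
  · exact absurd hb (by decide)
  · exact absurd hb (by decide)
  · exact ch_1_5_8_9_10

set_option maxRecDepth 100000 in
theorem ch_1_5_8_10_2 : enum 11 ck11 1 5 2786576 1319 6 2 = true := by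
  decide +kernel

set_option maxRecDepth 100000 in
theorem ch_1_5_8_10_3 : enum 11 ck11 1 5 3835152 1323 6 3 = true := by
  decide +kernel

set_option maxRecDepth 100000 in
theorem ch_1_5_8_10_4 : enum 11 ck11 1 5 4883728 1331 6 4 = true := by
  decide +kernel

set_option maxRecDepth 100000 in
theorem ch_1_5_8_10_6 : enum 11 ck11 1 5 6980880 1379 6 6 = true := by
  decide +kernel

set_option maxRecDepth 100000 in
theorem ch_1_5_8_10_7 : enum 11 ck11 1 5 8029456 1443 6 7 = true := by
  decide +kernel

set_option maxRecDepth 100000 in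
theorem ch_1_5_8_10_9 : enum 11 ck11 1 5 10126608 1827 6 9 = true := by
  decide +kernel

theorem ch_1_5_8_10 : enum 11 ck11 1 6 689424 1315 5 10 = true := by
  refine enum_intro 11 ck11 1 5 689424 1315 5 10 ?_
  intro v hv hb hd
  interval_cases v
  · exact absurd hb (by decide)
  · exact absurd hb (by decide)
  · exact ch_1_5_8_10_2
  · exact ch_1_5_8_10_3
  · exact ch_1_5_8_10_4
  · exact absurd hb (by decide)
  · exact ch_1_5_8_10_6
  · exact ch_1_5_8_10_7
  · exact absurd hb (by decide)
  · exact ch_1_5_8_10_9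
  · exact absurd hb (by decide)

theorem ch_1_5_8 : enum 11 ck11 1 7 34064 291 4 8 = true := by
  refine enum_intro 11 ck11 1 6 34064 291 4 8 ?_
  intro v hv hb hd
  interval_cases v
  · exact absurd hb (by decide)
  · exact absurd hb (by decide)
  · exact ch_1_5_8_2
  · exact ch_1_5_8_3
  · exact ch_1_5_8_4
  · exact absurd hb (by decide)
  · exact ch_1_5_8_6
  · exact ch_1_5_8_7
  · exact absurd hb (by decide)
  · exact ch_1_5_8_9
  · exact ch_1_5_8_10

end Cfsg.Agent.Helper9.T11
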