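import Mathlib
import Cfsg.Agent.Helper9.T11.Chk

set_option autoImplicit false
set_option Elab.async false

/-!
A part of the enumeration on 11 points: the test holds at every permutation of the part.
-/

namespace Cfsg.Agent.Helper9.T11

set_option maxRecDepth 100000 in
theorem ch_1_5_9_2_3 : enum 11 ck11 1 5 3314960 559 6 3 = true := by
  decide +kernel

set_option maxRecDepth 100000 in
theorem ch_1_5_9_2_4 : enum 11 ck11 1 5 4363536 567 6 4 = true := by
  decide +kernel

set_option maxRecDepth 100000 in
theorem ch_1_5_9_2_6 : enum 11 ck11 1 5 6460688 615 6 6 = true := by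
  decide +kernel

set_option maxRecDepth 100000 in
theorem ch_1_5_9_2_7 : enum 11 ck11 1 5 7509264 679 6 7 = true := by
  decide +kernel

set_option maxRecDepth 100000 in
theorem ch_1_5_9_2_8 : enum 11 ck11 1 5 8557840 807 6 8 = true := by
  decide +kernel

set_option maxRecDepth 100000 in
theorem ch_1_5_9_2_10 : enum 11 ck11 1 5 10654992 1575 6 10 = true := by
  decide +kernel

theorem ch_1_5_9_2 : enum 11 ck11 1 6 169232 551 5 2 = true := by
  refine enum_intro 11 ck11 1 5 169232 551 5 2 ?_
  intro v hv hb hd
  interval_cases v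
  · exact absurd hb (by decide)
  · exact absurd hb (by decide)
  · exact absurd hb (by decide)
  · exact ch_1_5_9_2_3
  · exact ch_1_5_9_2_4
  · exact absurd hb (by decide)
  · exact ch_1_5_9_2_6
  · exact ch_1_5_9_2_7
  · exact ch_1_5_9_2_8
  · exact absurd hb (by decide)
  · exact ch_1_5_9_2_10

set_option maxRecDepth 100000 in
theorem ch_1_5_9_3_2 : enum 11 ck11 1 5 2331920 559 6 2 = true := by
  decide +kernel

set_option maxRecDepth 100000 in
theorem ch_1_5_9_3_4 : enum 11 ck11 1 5 4429072 571 6 4 = true := by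
  decide +kernel

set_option maxRecDepth 100000 in
theorem ch_1_5_9_3_6 : enum 11 ck11 1 5 6526224 619 6 6 = true := by
  decide +kernel

set_option maxRecDepth 100000 in
theorem ch_1_5_9_3_7 : enum 11 ck11 1 5 7574800 683 6 7 = true := by
  decide +kernel

set_option maxRecDepth 100000 in
theorem ch_1_5_9_3_8 : enum 11 ck11 1 5 8623376 811 6 8 = true := by
  decide +kernel

set_option maxRecDepth 100000 in
theorem ch_1_5_9_3_10 : enum 11 ck11 1 5 10720528 1579 6 10 = true := by
  decide +kernel

theorem ch_1_5_9_3 : enum 11 ck11 1 6 234768 555 5 3 = true := by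
  refine enum_intro 11 ck11 1 5 234768 555 5 3 ?_
  intro v hv hb hd
  interval_cases v
  · exact absurd hb (by decide)
  · exact absurd hb (by decide)
  · exact ch_1_5_9_3_2
  · exact absurd hb (by decide)
  · exact ch_1_5_9_3_4
  · exact absurd hb (by decide)
  · exact ch_1_5_9_3_6
  · exact ch_1_5_9_3_7
  · exact ch_1_5_9_3_8
  · exact absurd hb (by decide)
  · exact ch_1_5_9_3_10

set_option maxRecDepth 100000 in
theorem ch_1_5_9_4_2 : enum 11 ck11 1 5 2397456 567 6 2 = true := by
  decide +kernel

set_option maxRecDepth 100000 in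
theorem ch_1_5_9_4_3 : enum 11 ck11 1 5 3446032 571 6 3 = true := by
  decide +kernel

set_option maxRecDepth 100000 in
theorem ch_1_5_9_4_6 : enum 11 ck11 1 5 6591760 627 6 6 = true := by
  decide +kernel

set_option maxRecDepth 100000 in
theorem ch_1_5_9_4_7 : enum 11 ck11 1 5 7640336 691 6 7 = true := by
  decide +kernel

set_option maxRecDepth 100000 in
theorem ch_1_5_9_4_8 : enum 11 ck11 1 5 8688912 819 6 8 = true := by
  decide +kernel

set_option maxRecDepth 100000 in
theorem ch_1_5_9_4_10 : enum 11 ck11 1 5 10786064 1587 6 10 = true := by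
  decide +kernel

theorem ch_1_5_9_4 : enum 11 ck11 1 6 300304 563 5 4 = true := by
  refine enum_intro 11 ck11 1 5 300304 563 5 4 ?_
  intro v hv hb hd
  interval_cases v
  · exact absurd hb (by decide)
  · exact absurd hb (by decide)
  · exact ch_1_5_9_4_2
  · exact ch_1_5_9_4_3
  · exact absurd hb (by decide)
  · exact absurd hb (by decide)
  · exact ch_1_5_9_4_6
  · exact ch_1_5_9_4_7
  · exact ch_1_5_9_4_8
  · exact absurd hb (by decide)
  · exact ch_1_5_9_4_10

set_option maxRecDepth 100000 in
theorem ch_1_5_9_6_2 : enum 11 ck11 1 5 2528528 615 6 2 = true := by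
  decide +kernel

set_option maxRecDepth 100000 in
theorem ch_1_5_9_6_3 : enum 11 ck11 1 5 3577104 619 6 3 = true := by
  decide +kernel

set_option maxRecDepth 100000 in
theorem ch_1_5_9_6_4 : enum 11 ck11 1 5 4625680 627 6 4 = true := by
  decide +kernel

set_option maxRecDepth 100000 in
theorem ch_1_5_9_6_7 : enum 11 ck11 1 5 7771408 739 6 7 = true := by
  decide +kernel

set_option maxRecDepth 100000 in
theorem ch_1_5_9_6_8 : enum 11 ck11 1 5 8819984 867 6 8 = true := by
  decide +kernel

set_option maxRecDepth 100000 in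
theorem ch_1_5_9_6_10 : enum 11 ck11 1 5 10917136 1635 6 10 = true := by
  decide +kernel

theorem ch_1_5_9_6 : enum 11 ck11 1 6 431376 611 5 6 = true := by
  refine enum_intro 11 ck11 1 5 431376 611 5 6 ?_
  intro v hv hb hd
  interval_cases v
  · exact absurd hb (by decide)
  · exact absurd hb (by decide)
  · exact ch_1_5_9_6_2
  · exact ch_1_5_9_6_3
  · exact ch_1_5_9_6_4
  · exact absurd hb (by decide)
  · exact absurd hb (by decide)
  · exact ch_1_5_9_6_7
  · exact ch_1_5_9_6_8
  · exact absurd hb (by decide)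
  · exact ch_1_5_9_6_10

set_option maxRecDepth 100000 in
theorem ch_1_5_9_7_2 : enum 11 ck11 1 5 2594064 679 6 2 = true := by
  decide +kernel

set_option maxRecDepth 100000 in
theorem ch_1_5_9_7_3 : enum 11 ck11 1 5 3642640 683 6 3 = true := by
  decide +kernel

set_option maxRecDepth 100000 in
theorem ch_1_5_9_7_4 : enum 11 ck11 1 5 4691216 691 6 4 = true := by
  decide +kernel

set_option maxRecDepth 100000 in
theorem ch_1_5_9_7_6 : enum 11 ck11 1 5 6788368 739 6 6 = true := by
  decide +kernel

set_option maxRecDepth 100000 in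
theorem ch_1_5_9_7_8 : enum 11 ck11 1 5 8885520 931 6 8 = true := by
  decide +kernel

set_option maxRecDepth 100000 in
theorem ch_1_5_9_7_10 : enum 11 ck11 1 5 10982672 1699 6 10 = true := by
  decide +kernel

theorem ch_1_5_9_7 : enum 11 ck11 1 6 496912 675 5 7 = true := by
  refine enum_intro 11 ck11 1 5 496912 675 5 7 ?_
  intro v hv hb hd
  interval_cases v
  · exact absurd hb (by decide)
  · exact absurd hb (by decide)
  · exact ch_1_5_9_7_2
  · exact ch_1_5_9_7_3
  · exact ch_1_5_9_7_4
  · exact absurd hb (by decide)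
  · exact ch_1_5_9_7_6
  · exact absurd hb (by decide)
  · exact ch_1_5_9_7_8
  · exact absurd hb (by decide)
  · exact ch_1_5_9_7_10

set_option maxRecDepth 100000 in
theorem ch_1_5_9_8_2 : enum 11 ck11 1 5 2659600 807 6 2 = true := by
  decide +kernel

set_option maxRecDepth 100000 in
theorem ch_1_5_9_8_3 : enum 11 ck11 1 5 3708176 811 6 3 = true := by
  decide +kernel

set_option maxRecDepth 100000 in
theorem ch_1_5_9_8_4 : enum 11 ck11 1 5 4756752 819 6 4 = true := by
  decide +kernel

set_option maxRecDepth 100000 in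
theorem ch_1_5_9_8_6 : enum 11 ck11 1 5 6853904 867 6 6 = true := by
  decide +kernel

set_option maxRecDepth 100000 in
theorem ch_1_5_9_8_7 : enum 11 ck11 1 5 7902480 931 6 7 = true := by
  decide +kernel

set_option maxRecDepth 100000 in
theorem ch_1_5_9_8_10 : enum 11 ck11 1 5 11048208 1827 6 10 = true := by
  decide +kernel

theorem ch_1_5_9_8 : enum 11 ck11 1 6 562448 803 5 8 = true := by
  refine enum_intro 11 ck11 1 5 562448 803 5 8 ?_
  intro v hv hb hd
  interval_cases v
  · exact absurd hb (by decide)
  · exact absurd hb (by decide)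
  · exact ch_1_5_9_8_2
  · exact ch_1_5_9_8_3
  · exact ch_1_5_9_8_4
  · exact absurd hb (by decide)
  · exact ch_1_5_9_8_6
  · exact ch_1_5_9_8_7
  · exact absurd hb (by decide)
  · exact absurd hb (by decide)
  · exact ch_1_5_9_8_10

set_option maxRecDepth 100000 in
theorem ch_1_5_9_10_2 : enum 11 ck11 1 5 2790672 1575 6 2 = true := by
  decide +kernel

set_option maxRecDepth 100000 in
theorem ch_1_5_9_10_3 : enum 11 ck11 1 5 3839248 1579 6 3 = true := by
  decide +kernel

set_option maxRecDepth 100000 in
theorem ch_1_5_9_10_4 : enum 11 ck11 1 5 4887824 1587 6 4 = true := by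
  decide +kernel

set_option maxRecDepth 100000 in
theorem ch_1_5_9_10_6 : enum 11 ck11 1 5 6984976 1635 6 6 = true := by
  decide +kernel

set_option maxRecDepth 100000 in
theorem ch_1_5_9_10_7 : enum 11 ck11 1 5 8033552 1699 6 7 = true := by
  decide +kernel

set_option maxRecDepth 100000 in
theorem ch_1_5_9_10_8 : enum 11 ck11 1 5 9082128 1827 6 8 = true := by
  decide +kernel

theorem ch_1_5_9_10 : enum 11 ck11 1 6 693520 1571 5 10 = true := by
  refine enum_intro 11 ck11 1 5 693520 1571 5 10 ?_
  intro v hv hb hd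
  interval_cases v
  · exact absurd hb (by decide)
  · exact absurd hb (by decide)
  · exact ch_1_5_9_10_2
  · exact ch_1_5_9_10_3
  · exact ch_1_5_9_10_4
  · exact absurd hb (by decide)
  · exact ch_1_5_9_10_6
  · exact ch_1_5_9_10_7
  · exact ch_1_5_9_10_8
  · exact absurd hb (by decide)
  · exact absurd hb (by decide)

theorem ch_1_5_9 : enum 11 ck11 1 7 38160 547 4 9 = true := by
  refine enum_intro 11 ck11 1 6 38160 547 4 9 ?_
  intro v hv hb hd
  interval_cases v
  · exact absurd hb (by decide)
  · exact absurd hb (by decide)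
  · exact ch_1_5_9_2
  · exact ch_1_5_9_3
  · exact ch_1_5_9_4
  · exact absurd hb (by decide)
  · exact ch_1_5_9_6
  · exact ch_1_5_9_7
  · exact ch_1_5_9_8
  · exact absurd hb (by decide)
  · exact ch_1_5_9_10

set_option maxRecDepth 100000 in
theorem ch_1_5_10_2_3 : enum 11 ck11 1 5 3319056 1071 6 3 = true := by
  decide +kernel

set_option maxRecDepth 100000 in
theorem ch_1_5_10_2_4 : enum 11 ck11 1 5 4367632 1079 6 4 = true := by
  decide +kernel

set_option maxRecDepth 100000 in
theorem ch_1_5_10_2_6 : enum 11 ck11 1 5 6464784 1127 6 6 = true := by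
  decide +kernel

set_option maxRecDepth 100000 in
theorem ch_1_5_10_2_7 : enum 11 ck11 1 5 7513360 1191 6 7 = true := by
  decide +kernel

set_option maxRecDepth 100000 in
theorem ch_1_5_10_2_8 : enum 11 ck11 1 5 8561936 1319 6 8 = true := by
  decide +kernel

set_option maxRecDepth 100000 in
theorem ch_1_5_10_2_9 : enum 11 ck11 1 5 9610512 1575 6 9 = true := by
  decide +kernel

theorem ch_1_5_10_2 : enum 11 ck11 1 6 173328 1063 5 2 = true := by
  refine enum_intro 11 ck11 1 5 173328 1063 5 2 ?_
  intro v hv hb hd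
  interval_cases v
  · exact absurd hb (by decide)
  · exact absurd hb (by decide)
  · exact absurd hb (by decide)
  · exact ch_1_5_10_2_3
  · exact ch_1_5_10_2_4
  · exact absurd hb (by decide)
  · exact ch_1_5_10_2_6
  · exact ch_1_5_10_2_7
  · exact ch_1_5_10_2_8
  · exact ch_1_5_10_2_9
  · exact absurd hb (by decide)

set_option maxRecDepth 100000 in
theorem ch_1_5_10_3_2 : enum 11 ck11 1 5 2336016 1071 6 2 = true := by
  decide +kernel

set_option maxRecDepth 100000 in
theorem ch_1_5_10_3_4 : enum 11 ck11 1 5 4433168 1083 6 4 = true := by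
  decide +kernel

set_option maxRecDepth 100000 in
theorem ch_1_5_10_3_6 : enum 11 ck11 1 5 6530320 1131 6 6 = true := by
  decide +kernel

set_option maxRecDepth 100000 in
theorem ch_1_5_10_3_7 : enum 11 ck11 1 5 7578896 1195 6 7 = true := by
  decide +kernel

set_option maxRecDepth 100000 in
theorem ch_1_5_10_3_8 : enum 11 ck11 1 5 8627472 1323 6 8 = true := by
  decide +kernel

set_option maxRecDepth 100000 in
theorem ch_1_5_10_3_9 : enum 11 ck11 1 5 9676048 1579 6 9 = true := by
  decide +kernel

theorem ch_1_5_10_3 : enum 11 ck11 1 6 238864 1067 5 3 = true := by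
  refine enum_intro 11 ck11 1 5 238864 1067 5 3 ?_
  intro v hv hb hd
  interval_cases v
  · exact absurd hb (by decide)
  · exact absurd hb (by decide)
  · exact ch_1_5_10_3_2
  · exact absurd hb (by decide)
  · exact ch_1_5_10_3_4
  · exact absurd hb (by decide)
  · exact ch_1_5_10_3_6
  · exact ch_1_5_10_3_7
  · exact ch_1_5_10_3_8
  · exact ch_1_5_10_3_9
  · exact absurd hb (by decide)

set_option maxRecDepth 100000 in
theorem ch_1_5_10_4_2 : enum 11 ck11 1 5 2401552 1079 6 2 = true := by
  decide +kernel

set_option maxRecDepth 100000 in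
theorem ch_1_5_10_4_3 : enum 11 ck11 1 5 3450128 1083 6 3 = true := by
  decide +kernel

set_option maxRecDepth 100000 in
theorem ch_1_5_10_4_6 : enum 11 ck11 1 5 6595856 1139 6 6 = true := by
  decide +kernel

set_option maxRecDepth 100000 in
theorem ch_1_5_10_4_7 : enum 11 ck11 1 5 7644432 1203 6 7 = true := by
  decide +kernel

set_option maxRecDepth 100000 in
theorem ch_1_5_10_4_8 : enum 11 ck11 1 5 8693008 1331 6 8 = true := by
  decide +kernel

set_option maxRecDepth 100000 in
theorem ch_1_5_10_4_9 : enum 11 ck11 1 5 9741584 1587 6 9 = true := by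
  decide +kernel

theorem ch_1_5_10_4 : enum 11 ck11 1 6 304400 1075 5 4 = true := by
  refine enum_intro 11 ck11 1 5 304400 1075 5 4 ?_
  intro v hv hb hd
  interval_cases v
  · exact absurd hb (by decide)
  · exact absurd hb (by decide)
  · exact ch_1_5_10_4_2
  · exact ch_1_5_10_4_3
  · exact absurd hb (by decide)
  · exact absurd hb (by decide)
  · exact ch_1_5_10_4_6
  · exact ch_1_5_10_4_7
  · exact ch_1_5_10_4_8
  · exact ch_1_5_10_4_9
  · exact absurd hb (by decide)

set_option maxRecDepth 100000 in
theorem ch_1_5_10_6_2 : enum 11 ck11 1 5 2532624 1127 6 2 = true := by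
  decide +kernel

set_option maxRecDepth 100000 in
theorem ch_1_5_10_6_3 : enum 11 ck11 1 5 3581200 1131 6 3 = true := by
  decide +kernel

set_option maxRecDepth 100000 in
theorem ch_1_5_10_6_4 : enum 11 ck11 1 5 4629776 1139 6 4 = true := by
  decide +kernel

set_option maxRecDepth 100000 in
theorem ch_1_5_10_6_7 : enum 11 ck11 1 5 7775504 1251 6 7 = true := by
  decide +kernel

set_option maxRecDepth 100000 in
theorem ch_1_5_10_6_8 : enum 11 ck11 1 5 8824080 1379 6 8 = true := by
  decide +kernel

set_option maxRecDepth 100000 in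
theorem ch_1_5_10_6_9 : enum 11 ck11 1 5 9872656 1635 6 9 = true := by
  decide +kernel

theorem ch_1_5_10_6 : enum 11 ck11 1 6 435472 1123 5 6 = true := by
  refine enum_intro 11 ck11 1 5 435472 1123 5 6 ?_
  intro v hv hb hd
  interval_cases v
  · exact absurd hb (by decide)
  · exact absurd hb (by decide)
  · exact ch_1_5_10_6_2
  · exact ch_1_5_10_6_3
  · exact ch_1_5_10_6_4
  · exact absurd hb (by decide)
  · exact absurd hb (by decide)
  · exact ch_1_5_10_6_7
  · exact ch_1_5_10_6_8
  · exact ch_1_5_10_6_9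
  · exact absurd hb (by decide)

set_option maxRecDepth 100000 in
theorem ch_1_5_10_7_2 : enum 11 ck11 1 5 2598160 1191 6 2 = true := by
  decide +kernel

set_option maxRecDepth 100000 in
theorem ch_1_5_10_7_3 : enum 11 ck11 1 5 3646736 1195 6 3 = true := by
  decide +kernel

set_option maxRecDepth 100000 in
theorem ch_1_5_10_7_4 : enum 11 ck11 1 5 4695312 1203 6 4 = true := by
  decide +kernel

set_option maxRecDepth 100000 in
theorem ch_1_5_10_7_6 : enum 11 ck11 1 5 6792464 1251 6 6 = true := by
  decide +kernel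

set_option maxRecDepth 100000 in
theorem ch_1_5_10_7_8 : enum 11 ck11 1 5 8889616 1443 6 8 = true := by
  decide +kernel

set_option maxRecDepth 100000 in
theorem ch_1_5_10_7_9 : enum 11 ck11 1 5 9938192 1699 6 9 = true := by
  decide +kernel

theorem ch_1_5_10_7 : enum 11 ck11 1 6 501008 1187 5 7 = true := by
  refine enum_intro 11 ck11 1 5 501008 1187 5 7 ?_
  intro v hv hb hd
  interval_cases v
  · exact absurd hb (by decide)
  · exact absurd hb (by decide)
  · exact ch_1_5_10_7_2
  · exact ch_1_5_10_7_3
  · exact ch_1_5_10_7_4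
  · exact absurd hb (by decide)
  · exact ch_1_5_10_7_6
  · exact absurd hb (by decide)
  · exact ch_1_5_10_7_8
  · exact ch_1_5_10_7_9
  · exact absurd hb (by decide)

set_option maxRecDepth 100000 in
theorem ch_1_5_10_8_2 : enum 11 ck11 1 5 2663696 1319 6 2 = true := by
  decide +kernel

set_option maxRecDepth 100000 in
theorem ch_1_5_10_8_3 : enum 11 ck11 1 5 3712272 1323 6 3 = true := by
  decide +kernel

set_option maxRecDepth 100000 in
theorem ch_1_5_10_8_4 : enum 11 ck11 1 5 4760848 1331 6 4 = true := by
  decide +kernel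

set_option maxRecDepth 100000 in
theorem ch_1_5_10_8_6 : enum 11 ck11 1 5 6858000 1379 6 6 = true := by
  decide +kernel

set_option maxRecDepth 100000 in
theorem ch_1_5_10_8_7 : enum 11 ck11 1 5 7906576 1443 6 7 = true := by
  decide +kernel

set_option maxRecDepth 100000 in
theorem ch_1_5_10_8_9 : enum 11 ck11 1 5 10003728 1827 6 9 = true := by
  decide +kernel

theorem ch_1_5_10_8 : enum 11 ck11 1 6 566544 1315 5 8 = true := by
  refine enum_intro 11 ck11 1 5 566544 1315 5 8 ?_
  intro v hv hb hd
  interval_cases v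
  · exact absurd hb (by decide)
  · exact absurd hb (by decide)
  · exact ch_1_5_10_8_2
  · exact ch_1_5_10_8_3
  · exact ch_1_5_10_8_4
  · exact absurd hb (by decide)
  · exact ch_1_5_10_8_6
  · exact ch_1_5_10_8_7
  · exact absurd hb (by decide)
  · exact ch_1_5_10_8_9
  · exact absurd hb (by decide)

set_option maxRecDepth 100000 in
theorem ch_1_5_10_9_2 : enum 11 ck11 1 5 2729232 1575 6 2 = true := by
  decide +kernel

set_option maxRecDepth 100000 in
theorem ch_1_5_10_9_3 : enum 11 ck11 1 5 3777808 1579 6 3 = true := by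
  decide +kernel

set_option maxRecDepth 100000 in
theorem ch_1_5_10_9_4 : enum 11 ck11 1 5 4826384 1587 6 4 = true := by
  decide +kernel

set_option maxRecDepth 100000 in
theorem ch_1_5_10_9_6 : enum 11 ck11 1 5 6923536 1635 6 6 = true := by
  decide +kernel

set_option maxRecDepth 100000 in
theorem ch_1_5_10_9_7 : enum 11 ck11 1 5 7972112 1699 6 7 = true := by
  decide +kernel

set_option maxRecDepth 100000 in
theorem ch_1_5_10_9_8 : enum 11 ck11 1 5 9020688 1827 6 8 = true := by
  decide +kernel

theorem ch_1_5_10_9 : enum 11 ck11 1 6 632080 1571 5 9 = true := by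
  refine enum_intro 11 ck11 1 5 632080 1571 5 9 ?_
  intro v hv hb hd
  interval_cases v
  · exact absurd hb (by decide)
  · exact absurd hb (by decide)
  · exact ch_1_5_10_9_2
  · exact ch_1_5_10_9_3
  · exact ch_1_5_10_9_4
  · exact absurd hb (by decide)
  · exact ch_1_5_10_9_6
  · exact ch_1_5_10_9_7
  · exact ch_1_5_10_9_8
  · exact absurd hb (by decide)
  · exact absurd hb (by decide)

theorem ch_1_5_10 : enum 11 ck11 1 7 42256 1059 4 10 = true := by
  refine enum_intro 11 ck11 1 6 42256 1059 4 10 ?_
  intro v hv hb hd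
  interval_cases v
  · exact absurd hb (by decide)
  · exact absurd hb (by decide)
  · exact ch_1_5_10_2
  · exact ch_1_5_10_3
  · exact ch_1_5_10_4
  · exact absurd hb (by decide)
  · exact ch_1_5_10_6
  · exact ch_1_5_10_7
  · exact ch_1_5_10_8
  · exact ch_1_5_10_9
  · exact absurd hb (by decide)

end Cfsg.Agent.Helper9.T11
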