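import Mathlib
import Cfsg.Agent.Helper9.T11.Ch.C1x5p0
import Cfsg.Agent.Helper9.T11.Ch.C1x5p1
import Cfsg.Agent.Helper9.T11.Ch.C1x5p2

set_option autoImplicit false
set_option Elab.async false

/-!
A part of the enumeration on 11 points: the test holds at every permutation of the part.
-/

namespace Cfsg.Agent.Helper9.T11

theorem ch_1_5 : enum 11 ck11 1 8 1296 35 3 5 = true := by
  refine enum_intro 11 ck11 1 7 1296 35 3 5 ?_
  intro v hv hb hd
  interval_cases v
  · exact absurd hb (by decide)
  · exact absurd hb (by decide)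
  · exact ch_1_5_2
  · exact ch_1_5_3
  · exact ch_1_5_4
  · exact absurd hb (by decide)
  · exact ch_1_5_6
  · exact ch_1_5_7
  · exact ch_1_5_8
  · exact ch_1_5_9
  · exact ch_1_5_10

end Cfsg.Agent.Helper9.T11
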