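import Mathlib
import Cfsg.Agent.Helper9.T11.Chk

set_option autoImplicit false
set_option Elab.async false

/-!
A part of the enumeration on 11 points: the test holds at every permutation of the part.
-/

namespace Cfsg.Agent.Helper9.T11

set_option maxRecDepth 100000 in
theorem ch_1_6_2_3_4 : enum 11 ck11 1 5 4400656 95 6 4 = true := by
  decide +kernel

set_option maxRecDepth 100000 in
theorem ch_1_6_2_3_5 : enum 11 ck11 1 5 5449232 111 6 5 = true := by
  decide +kernel

set_option maxRecDepth 100000 in
theorem ch_1_6_2_3_7 : enum 11 ck11 1 5 7546384 207 6 7 = true := by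
  decide +kernel

set_option maxRecDepth 100000 in
theorem ch_1_6_2_3_8 : enum 11 ck11 1 5 8594960 335 6 8 = true := by
  decide +kernel

set_option maxRecDepth 100000 in
theorem ch_1_6_2_3_9 : enum 11 ck11 1 5 9643536 591 6 9 = true := by
  decide +kernel

set_option maxRecDepth 100000 in
theorem ch_1_6_2_3_10 : enum 11 ck11 1 5 10692112 1103 6 10 = true := by
  decide +kernel

theorem ch_1_6_2_3 : enum 11 ck11 1 6 206352 79 5 3 = true := by
  refine enum_intro 11 ck11 1 5 206352 79 5 3 ?_
  intro v hv hb hd
  interval_cases v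
  · exact absurd hb (by decide)
  · exact absurd hb (by decide)
  · exact absurd hb (by decide)
  · exact absurd hb (by decide)
  · exact ch_1_6_2_3_4
  · exact ch_1_6_2_3_5
  · exact absurd hb (by decide)
  · exact ch_1_6_2_3_7
  · exact ch_1_6_2_3_8
  · exact ch_1_6_2_3_9
  · exact ch_1_6_2_3_10

set_option maxRecDepth 100000 in
theorem ch_1_6_2_4_3 : enum 11 ck11 1 5 3417616 95 6 3 = true := by
  decide +kernel

set_option maxRecDepth 100000 in
theorem ch_1_6_2_4_5 : enum 11 ck11 1 5 5514768 119 6 5 = true := by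
  decide +kernel

set_option maxRecDepth 100000 in
theorem ch_1_6_2_4_7 : enum 11 ck11 1 5 7611920 215 6 7 = true := by
  decide +kernel

set_option maxRecDepth 100000 in
theorem ch_1_6_2_4_8 : enum 11 ck11 1 5 8660496 343 6 8 = true := by
  decide +kernel

set_option maxRecDepth 100000 in
theorem ch_1_6_2_4_9 : enum 11 ck11 1 5 9709072 599 6 9 = true := by
  decide +kernel

set_option maxRecDepth 100000 in
theorem ch_1_6_2_4_10 : enum 11 ck11 1 5 10757648 1111 6 10 = true := by
  decide +kernel

theorem ch_1_6_2_4 : enum 11 ck11 1 6 271888 87 5 4 = true := by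
  refine enum_intro 11 ck11 1 5 271888 87 5 4 ?_
  intro v hv hb hd
  interval_cases v
  · exact absurd hb (by decide)
  · exact absurd hb (by decide)
  · exact absurd hb (by decide)
  · exact ch_1_6_2_4_3
  · exact absurd hb (by decide)
  · exact ch_1_6_2_4_5
  · exact absurd hb (by decide)
  · exact ch_1_6_2_4_7
  · exact ch_1_6_2_4_8
  · exact ch_1_6_2_4_9
  · exact ch_1_6_2_4_10

set_option maxRecDepth 100000 in
theorem ch_1_6_2_5_3 : enum 11 ck11 1 5 3483152 111 6 3 = true := by
  decide +kernel

set_option maxRecDepth 100000 in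
theorem ch_1_6_2_5_4 : enum 11 ck11 1 5 4531728 119 6 4 = true := by
  decide +kernel

set_option maxRecDepth 100000 in
theorem ch_1_6_2_5_7 : enum 11 ck11 1 5 7677456 231 6 7 = true := by
  decide +kernel

set_option maxRecDepth 100000 in
theorem ch_1_6_2_5_8 : enum 11 ck11 1 5 8726032 359 6 8 = true := by
  decide +kernel

set_option maxRecDepth 100000 in
theorem ch_1_6_2_5_9 : enum 11 ck11 1 5 9774608 615 6 9 = true := by
  decide +kernel

set_option maxRecDepth 100000 in
theorem ch_1_6_2_5_10 : enum 11 ck11 1 5 10823184 1127 6 10 = true := by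
  decide +kernel

theorem ch_1_6_2_5 : enum 11 ck11 1 6 337424 103 5 5 = true := by
  refine enum_intro 11 ck11 1 5 337424 103 5 5 ?_
  intro v hv hb hd
  interval_cases v
  · exact absurd hb (by decide)
  · exact absurd hb (by decide)
  · exact absurd hb (by decide)
  · exact ch_1_6_2_5_3
  · exact ch_1_6_2_5_4
  · exact absurd hb (by decide)
  · exact absurd hb (by decide)
  · exact ch_1_6_2_5_7
  · exact ch_1_6_2_5_8
  · exact ch_1_6_2_5_9
  · exact ch_1_6_2_5_10

set_option maxRecDepth 100000 in
theorem ch_1_6_2_7_3 : enum 11 ck11 1 5 3614224 207 6 3 = true := by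
  decide +kernel

set_option maxRecDepth 100000 in
theorem ch_1_6_2_7_4 : enum 11 ck11 1 5 4662800 215 6 4 = true := by
  decide +kernel

set_option maxRecDepth 100000 in
theorem ch_1_6_2_7_5 : enum 11 ck11 1 5 5711376 231 6 5 = true := by
  decide +kernel

set_option maxRecDepth 100000 in
theorem ch_1_6_2_7_8 : enum 11 ck11 1 5 8857104 455 6 8 = true := by
  decide +kernel

set_option maxRecDepth 100000 in
theorem ch_1_6_2_7_9 : enum 11 ck11 1 5 9905680 711 6 9 = true := by
  decide +kernel

set_option maxRecDepth 100000 in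
theorem ch_1_6_2_7_10 : enum 11 ck11 1 5 10954256 1223 6 10 = true := by
  decide +kernel

theorem ch_1_6_2_7 : enum 11 ck11 1 6 468496 199 5 7 = true := by
  refine enum_intro 11 ck11 1 5 468496 199 5 7 ?_
  intro v hv hb hd
  interval_cases v
  · exact absurd hb (by decide)
  · exact absurd hb (by decide)
  · exact absurd hb (by decide)
  · exact ch_1_6_2_7_3
  · exact ch_1_6_2_7_4
  · exact ch_1_6_2_7_5
  · exact absurd hb (by decide)
  · exact absurd hb (by decide)
  · exact ch_1_6_2_7_8
  · exact ch_1_6_2_7_9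
  · exact ch_1_6_2_7_10

set_option maxRecDepth 100000 in
theorem ch_1_6_2_8_3 : enum 11 ck11 1 5 3679760 335 6 3 = true := by
  decide +kernel

set_option maxRecDepth 100000 in
theorem ch_1_6_2_8_4 : enum 11 ck11 1 5 4728336 343 6 4 = true := by
  decide +kernel

set_option maxRecDepth 100000 in
theorem ch_1_6_2_8_5 : enum 11 ck11 1 5 5776912 359 6 5 = true := by
  decide +kernel

set_option maxRecDepth 100000 in
theorem ch_1_6_2_8_7 : enum 11 ck11 1 5 7874064 455 6 7 = true := by
  decide +kernel

set_option maxRecDepth 100000 in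
theorem ch_1_6_2_8_9 : enum 11 ck11 1 5 9971216 839 6 9 = true := by
  decide +kernel

set_option maxRecDepth 100000 in
theorem ch_1_6_2_8_10 : enum 11 ck11 1 5 11019792 1351 6 10 = true := by
  decide +kernel

theorem ch_1_6_2_8 : enum 11 ck11 1 6 534032 327 5 8 = true := by
  refine enum_intro 11 ck11 1 5 534032 327 5 8 ?_
  intro v hv hb hd
  interval_cases v
  · exact absurd hb (by decide)
  · exact absurd hb (by decide)
  · exact absurd hb (by decide)
  · exact ch_1_6_2_8_3
  · exact ch_1_6_2_8_4
  · exact ch_1_6_2_8_5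
  · exact absurd hb (by decide)
  · exact ch_1_6_2_8_7
  · exact absurd hb (by decide)
  · exact ch_1_6_2_8_9
  · exact ch_1_6_2_8_10

set_option maxRecDepth 100000 in
theorem ch_1_6_2_9_3 : enum 11 ck11 1 5 3745296 591 6 3 = true := by
  decide +kernel

set_option maxRecDepth 100000 in
theorem ch_1_6_2_9_4 : enum 11 ck11 1 5 4793872 599 6 4 = true := by
  decide +kernel

set_option maxRecDepth 100000 in
theorem ch_1_6_2_9_5 : enum 11 ck11 1 5 5842448 615 6 5 = true := by
  decide +kernel

set_option maxRecDepth 100000 in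
theorem ch_1_6_2_9_7 : enum 11 ck11 1 5 7939600 711 6 7 = true := by
  decide +kernel

set_option maxRecDepth 100000 in
theorem ch_1_6_2_9_8 : enum 11 ck11 1 5 8988176 839 6 8 = true := by
  decide +kernel

set_option maxRecDepth 100000 in
theorem ch_1_6_2_9_10 : enum 11 ck11 1 5 11085328 1607 6 10 = true := by
  decide +kernel

theorem ch_1_6_2_9 : enum 11 ck11 1 6 599568 583 5 9 = true := by
  refine enum_intro 11 ck11 1 5 599568 583 5 9 ?_
  intro v hv hb hd
  interval_cases v
  · exact absurd hb (by decide)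
  · exact absurd hb (by decide)
  · exact absurd hb (by decide)
  · exact ch_1_6_2_9_3
  · exact ch_1_6_2_9_4
  · exact ch_1_6_2_9_5
  · exact absurd hb (by decide)
  · exact ch_1_6_2_9_7
  · exact ch_1_6_2_9_8
  · exact absurd hb (by decide)
  · exact ch_1_6_2_9_10

set_option maxRecDepth 100000 in
theorem ch_1_6_2_10_3 : enum 11 ck11 1 5 3810832 1103 6 3 = true := by
  decide +kernel

set_option maxRecDepth 100000 in
theorem ch_1_6_2_10_4 : enum 11 ck11 1 5 4859408 1111 6 4 = true := by
  decide +kernel

set_option maxRecDepth 100000 in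
theorem ch_1_6_2_10_5 : enum 11 ck11 1 5 5907984 1127 6 5 = true := by
  decide +kernel

set_option maxRecDepth 100000 in
theorem ch_1_6_2_10_7 : enum 11 ck11 1 5 8005136 1223 6 7 = true := by
  decide +kernel

set_option maxRecDepth 100000 in
theorem ch_1_6_2_10_8 : enum 11 ck11 1 5 9053712 1351 6 8 = true := by
  decide +kernel

set_option maxRecDepth 100000 in
theorem ch_1_6_2_10_9 : enum 11 ck11 1 5 10102288 1607 6 9 = true := by
  decide +kernel

theorem ch_1_6_2_10 : enum 11 ck11 1 6 665104 1095 5 10 = true := by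
  refine enum_intro 11 ck11 1 5 665104 1095 5 10 ?_
  intro v hv hb hd
  interval_cases v
  · exact absurd hb (by decide)
  · exact absurd hb (by decide)
  · exact absurd hb (by decide)
  · exact ch_1_6_2_10_3
  · exact ch_1_6_2_10_4
  · exact ch_1_6_2_10_5
  · exact absurd hb (by decide)
  · exact ch_1_6_2_10_7
  · exact ch_1_6_2_10_8
  · exact ch_1_6_2_10_9
  · exact absurd hb (by decide)

theorem ch_1_6_2 : enum 11 ck11 1 7 9744 71 4 2 = true := by
  refine enum_intro 11 ck11 1 6 9744 71 4 2 ?_
  intro v hv hb hd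
  interval_cases v
  · exact absurd hb (by decide)
  · exact absurd hb (by decide)
  · exact absurd hb (by decide)
  · exact ch_1_6_2_3
  · exact ch_1_6_2_4
  · exact ch_1_6_2_5
  · exact absurd hb (by decide)
  · exact ch_1_6_2_7
  · exact ch_1_6_2_8
  · exact ch_1_6_2_9
  · exact ch_1_6_2_10

set_option maxRecDepth 100000 in
theorem ch_1_6_3_2_4 : enum 11 ck11 1 5 4339216 95 6 4 = true := by
  decide +kernel

set_option maxRecDepth 100000 in
theorem ch_1_6_3_2_5 : enum 11 ck11 1 5 5387792 111 6 5 = true := by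
  decide +kernel

set_option maxRecDepth 100000 in
theorem ch_1_6_3_2_7 : enum 11 ck11 1 5 7484944 207 6 7 = true := by
  decide +kernel

set_option maxRecDepth 100000 in
theorem ch_1_6_3_2_8 : enum 11 ck11 1 5 8533520 335 6 8 = true := by
  decide +kernel

set_option maxRecDepth 100000 in
theorem ch_1_6_3_2_9 : enum 11 ck11 1 5 9582096 591 6 9 = true := by
  decide +kernel

set_option maxRecDepth 100000 in
theorem ch_1_6_3_2_10 : enum 11 ck11 1 5 10630672 1103 6 10 = true := by
  decide +kernel

theorem ch_1_6_3_2 : enum 11 ck11 1 6 144912 79 5 2 = true := by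
  refine enum_intro 11 ck11 1 5 144912 79 5 2 ?_
  intro v hv hb hd
  interval_cases v
  · exact absurd hb (by decide)
  · exact absurd hb (by decide)
  · exact absurd hb (by decide)
  · exact absurd hb (by decide)
  · exact ch_1_6_3_2_4
  · exact ch_1_6_3_2_5
  · exact absurd hb (by decide)
  · exact ch_1_6_3_2_7
  · exact ch_1_6_3_2_8
  · exact ch_1_6_3_2_9
  · exact ch_1_6_3_2_10

set_option maxRecDepth 100000 in
theorem ch_1_6_3_4_2 : enum 11 ck11 1 5 2373136 95 6 2 = true := by
  decide +kernel

set_option maxRecDepth 100000 in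
theorem ch_1_6_3_4_5 : enum 11 ck11 1 5 5518864 123 6 5 = true := by
  decide +kernel

set_option maxRecDepth 100000 in
theorem ch_1_6_3_4_7 : enum 11 ck11 1 5 7616016 219 6 7 = true := by
  decide +kernel

set_option maxRecDepth 100000 in
theorem ch_1_6_3_4_8 : enum 11 ck11 1 5 8664592 347 6 8 = true := by
  decide +kernel

set_option maxRecDepth 100000 in
theorem ch_1_6_3_4_9 : enum 11 ck11 1 5 9713168 603 6 9 = true := by
  decide +kernel

set_option maxRecDepth 100000 in
theorem ch_1_6_3_4_10 : enum 11 ck11 1 5 10761744 1115 6 10 = true := by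
  decide +kernel

theorem ch_1_6_3_4 : enum 11 ck11 1 6 275984 91 5 4 = true := by
  refine enum_intro 11 ck11 1 5 275984 91 5 4 ?_
  intro v hv hb hd
  interval_cases v
  · exact absurd hb (by decide)
  · exact absurd hb (by decide)
  · exact ch_1_6_3_4_2
  · exact absurd hb (by decide)
  · exact absurd hb (by decide)
  · exact ch_1_6_3_4_5
  · exact absurd hb (by decide)
  · exact ch_1_6_3_4_7
  · exact ch_1_6_3_4_8
  · exact ch_1_6_3_4_9
  · exact ch_1_6_3_4_10

set_option maxRecDepth 100000 in
theorem ch_1_6_3_5_2 : enum 11 ck11 1 5 2438672 111 6 2 = true := by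
  decide +kernel

set_option maxRecDepth 100000 in
theorem ch_1_6_3_5_4 : enum 11 ck11 1 5 4535824 123 6 4 = true := by
  decide +kernel

set_option maxRecDepth 100000 in
theorem ch_1_6_3_5_7 : enum 11 ck11 1 5 7681552 235 6 7 = true := by
  decide +kernel

set_option maxRecDepth 100000 in
theorem ch_1_6_3_5_8 : enum 11 ck11 1 5 8730128 363 6 8 = true := by
  decide +kernel

set_option maxRecDepth 100000 in
theorem ch_1_6_3_5_9 : enum 11 ck11 1 5 9778704 619 6 9 = true := by
  decide +kernel

set_option maxRecDepth 100000 in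
theorem ch_1_6_3_5_10 : enum 11 ck11 1 5 10827280 1131 6 10 = true := by
  decide +kernel

theorem ch_1_6_3_5 : enum 11 ck11 1 6 341520 107 5 5 = true := by
  refine enum_intro 11 ck11 1 5 341520 107 5 5 ?_
  intro v hv hb hd
  interval_cases v
  · exact absurd hb (by decide)
  · exact absurd hb (by decide)
  · exact ch_1_6_3_5_2
  · exact absurd hb (by decide)
  · exact ch_1_6_3_5_4
  · exact absurd hb (by decide)
  · exact absurd hb (by decide)
  · exact ch_1_6_3_5_7
  · exact ch_1_6_3_5_8
  · exact ch_1_6_3_5_9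
  · exact ch_1_6_3_5_10

set_option maxRecDepth 100000 in
theorem ch_1_6_3_7_2 : enum 11 ck11 1 5 2569744 207 6 2 = true := by
  decide +kernel

set_option maxRecDepth 100000 in
theorem ch_1_6_3_7_4 : enum 11 ck11 1 5 4666896 219 6 4 = true := by
  decide +kernel

set_option maxRecDepth 100000 in
theorem ch_1_6_3_7_5 : enum 11 ck11 1 5 5715472 235 6 5 = true := by
  decide +kernel

set_option maxRecDepth 100000 in
theorem ch_1_6_3_7_8 : enum 11 ck11 1 5 8861200 459 6 8 = true := by
  decide +kernel

set_option maxRecDepth 100000 in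
theorem ch_1_6_3_7_9 : enum 11 ck11 1 5 9909776 715 6 9 = true := by
  decide +kernel

set_option maxRecDepth 100000 in
theorem ch_1_6_3_7_10 : enum 11 ck11 1 5 10958352 1227 6 10 = true := by
  decide +kernel

theorem ch_1_6_3_7 : enum 11 ck11 1 6 472592 203 5 7 = true := by
  refine enum_intro 11 ck11 1 5 472592 203 5 7 ?_
  intro v hv hb hd
  interval_cases v
  · exact absurd hb (by decide)
  · exact absurd hb (by decide)
  · exact ch_1_6_3_7_2
  · exact absurd hb (by decide)
  · exact ch_1_6_3_7_4
  · exact ch_1_6_3_7_5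
  · exact absurd hb (by decide)
  · exact absurd hb (by decide)
  · exact ch_1_6_3_7_8
  · exact ch_1_6_3_7_9
  · exact ch_1_6_3_7_10

set_option maxRecDepth 100000 in
theorem ch_1_6_3_8_2 : enum 11 ck11 1 5 2635280 335 6 2 = true := by
  decide +kernel

set_option maxRecDepth 100000 in
theorem ch_1_6_3_8_4 : enum 11 ck11 1 5 4732432 347 6 4 = true := by
  decide +kernel

set_option maxRecDepth 100000 in
theorem ch_1_6_3_8_5 : enum 11 ck11 1 5 5781008 363 6 5 = true := by
  decide +kernel

set_option maxRecDepth 100000 in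
theorem ch_1_6_3_8_7 : enum 11 ck11 1 5 7878160 459 6 7 = true := by
  decide +kernel

set_option maxRecDepth 100000 in
theorem ch_1_6_3_8_9 : enum 11 ck11 1 5 9975312 843 6 9 = true := by
  decide +kernel

set_option maxRecDepth 100000 in
theorem ch_1_6_3_8_10 : enum 11 ck11 1 5 11023888 1355 6 10 = true := by
  decide +kernel

theorem ch_1_6_3_8 : enum 11 ck11 1 6 538128 331 5 8 = true := by
  refine enum_intro 11 ck11 1 5 538128 331 5 8 ?_
  intro v hv hb hd
  interval_cases v
  · exact absurd hb (by decide)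
  · exact absurd hb (by decide)
  · exact ch_1_6_3_8_2
  · exact absurd hb (by decide)
  · exact ch_1_6_3_8_4
  · exact ch_1_6_3_8_5
  · exact absurd hb (by decide)
  · exact ch_1_6_3_8_7
  · exact absurd hb (by decide)
  · exact ch_1_6_3_8_9
  · exact ch_1_6_3_8_10

set_option maxRecDepth 100000 in
theorem ch_1_6_3_9_2 : enum 11 ck11 1 5 2700816 591 6 2 = true := by
  decide +kernel

set_option maxRecDepth 100000 in
theorem ch_1_6_3_9_4 : enum 11 ck11 1 5 4797968 603 6 4 = true := by
  decide +kernel

set_option maxRecDepth 100000 in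
theorem ch_1_6_3_9_5 : enum 11 ck11 1 5 5846544 619 6 5 = true := by
  decide +kernel

set_option maxRecDepth 100000 in
theorem ch_1_6_3_9_7 : enum 11 ck11 1 5 7943696 715 6 7 = true := by
  decide +kernel

set_option maxRecDepth 100000 in
theorem ch_1_6_3_9_8 : enum 11 ck11 1 5 8992272 843 6 8 = true := by
  decide +kernel

set_option maxRecDepth 100000 in
theorem ch_1_6_3_9_10 : enum 11 ck11 1 5 11089424 1611 6 10 = true := by
  decide +kernel

theorem ch_1_6_3_9 : enum 11 ck11 1 6 603664 587 5 9 = true := by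
  refine enum_intro 11 ck11 1 5 603664 587 5 9 ?_
  intro v hv hb hd
  interval_cases v
  · exact absurd hb (by decide)
  · exact absurd hb (by decide)
  · exact ch_1_6_3_9_2
  · exact absurd hb (by decide)
  · exact ch_1_6_3_9_4
  · exact ch_1_6_3_9_5
  · exact absurd hb (by decide)
  · exact ch_1_6_3_9_7
  · exact ch_1_6_3_9_8
  · exact absurd hb (by decide)
  · exact ch_1_6_3_9_10

set_option maxRecDepth 100000 in
theorem ch_1_6_3_10_2 : enum 11 ck11 1 5 2766352 1103 6 2 = true := by
  decide +kernel

set_option maxRecDepth 100000 in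
theorem ch_1_6_3_10_4 : enum 11 ck11 1 5 4863504 1115 6 4 = true := by
  decide +kernel

set_option maxRecDepth 100000 in
theorem ch_1_6_3_10_5 : enum 11 ck11 1 5 5912080 1131 6 5 = true := by
  decide +kernel

set_option maxRecDepth 100000 in
theorem ch_1_6_3_10_7 : enum 11 ck11 1 5 8009232 1227 6 7 = true := by
  decide +kernel

set_option maxRecDepth 100000 in
theorem ch_1_6_3_10_8 : enum 11 ck11 1 5 9057808 1355 6 8 = true := by
  decide +kernel

set_option maxRecDepth 100000 in
theorem ch_1_6_3_10_9 : enum 11 ck11 1 5 10106384 1611 6 9 = true := by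
  decide +kernel

theorem ch_1_6_3_10 : enum 11 ck11 1 6 669200 1099 5 10 = true := by
  refine enum_intro 11 ck11 1 5 669200 1099 5 10 ?_
  intro v hv hb hd
  interval_cases v
  · exact absurd hb (by decide)
  · exact absurd hb (by decide)
  · exact ch_1_6_3_10_2
  · exact absurd hb (by decide)
  · exact ch_1_6_3_10_4
  · exact ch_1_6_3_10_5
  · exact absurd hb (by decide)
  · exact ch_1_6_3_10_7
  · exact ch_1_6_3_10_8
  · exact ch_1_6_3_10_9
  · exact absurd hb (by decide)

theorem ch_1_6_3 : enum 11 ck11 1 7 13840 75 4 3 = true := by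
  refine enum_intro 11 ck11 1 6 13840 75 4 3 ?_
  intro v hv hb hd
  interval_cases v
  · exact absurd hb (by decide)
  · exact absurd hb (by decide)
  · exact ch_1_6_3_2
  · exact absurd hb (by decide)
  · exact ch_1_6_3_4
  · exact ch_1_6_3_5
  · exact absurd hb (by decide)
  · exact ch_1_6_3_7
  · exact ch_1_6_3_8
  · exact ch_1_6_3_9
  · exact ch_1_6_3_10

set_option maxRecDepth 100000 in
theorem ch_1_6_4_2_3 : enum 11 ck11 1 5 3294736 95 6 3 = true := by
  decide +kernel

set_option maxRecDepth 100000 in
theorem ch_1_6_4_2_5 : enum 11 ck11 1 5 5391888 119 6 5 = true := by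
  decide +kernel

set_option maxRecDepth 100000 in
theorem ch_1_6_4_2_7 : enum 11 ck11 1 5 7489040 215 6 7 = true := by
  decide +kernel

set_option maxRecDepth 100000 in
theorem ch_1_6_4_2_8 : enum 11 ck11 1 5 8537616 343 6 8 = true := by
  decide +kernel

set_option maxRecDepth 100000 in
theorem ch_1_6_4_2_9 : enum 11 ck11 1 5 9586192 599 6 9 = true := by
  decide +kernel

set_option maxRecDepth 100000 in
theorem ch_1_6_4_2_10 : enum 11 ck11 1 5 10634768 1111 6 10 = true := by
  decide +kernel

theorem ch_1_6_4_2 : enum 11 ck11 1 6 149008 87 5 2 = true := by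
  refine enum_intro 11 ck11 1 5 149008 87 5 2 ?_
  intro v hv hb hd
  interval_cases v
  · exact absurd hb (by decide)
  · exact absurd hb (by decide)
  · exact absurd hb (by decide)
  · exact ch_1_6_4_2_3
  · exact absurd hb (by decide)
  · exact ch_1_6_4_2_5
  · exact absurd hb (by decide)
  · exact ch_1_6_4_2_7
  · exact ch_1_6_4_2_8
  · exact ch_1_6_4_2_9
  · exact ch_1_6_4_2_10

set_option maxRecDepth 100000 in
theorem ch_1_6_4_3_2 : enum 11 ck11 1 5 2311696 95 6 2 = true := by
  decide +kernel

set_option maxRecDepth 100000 in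
theorem ch_1_6_4_3_5 : enum 11 ck11 1 5 5457424 123 6 5 = true := by
  decide +kernel

set_option maxRecDepth 100000 in
theorem ch_1_6_4_3_7 : enum 11 ck11 1 5 7554576 219 6 7 = true := by
  decide +kernel

set_option maxRecDepth 100000 in
theorem ch_1_6_4_3_8 : enum 11 ck11 1 5 8603152 347 6 8 = true := by
  decide +kernel

set_option maxRecDepth 100000 in
theorem ch_1_6_4_3_9 : enum 11 ck11 1 5 9651728 603 6 9 = true := by
  decide +kernel

set_option maxRecDepth 100000 in
theorem ch_1_6_4_3_10 : enum 11 ck11 1 5 10700304 1115 6 10 = true := by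
  decide +kernel

theorem ch_1_6_4_3 : enum 11 ck11 1 6 214544 91 5 3 = true := by
  refine enum_intro 11 ck11 1 5 214544 91 5 3 ?_
  intro v hv hb hd
  interval_cases v
  · exact absurd hb (by decide)
  · exact absurd hb (by decide)
  · exact ch_1_6_4_3_2
  · exact absurd hb (by decide)
  · exact absurd hb (by decide)
  · exact ch_1_6_4_3_5
  · exact absurd hb (by decide)
  · exact ch_1_6_4_3_7
  · exact ch_1_6_4_3_8
  · exact ch_1_6_4_3_9
  · exact ch_1_6_4_3_10

set_option maxRecDepth 100000 in
theorem ch_1_6_4_5_2 : enum 11 ck11 1 5 2442768 119 6 2 = true := by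
  decide +kernel

set_option maxRecDepth 100000 in
theorem ch_1_6_4_5_3 : enum 11 ck11 1 5 3491344 123 6 3 = true := by
  decide +kernel

set_option maxRecDepth 100000 in
theorem ch_1_6_4_5_7 : enum 11 ck11 1 5 7685648 243 6 7 = true := by
  decide +kernel

set_option maxRecDepth 100000 in
theorem ch_1_6_4_5_8 : enum 11 ck11 1 5 8734224 371 6 8 = true := by
  decide +kernel

set_option maxRecDepth 100000 in
theorem ch_1_6_4_5_9 : enum 11 ck11 1 5 9782800 627 6 9 = true := by
  decide +kernel

set_option maxRecDepth 100000 in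
theorem ch_1_6_4_5_10 : enum 11 ck11 1 5 10831376 1139 6 10 = true := by
  decide +kernel

theorem ch_1_6_4_5 : enum 11 ck11 1 6 345616 115 5 5 = true := by
  refine enum_intro 11 ck11 1 5 345616 115 5 5 ?_
  intro v hv hb hd
  interval_cases v
  · exact absurd hb (by decide)
  · exact absurd hb (by decide)
  · exact ch_1_6_4_5_2
  · exact ch_1_6_4_5_3
  · exact absurd hb (by decide)
  · exact absurd hb (by decide)
  · exact absurd hb (by decide)
  · exact ch_1_6_4_5_7
  · exact ch_1_6_4_5_8
  · exact ch_1_6_4_5_9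
  · exact ch_1_6_4_5_10

set_option maxRecDepth 100000 in
theorem ch_1_6_4_7_2 : enum 11 ck11 1 5 2573840 215 6 2 = true := by
  decide +kernel

set_option maxRecDepth 100000 in
theorem ch_1_6_4_7_3 : enum 11 ck11 1 5 3622416 219 6 3 = true := by
  decide +kernel

set_option maxRecDepth 100000 in
theorem ch_1_6_4_7_5 : enum 11 ck11 1 5 5719568 243 6 5 = true := by
  decide +kernel

set_option maxRecDepth 100000 in
theorem ch_1_6_4_7_8 : enum 11 ck11 1 5 8865296 467 6 8 = true := by
  decide +kernel

set_option maxRecDepth 100000 in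
theorem ch_1_6_4_7_9 : enum 11 ck11 1 5 9913872 723 6 9 = true := by
  decide +kernel

set_option maxRecDepth 100000 in
theorem ch_1_6_4_7_10 : enum 11 ck11 1 5 10962448 1235 6 10 = true := by
  decide +kernel

theorem ch_1_6_4_7 : enum 11 ck11 1 6 476688 211 5 7 = true := by
  refine enum_intro 11 ck11 1 5 476688 211 5 7 ?_
  intro v hv hb hd
  interval_cases v
  · exact absurd hb (by decide)
  · exact absurd hb (by decide)
  · exact ch_1_6_4_7_2
  · exact ch_1_6_4_7_3
  · exact absurd hb (by decide)
  · exact ch_1_6_4_7_5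
  · exact absurd hb (by decide)
  · exact absurd hb (by decide)
  · exact ch_1_6_4_7_8
  · exact ch_1_6_4_7_9
  · exact ch_1_6_4_7_10

set_option maxRecDepth 100000 in
theorem ch_1_6_4_8_2 : enum 11 ck11 1 5 2639376 343 6 2 = true := by
  decide +kernel

set_option maxRecDepth 100000 in
theorem ch_1_6_4_8_3 : enum 11 ck11 1 5 3687952 347 6 3 = true := by
  decide +kernel

set_option maxRecDepth 100000 in
theorem ch_1_6_4_8_5 : enum 11 ck11 1 5 5785104 371 6 5 = true := by
  decide +kernel

set_option maxRecDepth 100000 in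
theorem ch_1_6_4_8_7 : enum 11 ck11 1 5 7882256 467 6 7 = true := by
  decide +kernel

set_option maxRecDepth 100000 in
theorem ch_1_6_4_8_9 : enum 11 ck11 1 5 9979408 851 6 9 = true := by
  decide +kernel

set_option maxRecDepth 100000 in
theorem ch_1_6_4_8_10 : enum 11 ck11 1 5 11027984 1363 6 10 = true := by
  decide +kernel

theorem ch_1_6_4_8 : enum 11 ck11 1 6 542224 339 5 8 = true := by
  refine enum_intro 11 ck11 1 5 542224 339 5 8 ?_
  intro v hv hb hd
  interval_cases v
  · exact absurd hb (by decide)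
  · exact absurd hb (by decide)
  · exact ch_1_6_4_8_2
  · exact ch_1_6_4_8_3
  · exact absurd hb (by decide)
  · exact ch_1_6_4_8_5
  · exact absurd hb (by decide)
  · exact ch_1_6_4_8_7
  · exact absurd hb (by decide)
  · exact ch_1_6_4_8_9
  · exact ch_1_6_4_8_10

set_option maxRecDepth 100000 in
theorem ch_1_6_4_9_2 : enum 11 ck11 1 5 2704912 599 6 2 = true := by
  decide +kernel

set_option maxRecDepth 100000 in
theorem ch_1_6_4_9_3 : enum 11 ck11 1 5 3753488 603 6 3 = true := by
  decide +kernel

set_option maxRecDepth 100000 in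
theorem ch_1_6_4_9_5 : enum 11 ck11 1 5 5850640 627 6 5 = true := by
  decide +kernel

set_option maxRecDepth 100000 in
theorem ch_1_6_4_9_7 : enum 11 ck11 1 5 7947792 723 6 7 = true := by
  decide +kernel

set_option maxRecDepth 100000 in
theorem ch_1_6_4_9_8 : enum 11 ck11 1 5 8996368 851 6 8 = true := by
  decide +kernel

set_option maxRecDepth 100000 in
theorem ch_1_6_4_9_10 : enum 11 ck11 1 5 11093520 1619 6 10 = true := by
  decide +kernel

theorem ch_1_6_4_9 : enum 11 ck11 1 6 607760 595 5 9 = true := by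
  refine enum_intro 11 ck11 1 5 607760 595 5 9 ?_
  intro v hv hb hd
  interval_cases v
  · exact absurd hb (by decide)
  · exact absurd hb (by decide)
  · exact ch_1_6_4_9_2
  · exact ch_1_6_4_9_3
  · exact absurd hb (by decide)
  · exact ch_1_6_4_9_5
  · exact absurd hb (by decide)
  · exact ch_1_6_4_9_7
  · exact ch_1_6_4_9_8
  · exact absurd hb (by decide)
  · exact ch_1_6_4_9_10

set_option maxRecDepth 100000 in
theorem ch_1_6_4_10_2 : enum 11 ck11 1 5 2770448 1111 6 2 = true := by
  decide +kernel

set_option maxRecDepth 100000 in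
theorem ch_1_6_4_10_3 : enum 11 ck11 1 5 3819024 1115 6 3 = true := by
  decide +kernel

set_option maxRecDepth 100000 in
theorem ch_1_6_4_10_5 : enum 11 ck11 1 5 5916176 1139 6 5 = true := by
  decide +kernel

set_option maxRecDepth 100000 in
theorem ch_1_6_4_10_7 : enum 11 ck11 1 5 8013328 1235 6 7 = true := by
  decide +kernel

set_option maxRecDepth 100000 in
theorem ch_1_6_4_10_8 : enum 11 ck11 1 5 9061904 1363 6 8 = true := by
  decide +kernel

set_option maxRecDepth 100000 in
theorem ch_1_6_4_10_9 : enum 11 ck11 1 5 10110480 1619 6 9 = true := by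
  decide +kernel

theorem ch_1_6_4_10 : enum 11 ck11 1 6 673296 1107 5 10 = true := by
  refine enum_intro 11 ck11 1 5 673296 1107 5 10 ?_
  intro v hv hb hd
  interval_cases v
  · exact absurd hb (by decide)
  · exact absurd hb (by decide)
  · exact ch_1_6_4_10_2
  · exact ch_1_6_4_10_3
  · exact absurd hb (by decide)
  · exact ch_1_6_4_10_5
  · exact absurd hb (by decide)
  · exact ch_1_6_4_10_7
  · exact ch_1_6_4_10_8
  · exact ch_1_6_4_10_9
  · exact absurd hb (by decide)

theorem ch_1_6_4 : enum 11 ck11 1 7 17936 83 4 4 = true := by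
  refine enum_intro 11 ck11 1 6 17936 83 4 4 ?_
  intro v hv hb hd
  interval_cases v
  · exact absurd hb (by decide)
  · exact absurd hb (by decide)
  · exact ch_1_6_4_2
  · exact ch_1_6_4_3
  · exact absurd hb (by decide)
  · exact ch_1_6_4_5
  · exact absurd hb (by decide)
  · exact ch_1_6_4_7
  · exact ch_1_6_4_8
  · exact ch_1_6_4_9
  · exact ch_1_6_4_10

end Cfsg.Agent.Helper9.T11
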