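import Mathlib
import Cfsg.Agent.Helper9.T11.Chk

set_option autoImplicit false
set_option Elab.async false

/-!
A part of the enumeration on 11 points: the test holds at every permutation of the part.
-/

namespace Cfsg.Agent.Helper9.T11

set_option maxRecDepth 100000 in
theorem ch_1_6_5_2_3 : enum 11 ck11 1 5 3298832 111 6 3 = true := by
  decide +kernel

set_option maxRecDepth 100000 in
theorem ch_1_6_5_2_4 : enum 11 ck11 1 5 4347408 119 6 4 = true := by
  decide +kernel

set_option maxRecDepth 100000 in
theorem ch_1_6_5_2_7 : enum 11 ck11 1 5 7493136 231 6 7 = true := by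
  decide +kernel

set_option maxRecDepth 100000 in
theorem ch_1_6_5_2_8 : enum 11 ck11 1 5 8541712 359 6 8 = true := by
  decide +kernel

set_option maxRecDepth 100000 in
theorem ch_1_6_5_2_9 : enum 11 ck11 1 5 9590288 615 6 9 = true := by
  decide +kernel

set_option maxRecDepth 100000 in
theorem ch_1_6_5_2_10 : enum 11 ck11 1 5 10638864 1127 6 10 = true := by
  decide +kernel

theorem ch_1_6_5_2 : enum 11 ck11 1 6 153104 103 5 2 = true := by
  refine enum_intro 11 ck11 1 5 153104 103 5 2 ?_
  intro v hv hb hd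
  interval_cases v
  · exact absurd hb (by decide)
  · exact absurd hb (by decide)
  · exact absurd hb (by decide)
  · exact ch_1_6_5_2_3
  · exact ch_1_6_5_2_4
  · exact absurd hb (by decide)
  · exact absurd hb (by decide)
  · exact ch_1_6_5_2_7
  · exact ch_1_6_5_2_8
  · exact ch_1_6_5_2_9
  · exact ch_1_6_5_2_10

set_option maxRecDepth 100000 in
theorem ch_1_6_5_3_2 : enum 11 ck11 1 5 2315792 111 6 2 = true := by
  decide +kernel

set_option maxRecDepth 100000 in
theorem ch_1_6_5_3_4 : enum 11 ck11 1 5 4412944 123 6 4 = true := by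
  decide +kernel

set_option maxRecDepth 100000 in
theorem ch_1_6_5_3_7 : enum 11 ck11 1 5 7558672 235 6 7 = true := by
  decide +kernel

set_option maxRecDepth 100000 in
theorem ch_1_6_5_3_8 : enum 11 ck11 1 5 8607248 363 6 8 = true := by
  decide +kernel

set_option maxRecDepth 100000 in
theorem ch_1_6_5_3_9 : enum 11 ck11 1 5 9655824 619 6 9 = true := by
  decide +kernel

set_option maxRecDepth 100000 in
theorem ch_1_6_5_3_10 : enum 11 ck11 1 5 10704400 1131 6 10 = true := by
  decide +kernel

theorem ch_1_6_5_3 : enum 11 ck11 1 6 218640 107 5 3 = true := by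
  refine enum_intro 11 ck11 1 5 218640 107 5 3 ?_
  intro v hv hb hd
  interval_cases v
  · exact absurd hb (by decide)
  · exact absurd hb (by decide)
  · exact ch_1_6_5_3_2
  · exact absurd hb (by decide)
  · exact ch_1_6_5_3_4
  · exact absurd hb (by decide)
  · exact absurd hb (by decide)
  · exact ch_1_6_5_3_7
  · exact ch_1_6_5_3_8
  · exact ch_1_6_5_3_9
  · exact ch_1_6_5_3_10

set_option maxRecDepth 100000 in
theorem ch_1_6_5_4_2 : enum 11 ck11 1 5 2381328 119 6 2 = true := by
  decide +kernel

set_option maxRecDepth 100000 in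
theorem ch_1_6_5_4_3 : enum 11 ck11 1 5 3429904 123 6 3 = true := by
  decide +kernel

set_option maxRecDepth 100000 in
theorem ch_1_6_5_4_7 : enum 11 ck11 1 5 7624208 243 6 7 = true := by
  decide +kernel

set_option maxRecDepth 100000 in
theorem ch_1_6_5_4_8 : enum 11 ck11 1 5 8672784 371 6 8 = true := by
  decide +kernel

set_option maxRecDepth 100000 in
theorem ch_1_6_5_4_9 : enum 11 ck11 1 5 9721360 627 6 9 = true := by
  decide +kernel

set_option maxRecDepth 100000 in
theorem ch_1_6_5_4_10 : enum 11 ck11 1 5 10769936 1139 6 10 = true := by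
  decide +kernel

theorem ch_1_6_5_4 : enum 11 ck11 1 6 284176 115 5 4 = true := by
  refine enum_intro 11 ck11 1 5 284176 115 5 4 ?_
  intro v hv hb hd
  interval_cases v
  · exact absurd hb (by decide)
  · exact absurd hb (by decide)
  · exact ch_1_6_5_4_2
  · exact ch_1_6_5_4_3
  · exact absurd hb (by decide)
  · exact absurd hb (by decide)
  · exact absurd hb (by decide)
  · exact ch_1_6_5_4_7
  · exact ch_1_6_5_4_8
  · exact ch_1_6_5_4_9
  · exact ch_1_6_5_4_10

set_option maxRecDepth 100000 in
theorem ch_1_6_5_7_2 : enum 11 ck11 1 5 2577936 231 6 2 = true := by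
  decide +kernel

set_option maxRecDepth 100000 in
theorem ch_1_6_5_7_3 : enum 11 ck11 1 5 3626512 235 6 3 = true := by
  decide +kernel

set_option maxRecDepth 100000 in
theorem ch_1_6_5_7_4 : enum 11 ck11 1 5 4675088 243 6 4 = true := by
  decide +kernel

set_option maxRecDepth 100000 in
theorem ch_1_6_5_7_8 : enum 11 ck11 1 5 8869392 483 6 8 = true := by
  decide +kernel

set_option maxRecDepth 100000 in
theorem ch_1_6_5_7_9 : enum 11 ck11 1 5 9917968 739 6 9 = true := by
  decide +kernel

set_option maxRecDepth 100000 in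
theorem ch_1_6_5_7_10 : enum 11 ck11 1 5 10966544 1251 6 10 = true := by
  decide +kernel

theorem ch_1_6_5_7 : enum 11 ck11 1 6 480784 227 5 7 = true := by
  refine enum_intro 11 ck11 1 5 480784 227 5 7 ?_
  intro v hv hb hd
  interval_cases v
  · exact absurd hb (by decide)
  · exact absurd hb (by decide)
  · exact ch_1_6_5_7_2
  · exact ch_1_6_5_7_3
  · exact ch_1_6_5_7_4
  · exact absurd hb (by decide)
  · exact absurd hb (by decide)
  · exact absurd hb (by decide)
  · exact ch_1_6_5_7_8
  · exact ch_1_6_5_7_9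
  · exact ch_1_6_5_7_10

set_option maxRecDepth 100000 in
theorem ch_1_6_5_8_2 : enum 11 ck11 1 5 2643472 359 6 2 = true := by
  decide +kernel

set_option maxRecDepth 100000 in
theorem ch_1_6_5_8_3 : enum 11 ck11 1 5 3692048 363 6 3 = true := by
  decide +kernel

set_option maxRecDepth 100000 in
theorem ch_1_6_5_8_4 : enum 11 ck11 1 5 4740624 371 6 4 = true := by
  decide +kernel

set_option maxRecDepth 100000 in
theorem ch_1_6_5_8_7 : enum 11 ck11 1 5 7886352 483 6 7 = true := by
  decide +kernel

set_option maxRecDepth 100000 in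
theorem ch_1_6_5_8_9 : enum 11 ck11 1 5 9983504 867 6 9 = true := by
  decide +kernel

set_option maxRecDepth 100000 in
theorem ch_1_6_5_8_10 : enum 11 ck11 1 5 11032080 1379 6 10 = true := by
  decide +kernel

theorem ch_1_6_5_8 : enum 11 ck11 1 6 546320 355 5 8 = true := by
  refine enum_intro 11 ck11 1 5 546320 355 5 8 ?_
  intro v hv hb hd
  interval_cases v
  · exact absurd hb (by decide)
  · exact absurd hb (by decide)
  · exact ch_1_6_5_8_2
  · exact ch_1_6_5_8_3
  · exact ch_1_6_5_8_4
  · exact absurd hb (by decide)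
  · exact absurd hb (by decide)
  · exact ch_1_6_5_8_7
  · exact absurd hb (by decide)
  · exact ch_1_6_5_8_9
  · exact ch_1_6_5_8_10

set_option maxRecDepth 100000 in
theorem ch_1_6_5_9_2 : enum 11 ck11 1 5 2709008 615 6 2 = true := by
  decide +kernel

set_option maxRecDepth 100000 in
theorem ch_1_6_5_9_3 : enum 11 ck11 1 5 3757584 619 6 3 = true := by
  decide +kernel

set_option maxRecDepth 100000 in
theorem ch_1_6_5_9_4 : enum 11 ck11 1 5 4806160 627 6 4 = true := by
  decide +kernel

set_option maxRecDepth 100000 in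
theorem ch_1_6_5_9_7 : enum 11 ck11 1 5 7951888 739 6 7 = true := by
  decide +kernel

set_option maxRecDepth 100000 in
theorem ch_1_6_5_9_8 : enum 11 ck11 1 5 9000464 867 6 8 = true := by
  decide +kernel

set_option maxRecDepth 100000 in
theorem ch_1_6_5_9_10 : enum 11 ck11 1 5 11097616 1635 6 10 = true := by
  decide +kernel

theorem ch_1_6_5_9 : enum 11 ck11 1 6 611856 611 5 9 = true := by
  refine enum_intro 11 ck11 1 5 611856 611 5 9 ?_
  intro v hv hb hd
  interval_cases v
  · exact absurd hb (by decide)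
  · exact absurd hb (by decide)
  · exact ch_1_6_5_9_2
  · exact ch_1_6_5_9_3
  · exact ch_1_6_5_9_4
  · exact absurd hb (by decide)
  · exact absurd hb (by decide)
  · exact ch_1_6_5_9_7
  · exact ch_1_6_5_9_8
  · exact absurd hb (by decide)
  · exact ch_1_6_5_9_10

set_option maxRecDepth 100000 in
theorem ch_1_6_5_10_2 : enum 11 ck11 1 5 2774544 1127 6 2 = true := by
  decide +kernel

set_option maxRecDepth 100000 in
theorem ch_1_6_5_10_3 : enum 11 ck11 1 5 3823120 1131 6 3 = true := by
  decide +kernel

set_option maxRecDepth 100000 in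
theorem ch_1_6_5_10_4 : enum 11 ck11 1 5 4871696 1139 6 4 = true := by
  decide +kernel

set_option maxRecDepth 100000 in
theorem ch_1_6_5_10_7 : enum 11 ck11 1 5 8017424 1251 6 7 = true := by
  decide +kernel

set_option maxRecDepth 100000 in
theorem ch_1_6_5_10_8 : enum 11 ck11 1 5 9066000 1379 6 8 = true := by
  decide +kernel

set_option maxRecDepth 100000 in
theorem ch_1_6_5_10_9 : enum 11 ck11 1 5 10114576 1635 6 9 = true := by
  decide +kernel

theorem ch_1_6_5_10 : enum 11 ck11 1 6 677392 1123 5 10 = true := by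
  refine enum_intro 11 ck11 1 5 677392 1123 5 10 ?_
  intro v hv hb hd
  interval_cases v
  · exact absurd hb (by decide)
  · exact absurd hb (by decide)
  · exact ch_1_6_5_10_2
  · exact ch_1_6_5_10_3
  · exact ch_1_6_5_10_4
  · exact absurd hb (by decide)
  · exact absurd hb (by decide)
  · exact ch_1_6_5_10_7
  · exact ch_1_6_5_10_8
  · exact ch_1_6_5_10_9
  · exact absurd hb (by decide)

theorem ch_1_6_5 : enum 11 ck11 1 7 22032 99 4 5 = true := by
  refine enum_intro 11 ck11 1 6 22032 99 4 5 ?_
  intro v hv hb hd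
  interval_cases v
  · exact absurd hb (by decide)
  · exact absurd hb (by decide)
  · exact ch_1_6_5_2
  · exact ch_1_6_5_3
  · exact ch_1_6_5_4
  · exact absurd hb (by decide)
  · exact absurd hb (by decide)
  · exact ch_1_6_5_7
  · exact ch_1_6_5_8
  · exact ch_1_6_5_9
  · exact ch_1_6_5_10

set_option maxRecDepth 100000 in
theorem ch_1_6_7_2_3 : enum 11 ck11 1 5 3307024 207 6 3 = true := by
  decide +kernel

set_option maxRecDepth 100000 in
theorem ch_1_6_7_2_4 : enum 11 ck11 1 5 4355600 215 6 4 = true := by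
  decide +kernel

set_option maxRecDepth 100000 in
theorem ch_1_6_7_2_5 : enum 11 ck11 1 5 5404176 231 6 5 = true := by
  decide +kernel

set_option maxRecDepth 100000 in
theorem ch_1_6_7_2_8 : enum 11 ck11 1 5 8549904 455 6 8 = true := by
  decide +kernel

set_option maxRecDepth 100000 in
theorem ch_1_6_7_2_9 : enum 11 ck11 1 5 9598480 711 6 9 = true := by
  decide +kernel

set_option maxRecDepth 100000 in
theorem ch_1_6_7_2_10 : enum 11 ck11 1 5 10647056 1223 6 10 = true := by
  decide +kernel

theorem ch_1_6_7_2 : enum 11 ck11 1 6 161296 199 5 2 = true := by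
  refine enum_intro 11 ck11 1 5 161296 199 5 2 ?_
  intro v hv hb hd
  interval_cases v
  · exact absurd hb (by decide)
  · exact absurd hb (by decide)
  · exact absurd hb (by decide)
  · exact ch_1_6_7_2_3
  · exact ch_1_6_7_2_4
  · exact ch_1_6_7_2_5
  · exact absurd hb (by decide)
  · exact absurd hb (by decide)
  · exact ch_1_6_7_2_8
  · exact ch_1_6_7_2_9
  · exact ch_1_6_7_2_10

set_option maxRecDepth 100000 in
theorem ch_1_6_7_3_2 : enum 11 ck11 1 5 2323984 207 6 2 = true := by
  decide +kernel

set_option maxRecDepth 100000 in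
theorem ch_1_6_7_3_4 : enum 11 ck11 1 5 4421136 219 6 4 = true := by
  decide +kernel

set_option maxRecDepth 100000 in
theorem ch_1_6_7_3_5 : enum 11 ck11 1 5 5469712 235 6 5 = true := by
  decide +kernel

set_option maxRecDepth 100000 in
theorem ch_1_6_7_3_8 : enum 11 ck11 1 5 8615440 459 6 8 = true := by
  decide +kernel

set_option maxRecDepth 100000 in
theorem ch_1_6_7_3_9 : enum 11 ck11 1 5 9664016 715 6 9 = true := by
  decide +kernel

set_option maxRecDepth 100000 in
theorem ch_1_6_7_3_10 : enum 11 ck11 1 5 10712592 1227 6 10 = true := by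
  decide +kernel

theorem ch_1_6_7_3 : enum 11 ck11 1 6 226832 203 5 3 = true := by
  refine enum_intro 11 ck11 1 5 226832 203 5 3 ?_
  intro v hv hb hd
  interval_cases v
  · exact absurd hb (by decide)
  · exact absurd hb (by decide)
  · exact ch_1_6_7_3_2
  · exact absurd hb (by decide)
  · exact ch_1_6_7_3_4
  · exact ch_1_6_7_3_5
  · exact absurd hb (by decide)
  · exact absurd hb (by decide)
  · exact ch_1_6_7_3_8
  · exact ch_1_6_7_3_9
  · exact ch_1_6_7_3_10

set_option maxRecDepth 100000 in
theorem ch_1_6_7_4_2 : enum 11 ck11 1 5 2389520 215 6 2 = true := by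
  decide +kernel

set_option maxRecDepth 100000 in
theorem ch_1_6_7_4_3 : enum 11 ck11 1 5 3438096 219 6 3 = true := by
  decide +kernel

set_option maxRecDepth 100000 in
theorem ch_1_6_7_4_5 : enum 11 ck11 1 5 5535248 243 6 5 = true := by
  decide +kernel

set_option maxRecDepth 100000 in
theorem ch_1_6_7_4_8 : enum 11 ck11 1 5 8680976 467 6 8 = true := by
  decide +kernel

set_option maxRecDepth 100000 in
theorem ch_1_6_7_4_9 : enum 11 ck11 1 5 9729552 723 6 9 = true := by
  decide +kernel

set_option maxRecDepth 100000 in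
theorem ch_1_6_7_4_10 : enum 11 ck11 1 5 10778128 1235 6 10 = true := by
  decide +kernel

theorem ch_1_6_7_4 : enum 11 ck11 1 6 292368 211 5 4 = true := by
  refine enum_intro 11 ck11 1 5 292368 211 5 4 ?_
  intro v hv hb hd
  interval_cases v
  · exact absurd hb (by decide)
  · exact absurd hb (by decide)
  · exact ch_1_6_7_4_2
  · exact ch_1_6_7_4_3
  · exact absurd hb (by decide)
  · exact ch_1_6_7_4_5
  · exact absurd hb (by decide)
  · exact absurd hb (by decide)
  · exact ch_1_6_7_4_8
  · exact ch_1_6_7_4_9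
  · exact ch_1_6_7_4_10

set_option maxRecDepth 100000 in
theorem ch_1_6_7_5_2 : enum 11 ck11 1 5 2455056 231 6 2 = true := by
  decide +kernel

set_option maxRecDepth 100000 in
theorem ch_1_6_7_5_3 : enum 11 ck11 1 5 3503632 235 6 3 = true := by
  decide +kernel

set_option maxRecDepth 100000 in
theorem ch_1_6_7_5_4 : enum 11 ck11 1 5 4552208 243 6 4 = true := by
  decide +kernel

set_option maxRecDepth 100000 in
theorem ch_1_6_7_5_8 : enum 11 ck11 1 5 8746512 483 6 8 = true := by
  decide +kernel

set_option maxRecDepth 100000 in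
theorem ch_1_6_7_5_9 : enum 11 ck11 1 5 9795088 739 6 9 = true := by
  decide +kernel

set_option maxRecDepth 100000 in
theorem ch_1_6_7_5_10 : enum 11 ck11 1 5 10843664 1251 6 10 = true := by
  decide +kernel

theorem ch_1_6_7_5 : enum 11 ck11 1 6 357904 227 5 5 = true := by
  refine enum_intro 11 ck11 1 5 357904 227 5 5 ?_
  intro v hv hb hd
  interval_cases v
  · exact absurd hb (by decide)
  · exact absurd hb (by decide)
  · exact ch_1_6_7_5_2
  · exact ch_1_6_7_5_3
  · exact ch_1_6_7_5_4
  · exact absurd hb (by decide)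
  · exact absurd hb (by decide)
  · exact absurd hb (by decide)
  · exact ch_1_6_7_5_8
  · exact ch_1_6_7_5_9
  · exact ch_1_6_7_5_10

set_option maxRecDepth 100000 in
theorem ch_1_6_7_8_2 : enum 11 ck11 1 5 2651664 455 6 2 = true := by
  decide +kernel

set_option maxRecDepth 100000 in
theorem ch_1_6_7_8_3 : enum 11 ck11 1 5 3700240 459 6 3 = true := by
  decide +kernel

set_option maxRecDepth 100000 in
theorem ch_1_6_7_8_4 : enum 11 ck11 1 5 4748816 467 6 4 = true := by
  decide +kernel

set_option maxRecDepth 100000 in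
theorem ch_1_6_7_8_5 : enum 11 ck11 1 5 5797392 483 6 5 = true := by
  decide +kernel

set_option maxRecDepth 100000 in
theorem ch_1_6_7_8_9 : enum 11 ck11 1 5 9991696 963 6 9 = true := by
  decide +kernel

set_option maxRecDepth 100000 in
theorem ch_1_6_7_8_10 : enum 11 ck11 1 5 11040272 1475 6 10 = true := by
  decide +kernel

theorem ch_1_6_7_8 : enum 11 ck11 1 6 554512 451 5 8 = true := by
  refine enum_intro 11 ck11 1 5 554512 451 5 8 ?_
  intro v hv hb hd
  interval_cases v
  · exact absurd hb (by decide)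
  · exact absurd hb (by decide)
  · exact ch_1_6_7_8_2
  · exact ch_1_6_7_8_3
  · exact ch_1_6_7_8_4
  · exact ch_1_6_7_8_5
  · exact absurd hb (by decide)
  · exact absurd hb (by decide)
  · exact absurd hb (by decide)
  · exact ch_1_6_7_8_9
  · exact ch_1_6_7_8_10

set_option maxRecDepth 100000 in
theorem ch_1_6_7_9_2 : enum 11 ck11 1 5 2717200 711 6 2 = true := by
  decide +kernel

set_option maxRecDepth 100000 in
theorem ch_1_6_7_9_3 : enum 11 ck11 1 5 3765776 715 6 3 = true := by
  decide +kernel

set_option maxRecDepth 100000 in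
theorem ch_1_6_7_9_4 : enum 11 ck11 1 5 4814352 723 6 4 = true := by
  decide +kernel

set_option maxRecDepth 100000 in
theorem ch_1_6_7_9_5 : enum 11 ck11 1 5 5862928 739 6 5 = true := by
  decide +kernel

set_option maxRecDepth 100000 in
theorem ch_1_6_7_9_8 : enum 11 ck11 1 5 9008656 963 6 8 = true := by
  decide +kernel

set_option maxRecDepth 100000 in
theorem ch_1_6_7_9_10 : enum 11 ck11 1 5 11105808 1731 6 10 = true := by
  decide +kernel

theorem ch_1_6_7_9 : enum 11 ck11 1 6 620048 707 5 9 = true := by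
  refine enum_intro 11 ck11 1 5 620048 707 5 9 ?_
  intro v hv hb hd
  interval_cases v
  · exact absurd hb (by decide)
  · exact absurd hb (by decide)
  · exact ch_1_6_7_9_2
  · exact ch_1_6_7_9_3
  · exact ch_1_6_7_9_4
  · exact ch_1_6_7_9_5
  · exact absurd hb (by decide)
  · exact absurd hb (by decide)
  · exact ch_1_6_7_9_8
  · exact absurd hb (by decide)
  · exact ch_1_6_7_9_10

set_option maxRecDepth 100000 in
theorem ch_1_6_7_10_2 : enum 11 ck11 1 5 2782736 1223 6 2 = true := by
  decide +kernel

set_option maxRecDepth 100000 in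
theorem ch_1_6_7_10_3 : enum 11 ck11 1 5 3831312 1227 6 3 = true := by
  decide +kernel

set_option maxRecDepth 100000 in
theorem ch_1_6_7_10_4 : enum 11 ck11 1 5 4879888 1235 6 4 = true := by
  decide +kernel

set_option maxRecDepth 100000 in
theorem ch_1_6_7_10_5 : enum 11 ck11 1 5 5928464 1251 6 5 = true := by
  decide +kernel

set_option maxRecDepth 100000 in
theorem ch_1_6_7_10_8 : enum 11 ck11 1 5 9074192 1475 6 8 = true := by
  decide +kernel

set_option maxRecDepth 100000 in
theorem ch_1_6_7_10_9 : enum 11 ck11 1 5 10122768 1731 6 9 = true := by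
  decide +kernel

theorem ch_1_6_7_10 : enum 11 ck11 1 6 685584 1219 5 10 = true := by
  refine enum_intro 11 ck11 1 5 685584 1219 5 10 ?_
  intro v hv hb hd
  interval_cases v
  · exact absurd hb (by decide)
  · exact absurd hb (by decide)
  · exact ch_1_6_7_10_2
  · exact ch_1_6_7_10_3
  · exact ch_1_6_7_10_4
  · exact ch_1_6_7_10_5
  · exact absurd hb (by decide)
  · exact absurd hb (by decide)
  · exact ch_1_6_7_10_8
  · exact ch_1_6_7_10_9
  · exact absurd hb (by decide)

theorem ch_1_6_7 : enum 11 ck11 1 7 30224 195 4 7 = true := by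
  refine enum_intro 11 ck11 1 6 30224 195 4 7 ?_
  intro v hv hb hd
  interval_cases v
  · exact absurd hb (by decide)
  · exact absurd hb (by decide)
  · exact ch_1_6_7_2
  · exact ch_1_6_7_3
  · exact ch_1_6_7_4
  · exact ch_1_6_7_5
  · exact absurd hb (by decide)
  · exact absurd hb (by decide)
  · exact ch_1_6_7_8
  · exact ch_1_6_7_9
  · exact ch_1_6_7_10

set_option maxRecDepth 100000 in
theorem ch_1_6_8_2_3 : enum 11 ck11 1 5 3311120 335 6 3 = true := by
  decide +kernel

set_option maxRecDepth 100000 in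
theorem ch_1_6_8_2_4 : enum 11 ck11 1 5 4359696 343 6 4 = true := by
  decide +kernel

set_option maxRecDepth 100000 in
theorem ch_1_6_8_2_5 : enum 11 ck11 1 5 5408272 359 6 5 = true := by
  decide +kernel

set_option maxRecDepth 100000 in
theorem ch_1_6_8_2_7 : enum 11 ck11 1 5 7505424 455 6 7 = true := by
  decide +kernel

set_option maxRecDepth 100000 in
theorem ch_1_6_8_2_9 : enum 11 ck11 1 5 9602576 839 6 9 = true := by
  decide +kernel

set_option maxRecDepth 100000 in
theorem ch_1_6_8_2_10 : enum 11 ck11 1 5 10651152 1351 6 10 = true := by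
  decide +kernel

theorem ch_1_6_8_2 : enum 11 ck11 1 6 165392 327 5 2 = true := by
  refine enum_intro 11 ck11 1 5 165392 327 5 2 ?_
  intro v hv hb hd
  interval_cases v
  · exact absurd hb (by decide)
  · exact absurd hb (by decide)
  · exact absurd hb (by decide)
  · exact ch_1_6_8_2_3
  · exact ch_1_6_8_2_4
  · exact ch_1_6_8_2_5
  · exact absurd hb (by decide)
  · exact ch_1_6_8_2_7
  · exact absurd hb (by decide)
  · exact ch_1_6_8_2_9
  · exact ch_1_6_8_2_10

set_option maxRecDepth 100000 in
theorem ch_1_6_8_3_2 : enum 11 ck11 1 5 2328080 335 6 2 = true := by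
  decide +kernel

set_option maxRecDepth 100000 in
theorem ch_1_6_8_3_4 : enum 11 ck11 1 5 4425232 347 6 4 = true := by
  decide +kernel

set_option maxRecDepth 100000 in
theorem ch_1_6_8_3_5 : enum 11 ck11 1 5 5473808 363 6 5 = true := by
  decide +kernel

set_option maxRecDepth 100000 in
theorem ch_1_6_8_3_7 : enum 11 ck11 1 5 7570960 459 6 7 = true := by
  decide +kernel

set_option maxRecDepth 100000 in
theorem ch_1_6_8_3_9 : enum 11 ck11 1 5 9668112 843 6 9 = true := by
  decide +kernel

set_option maxRecDepth 100000 in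
theorem ch_1_6_8_3_10 : enum 11 ck11 1 5 10716688 1355 6 10 = true := by
  decide +kernel

theorem ch_1_6_8_3 : enum 11 ck11 1 6 230928 331 5 3 = true := by
  refine enum_intro 11 ck11 1 5 230928 331 5 3 ?_
  intro v hv hb hd
  interval_cases v
  · exact absurd hb (by decide)
  · exact absurd hb (by decide)
  · exact ch_1_6_8_3_2
  · exact absurd hb (by decide)
  · exact ch_1_6_8_3_4
  · exact ch_1_6_8_3_5
  · exact absurd hb (by decide)
  · exact ch_1_6_8_3_7
  · exact absurd hb (by decide)
  · exact ch_1_6_8_3_9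
  · exact ch_1_6_8_3_10

set_option maxRecDepth 100000 in
theorem ch_1_6_8_4_2 : enum 11 ck11 1 5 2393616 343 6 2 = true := by
  decide +kernel

set_option maxRecDepth 100000 in
theorem ch_1_6_8_4_3 : enum 11 ck11 1 5 3442192 347 6 3 = true := by
  decide +kernel

set_option maxRecDepth 100000 in
theorem ch_1_6_8_4_5 : enum 11 ck11 1 5 5539344 371 6 5 = true := by
  decide +kernel

set_option maxRecDepth 100000 in
theorem ch_1_6_8_4_7 : enum 11 ck11 1 5 7636496 467 6 7 = true := by
  decide +kernel

set_option maxRecDepth 100000 in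
theorem ch_1_6_8_4_9 : enum 11 ck11 1 5 9733648 851 6 9 = true := by
  decide +kernel

set_option maxRecDepth 100000 in
theorem ch_1_6_8_4_10 : enum 11 ck11 1 5 10782224 1363 6 10 = true := by
  decide +kernel

theorem ch_1_6_8_4 : enum 11 ck11 1 6 296464 339 5 4 = true := by
  refine enum_intro 11 ck11 1 5 296464 339 5 4 ?_
  intro v hv hb hd
  interval_cases v
  · exact absurd hb (by decide)
  · exact absurd hb (by decide)
  · exact ch_1_6_8_4_2
  · exact ch_1_6_8_4_3
  · exact absurd hb (by decide)
  · exact ch_1_6_8_4_5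
  · exact absurd hb (by decide)
  · exact ch_1_6_8_4_7
  · exact absurd hb (by decide)
  · exact ch_1_6_8_4_9
  · exact ch_1_6_8_4_10

set_option maxRecDepth 100000 in
theorem ch_1_6_8_5_2 : enum 11 ck11 1 5 2459152 359 6 2 = true := by
  decide +kernel

set_option maxRecDepth 100000 in
theorem ch_1_6_8_5_3 : enum 11 ck11 1 5 3507728 363 6 3 = true := by
  decide +kernel

set_option maxRecDepth 100000 in
theorem ch_1_6_8_5_4 : enum 11 ck11 1 5 4556304 371 6 4 = true := by
  decide +kernel

set_option maxRecDepth 100000 in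
theorem ch_1_6_8_5_7 : enum 11 ck11 1 5 7702032 483 6 7 = true := by
  decide +kernel

set_option maxRecDepth 100000 in
theorem ch_1_6_8_5_9 : enum 11 ck11 1 5 9799184 867 6 9 = true := by
  decide +kernel

set_option maxRecDepth 100000 in
theorem ch_1_6_8_5_10 : enum 11 ck11 1 5 10847760 1379 6 10 = true := by
  decide +kernel

theorem ch_1_6_8_5 : enum 11 ck11 1 6 362000 355 5 5 = true := by
  refine enum_intro 11 ck11 1 5 362000 355 5 5 ?_
  intro v hv hb hd
  interval_cases v
  · exact absurd hb (by decide)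
  · exact absurd hb (by decide)
  · exact ch_1_6_8_5_2
  · exact ch_1_6_8_5_3
  · exact ch_1_6_8_5_4
  · exact absurd hb (by decide)
  · exact absurd hb (by decide)
  · exact ch_1_6_8_5_7
  · exact absurd hb (by decide)
  · exact ch_1_6_8_5_9
  · exact ch_1_6_8_5_10

set_option maxRecDepth 100000 in
theorem ch_1_6_8_7_2 : enum 11 ck11 1 5 2590224 455 6 2 = true := by
  decide +kernel

set_option maxRecDepth 100000 in
theorem ch_1_6_8_7_3 : enum 11 ck11 1 5 3638800 459 6 3 = true := by
  decide +kernel

set_option maxRecDepth 100000 in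
theorem ch_1_6_8_7_4 : enum 11 ck11 1 5 4687376 467 6 4 = true := by
  decide +kernel

set_option maxRecDepth 100000 in
theorem ch_1_6_8_7_5 : enum 11 ck11 1 5 5735952 483 6 5 = true := by
  decide +kernel

set_option maxRecDepth 100000 in
theorem ch_1_6_8_7_9 : enum 11 ck11 1 5 9930256 963 6 9 = true := by
  decide +kernel

set_option maxRecDepth 100000 in
theorem ch_1_6_8_7_10 : enum 11 ck11 1 5 10978832 1475 6 10 = true := by
  decide +kernel

theorem ch_1_6_8_7 : enum 11 ck11 1 6 493072 451 5 7 = true := by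
  refine enum_intro 11 ck11 1 5 493072 451 5 7 ?_
  intro v hv hb hd
  interval_cases v
  · exact absurd hb (by decide)
  · exact absurd hb (by decide)
  · exact ch_1_6_8_7_2
  · exact ch_1_6_8_7_3
  · exact ch_1_6_8_7_4
  · exact ch_1_6_8_7_5
  · exact absurd hb (by decide)
  · exact absurd hb (by decide)
  · exact absurd hb (by decide)
  · exact ch_1_6_8_7_9
  · exact ch_1_6_8_7_10

set_option maxRecDepth 100000 in
theorem ch_1_6_8_9_2 : enum 11 ck11 1 5 2721296 839 6 2 = true := by
  decide +kernel

set_option maxRecDepth 100000 in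
theorem ch_1_6_8_9_3 : enum 11 ck11 1 5 3769872 843 6 3 = true := by
  decide +kernel

set_option maxRecDepth 100000 in
theorem ch_1_6_8_9_4 : enum 11 ck11 1 5 4818448 851 6 4 = true := by
  decide +kernel

set_option maxRecDepth 100000 in
theorem ch_1_6_8_9_5 : enum 11 ck11 1 5 5867024 867 6 5 = true := by
  decide +kernel

set_option maxRecDepth 100000 in
theorem ch_1_6_8_9_7 : enum 11 ck11 1 5 7964176 963 6 7 = true := by
  decide +kernel

set_option maxRecDepth 100000 in
theorem ch_1_6_8_9_10 : enum 11 ck11 1 5 11109904 1859 6 10 = true := by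
  decide +kernel

theorem ch_1_6_8_9 : enum 11 ck11 1 6 624144 835 5 9 = true := by
  refine enum_intro 11 ck11 1 5 624144 835 5 9 ?_
  intro v hv hb hd
  interval_cases v
  · exact absurd hb (by decide)
  · exact absurd hb (by decide)
  · exact ch_1_6_8_9_2
  · exact ch_1_6_8_9_3
  · exact ch_1_6_8_9_4
  · exact ch_1_6_8_9_5
  · exact absurd hb (by decide)
  · exact ch_1_6_8_9_7
  · exact absurd hb (by decide)
  · exact absurd hb (by decide)
  · exact ch_1_6_8_9_10

set_option maxRecDepth 100000 in
theorem ch_1_6_8_10_2 : enum 11 ck11 1 5 2786832 1351 6 2 = true := by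
  decide +kernel

set_option maxRecDepth 100000 in
theorem ch_1_6_8_10_3 : enum 11 ck11 1 5 3835408 1355 6 3 = true := by
  decide +kernel

set_option maxRecDepth 100000 in
theorem ch_1_6_8_10_4 : enum 11 ck11 1 5 4883984 1363 6 4 = true := by
  decide +kernel

set_option maxRecDepth 100000 in
theorem ch_1_6_8_10_5 : enum 11 ck11 1 5 5932560 1379 6 5 = true := by
  decide +kernel

set_option maxRecDepth 100000 in
theorem ch_1_6_8_10_7 : enum 11 ck11 1 5 8029712 1475 6 7 = true := by
  decide +kernel

set_option maxRecDepth 100000 in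
theorem ch_1_6_8_10_9 : enum 11 ck11 1 5 10126864 1859 6 9 = true := by
  decide +kernel

theorem ch_1_6_8_10 : enum 11 ck11 1 6 689680 1347 5 10 = true := by
  refine enum_intro 11 ck11 1 5 689680 1347 5 10 ?_
  intro v hv hb hd
  interval_cases v
  · exact absurd hb (by decide)
  · exact absurd hb (by decide)
  · exact ch_1_6_8_10_2
  · exact ch_1_6_8_10_3
  · exact ch_1_6_8_10_4
  · exact ch_1_6_8_10_5
  · exact absurd hb (by decide)
  · exact ch_1_6_8_10_7
  · exact absurd hb (by decide)
  · exact ch_1_6_8_10_9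
  · exact absurd hb (by decide)

theorem ch_1_6_8 : enum 11 ck11 1 7 34320 323 4 8 = true := by
  refine enum_intro 11 ck11 1 6 34320 323 4 8 ?_
  intro v hv hb hd
  interval_cases v
  · exact absurd hb (by decide)
  · exact absurd hb (by decide)
  · exact ch_1_6_8_2
  · exact ch_1_6_8_3
  · exact ch_1_6_8_4
  · exact ch_1_6_8_5
  · exact absurd hb (by decide)
  · exact ch_1_6_8_7
  · exact absurd hb (by decide)
  · exact ch_1_6_8_9
  · exact ch_1_6_8_10

end Cfsg.Agent.Helper9.T11
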