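import Mathlib
import Cfsg.Agent.Helper9.T11.Chk

set_option autoImplicit false
set_option Elab.async false

/-!
A part of the enumeration on 11 points: the test holds at every permutation of the part.
-/

namespace Cfsg.Agent.Helper9.T11

set_option maxRecDepth 100000 in
theorem ch_1_6_9_2_3 : enum 11 ck11 1 5 3315216 591 6 3 = true := by
  decide +kernel

set_option maxRecDepth 100000 in
theorem ch_1_6_9_2_4 : enum 11 ck11 1 5 4363792 599 6 4 = true := by
  decide +kernel

set_option maxRecDepth 100000 in
theorem ch_1_6_9_2_5 : enum 11 ck11 1 5 5412368 615 6 5 = true := by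
  decide +kernel

set_option maxRecDepth 100000 in
theorem ch_1_6_9_2_7 : enum 11 ck11 1 5 7509520 711 6 7 = true := by
  decide +kernel

set_option maxRecDepth 100000 in
theorem ch_1_6_9_2_8 : enum 11 ck11 1 5 8558096 839 6 8 = true := by
  decide +kernel

set_option maxRecDepth 100000 in
theorem ch_1_6_9_2_10 : enum 11 ck11 1 5 10655248 1607 6 10 = true := by
  decide +kernel

theorem ch_1_6_9_2 : enum 11 ck11 1 6 169488 583 5 2 = true := by
  refine enum_intro 11 ck11 1 5 169488 583 5 2 ?_
  intro v hv hb hd
  interval_cases v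
  · exact absurd hb (by decide)
  · exact absurd hb (by decide)
  · exact absurd hb (by decide)
  · exact ch_1_6_9_2_3
  · exact ch_1_6_9_2_4
  · exact ch_1_6_9_2_5
  · exact absurd hb (by decide)
  · exact ch_1_6_9_2_7
  · exact ch_1_6_9_2_8
  · exact absurd hb (by decide)
  · exact ch_1_6_9_2_10

set_option maxRecDepth 100000 in
theorem ch_1_6_9_3_2 : enum 11 ck11 1 5 2332176 591 6 2 = true := by
  decide +kernel

set_option maxRecDepth 100000 in
theorem ch_1_6_9_3_4 : enum 11 ck11 1 5 4429328 603 6 4 = true := by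
  decide +kernel

set_option maxRecDepth 100000 in
theorem ch_1_6_9_3_5 : enum 11 ck11 1 5 5477904 619 6 5 = true := by
  decide +kernel

set_option maxRecDepth 100000 in
theorem ch_1_6_9_3_7 : enum 11 ck11 1 5 7575056 715 6 7 = true := by
  decide +kernel

set_option maxRecDepth 100000 in
theorem ch_1_6_9_3_8 : enum 11 ck11 1 5 8623632 843 6 8 = true := by
  decide +kernel

set_option maxRecDepth 100000 in
theorem ch_1_6_9_3_10 : enum 11 ck11 1 5 10720784 1611 6 10 = true := by
  decide +kernel

theorem ch_1_6_9_3 : enum 11 ck11 1 6 235024 587 5 3 = true := by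
  refine enum_intro 11 ck11 1 5 235024 587 5 3 ?_
  intro v hv hb hd
  interval_cases v
  · exact absurd hb (by decide)
  · exact absurd hb (by decide)
  · exact ch_1_6_9_3_2
  · exact absurd hb (by decide)
  · exact ch_1_6_9_3_4
  · exact ch_1_6_9_3_5
  · exact absurd hb (by decide)
  · exact ch_1_6_9_3_7
  · exact ch_1_6_9_3_8
  · exact absurd hb (by decide)
  · exact ch_1_6_9_3_10

set_option maxRecDepth 100000 in
theorem ch_1_6_9_4_2 : enum 11 ck11 1 5 2397712 599 6 2 = true := by
  decide +kernel

set_option maxRecDepth 100000 in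
theorem ch_1_6_9_4_3 : enum 11 ck11 1 5 3446288 603 6 3 = true := by
  decide +kernel

set_option maxRecDepth 100000 in
theorem ch_1_6_9_4_5 : enum 11 ck11 1 5 5543440 627 6 5 = true := by
  decide +kernel

set_option maxRecDepth 100000 in
theorem ch_1_6_9_4_7 : enum 11 ck11 1 5 7640592 723 6 7 = true := by
  decide +kernel

set_option maxRecDepth 100000 in
theorem ch_1_6_9_4_8 : enum 11 ck11 1 5 8689168 851 6 8 = true := by
  decide +kernel

set_option maxRecDepth 100000 in
theorem ch_1_6_9_4_10 : enum 11 ck11 1 5 10786320 1619 6 10 = true := by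
  decide +kernel

theorem ch_1_6_9_4 : enum 11 ck11 1 6 300560 595 5 4 = true := by
  refine enum_intro 11 ck11 1 5 300560 595 5 4 ?_
  intro v hv hb hd
  interval_cases v
  · exact absurd hb (by decide)
  · exact absurd hb (by decide)
  · exact ch_1_6_9_4_2
  · exact ch_1_6_9_4_3
  · exact absurd hb (by decide)
  · exact ch_1_6_9_4_5
  · exact absurd hb (by decide)
  · exact ch_1_6_9_4_7
  · exact ch_1_6_9_4_8
  · exact absurd hb (by decide)
  · exact ch_1_6_9_4_10

set_option maxRecDepth 100000 in
theorem ch_1_6_9_5_2 : enum 11 ck11 1 5 2463248 615 6 2 = true := by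
  decide +kernel

set_option maxRecDepth 100000 in
theorem ch_1_6_9_5_3 : enum 11 ck11 1 5 3511824 619 6 3 = true := by
  decide +kernel

set_option maxRecDepth 100000 in
theorem ch_1_6_9_5_4 : enum 11 ck11 1 5 4560400 627 6 4 = true := by
  decide +kernel

set_option maxRecDepth 100000 in
theorem ch_1_6_9_5_7 : enum 11 ck11 1 5 7706128 739 6 7 = true := by
  decide +kernel

set_option maxRecDepth 100000 in
theorem ch_1_6_9_5_8 : enum 11 ck11 1 5 8754704 867 6 8 = true := by
  decide +kernel

set_option maxRecDepth 100000 in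
theorem ch_1_6_9_5_10 : enum 11 ck11 1 5 10851856 1635 6 10 = true := by
  decide +kernel

theorem ch_1_6_9_5 : enum 11 ck11 1 6 366096 611 5 5 = true := by
  refine enum_intro 11 ck11 1 5 366096 611 5 5 ?_
  intro v hv hb hd
  interval_cases v
  · exact absurd hb (by decide)
  · exact absurd hb (by decide)
  · exact ch_1_6_9_5_2
  · exact ch_1_6_9_5_3
  · exact ch_1_6_9_5_4
  · exact absurd hb (by decide)
  · exact absurd hb (by decide)
  · exact ch_1_6_9_5_7
  · exact ch_1_6_9_5_8
  · exact absurd hb (by decide)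
  · exact ch_1_6_9_5_10

set_option maxRecDepth 100000 in
theorem ch_1_6_9_7_2 : enum 11 ck11 1 5 2594320 711 6 2 = true := by
  decide +kernel

set_option maxRecDepth 100000 in
theorem ch_1_6_9_7_3 : enum 11 ck11 1 5 3642896 715 6 3 = true := by
  decide +kernel

set_option maxRecDepth 100000 in
theorem ch_1_6_9_7_4 : enum 11 ck11 1 5 4691472 723 6 4 = true := by
  decide +kernel

set_option maxRecDepth 100000 in
theorem ch_1_6_9_7_5 : enum 11 ck11 1 5 5740048 739 6 5 = true := by
  decide +kernel

set_option maxRecDepth 100000 in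
theorem ch_1_6_9_7_8 : enum 11 ck11 1 5 8885776 963 6 8 = true := by
  decide +kernel

set_option maxRecDepth 100000 in
theorem ch_1_6_9_7_10 : enum 11 ck11 1 5 10982928 1731 6 10 = true := by
  decide +kernel

theorem ch_1_6_9_7 : enum 11 ck11 1 6 497168 707 5 7 = true := by
  refine enum_intro 11 ck11 1 5 497168 707 5 7 ?_
  intro v hv hb hd
  interval_cases v
  · exact absurd hb (by decide)
  · exact absurd hb (by decide)
  · exact ch_1_6_9_7_2
  · exact ch_1_6_9_7_3
  · exact ch_1_6_9_7_4
  · exact ch_1_6_9_7_5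
  · exact absurd hb (by decide)
  · exact absurd hb (by decide)
  · exact ch_1_6_9_7_8
  · exact absurd hb (by decide)
  · exact ch_1_6_9_7_10

set_option maxRecDepth 100000 in
theorem ch_1_6_9_8_2 : enum 11 ck11 1 5 2659856 839 6 2 = true := by
  decide +kernel

set_option maxRecDepth 100000 in
theorem ch_1_6_9_8_3 : enum 11 ck11 1 5 3708432 843 6 3 = true := by
  decide +kernel

set_option maxRecDepth 100000 in
theorem ch_1_6_9_8_4 : enum 11 ck11 1 5 4757008 851 6 4 = true := by
  decide +kernel

set_option maxRecDepth 100000 in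
theorem ch_1_6_9_8_5 : enum 11 ck11 1 5 5805584 867 6 5 = true := by
  decide +kernel

set_option maxRecDepth 100000 in
theorem ch_1_6_9_8_7 : enum 11 ck11 1 5 7902736 963 6 7 = true := by
  decide +kernel

set_option maxRecDepth 100000 in
theorem ch_1_6_9_8_10 : enum 11 ck11 1 5 11048464 1859 6 10 = true := by
  decide +kernel

theorem ch_1_6_9_8 : enum 11 ck11 1 6 562704 835 5 8 = true := by
  refine enum_intro 11 ck11 1 5 562704 835 5 8 ?_
  intro v hv hb hd
  interval_cases v
  · exact absurd hb (by decide)
  · exact absurd hb (by decide)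
  · exact ch_1_6_9_8_2
  · exact ch_1_6_9_8_3
  · exact ch_1_6_9_8_4
  · exact ch_1_6_9_8_5
  · exact absurd hb (by decide)
  · exact ch_1_6_9_8_7
  · exact absurd hb (by decide)
  · exact absurd hb (by decide)
  · exact ch_1_6_9_8_10

set_option maxRecDepth 100000 in
theorem ch_1_6_9_10_2 : enum 11 ck11 1 5 2790928 1607 6 2 = true := by
  decide +kernel

set_option maxRecDepth 100000 in
theorem ch_1_6_9_10_3 : enum 11 ck11 1 5 3839504 1611 6 3 = true := by
  decide +kernel

set_option maxRecDepth 100000 in
theorem ch_1_6_9_10_4 : enum 11 ck11 1 5 4888080 1619 6 4 = true := by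
  decide +kernel

set_option maxRecDepth 100000 in
theorem ch_1_6_9_10_5 : enum 11 ck11 1 5 5936656 1635 6 5 = true := by
  decide +kernel

set_option maxRecDepth 100000 in
theorem ch_1_6_9_10_7 : enum 11 ck11 1 5 8033808 1731 6 7 = true := by
  decide +kernel

set_option maxRecDepth 100000 in
theorem ch_1_6_9_10_8 : enum 11 ck11 1 5 9082384 1859 6 8 = true := by
  decide +kernel

theorem ch_1_6_9_10 : enum 11 ck11 1 6 693776 1603 5 10 = true := by
  refine enum_intro 11 ck11 1 5 693776 1603 5 10 ?_
  intro v hv hb hd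
  interval_cases v
  · exact absurd hb (by decide)
  · exact absurd hb (by decide)
  · exact ch_1_6_9_10_2
  · exact ch_1_6_9_10_3
  · exact ch_1_6_9_10_4
  · exact ch_1_6_9_10_5
  · exact absurd hb (by decide)
  · exact ch_1_6_9_10_7
  · exact ch_1_6_9_10_8
  · exact absurd hb (by decide)
  · exact absurd hb (by decide)

theorem ch_1_6_9 : enum 11 ck11 1 7 38416 579 4 9 = true := by
  refine enum_intro 11 ck11 1 6 38416 579 4 9 ?_
  intro v hv hb hd
  interval_cases v
  · exact absurd hb (by decide)
  · exact absurd hb (by decide)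
  · exact ch_1_6_9_2
  · exact ch_1_6_9_3
  · exact ch_1_6_9_4
  · exact ch_1_6_9_5
  · exact absurd hb (by decide)
  · exact ch_1_6_9_7
  · exact ch_1_6_9_8
  · exact absurd hb (by decide)
  · exact ch_1_6_9_10

set_option maxRecDepth 100000 in
theorem ch_1_6_10_2_3 : enum 11 ck11 1 5 3319312 1103 6 3 = true := by
  decide +kernel

set_option maxRecDepth 100000 in
theorem ch_1_6_10_2_4 : enum 11 ck11 1 5 4367888 1111 6 4 = true := by
  decide +kernel

set_option maxRecDepth 100000 in
theorem ch_1_6_10_2_5 : enum 11 ck11 1 5 5416464 1127 6 5 = true := by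
  decide +kernel

set_option maxRecDepth 100000 in
theorem ch_1_6_10_2_7 : enum 11 ck11 1 5 7513616 1223 6 7 = true := by
  decide +kernel

set_option maxRecDepth 100000 in
theorem ch_1_6_10_2_8 : enum 11 ck11 1 5 8562192 1351 6 8 = true := by
  decide +kernel

set_option maxRecDepth 100000 in
theorem ch_1_6_10_2_9 : enum 11 ck11 1 5 9610768 1607 6 9 = true := by
  decide +kernel

theorem ch_1_6_10_2 : enum 11 ck11 1 6 173584 1095 5 2 = true := by
  refine enum_intro 11 ck11 1 5 173584 1095 5 2 ?_
  intro v hv hb hd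
  interval_cases v
  · exact absurd hb (by decide)
  · exact absurd hb (by decide)
  · exact absurd hb (by decide)
  · exact ch_1_6_10_2_3
  · exact ch_1_6_10_2_4
  · exact ch_1_6_10_2_5
  · exact absurd hb (by decide)
  · exact ch_1_6_10_2_7
  · exact ch_1_6_10_2_8
  · exact ch_1_6_10_2_9
  · exact absurd hb (by decide)

set_option maxRecDepth 100000 in
theorem ch_1_6_10_3_2 : enum 11 ck11 1 5 2336272 1103 6 2 = true := by
  decide +kernel

set_option maxRecDepth 100000 in
theorem ch_1_6_10_3_4 : enum 11 ck11 1 5 4433424 1115 6 4 = true := by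
  decide +kernel

set_option maxRecDepth 100000 in
theorem ch_1_6_10_3_5 : enum 11 ck11 1 5 5482000 1131 6 5 = true := by
  decide +kernel

set_option maxRecDepth 100000 in
theorem ch_1_6_10_3_7 : enum 11 ck11 1 5 7579152 1227 6 7 = true := by
  decide +kernel

set_option maxRecDepth 100000 in
theorem ch_1_6_10_3_8 : enum 11 ck11 1 5 8627728 1355 6 8 = true := by
  decide +kernel

set_option maxRecDepth 100000 in
theorem ch_1_6_10_3_9 : enum 11 ck11 1 5 9676304 1611 6 9 = true := by
  decide +kernel

theorem ch_1_6_10_3 : enum 11 ck11 1 6 239120 1099 5 3 = true := by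
  refine enum_intro 11 ck11 1 5 239120 1099 5 3 ?_
  intro v hv hb hd
  interval_cases v
  · exact absurd hb (by decide)
  · exact absurd hb (by decide)
  · exact ch_1_6_10_3_2
  · exact absurd hb (by decide)
  · exact ch_1_6_10_3_4
  · exact ch_1_6_10_3_5
  · exact absurd hb (by decide)
  · exact ch_1_6_10_3_7
  · exact ch_1_6_10_3_8
  · exact ch_1_6_10_3_9
  · exact absurd hb (by decide)

set_option maxRecDepth 100000 in
theorem ch_1_6_10_4_2 : enum 11 ck11 1 5 2401808 1111 6 2 = true := by
  decide +kernel

set_option maxRecDepth 100000 in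
theorem ch_1_6_10_4_3 : enum 11 ck11 1 5 3450384 1115 6 3 = true := by
  decide +kernel

set_option maxRecDepth 100000 in
theorem ch_1_6_10_4_5 : enum 11 ck11 1 5 5547536 1139 6 5 = true := by
  decide +kernel

set_option maxRecDepth 100000 in
theorem ch_1_6_10_4_7 : enum 11 ck11 1 5 7644688 1235 6 7 = true := by
  decide +kernel

set_option maxRecDepth 100000 in
theorem ch_1_6_10_4_8 : enum 11 ck11 1 5 8693264 1363 6 8 = true := by
  decide +kernel

set_option maxRecDepth 100000 in
theorem ch_1_6_10_4_9 : enum 11 ck11 1 5 9741840 1619 6 9 = true := by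
  decide +kernel

theorem ch_1_6_10_4 : enum 11 ck11 1 6 304656 1107 5 4 = true := by
  refine enum_intro 11 ck11 1 5 304656 1107 5 4 ?_
  intro v hv hb hd
  interval_cases v
  · exact absurd hb (by decide)
  · exact absurd hb (by decide)
  · exact ch_1_6_10_4_2
  · exact ch_1_6_10_4_3
  · exact absurd hb (by decide)
  · exact ch_1_6_10_4_5
  · exact absurd hb (by decide)
  · exact ch_1_6_10_4_7
  · exact ch_1_6_10_4_8
  · exact ch_1_6_10_4_9
  · exact absurd hb (by decide)

set_option maxRecDepth 100000 in
theorem ch_1_6_10_5_2 : enum 11 ck11 1 5 2467344 1127 6 2 = true := by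
  decide +kernel

set_option maxRecDepth 100000 in
theorem ch_1_6_10_5_3 : enum 11 ck11 1 5 3515920 1131 6 3 = true := by
  decide +kernel

set_option maxRecDepth 100000 in
theorem ch_1_6_10_5_4 : enum 11 ck11 1 5 4564496 1139 6 4 = true := by
  decide +kernel

set_option maxRecDepth 100000 in
theorem ch_1_6_10_5_7 : enum 11 ck11 1 5 7710224 1251 6 7 = true := by
  decide +kernel

set_option maxRecDepth 100000 in
theorem ch_1_6_10_5_8 : enum 11 ck11 1 5 8758800 1379 6 8 = true := by
  decide +kernel

set_option maxRecDepth 100000 in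
theorem ch_1_6_10_5_9 : enum 11 ck11 1 5 9807376 1635 6 9 = true := by
  decide +kernel

theorem ch_1_6_10_5 : enum 11 ck11 1 6 370192 1123 5 5 = true := by
  refine enum_intro 11 ck11 1 5 370192 1123 5 5 ?_
  intro v hv hb hd
  interval_cases v
  · exact absurd hb (by decide)
  · exact absurd hb (by decide)
  · exact ch_1_6_10_5_2
  · exact ch_1_6_10_5_3
  · exact ch_1_6_10_5_4
  · exact absurd hb (by decide)
  · exact absurd hb (by decide)
  · exact ch_1_6_10_5_7
  · exact ch_1_6_10_5_8
  · exact ch_1_6_10_5_9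
  · exact absurd hb (by decide)

set_option maxRecDepth 100000 in
theorem ch_1_6_10_7_2 : enum 11 ck11 1 5 2598416 1223 6 2 = true := by
  decide +kernel

set_option maxRecDepth 100000 in
theorem ch_1_6_10_7_3 : enum 11 ck11 1 5 3646992 1227 6 3 = true := by
  decide +kernel

set_option maxRecDepth 100000 in
theorem ch_1_6_10_7_4 : enum 11 ck11 1 5 4695568 1235 6 4 = true := by
  decide +kernel

set_option maxRecDepth 100000 in
theorem ch_1_6_10_7_5 : enum 11 ck11 1 5 5744144 1251 6 5 = true := by
  decide +kernel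

set_option maxRecDepth 100000 in
theorem ch_1_6_10_7_8 : enum 11 ck11 1 5 8889872 1475 6 8 = true := by
  decide +kernel

set_option maxRecDepth 100000 in
theorem ch_1_6_10_7_9 : enum 11 ck11 1 5 9938448 1731 6 9 = true := by
  decide +kernel

theorem ch_1_6_10_7 : enum 11 ck11 1 6 501264 1219 5 7 = true := by
  refine enum_intro 11 ck11 1 5 501264 1219 5 7 ?_
  intro v hv hb hd
  interval_cases v
  · exact absurd hb (by decide)
  · exact absurd hb (by decide)
  · exact ch_1_6_10_7_2
  · exact ch_1_6_10_7_3
  · exact ch_1_6_10_7_4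
  · exact ch_1_6_10_7_5
  · exact absurd hb (by decide)
  · exact absurd hb (by decide)
  · exact ch_1_6_10_7_8
  · exact ch_1_6_10_7_9
  · exact absurd hb (by decide)

set_option maxRecDepth 100000 in
theorem ch_1_6_10_8_2 : enum 11 ck11 1 5 2663952 1351 6 2 = true := by
  decide +kernel

set_option maxRecDepth 100000 in
theorem ch_1_6_10_8_3 : enum 11 ck11 1 5 3712528 1355 6 3 = true := by
  decide +kernel

set_option maxRecDepth 100000 in
theorem ch_1_6_10_8_4 : enum 11 ck11 1 5 4761104 1363 6 4 = true := by
  decide +kernel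

set_option maxRecDepth 100000 in
theorem ch_1_6_10_8_5 : enum 11 ck11 1 5 5809680 1379 6 5 = true := by
  decide +kernel

set_option maxRecDepth 100000 in
theorem ch_1_6_10_8_7 : enum 11 ck11 1 5 7906832 1475 6 7 = true := by
  decide +kernel

set_option maxRecDepth 100000 in
theorem ch_1_6_10_8_9 : enum 11 ck11 1 5 10003984 1859 6 9 = true := by
  decide +kernel

theorem ch_1_6_10_8 : enum 11 ck11 1 6 566800 1347 5 8 = true := by
  refine enum_intro 11 ck11 1 5 566800 1347 5 8 ?_
  intro v hv hb hd
  interval_cases v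
  · exact absurd hb (by decide)
  · exact absurd hb (by decide)
  · exact ch_1_6_10_8_2
  · exact ch_1_6_10_8_3
  · exact ch_1_6_10_8_4
  · exact ch_1_6_10_8_5
  · exact absurd hb (by decide)
  · exact ch_1_6_10_8_7
  · exact absurd hb (by decide)
  · exact ch_1_6_10_8_9
  · exact absurd hb (by decide)

set_option maxRecDepth 100000 in
theorem ch_1_6_10_9_2 : enum 11 ck11 1 5 2729488 1607 6 2 = true := by
  decide +kernel

set_option maxRecDepth 100000 in
theorem ch_1_6_10_9_3 : enum 11 ck11 1 5 3778064 1611 6 3 = true := by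
  decide +kernel

set_option maxRecDepth 100000 in
theorem ch_1_6_10_9_4 : enum 11 ck11 1 5 4826640 1619 6 4 = true := by
  decide +kernel

set_option maxRecDepth 100000 in
theorem ch_1_6_10_9_5 : enum 11 ck11 1 5 5875216 1635 6 5 = true := by
  decide +kernel

set_option maxRecDepth 100000 in
theorem ch_1_6_10_9_7 : enum 11 ck11 1 5 7972368 1731 6 7 = true := by
  decide +kernel

set_option maxRecDepth 100000 in
theorem ch_1_6_10_9_8 : enum 11 ck11 1 5 9020944 1859 6 8 = true := by
  decide +kernel

theorem ch_1_6_10_9 : enum 11 ck11 1 6 632336 1603 5 9 = true := by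
  refine enum_intro 11 ck11 1 5 632336 1603 5 9 ?_
  intro v hv hb hd
  interval_cases v
  · exact absurd hb (by decide)
  · exact absurd hb (by decide)
  · exact ch_1_6_10_9_2
  · exact ch_1_6_10_9_3
  · exact ch_1_6_10_9_4
  · exact ch_1_6_10_9_5
  · exact absurd hb (by decide)
  · exact ch_1_6_10_9_7
  · exact ch_1_6_10_9_8
  · exact absurd hb (by decide)
  · exact absurd hb (by decide)

theorem ch_1_6_10 : enum 11 ck11 1 7 42512 1091 4 10 = true := by
  refine enum_intro 11 ck11 1 6 42512 1091 4 10 ?_
  intro v hv hb hd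
  interval_cases v
  · exact absurd hb (by decide)
  · exact absurd hb (by decide)
  · exact ch_1_6_10_2
  · exact ch_1_6_10_3
  · exact ch_1_6_10_4
  · exact ch_1_6_10_5
  · exact absurd hb (by decide)
  · exact ch_1_6_10_7
  · exact ch_1_6_10_8
  · exact ch_1_6_10_9
  · exact absurd hb (by decide)

end Cfsg.Agent.Helper9.T11
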