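import Mathlib
import Cfsg.Agent.Helper9.T11.Chk

set_option autoImplicit false
set_option Elab.async false

/-!
A part of the enumeration on 11 points: the test holds at every permutation of the part.
-/

namespace Cfsg.Agent.Helper9.T11

set_option maxRecDepth 100000 in
theorem ch_1_7_2_3_4 : enum 11 ck11 1 5 4400912 159 6 4 = true := by
  decide +kernel

set_option maxRecDepth 100000 in
theorem ch_1_7_2_3_5 : enum 11 ck11 1 5 5449488 175 6 5 = true := by
  decide +kernel

set_option maxRecDepth 100000 in
theorem ch_1_7_2_3_6 : enum 11 ck11 1 5 6498064 207 6 6 = true := by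
  decide +kernel

set_option maxRecDepth 100000 in
theorem ch_1_7_2_3_8 : enum 11 ck11 1 5 8595216 399 6 8 = true := by
  decide +kernel

set_option maxRecDepth 100000 in
theorem ch_1_7_2_3_9 : enum 11 ck11 1 5 9643792 655 6 9 = true := by
  decide +kernel

set_option maxRecDepth 100000 in
theorem ch_1_7_2_3_10 : enum 11 ck11 1 5 10692368 1167 6 10 = true := by
  decide +kernel

theorem ch_1_7_2_3 : enum 11 ck11 1 6 206608 143 5 3 = true := by
  refine enum_intro 11 ck11 1 5 206608 143 5 3 ?_
  intro v hv hb hd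
  interval_cases v
  · exact absurd hb (by decide)
  · exact absurd hb (by decide)
  · exact absurd hb (by decide)
  · exact absurd hb (by decide)
  · exact ch_1_7_2_3_4
  · exact ch_1_7_2_3_5
  · exact ch_1_7_2_3_6
  · exact absurd hb (by decide)
  · exact ch_1_7_2_3_8
  · exact ch_1_7_2_3_9
  · exact ch_1_7_2_3_10

set_option maxRecDepth 100000 in
theorem ch_1_7_2_4_3 : enum 11 ck11 1 5 3417872 159 6 3 = true := by
  decide +kernel

set_option maxRecDepth 100000 in
theorem ch_1_7_2_4_5 : enum 11 ck11 1 5 5515024 183 6 5 = true := by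
  decide +kernel

set_option maxRecDepth 100000 in
theorem ch_1_7_2_4_6 : enum 11 ck11 1 5 6563600 215 6 6 = true := by
  decide +kernel

set_option maxRecDepth 100000 in
theorem ch_1_7_2_4_8 : enum 11 ck11 1 5 8660752 407 6 8 = true := by
  decide +kernel

set_option maxRecDepth 100000 in
theorem ch_1_7_2_4_9 : enum 11 ck11 1 5 9709328 663 6 9 = true := by
  decide +kernel

set_option maxRecDepth 100000 in
theorem ch_1_7_2_4_10 : enum 11 ck11 1 5 10757904 1175 6 10 = true := by
  decide +kernel

theorem ch_1_7_2_4 : enum 11 ck11 1 6 272144 151 5 4 = true := by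
  refine enum_intro 11 ck11 1 5 272144 151 5 4 ?_
  intro v hv hb hd
  interval_cases v
  · exact absurd hb (by decide)
  · exact absurd hb (by decide)
  · exact absurd hb (by decide)
  · exact ch_1_7_2_4_3
  · exact absurd hb (by decide)
  · exact ch_1_7_2_4_5
  · exact ch_1_7_2_4_6
  · exact absurd hb (by decide)
  · exact ch_1_7_2_4_8
  · exact ch_1_7_2_4_9
  · exact ch_1_7_2_4_10

set_option maxRecDepth 100000 in
theorem ch_1_7_2_5_3 : enum 11 ck11 1 5 3483408 175 6 3 = true := by
  decide +kernel

set_option maxRecDepth 100000 in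
theorem ch_1_7_2_5_4 : enum 11 ck11 1 5 4531984 183 6 4 = true := by
  decide +kernel

set_option maxRecDepth 100000 in
theorem ch_1_7_2_5_6 : enum 11 ck11 1 5 6629136 231 6 6 = true := by
  decide +kernel

set_option maxRecDepth 100000 in
theorem ch_1_7_2_5_8 : enum 11 ck11 1 5 8726288 423 6 8 = true := by
  decide +kernel

set_option maxRecDepth 100000 in
theorem ch_1_7_2_5_9 : enum 11 ck11 1 5 9774864 679 6 9 = true := by
  decide +kernel

set_option maxRecDepth 100000 in
theorem ch_1_7_2_5_10 : enum 11 ck11 1 5 10823440 1191 6 10 = true := by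
  decide +kernel

theorem ch_1_7_2_5 : enum 11 ck11 1 6 337680 167 5 5 = true := by
  refine enum_intro 11 ck11 1 5 337680 167 5 5 ?_
  intro v hv hb hd
  interval_cases v
  · exact absurd hb (by decide)
  · exact absurd hb (by decide)
  · exact absurd hb (by decide)
  · exact ch_1_7_2_5_3
  · exact ch_1_7_2_5_4
  · exact absurd hb (by decide)
  · exact ch_1_7_2_5_6
  · exact absurd hb (by decide)
  · exact ch_1_7_2_5_8
  · exact ch_1_7_2_5_9
  · exact ch_1_7_2_5_10

set_option maxRecDepth 100000 in
theorem ch_1_7_2_6_3 : enum 11 ck11 1 5 3548944 207 6 3 = true := by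
  decide +kernel

set_option maxRecDepth 100000 in
theorem ch_1_7_2_6_4 : enum 11 ck11 1 5 4597520 215 6 4 = true := by
  decide +kernel

set_option maxRecDepth 100000 in
theorem ch_1_7_2_6_5 : enum 11 ck11 1 5 5646096 231 6 5 = true := by
  decide +kernel

set_option maxRecDepth 100000 in
theorem ch_1_7_2_6_8 : enum 11 ck11 1 5 8791824 455 6 8 = true := by
  decide +kernel

set_option maxRecDepth 100000 in
theorem ch_1_7_2_6_9 : enum 11 ck11 1 5 9840400 711 6 9 = true := by
  decide +kernel

set_option maxRecDepth 100000 in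
theorem ch_1_7_2_6_10 : enum 11 ck11 1 5 10888976 1223 6 10 = true := by
  decide +kernel

theorem ch_1_7_2_6 : enum 11 ck11 1 6 403216 199 5 6 = true := by
  refine enum_intro 11 ck11 1 5 403216 199 5 6 ?_
  intro v hv hb hd
  interval_cases v
  · exact absurd hb (by decide)
  · exact absurd hb (by decide)
  · exact absurd hb (by decide)
  · exact ch_1_7_2_6_3
  · exact ch_1_7_2_6_4
  · exact ch_1_7_2_6_5
  · exact absurd hb (by decide)
  · exact absurd hb (by decide)
  · exact ch_1_7_2_6_8
  · exact ch_1_7_2_6_9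
  · exact ch_1_7_2_6_10

set_option maxRecDepth 100000 in
theorem ch_1_7_2_8_3 : enum 11 ck11 1 5 3680016 399 6 3 = true := by
  decide +kernel

set_option maxRecDepth 100000 in
theorem ch_1_7_2_8_4 : enum 11 ck11 1 5 4728592 407 6 4 = true := by
  decide +kernel

set_option maxRecDepth 100000 in
theorem ch_1_7_2_8_5 : enum 11 ck11 1 5 5777168 423 6 5 = true := by
  decide +kernel

set_option maxRecDepth 100000 in
theorem ch_1_7_2_8_6 : enum 11 ck11 1 5 6825744 455 6 6 = true := by
  decide +kernel

set_option maxRecDepth 100000 in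
theorem ch_1_7_2_8_9 : enum 11 ck11 1 5 9971472 903 6 9 = true := by
  decide +kernel

set_option maxRecDepth 100000 in
theorem ch_1_7_2_8_10 : enum 11 ck11 1 5 11020048 1415 6 10 = true := by
  decide +kernel

theorem ch_1_7_2_8 : enum 11 ck11 1 6 534288 391 5 8 = true := by
  refine enum_intro 11 ck11 1 5 534288 391 5 8 ?_
  intro v hv hb hd
  interval_cases v
  · exact absurd hb (by decide)
  · exact absurd hb (by decide)
  · exact absurd hb (by decide)
  · exact ch_1_7_2_8_3
  · exact ch_1_7_2_8_4
  · exact ch_1_7_2_8_5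
  · exact ch_1_7_2_8_6
  · exact absurd hb (by decide)
  · exact absurd hb (by decide)
  · exact ch_1_7_2_8_9
  · exact ch_1_7_2_8_10

set_option maxRecDepth 100000 in
theorem ch_1_7_2_9_3 : enum 11 ck11 1 5 3745552 655 6 3 = true := by
  decide +kernel

set_option maxRecDepth 100000 in
theorem ch_1_7_2_9_4 : enum 11 ck11 1 5 4794128 663 6 4 = true := by
  decide +kernel

set_option maxRecDepth 100000 in
theorem ch_1_7_2_9_5 : enum 11 ck11 1 5 5842704 679 6 5 = true := by
  decide +kernel

set_option maxRecDepth 100000 in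
theorem ch_1_7_2_9_6 : enum 11 ck11 1 5 6891280 711 6 6 = true := by
  decide +kernel

set_option maxRecDepth 100000 in
theorem ch_1_7_2_9_8 : enum 11 ck11 1 5 8988432 903 6 8 = true := by
  decide +kernel

set_option maxRecDepth 100000 in
theorem ch_1_7_2_9_10 : enum 11 ck11 1 5 11085584 1671 6 10 = true := by
  decide +kernel

theorem ch_1_7_2_9 : enum 11 ck11 1 6 599824 647 5 9 = true := by
  refine enum_intro 11 ck11 1 5 599824 647 5 9 ?_
  intro v hv hb hd
  interval_cases v
  · exact absurd hb (by decide)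
  · exact absurd hb (by decide)
  · exact absurd hb (by decide)
  · exact ch_1_7_2_9_3
  · exact ch_1_7_2_9_4
  · exact ch_1_7_2_9_5
  · exact ch_1_7_2_9_6
  · exact absurd hb (by decide)
  · exact ch_1_7_2_9_8
  · exact absurd hb (by decide)
  · exact ch_1_7_2_9_10

set_option maxRecDepth 100000 in
theorem ch_1_7_2_10_3 : enum 11 ck11 1 5 3811088 1167 6 3 = true := by
  decide +kernel

set_option maxRecDepth 100000 in
theorem ch_1_7_2_10_4 : enum 11 ck11 1 5 4859664 1175 6 4 = true := by
  decide +kernel

set_option maxRecDepth 100000 in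
theorem ch_1_7_2_10_5 : enum 11 ck11 1 5 5908240 1191 6 5 = true := by
  decide +kernel

set_option maxRecDepth 100000 in
theorem ch_1_7_2_10_6 : enum 11 ck11 1 5 6956816 1223 6 6 = true := by
  decide +kernel

set_option maxRecDepth 100000 in
theorem ch_1_7_2_10_8 : enum 11 ck11 1 5 9053968 1415 6 8 = true := by
  decide +kernel

set_option maxRecDepth 100000 in
theorem ch_1_7_2_10_9 : enum 11 ck11 1 5 10102544 1671 6 9 = true := by
  decide +kernel

theorem ch_1_7_2_10 : enum 11 ck11 1 6 665360 1159 5 10 = true := by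
  refine enum_intro 11 ck11 1 5 665360 1159 5 10 ?_
  intro v hv hb hd
  interval_cases v
  · exact absurd hb (by decide)
  · exact absurd hb (by decide)
  · exact absurd hb (by decide)
  · exact ch_1_7_2_10_3
  · exact ch_1_7_2_10_4
  · exact ch_1_7_2_10_5
  · exact ch_1_7_2_10_6
  · exact absurd hb (by decide)
  · exact ch_1_7_2_10_8
  · exact ch_1_7_2_10_9
  · exact absurd hb (by decide)

theorem ch_1_7_2 : enum 11 ck11 1 7 10000 135 4 2 = true := by
  refine enum_intro 11 ck11 1 6 10000 135 4 2 ?_
  intro v hv hb hd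
  interval_cases v
  · exact absurd hb (by decide)
  · exact absurd hb (by decide)
  · exact absurd hb (by decide)
  · exact ch_1_7_2_3
  · exact ch_1_7_2_4
  · exact ch_1_7_2_5
  · exact ch_1_7_2_6
  · exact absurd hb (by decide)
  · exact ch_1_7_2_8
  · exact ch_1_7_2_9
  · exact ch_1_7_2_10

set_option maxRecDepth 100000 in
theorem ch_1_7_3_2_4 : enum 11 ck11 1 5 4339472 159 6 4 = true := by
  decide +kernel

set_option maxRecDepth 100000 in
theorem ch_1_7_3_2_5 : enum 11 ck11 1 5 5388048 175 6 5 = true := by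
  decide +kernel

set_option maxRecDepth 100000 in
theorem ch_1_7_3_2_6 : enum 11 ck11 1 5 6436624 207 6 6 = true := by
  decide +kernel

set_option maxRecDepth 100000 in
theorem ch_1_7_3_2_8 : enum 11 ck11 1 5 8533776 399 6 8 = true := by
  decide +kernel

set_option maxRecDepth 100000 in
theorem ch_1_7_3_2_9 : enum 11 ck11 1 5 9582352 655 6 9 = true := by
  decide +kernel

set_option maxRecDepth 100000 in
theorem ch_1_7_3_2_10 : enum 11 ck11 1 5 10630928 1167 6 10 = true := by
  decide +kernel

theorem ch_1_7_3_2 : enum 11 ck11 1 6 145168 143 5 2 = true := by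
  refine enum_intro 11 ck11 1 5 145168 143 5 2 ?_
  intro v hv hb hd
  interval_cases v
  · exact absurd hb (by decide)
  · exact absurd hb (by decide)
  · exact absurd hb (by decide)
  · exact absurd hb (by decide)
  · exact ch_1_7_3_2_4
  · exact ch_1_7_3_2_5
  · exact ch_1_7_3_2_6
  · exact absurd hb (by decide)
  · exact ch_1_7_3_2_8
  · exact ch_1_7_3_2_9
  · exact ch_1_7_3_2_10

set_option maxRecDepth 100000 in
theorem ch_1_7_3_4_2 : enum 11 ck11 1 5 2373392 159 6 2 = true := by
  decide +kernel

set_option maxRecDepth 100000 in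
theorem ch_1_7_3_4_5 : enum 11 ck11 1 5 5519120 187 6 5 = true := by
  decide +kernel

set_option maxRecDepth 100000 in
theorem ch_1_7_3_4_6 : enum 11 ck11 1 5 6567696 219 6 6 = true := by
  decide +kernel

set_option maxRecDepth 100000 in
theorem ch_1_7_3_4_8 : enum 11 ck11 1 5 8664848 411 6 8 = true := by
  decide +kernel

set_option maxRecDepth 100000 in
theorem ch_1_7_3_4_9 : enum 11 ck11 1 5 9713424 667 6 9 = true := by
  decide +kernel

set_option maxRecDepth 100000 in
theorem ch_1_7_3_4_10 : enum 11 ck11 1 5 10762000 1179 6 10 = true := by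
  decide +kernel

theorem ch_1_7_3_4 : enum 11 ck11 1 6 276240 155 5 4 = true := by
  refine enum_intro 11 ck11 1 5 276240 155 5 4 ?_
  intro v hv hb hd
  interval_cases v
  · exact absurd hb (by decide)
  · exact absurd hb (by decide)
  · exact ch_1_7_3_4_2
  · exact absurd hb (by decide)
  · exact absurd hb (by decide)
  · exact ch_1_7_3_4_5
  · exact ch_1_7_3_4_6
  · exact absurd hb (by decide)
  · exact ch_1_7_3_4_8
  · exact ch_1_7_3_4_9
  · exact ch_1_7_3_4_10

set_option maxRecDepth 100000 in
theorem ch_1_7_3_5_2 : enum 11 ck11 1 5 2438928 175 6 2 = true := by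
  decide +kernel

set_option maxRecDepth 100000 in
theorem ch_1_7_3_5_4 : enum 11 ck11 1 5 4536080 187 6 4 = true := by
  decide +kernel

set_option maxRecDepth 100000 in
theorem ch_1_7_3_5_6 : enum 11 ck11 1 5 6633232 235 6 6 = true := by
  decide +kernel

set_option maxRecDepth 100000 in
theorem ch_1_7_3_5_8 : enum 11 ck11 1 5 8730384 427 6 8 = true := by
  decide +kernel

set_option maxRecDepth 100000 in
theorem ch_1_7_3_5_9 : enum 11 ck11 1 5 9778960 683 6 9 = true := by
  decide +kernel

set_option maxRecDepth 100000 in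
theorem ch_1_7_3_5_10 : enum 11 ck11 1 5 10827536 1195 6 10 = true := by
  decide +kernel

theorem ch_1_7_3_5 : enum 11 ck11 1 6 341776 171 5 5 = true := by
  refine enum_intro 11 ck11 1 5 341776 171 5 5 ?_
  intro v hv hb hd
  interval_cases v
  · exact absurd hb (by decide)
  · exact absurd hb (by decide)
  · exact ch_1_7_3_5_2
  · exact absurd hb (by decide)
  · exact ch_1_7_3_5_4
  · exact absurd hb (by decide)
  · exact ch_1_7_3_5_6
  · exact absurd hb (by decide)
  · exact ch_1_7_3_5_8
  · exact ch_1_7_3_5_9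
  · exact ch_1_7_3_5_10

set_option maxRecDepth 100000 in
theorem ch_1_7_3_6_2 : enum 11 ck11 1 5 2504464 207 6 2 = true := by
  decide +kernel

set_option maxRecDepth 100000 in
theorem ch_1_7_3_6_4 : enum 11 ck11 1 5 4601616 219 6 4 = true := by
  decide +kernel

set_option maxRecDepth 100000 in
theorem ch_1_7_3_6_5 : enum 11 ck11 1 5 5650192 235 6 5 = true := by
  decide +kernel

set_option maxRecDepth 100000 in
theorem ch_1_7_3_6_8 : enum 11 ck11 1 5 8795920 459 6 8 = true := by
  decide +kernel

set_option maxRecDepth 100000 in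
theorem ch_1_7_3_6_9 : enum 11 ck11 1 5 9844496 715 6 9 = true := by
  decide +kernel

set_option maxRecDepth 100000 in
theorem ch_1_7_3_6_10 : enum 11 ck11 1 5 10893072 1227 6 10 = true := by
  decide +kernel

theorem ch_1_7_3_6 : enum 11 ck11 1 6 407312 203 5 6 = true := by
  refine enum_intro 11 ck11 1 5 407312 203 5 6 ?_
  intro v hv hb hd
  interval_cases v
  · exact absurd hb (by decide)
  · exact absurd hb (by decide)
  · exact ch_1_7_3_6_2
  · exact absurd hb (by decide)
  · exact ch_1_7_3_6_4
  · exact ch_1_7_3_6_5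
  · exact absurd hb (by decide)
  · exact absurd hb (by decide)
  · exact ch_1_7_3_6_8
  · exact ch_1_7_3_6_9
  · exact ch_1_7_3_6_10

set_option maxRecDepth 100000 in
theorem ch_1_7_3_8_2 : enum 11 ck11 1 5 2635536 399 6 2 = true := by
  decide +kernel

set_option maxRecDepth 100000 in
theorem ch_1_7_3_8_4 : enum 11 ck11 1 5 4732688 411 6 4 = true := by
  decide +kernel

set_option maxRecDepth 100000 in
theorem ch_1_7_3_8_5 : enum 11 ck11 1 5 5781264 427 6 5 = true := by
  decide +kernel

set_option maxRecDepth 100000 in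
theorem ch_1_7_3_8_6 : enum 11 ck11 1 5 6829840 459 6 6 = true := by
  decide +kernel

set_option maxRecDepth 100000 in
theorem ch_1_7_3_8_9 : enum 11 ck11 1 5 9975568 907 6 9 = true := by
  decide +kernel

set_option maxRecDepth 100000 in
theorem ch_1_7_3_8_10 : enum 11 ck11 1 5 11024144 1419 6 10 = true := by
  decide +kernel

theorem ch_1_7_3_8 : enum 11 ck11 1 6 538384 395 5 8 = true := by
  refine enum_intro 11 ck11 1 5 538384 395 5 8 ?_
  intro v hv hb hd
  interval_cases v
  · exact absurd hb (by decide)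
  · exact absurd hb (by decide)
  · exact ch_1_7_3_8_2
  · exact absurd hb (by decide)
  · exact ch_1_7_3_8_4
  · exact ch_1_7_3_8_5
  · exact ch_1_7_3_8_6
  · exact absurd hb (by decide)
  · exact absurd hb (by decide)
  · exact ch_1_7_3_8_9
  · exact ch_1_7_3_8_10

set_option maxRecDepth 100000 in
theorem ch_1_7_3_9_2 : enum 11 ck11 1 5 2701072 655 6 2 = true := by
  decide +kernel

set_option maxRecDepth 100000 in
theorem ch_1_7_3_9_4 : enum 11 ck11 1 5 4798224 667 6 4 = true := by
  decide +kernel

set_option maxRecDepth 100000 in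
theorem ch_1_7_3_9_5 : enum 11 ck11 1 5 5846800 683 6 5 = true := by
  decide +kernel

set_option maxRecDepth 100000 in
theorem ch_1_7_3_9_6 : enum 11 ck11 1 5 6895376 715 6 6 = true := by
  decide +kernel

set_option maxRecDepth 100000 in
theorem ch_1_7_3_9_8 : enum 11 ck11 1 5 8992528 907 6 8 = true := by
  decide +kernel

set_option maxRecDepth 100000 in
theorem ch_1_7_3_9_10 : enum 11 ck11 1 5 11089680 1675 6 10 = true := by
  decide +kernel

theorem ch_1_7_3_9 : enum 11 ck11 1 6 603920 651 5 9 = true := by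
  refine enum_intro 11 ck11 1 5 603920 651 5 9 ?_
  intro v hv hb hd
  interval_cases v
  · exact absurd hb (by decide)
  · exact absurd hb (by decide)
  · exact ch_1_7_3_9_2
  · exact absurd hb (by decide)
  · exact ch_1_7_3_9_4
  · exact ch_1_7_3_9_5
  · exact ch_1_7_3_9_6
  · exact absurd hb (by decide)
  · exact ch_1_7_3_9_8
  · exact absurd hb (by decide)
  · exact ch_1_7_3_9_10

set_option maxRecDepth 100000 in
theorem ch_1_7_3_10_2 : enum 11 ck11 1 5 2766608 1167 6 2 = true := by
  decide +kernel

set_option maxRecDepth 100000 in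
theorem ch_1_7_3_10_4 : enum 11 ck11 1 5 4863760 1179 6 4 = true := by
  decide +kernel

set_option maxRecDepth 100000 in
theorem ch_1_7_3_10_5 : enum 11 ck11 1 5 5912336 1195 6 5 = true := by
  decide +kernel

set_option maxRecDepth 100000 in
theorem ch_1_7_3_10_6 : enum 11 ck11 1 5 6960912 1227 6 6 = true := by
  decide +kernel

set_option maxRecDepth 100000 in
theorem ch_1_7_3_10_8 : enum 11 ck11 1 5 9058064 1419 6 8 = true := by
  decide +kernel

set_option maxRecDepth 100000 in
theorem ch_1_7_3_10_9 : enum 11 ck11 1 5 10106640 1675 6 9 = true := by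
  decide +kernel

theorem ch_1_7_3_10 : enum 11 ck11 1 6 669456 1163 5 10 = true := by
  refine enum_intro 11 ck11 1 5 669456 1163 5 10 ?_
  intro v hv hb hd
  interval_cases v
  · exact absurd hb (by decide)
  · exact absurd hb (by decide)
  · exact ch_1_7_3_10_2
  · exact absurd hb (by decide)
  · exact ch_1_7_3_10_4
  · exact ch_1_7_3_10_5
  · exact ch_1_7_3_10_6
  · exact absurd hb (by decide)
  · exact ch_1_7_3_10_8
  · exact ch_1_7_3_10_9
  · exact absurd hb (by decide)

theorem ch_1_7_3 : enum 11 ck11 1 7 14096 139 4 3 = true := by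
  refine enum_intro 11 ck11 1 6 14096 139 4 3 ?_
  intro v hv hb hd
  interval_cases v
  · exact absurd hb (by decide)
  · exact absurd hb (by decide)
  · exact ch_1_7_3_2
  · exact absurd hb (by decide)
  · exact ch_1_7_3_4
  · exact ch_1_7_3_5
  · exact ch_1_7_3_6
  · exact absurd hb (by decide)
  · exact ch_1_7_3_8
  · exact ch_1_7_3_9
  · exact ch_1_7_3_10

set_option maxRecDepth 100000 in
theorem ch_1_7_4_2_3 : enum 11 ck11 1 5 3294992 159 6 3 = true := by
  decide +kernel

set_option maxRecDepth 100000 in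
theorem ch_1_7_4_2_5 : enum 11 ck11 1 5 5392144 183 6 5 = true := by
  decide +kernel

set_option maxRecDepth 100000 in
theorem ch_1_7_4_2_6 : enum 11 ck11 1 5 6440720 215 6 6 = true := by
  decide +kernel

set_option maxRecDepth 100000 in
theorem ch_1_7_4_2_8 : enum 11 ck11 1 5 8537872 407 6 8 = true := by
  decide +kernel

set_option maxRecDepth 100000 in
theorem ch_1_7_4_2_9 : enum 11 ck11 1 5 9586448 663 6 9 = true := by
  decide +kernel

set_option maxRecDepth 100000 in
theorem ch_1_7_4_2_10 : enum 11 ck11 1 5 10635024 1175 6 10 = true := by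
  decide +kernel

theorem ch_1_7_4_2 : enum 11 ck11 1 6 149264 151 5 2 = true := by
  refine enum_intro 11 ck11 1 5 149264 151 5 2 ?_
  intro v hv hb hd
  interval_cases v
  · exact absurd hb (by decide)
  · exact absurd hb (by decide)
  · exact absurd hb (by decide)
  · exact ch_1_7_4_2_3
  · exact absurd hb (by decide)
  · exact ch_1_7_4_2_5
  · exact ch_1_7_4_2_6
  · exact absurd hb (by decide)
  · exact ch_1_7_4_2_8
  · exact ch_1_7_4_2_9
  · exact ch_1_7_4_2_10

set_option maxRecDepth 100000 in
theorem ch_1_7_4_3_2 : enum 11 ck11 1 5 2311952 159 6 2 = true := by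
  decide +kernel

set_option maxRecDepth 100000 in
theorem ch_1_7_4_3_5 : enum 11 ck11 1 5 5457680 187 6 5 = true := by
  decide +kernel

set_option maxRecDepth 100000 in
theorem ch_1_7_4_3_6 : enum 11 ck11 1 5 6506256 219 6 6 = true := by
  decide +kernel

set_option maxRecDepth 100000 in
theorem ch_1_7_4_3_8 : enum 11 ck11 1 5 8603408 411 6 8 = true := by
  decide +kernel

set_option maxRecDepth 100000 in
theorem ch_1_7_4_3_9 : enum 11 ck11 1 5 9651984 667 6 9 = true := by
  decide +kernel

set_option maxRecDepth 100000 in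
theorem ch_1_7_4_3_10 : enum 11 ck11 1 5 10700560 1179 6 10 = true := by
  decide +kernel

theorem ch_1_7_4_3 : enum 11 ck11 1 6 214800 155 5 3 = true := by
  refine enum_intro 11 ck11 1 5 214800 155 5 3 ?_
  intro v hv hb hd
  interval_cases v
  · exact absurd hb (by decide)
  · exact absurd hb (by decide)
  · exact ch_1_7_4_3_2
  · exact absurd hb (by decide)
  · exact absurd hb (by decide)
  · exact ch_1_7_4_3_5
  · exact ch_1_7_4_3_6
  · exact absurd hb (by decide)
  · exact ch_1_7_4_3_8
  · exact ch_1_7_4_3_9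
  · exact ch_1_7_4_3_10

set_option maxRecDepth 100000 in
theorem ch_1_7_4_5_2 : enum 11 ck11 1 5 2443024 183 6 2 = true := by
  decide +kernel

set_option maxRecDepth 100000 in
theorem ch_1_7_4_5_3 : enum 11 ck11 1 5 3491600 187 6 3 = true := by
  decide +kernel

set_option maxRecDepth 100000 in
theorem ch_1_7_4_5_6 : enum 11 ck11 1 5 6637328 243 6 6 = true := by
  decide +kernel

set_option maxRecDepth 100000 in
theorem ch_1_7_4_5_8 : enum 11 ck11 1 5 8734480 435 6 8 = true := by
  decide +kernel

set_option maxRecDepth 100000 in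
theorem ch_1_7_4_5_9 : enum 11 ck11 1 5 9783056 691 6 9 = true := by
  decide +kernel

set_option maxRecDepth 100000 in
theorem ch_1_7_4_5_10 : enum 11 ck11 1 5 10831632 1203 6 10 = true := by
  decide +kernel

theorem ch_1_7_4_5 : enum 11 ck11 1 6 345872 179 5 5 = true := by
  refine enum_intro 11 ck11 1 5 345872 179 5 5 ?_
  intro v hv hb hd
  interval_cases v
  · exact absurd hb (by decide)
  · exact absurd hb (by decide)
  · exact ch_1_7_4_5_2
  · exact ch_1_7_4_5_3
  · exact absurd hb (by decide)
  · exact absurd hb (by decide)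
  · exact ch_1_7_4_5_6
  · exact absurd hb (by decide)
  · exact ch_1_7_4_5_8
  · exact ch_1_7_4_5_9
  · exact ch_1_7_4_5_10

set_option maxRecDepth 100000 in
theorem ch_1_7_4_6_2 : enum 11 ck11 1 5 2508560 215 6 2 = true := by
  decide +kernel

set_option maxRecDepth 100000 in
theorem ch_1_7_4_6_3 : enum 11 ck11 1 5 3557136 219 6 3 = true := by
  decide +kernel

set_option maxRecDepth 100000 in
theorem ch_1_7_4_6_5 : enum 11 ck11 1 5 5654288 243 6 5 = true := by
  decide +kernel

set_option maxRecDepth 100000 in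
theorem ch_1_7_4_6_8 : enum 11 ck11 1 5 8800016 467 6 8 = true := by
  decide +kernel

set_option maxRecDepth 100000 in
theorem ch_1_7_4_6_9 : enum 11 ck11 1 5 9848592 723 6 9 = true := by
  decide +kernel

set_option maxRecDepth 100000 in
theorem ch_1_7_4_6_10 : enum 11 ck11 1 5 10897168 1235 6 10 = true := by
  decide +kernel

theorem ch_1_7_4_6 : enum 11 ck11 1 6 411408 211 5 6 = true := by
  refine enum_intro 11 ck11 1 5 411408 211 5 6 ?_
  intro v hv hb hd
  interval_cases v
  · exact absurd hb (by decide)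
  · exact absurd hb (by decide)
  · exact ch_1_7_4_6_2
  · exact ch_1_7_4_6_3
  · exact absurd hb (by decide)
  · exact ch_1_7_4_6_5
  · exact absurd hb (by decide)
  · exact absurd hb (by decide)
  · exact ch_1_7_4_6_8
  · exact ch_1_7_4_6_9
  · exact ch_1_7_4_6_10

set_option maxRecDepth 100000 in
theorem ch_1_7_4_8_2 : enum 11 ck11 1 5 2639632 407 6 2 = true := by
  decide +kernel

set_option maxRecDepth 100000 in
theorem ch_1_7_4_8_3 : enum 11 ck11 1 5 3688208 411 6 3 = true := by
  decide +kernel

set_option maxRecDepth 100000 in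
theorem ch_1_7_4_8_5 : enum 11 ck11 1 5 5785360 435 6 5 = true := by
  decide +kernel

set_option maxRecDepth 100000 in
theorem ch_1_7_4_8_6 : enum 11 ck11 1 5 6833936 467 6 6 = true := by
  decide +kernel

set_option maxRecDepth 100000 in
theorem ch_1_7_4_8_9 : enum 11 ck11 1 5 9979664 915 6 9 = true := by
  decide +kernel

set_option maxRecDepth 100000 in
theorem ch_1_7_4_8_10 : enum 11 ck11 1 5 11028240 1427 6 10 = true := by
  decide +kernel

theorem ch_1_7_4_8 : enum 11 ck11 1 6 542480 403 5 8 = true := by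
  refine enum_intro 11 ck11 1 5 542480 403 5 8 ?_
  intro v hv hb hd
  interval_cases v
  · exact absurd hb (by decide)
  · exact absurd hb (by decide)
  · exact ch_1_7_4_8_2
  · exact ch_1_7_4_8_3
  · exact absurd hb (by decide)
  · exact ch_1_7_4_8_5
  · exact ch_1_7_4_8_6
  · exact absurd hb (by decide)
  · exact absurd hb (by decide)
  · exact ch_1_7_4_8_9
  · exact ch_1_7_4_8_10

set_option maxRecDepth 100000 in
theorem ch_1_7_4_9_2 : enum 11 ck11 1 5 2705168 663 6 2 = true := by
  decide +kernel

set_option maxRecDepth 100000 in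
theorem ch_1_7_4_9_3 : enum 11 ck11 1 5 3753744 667 6 3 = true := by
  decide +kernel

set_option maxRecDepth 100000 in
theorem ch_1_7_4_9_5 : enum 11 ck11 1 5 5850896 691 6 5 = true := by
  decide +kernel

set_option maxRecDepth 100000 in
theorem ch_1_7_4_9_6 : enum 11 ck11 1 5 6899472 723 6 6 = true := by
  decide +kernel

set_option maxRecDepth 100000 in
theorem ch_1_7_4_9_8 : enum 11 ck11 1 5 8996624 915 6 8 = true := by
  decide +kernel

set_option maxRecDepth 100000 in
theorem ch_1_7_4_9_10 : enum 11 ck11 1 5 11093776 1683 6 10 = true := by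
  decide +kernel

theorem ch_1_7_4_9 : enum 11 ck11 1 6 608016 659 5 9 = true := by
  refine enum_intro 11 ck11 1 5 608016 659 5 9 ?_
  intro v hv hb hd
  interval_cases v
  · exact absurd hb (by decide)
  · exact absurd hb (by decide)
  · exact ch_1_7_4_9_2
  · exact ch_1_7_4_9_3
  · exact absurd hb (by decide)
  · exact ch_1_7_4_9_5
  · exact ch_1_7_4_9_6
  · exact absurd hb (by decide)
  · exact ch_1_7_4_9_8
  · exact absurd hb (by decide)
  · exact ch_1_7_4_9_10

set_option maxRecDepth 100000 in
theorem ch_1_7_4_10_2 : enum 11 ck11 1 5 2770704 1175 6 2 = true := by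
  decide +kernel

set_option maxRecDepth 100000 in
theorem ch_1_7_4_10_3 : enum 11 ck11 1 5 3819280 1179 6 3 = true := by
  decide +kernel

set_option maxRecDepth 100000 in
theorem ch_1_7_4_10_5 : enum 11 ck11 1 5 5916432 1203 6 5 = true := by
  decide +kernel

set_option maxRecDepth 100000 in
theorem ch_1_7_4_10_6 : enum 11 ck11 1 5 6965008 1235 6 6 = true := by
  decide +kernel

set_option maxRecDepth 100000 in
theorem ch_1_7_4_10_8 : enum 11 ck11 1 5 9062160 1427 6 8 = true := by
  decide +kernel

set_option maxRecDepth 100000 in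
theorem ch_1_7_4_10_9 : enum 11 ck11 1 5 10110736 1683 6 9 = true := by
  decide +kernel

theorem ch_1_7_4_10 : enum 11 ck11 1 6 673552 1171 5 10 = true := by
  refine enum_intro 11 ck11 1 5 673552 1171 5 10 ?_
  intro v hv hb hd
  interval_cases v
  · exact absurd hb (by decide)
  · exact absurd hb (by decide)
  · exact ch_1_7_4_10_2
  · exact ch_1_7_4_10_3
  · exact absurd hb (by decide)
  · exact ch_1_7_4_10_5
  · exact ch_1_7_4_10_6
  · exact absurd hb (by decide)
  · exact ch_1_7_4_10_8
  · exact ch_1_7_4_10_9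
  · exact absurd hb (by decide)

theorem ch_1_7_4 : enum 11 ck11 1 7 18192 147 4 4 = true := by
  refine enum_intro 11 ck11 1 6 18192 147 4 4 ?_
  intro v hv hb hd
  interval_cases v
  · exact absurd hb (by decide)
  · exact absurd hb (by decide)
  · exact ch_1_7_4_2
  · exact ch_1_7_4_3
  · exact absurd hb (by decide)
  · exact ch_1_7_4_5
  · exact ch_1_7_4_6
  · exact absurd hb (by decide)
  · exact ch_1_7_4_8
  · exact ch_1_7_4_9
  · exact ch_1_7_4_10

end Cfsg.Agent.Helper9.T11
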