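import Mathlib
import Cfsg.Agent.Helper9.T11.Chk

set_option autoImplicit false
set_option Elab.async false

/-!
A part of the enumeration on 11 points: the test holds at every permutation of the part.
-/

namespace Cfsg.Agent.Helper9.T11

set_option maxRecDepth 100000 in
theorem ch_1_7_5_2_3 : enum 11 ck11 1 5 3299088 175 6 3 = true := by
  decide +kernel

set_option maxRecDepth 100000 in
theorem ch_1_7_5_2_4 : enum 11 ck11 1 5 4347664 183 6 4 = true := by
  decide +kernel

set_option maxRecDepth 100000 in
theorem ch_1_7_5_2_6 : enum 11 ck11 1 5 6444816 231 6 6 = true := by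
  decide +kernel

set_option maxRecDepth 100000 in
theorem ch_1_7_5_2_8 : enum 11 ck11 1 5 8541968 423 6 8 = true := by
  decide +kernel

set_option maxRecDepth 100000 in
theorem ch_1_7_5_2_9 : enum 11 ck11 1 5 9590544 679 6 9 = true := by
  decide +kernel

set_option maxRecDepth 100000 in
theorem ch_1_7_5_2_10 : enum 11 ck11 1 5 10639120 1191 6 10 = true := by
  decide +kernel

theorem ch_1_7_5_2 : enum 11 ck11 1 6 153360 167 5 2 = true := by
  refine enum_intro 11 ck11 1 5 153360 167 5 2 ?_
  intro v hv hb hd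
  interval_cases v
  · exact absurd hb (by decide)
  · exact absurd hb (by decide)
  · exact absurd hb (by decide)
  · exact ch_1_7_5_2_3
  · exact ch_1_7_5_2_4
  · exact absurd hb (by decide)
  · exact ch_1_7_5_2_6
  · exact absurd hb (by decide)
  · exact ch_1_7_5_2_8
  · exact ch_1_7_5_2_9
  · exact ch_1_7_5_2_10

set_option maxRecDepth 100000 in
theorem ch_1_7_5_3_2 : enum 11 ck11 1 5 2316048 175 6 2 = true := by
  decide +kernel

set_option maxRecDepth 100000 in
theorem ch_1_7_5_3_4 : enum 11 ck11 1 5 4413200 187 6 4 = true := by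
  decide +kernel

set_option maxRecDepth 100000 in
theorem ch_1_7_5_3_6 : enum 11 ck11 1 5 6510352 235 6 6 = true := by
  decide +kernel

set_option maxRecDepth 100000 in
theorem ch_1_7_5_3_8 : enum 11 ck11 1 5 8607504 427 6 8 = true := by
  decide +kernel

set_option maxRecDepth 100000 in
theorem ch_1_7_5_3_9 : enum 11 ck11 1 5 9656080 683 6 9 = true := by
  decide +kernel

set_option maxRecDepth 100000 in
theorem ch_1_7_5_3_10 : enum 11 ck11 1 5 10704656 1195 6 10 = true := by
  decide +kernel

theorem ch_1_7_5_3 : enum 11 ck11 1 6 218896 171 5 3 = true := by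
  refine enum_intro 11 ck11 1 5 218896 171 5 3 ?_
  intro v hv hb hd
  interval_cases v
  · exact absurd hb (by decide)
  · exact absurd hb (by decide)
  · exact ch_1_7_5_3_2
  · exact absurd hb (by decide)
  · exact ch_1_7_5_3_4
  · exact absurd hb (by decide)
  · exact ch_1_7_5_3_6
  · exact absurd hb (by decide)
  · exact ch_1_7_5_3_8
  · exact ch_1_7_5_3_9
  · exact ch_1_7_5_3_10

set_option maxRecDepth 100000 in
theorem ch_1_7_5_4_2 : enum 11 ck11 1 5 2381584 183 6 2 = true := by
  decide +kernel

set_option maxRecDepth 100000 in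
theorem ch_1_7_5_4_3 : enum 11 ck11 1 5 3430160 187 6 3 = true := by
  decide +kernel

set_option maxRecDepth 100000 in
theorem ch_1_7_5_4_6 : enum 11 ck11 1 5 6575888 243 6 6 = true := by
  decide +kernel

set_option maxRecDepth 100000 in
theorem ch_1_7_5_4_8 : enum 11 ck11 1 5 8673040 435 6 8 = true := by
  decide +kernel

set_option maxRecDepth 100000 in
theorem ch_1_7_5_4_9 : enum 11 ck11 1 5 9721616 691 6 9 = true := by
  decide +kernel

set_option maxRecDepth 100000 in
theorem ch_1_7_5_4_10 : enum 11 ck11 1 5 10770192 1203 6 10 = true := by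
  decide +kernel

theorem ch_1_7_5_4 : enum 11 ck11 1 6 284432 179 5 4 = true := by
  refine enum_intro 11 ck11 1 5 284432 179 5 4 ?_
  intro v hv hb hd
  interval_cases v
  · exact absurd hb (by decide)
  · exact absurd hb (by decide)
  · exact ch_1_7_5_4_2
  · exact ch_1_7_5_4_3
  · exact absurd hb (by decide)
  · exact absurd hb (by decide)
  · exact ch_1_7_5_4_6
  · exact absurd hb (by decide)
  · exact ch_1_7_5_4_8
  · exact ch_1_7_5_4_9
  · exact ch_1_7_5_4_10

set_option maxRecDepth 100000 in
theorem ch_1_7_5_6_2 : enum 11 ck11 1 5 2512656 231 6 2 = true := by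
  decide +kernel

set_option maxRecDepth 100000 in
theorem ch_1_7_5_6_3 : enum 11 ck11 1 5 3561232 235 6 3 = true := by
  decide +kernel

set_option maxRecDepth 100000 in
theorem ch_1_7_5_6_4 : enum 11 ck11 1 5 4609808 243 6 4 = true := by
  decide +kernel

set_option maxRecDepth 100000 in
theorem ch_1_7_5_6_8 : enum 11 ck11 1 5 8804112 483 6 8 = true := by
  decide +kernel

set_option maxRecDepth 100000 in
theorem ch_1_7_5_6_9 : enum 11 ck11 1 5 9852688 739 6 9 = true := by
  decide +kernel

set_option maxRecDepth 100000 in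
theorem ch_1_7_5_6_10 : enum 11 ck11 1 5 10901264 1251 6 10 = true := by
  decide +kernel

theorem ch_1_7_5_6 : enum 11 ck11 1 6 415504 227 5 6 = true := by
  refine enum_intro 11 ck11 1 5 415504 227 5 6 ?_
  intro v hv hb hd
  interval_cases v
  · exact absurd hb (by decide)
  · exact absurd hb (by decide)
  · exact ch_1_7_5_6_2
  · exact ch_1_7_5_6_3
  · exact ch_1_7_5_6_4
  · exact absurd hb (by decide)
  · exact absurd hb (by decide)
  · exact absurd hb (by decide)
  · exact ch_1_7_5_6_8
  · exact ch_1_7_5_6_9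
  · exact ch_1_7_5_6_10

set_option maxRecDepth 100000 in
theorem ch_1_7_5_8_2 : enum 11 ck11 1 5 2643728 423 6 2 = true := by
  decide +kernel

set_option maxRecDepth 100000 in
theorem ch_1_7_5_8_3 : enum 11 ck11 1 5 3692304 427 6 3 = true := by
  decide +kernel

set_option maxRecDepth 100000 in
theorem ch_1_7_5_8_4 : enum 11 ck11 1 5 4740880 435 6 4 = true := by
  decide +kernel

set_option maxRecDepth 100000 in
theorem ch_1_7_5_8_6 : enum 11 ck11 1 5 6838032 483 6 6 = true := by
  decide +kernel

set_option maxRecDepth 100000 in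
theorem ch_1_7_5_8_9 : enum 11 ck11 1 5 9983760 931 6 9 = true := by
  decide +kernel

set_option maxRecDepth 100000 in
theorem ch_1_7_5_8_10 : enum 11 ck11 1 5 11032336 1443 6 10 = true := by
  decide +kernel

theorem ch_1_7_5_8 : enum 11 ck11 1 6 546576 419 5 8 = true := by
  refine enum_intro 11 ck11 1 5 546576 419 5 8 ?_
  intro v hv hb hd
  interval_cases v
  · exact absurd hb (by decide)
  · exact absurd hb (by decide)
  · exact ch_1_7_5_8_2
  · exact ch_1_7_5_8_3
  · exact ch_1_7_5_8_4
  · exact absurd hb (by decide)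
  · exact ch_1_7_5_8_6
  · exact absurd hb (by decide)
  · exact absurd hb (by decide)
  · exact ch_1_7_5_8_9
  · exact ch_1_7_5_8_10

set_option maxRecDepth 100000 in
theorem ch_1_7_5_9_2 : enum 11 ck11 1 5 2709264 679 6 2 = true := by
  decide +kernel

set_option maxRecDepth 100000 in
theorem ch_1_7_5_9_3 : enum 11 ck11 1 5 3757840 683 6 3 = true := by
  decide +kernel

set_option maxRecDepth 100000 in
theorem ch_1_7_5_9_4 : enum 11 ck11 1 5 4806416 691 6 4 = true := by
  decide +kernel

set_option maxRecDepth 100000 in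
theorem ch_1_7_5_9_6 : enum 11 ck11 1 5 6903568 739 6 6 = true := by
  decide +kernel

set_option maxRecDepth 100000 in
theorem ch_1_7_5_9_8 : enum 11 ck11 1 5 9000720 931 6 8 = true := by
  decide +kernel

set_option maxRecDepth 100000 in
theorem ch_1_7_5_9_10 : enum 11 ck11 1 5 11097872 1699 6 10 = true := by
  decide +kernel

theorem ch_1_7_5_9 : enum 11 ck11 1 6 612112 675 5 9 = true := by
  refine enum_intro 11 ck11 1 5 612112 675 5 9 ?_
  intro v hv hb hd
  interval_cases v
  · exact absurd hb (by decide)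
  · exact absurd hb (by decide)
  · exact ch_1_7_5_9_2
  · exact ch_1_7_5_9_3
  · exact ch_1_7_5_9_4
  · exact absurd hb (by decide)
  · exact ch_1_7_5_9_6
  · exact absurd hb (by decide)
  · exact ch_1_7_5_9_8
  · exact absurd hb (by decide)
  · exact ch_1_7_5_9_10

set_option maxRecDepth 100000 in
theorem ch_1_7_5_10_2 : enum 11 ck11 1 5 2774800 1191 6 2 = true := by
  decide +kernel

set_option maxRecDepth 100000 in
theorem ch_1_7_5_10_3 : enum 11 ck11 1 5 3823376 1195 6 3 = true := by
  decide +kernel

set_option maxRecDepth 100000 in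
theorem ch_1_7_5_10_4 : enum 11 ck11 1 5 4871952 1203 6 4 = true := by
  decide +kernel

set_option maxRecDepth 100000 in
theorem ch_1_7_5_10_6 : enum 11 ck11 1 5 6969104 1251 6 6 = true := by
  decide +kernel

set_option maxRecDepth 100000 in
theorem ch_1_7_5_10_8 : enum 11 ck11 1 5 9066256 1443 6 8 = true := by
  decide +kernel

set_option maxRecDepth 100000 in
theorem ch_1_7_5_10_9 : enum 11 ck11 1 5 10114832 1699 6 9 = true := by
  decide +kernel

theorem ch_1_7_5_10 : enum 11 ck11 1 6 677648 1187 5 10 = true := by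
  refine enum_intro 11 ck11 1 5 677648 1187 5 10 ?_
  intro v hv hb hd
  interval_cases v
  · exact absurd hb (by decide)
  · exact absurd hb (by decide)
  · exact ch_1_7_5_10_2
  · exact ch_1_7_5_10_3
  · exact ch_1_7_5_10_4
  · exact absurd hb (by decide)
  · exact ch_1_7_5_10_6
  · exact absurd hb (by decide)
  · exact ch_1_7_5_10_8
  · exact ch_1_7_5_10_9
  · exact absurd hb (by decide)

theorem ch_1_7_5 : enum 11 ck11 1 7 22288 163 4 5 = true := by
  refine enum_intro 11 ck11 1 6 22288 163 4 5 ?_
  intro v hv hb hd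
  interval_cases v
  · exact absurd hb (by decide)
  · exact absurd hb (by decide)
  · exact ch_1_7_5_2
  · exact ch_1_7_5_3
  · exact ch_1_7_5_4
  · exact absurd hb (by decide)
  · exact ch_1_7_5_6
  · exact absurd hb (by decide)
  · exact ch_1_7_5_8
  · exact ch_1_7_5_9
  · exact ch_1_7_5_10

set_option maxRecDepth 100000 in
theorem ch_1_7_6_2_3 : enum 11 ck11 1 5 3303184 207 6 3 = true := by
  decide +kernel

set_option maxRecDepth 100000 in
theorem ch_1_7_6_2_4 : enum 11 ck11 1 5 4351760 215 6 4 = true := by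
  decide +kernel

set_option maxRecDepth 100000 in
theorem ch_1_7_6_2_5 : enum 11 ck11 1 5 5400336 231 6 5 = true := by
  decide +kernel

set_option maxRecDepth 100000 in
theorem ch_1_7_6_2_8 : enum 11 ck11 1 5 8546064 455 6 8 = true := by
  decide +kernel

set_option maxRecDepth 100000 in
theorem ch_1_7_6_2_9 : enum 11 ck11 1 5 9594640 711 6 9 = true := by
  decide +kernel

set_option maxRecDepth 100000 in
theorem ch_1_7_6_2_10 : enum 11 ck11 1 5 10643216 1223 6 10 = true := by
  decide +kernel

theorem ch_1_7_6_2 : enum 11 ck11 1 6 157456 199 5 2 = true := by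
  refine enum_intro 11 ck11 1 5 157456 199 5 2 ?_
  intro v hv hb hd
  interval_cases v
  · exact absurd hb (by decide)
  · exact absurd hb (by decide)
  · exact absurd hb (by decide)
  · exact ch_1_7_6_2_3
  · exact ch_1_7_6_2_4
  · exact ch_1_7_6_2_5
  · exact absurd hb (by decide)
  · exact absurd hb (by decide)
  · exact ch_1_7_6_2_8
  · exact ch_1_7_6_2_9
  · exact ch_1_7_6_2_10

set_option maxRecDepth 100000 in
theorem ch_1_7_6_3_2 : enum 11 ck11 1 5 2320144 207 6 2 = true := by
  decide +kernel

set_option maxRecDepth 100000 in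
theorem ch_1_7_6_3_4 : enum 11 ck11 1 5 4417296 219 6 4 = true := by
  decide +kernel

set_option maxRecDepth 100000 in
theorem ch_1_7_6_3_5 : enum 11 ck11 1 5 5465872 235 6 5 = true := by
  decide +kernel

set_option maxRecDepth 100000 in
theorem ch_1_7_6_3_8 : enum 11 ck11 1 5 8611600 459 6 8 = true := by
  decide +kernel

set_option maxRecDepth 100000 in
theorem ch_1_7_6_3_9 : enum 11 ck11 1 5 9660176 715 6 9 = true := by
  decide +kernel

set_option maxRecDepth 100000 in
theorem ch_1_7_6_3_10 : enum 11 ck11 1 5 10708752 1227 6 10 = true := by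
  decide +kernel

theorem ch_1_7_6_3 : enum 11 ck11 1 6 222992 203 5 3 = true := by
  refine enum_intro 11 ck11 1 5 222992 203 5 3 ?_
  intro v hv hb hd
  interval_cases v
  · exact absurd hb (by decide)
  · exact absurd hb (by decide)
  · exact ch_1_7_6_3_2
  · exact absurd hb (by decide)
  · exact ch_1_7_6_3_4
  · exact ch_1_7_6_3_5
  · exact absurd hb (by decide)
  · exact absurd hb (by decide)
  · exact ch_1_7_6_3_8
  · exact ch_1_7_6_3_9
  · exact ch_1_7_6_3_10

set_option maxRecDepth 100000 in
theorem ch_1_7_6_4_2 : enum 11 ck11 1 5 2385680 215 6 2 = true := by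
  decide +kernel

set_option maxRecDepth 100000 in
theorem ch_1_7_6_4_3 : enum 11 ck11 1 5 3434256 219 6 3 = true := by
  decide +kernel

set_option maxRecDepth 100000 in
theorem ch_1_7_6_4_5 : enum 11 ck11 1 5 5531408 243 6 5 = true := by
  decide +kernel

set_option maxRecDepth 100000 in
theorem ch_1_7_6_4_8 : enum 11 ck11 1 5 8677136 467 6 8 = true := by
  decide +kernel

set_option maxRecDepth 100000 in
theorem ch_1_7_6_4_9 : enum 11 ck11 1 5 9725712 723 6 9 = true := by
  decide +kernel

set_option maxRecDepth 100000 in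
theorem ch_1_7_6_4_10 : enum 11 ck11 1 5 10774288 1235 6 10 = true := by
  decide +kernel

theorem ch_1_7_6_4 : enum 11 ck11 1 6 288528 211 5 4 = true := by
  refine enum_intro 11 ck11 1 5 288528 211 5 4 ?_
  intro v hv hb hd
  interval_cases v
  · exact absurd hb (by decide)
  · exact absurd hb (by decide)
  · exact ch_1_7_6_4_2
  · exact ch_1_7_6_4_3
  · exact absurd hb (by decide)
  · exact ch_1_7_6_4_5
  · exact absurd hb (by decide)
  · exact absurd hb (by decide)
  · exact ch_1_7_6_4_8
  · exact ch_1_7_6_4_9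
  · exact ch_1_7_6_4_10

set_option maxRecDepth 100000 in
theorem ch_1_7_6_5_2 : enum 11 ck11 1 5 2451216 231 6 2 = true := by
  decide +kernel

set_option maxRecDepth 100000 in
theorem ch_1_7_6_5_3 : enum 11 ck11 1 5 3499792 235 6 3 = true := by
  decide +kernel

set_option maxRecDepth 100000 in
theorem ch_1_7_6_5_4 : enum 11 ck11 1 5 4548368 243 6 4 = true := by
  decide +kernel

set_option maxRecDepth 100000 in
theorem ch_1_7_6_5_8 : enum 11 ck11 1 5 8742672 483 6 8 = true := by
  decide +kernel

set_option maxRecDepth 100000 in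
theorem ch_1_7_6_5_9 : enum 11 ck11 1 5 9791248 739 6 9 = true := by
  decide +kernel

set_option maxRecDepth 100000 in
theorem ch_1_7_6_5_10 : enum 11 ck11 1 5 10839824 1251 6 10 = true := by
  decide +kernel

theorem ch_1_7_6_5 : enum 11 ck11 1 6 354064 227 5 5 = true := by
  refine enum_intro 11 ck11 1 5 354064 227 5 5 ?_
  intro v hv hb hd
  interval_cases v
  · exact absurd hb (by decide)
  · exact absurd hb (by decide)
  · exact ch_1_7_6_5_2
  · exact ch_1_7_6_5_3
  · exact ch_1_7_6_5_4
  · exact absurd hb (by decide)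
  · exact absurd hb (by decide)
  · exact absurd hb (by decide)
  · exact ch_1_7_6_5_8
  · exact ch_1_7_6_5_9
  · exact ch_1_7_6_5_10

set_option maxRecDepth 100000 in
theorem ch_1_7_6_8_2 : enum 11 ck11 1 5 2647824 455 6 2 = true := by
  decide +kernel

set_option maxRecDepth 100000 in
theorem ch_1_7_6_8_3 : enum 11 ck11 1 5 3696400 459 6 3 = true := by
  decide +kernel

set_option maxRecDepth 100000 in
theorem ch_1_7_6_8_4 : enum 11 ck11 1 5 4744976 467 6 4 = true := by
  decide +kernel

set_option maxRecDepth 100000 in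
theorem ch_1_7_6_8_5 : enum 11 ck11 1 5 5793552 483 6 5 = true := by
  decide +kernel

set_option maxRecDepth 100000 in
theorem ch_1_7_6_8_9 : enum 11 ck11 1 5 9987856 963 6 9 = true := by
  decide +kernel

set_option maxRecDepth 100000 in
theorem ch_1_7_6_8_10 : enum 11 ck11 1 5 11036432 1475 6 10 = true := by
  decide +kernel

theorem ch_1_7_6_8 : enum 11 ck11 1 6 550672 451 5 8 = true := by
  refine enum_intro 11 ck11 1 5 550672 451 5 8 ?_
  intro v hv hb hd
  interval_cases v
  · exact absurd hb (by decide)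
  · exact absurd hb (by decide)
  · exact ch_1_7_6_8_2
  · exact ch_1_7_6_8_3
  · exact ch_1_7_6_8_4
  · exact ch_1_7_6_8_5
  · exact absurd hb (by decide)
  · exact absurd hb (by decide)
  · exact absurd hb (by decide)
  · exact ch_1_7_6_8_9
  · exact ch_1_7_6_8_10

set_option maxRecDepth 100000 in
theorem ch_1_7_6_9_2 : enum 11 ck11 1 5 2713360 711 6 2 = true := by
  decide +kernel

set_option maxRecDepth 100000 in
theorem ch_1_7_6_9_3 : enum 11 ck11 1 5 3761936 715 6 3 = true := by
  decide +kernel

set_option maxRecDepth 100000 in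
theorem ch_1_7_6_9_4 : enum 11 ck11 1 5 4810512 723 6 4 = true := by
  decide +kernel

set_option maxRecDepth 100000 in
theorem ch_1_7_6_9_5 : enum 11 ck11 1 5 5859088 739 6 5 = true := by
  decide +kernel

set_option maxRecDepth 100000 in
theorem ch_1_7_6_9_8 : enum 11 ck11 1 5 9004816 963 6 8 = true := by
  decide +kernel

set_option maxRecDepth 100000 in
theorem ch_1_7_6_9_10 : enum 11 ck11 1 5 11101968 1731 6 10 = true := by
  decide +kernel

theorem ch_1_7_6_9 : enum 11 ck11 1 6 616208 707 5 9 = true := by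
  refine enum_intro 11 ck11 1 5 616208 707 5 9 ?_
  intro v hv hb hd
  interval_cases v
  · exact absurd hb (by decide)
  · exact absurd hb (by decide)
  · exact ch_1_7_6_9_2
  · exact ch_1_7_6_9_3
  · exact ch_1_7_6_9_4
  · exact ch_1_7_6_9_5
  · exact absurd hb (by decide)
  · exact absurd hb (by decide)
  · exact ch_1_7_6_9_8
  · exact absurd hb (by decide)
  · exact ch_1_7_6_9_10

set_option maxRecDepth 100000 in
theorem ch_1_7_6_10_2 : enum 11 ck11 1 5 2778896 1223 6 2 = true := by
  decide +kernel

set_option maxRecDepth 100000 in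
theorem ch_1_7_6_10_3 : enum 11 ck11 1 5 3827472 1227 6 3 = true := by
  decide +kernel

set_option maxRecDepth 100000 in
theorem ch_1_7_6_10_4 : enum 11 ck11 1 5 4876048 1235 6 4 = true := by
  decide +kernel

set_option maxRecDepth 100000 in
theorem ch_1_7_6_10_5 : enum 11 ck11 1 5 5924624 1251 6 5 = true := by
  decide +kernel

set_option maxRecDepth 100000 in
theorem ch_1_7_6_10_8 : enum 11 ck11 1 5 9070352 1475 6 8 = true := by
  decide +kernel

set_option maxRecDepth 100000 in
theorem ch_1_7_6_10_9 : enum 11 ck11 1 5 10118928 1731 6 9 = true := by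
  decide +kernel

theorem ch_1_7_6_10 : enum 11 ck11 1 6 681744 1219 5 10 = true := by
  refine enum_intro 11 ck11 1 5 681744 1219 5 10 ?_
  intro v hv hb hd
  interval_cases v
  · exact absurd hb (by decide)
  · exact absurd hb (by decide)
  · exact ch_1_7_6_10_2
  · exact ch_1_7_6_10_3
  · exact ch_1_7_6_10_4
  · exact ch_1_7_6_10_5
  · exact absurd hb (by decide)
  · exact absurd hb (by decide)
  · exact ch_1_7_6_10_8
  · exact ch_1_7_6_10_9
  · exact absurd hb (by decide)

theorem ch_1_7_6 : enum 11 ck11 1 7 26384 195 4 6 = true := by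
  refine enum_intro 11 ck11 1 6 26384 195 4 6 ?_
  intro v hv hb hd
  interval_cases v
  · exact absurd hb (by decide)
  · exact absurd hb (by decide)
  · exact ch_1_7_6_2
  · exact ch_1_7_6_3
  · exact ch_1_7_6_4
  · exact ch_1_7_6_5
  · exact absurd hb (by decide)
  · exact absurd hb (by decide)
  · exact ch_1_7_6_8
  · exact ch_1_7_6_9
  · exact ch_1_7_6_10

set_option maxRecDepth 100000 in
theorem ch_1_7_8_2_3 : enum 11 ck11 1 5 3311376 399 6 3 = true := by
  decide +kernel

set_option maxRecDepth 100000 in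
theorem ch_1_7_8_2_4 : enum 11 ck11 1 5 4359952 407 6 4 = true := by
  decide +kernel

set_option maxRecDepth 100000 in
theorem ch_1_7_8_2_5 : enum 11 ck11 1 5 5408528 423 6 5 = true := by
  decide +kernel

set_option maxRecDepth 100000 in
theorem ch_1_7_8_2_6 : enum 11 ck11 1 5 6457104 455 6 6 = true := by
  decide +kernel

set_option maxRecDepth 100000 in
theorem ch_1_7_8_2_9 : enum 11 ck11 1 5 9602832 903 6 9 = true := by
  decide +kernel

set_option maxRecDepth 100000 in
theorem ch_1_7_8_2_10 : enum 11 ck11 1 5 10651408 1415 6 10 = true := by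
  decide +kernel

theorem ch_1_7_8_2 : enum 11 ck11 1 6 165648 391 5 2 = true := by
  refine enum_intro 11 ck11 1 5 165648 391 5 2 ?_
  intro v hv hb hd
  interval_cases v
  · exact absurd hb (by decide)
  · exact absurd hb (by decide)
  · exact absurd hb (by decide)
  · exact ch_1_7_8_2_3
  · exact ch_1_7_8_2_4
  · exact ch_1_7_8_2_5
  · exact ch_1_7_8_2_6
  · exact absurd hb (by decide)
  · exact absurd hb (by decide)
  · exact ch_1_7_8_2_9
  · exact ch_1_7_8_2_10

set_option maxRecDepth 100000 in
theorem ch_1_7_8_3_2 : enum 11 ck11 1 5 2328336 399 6 2 = true := by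
  decide +kernel

set_option maxRecDepth 100000 in
theorem ch_1_7_8_3_4 : enum 11 ck11 1 5 4425488 411 6 4 = true := by
  decide +kernel

set_option maxRecDepth 100000 in
theorem ch_1_7_8_3_5 : enum 11 ck11 1 5 5474064 427 6 5 = true := by
  decide +kernel

set_option maxRecDepth 100000 in
theorem ch_1_7_8_3_6 : enum 11 ck11 1 5 6522640 459 6 6 = true := by
  decide +kernel

set_option maxRecDepth 100000 in
theorem ch_1_7_8_3_9 : enum 11 ck11 1 5 9668368 907 6 9 = true := by
  decide +kernel

set_option maxRecDepth 100000 in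
theorem ch_1_7_8_3_10 : enum 11 ck11 1 5 10716944 1419 6 10 = true := by
  decide +kernel

theorem ch_1_7_8_3 : enum 11 ck11 1 6 231184 395 5 3 = true := by
  refine enum_intro 11 ck11 1 5 231184 395 5 3 ?_
  intro v hv hb hd
  interval_cases v
  · exact absurd hb (by decide)
  · exact absurd hb (by decide)
  · exact ch_1_7_8_3_2
  · exact absurd hb (by decide)
  · exact ch_1_7_8_3_4
  · exact ch_1_7_8_3_5
  · exact ch_1_7_8_3_6
  · exact absurd hb (by decide)
  · exact absurd hb (by decide)
  · exact ch_1_7_8_3_9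
  · exact ch_1_7_8_3_10

set_option maxRecDepth 100000 in
theorem ch_1_7_8_4_2 : enum 11 ck11 1 5 2393872 407 6 2 = true := by
  decide +kernel

set_option maxRecDepth 100000 in
theorem ch_1_7_8_4_3 : enum 11 ck11 1 5 3442448 411 6 3 = true := by
  decide +kernel

set_option maxRecDepth 100000 in
theorem ch_1_7_8_4_5 : enum 11 ck11 1 5 5539600 435 6 5 = true := by
  decide +kernel

set_option maxRecDepth 100000 in
theorem ch_1_7_8_4_6 : enum 11 ck11 1 5 6588176 467 6 6 = true := by
  decide +kernel

set_option maxRecDepth 100000 in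
theorem ch_1_7_8_4_9 : enum 11 ck11 1 5 9733904 915 6 9 = true := by
  decide +kernel

set_option maxRecDepth 100000 in
theorem ch_1_7_8_4_10 : enum 11 ck11 1 5 10782480 1427 6 10 = true := by
  decide +kernel

theorem ch_1_7_8_4 : enum 11 ck11 1 6 296720 403 5 4 = true := by
  refine enum_intro 11 ck11 1 5 296720 403 5 4 ?_
  intro v hv hb hd
  interval_cases v
  · exact absurd hb (by decide)
  · exact absurd hb (by decide)
  · exact ch_1_7_8_4_2
  · exact ch_1_7_8_4_3
  · exact absurd hb (by decide)
  · exact ch_1_7_8_4_5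
  · exact ch_1_7_8_4_6
  · exact absurd hb (by decide)
  · exact absurd hb (by decide)
  · exact ch_1_7_8_4_9
  · exact ch_1_7_8_4_10

set_option maxRecDepth 100000 in
theorem ch_1_7_8_5_2 : enum 11 ck11 1 5 2459408 423 6 2 = true := by
  decide +kernel

set_option maxRecDepth 100000 in
theorem ch_1_7_8_5_3 : enum 11 ck11 1 5 3507984 427 6 3 = true := by
  decide +kernel

set_option maxRecDepth 100000 in
theorem ch_1_7_8_5_4 : enum 11 ck11 1 5 4556560 435 6 4 = true := by
  decide +kernel

set_option maxRecDepth 100000 in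
theorem ch_1_7_8_5_6 : enum 11 ck11 1 5 6653712 483 6 6 = true := by
  decide +kernel

set_option maxRecDepth 100000 in
theorem ch_1_7_8_5_9 : enum 11 ck11 1 5 9799440 931 6 9 = true := by
  decide +kernel

set_option maxRecDepth 100000 in
theorem ch_1_7_8_5_10 : enum 11 ck11 1 5 10848016 1443 6 10 = true := by
  decide +kernel

theorem ch_1_7_8_5 : enum 11 ck11 1 6 362256 419 5 5 = true := by
  refine enum_intro 11 ck11 1 5 362256 419 5 5 ?_
  intro v hv hb hd
  interval_cases v
  · exact absurd hb (by decide)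
  · exact absurd hb (by decide)
  · exact ch_1_7_8_5_2
  · exact ch_1_7_8_5_3
  · exact ch_1_7_8_5_4
  · exact absurd hb (by decide)
  · exact ch_1_7_8_5_6
  · exact absurd hb (by decide)
  · exact absurd hb (by decide)
  · exact ch_1_7_8_5_9
  · exact ch_1_7_8_5_10

set_option maxRecDepth 100000 in
theorem ch_1_7_8_6_2 : enum 11 ck11 1 5 2524944 455 6 2 = true := by
  decide +kernel

set_option maxRecDepth 100000 in
theorem ch_1_7_8_6_3 : enum 11 ck11 1 5 3573520 459 6 3 = true := by
  decide +kernel

set_option maxRecDepth 100000 in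
theorem ch_1_7_8_6_4 : enum 11 ck11 1 5 4622096 467 6 4 = true := by
  decide +kernel

set_option maxRecDepth 100000 in
theorem ch_1_7_8_6_5 : enum 11 ck11 1 5 5670672 483 6 5 = true := by
  decide +kernel

set_option maxRecDepth 100000 in
theorem ch_1_7_8_6_9 : enum 11 ck11 1 5 9864976 963 6 9 = true := by
  decide +kernel

set_option maxRecDepth 100000 in
theorem ch_1_7_8_6_10 : enum 11 ck11 1 5 10913552 1475 6 10 = true := by
  decide +kernel

theorem ch_1_7_8_6 : enum 11 ck11 1 6 427792 451 5 6 = true := by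
  refine enum_intro 11 ck11 1 5 427792 451 5 6 ?_
  intro v hv hb hd
  interval_cases v
  · exact absurd hb (by decide)
  · exact absurd hb (by decide)
  · exact ch_1_7_8_6_2
  · exact ch_1_7_8_6_3
  · exact ch_1_7_8_6_4
  · exact ch_1_7_8_6_5
  · exact absurd hb (by decide)
  · exact absurd hb (by decide)
  · exact absurd hb (by decide)
  · exact ch_1_7_8_6_9
  · exact ch_1_7_8_6_10

set_option maxRecDepth 100000 in
theorem ch_1_7_8_9_2 : enum 11 ck11 1 5 2721552 903 6 2 = true := by
  decide +kernel

set_option maxRecDepth 100000 in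
theorem ch_1_7_8_9_3 : enum 11 ck11 1 5 3770128 907 6 3 = true := by
  decide +kernel

set_option maxRecDepth 100000 in
theorem ch_1_7_8_9_4 : enum 11 ck11 1 5 4818704 915 6 4 = true := by
  decide +kernel

set_option maxRecDepth 100000 in
theorem ch_1_7_8_9_5 : enum 11 ck11 1 5 5867280 931 6 5 = true := by
  decide +kernel

set_option maxRecDepth 100000 in
theorem ch_1_7_8_9_6 : enum 11 ck11 1 5 6915856 963 6 6 = true := by
  decide +kernel

set_option maxRecDepth 100000 in
theorem ch_1_7_8_9_10 : enum 11 ck11 1 5 11110160 1923 6 10 = true := by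
  decide +kernel

theorem ch_1_7_8_9 : enum 11 ck11 1 6 624400 899 5 9 = true := by
  refine enum_intro 11 ck11 1 5 624400 899 5 9 ?_
  intro v hv hb hd
  interval_cases v
  · exact absurd hb (by decide)
  · exact absurd hb (by decide)
  · exact ch_1_7_8_9_2
  · exact ch_1_7_8_9_3
  · exact ch_1_7_8_9_4
  · exact ch_1_7_8_9_5
  · exact ch_1_7_8_9_6
  · exact absurd hb (by decide)
  · exact absurd hb (by decide)
  · exact absurd hb (by decide)
  · exact ch_1_7_8_9_10

set_option maxRecDepth 100000 in
theorem ch_1_7_8_10_2 : enum 11 ck11 1 5 2787088 1415 6 2 = true := by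
  decide +kernel

set_option maxRecDepth 100000 in
theorem ch_1_7_8_10_3 : enum 11 ck11 1 5 3835664 1419 6 3 = true := by
  decide +kernel

set_option maxRecDepth 100000 in
theorem ch_1_7_8_10_4 : enum 11 ck11 1 5 4884240 1427 6 4 = true := by
  decide +kernel

set_option maxRecDepth 100000 in
theorem ch_1_7_8_10_5 : enum 11 ck11 1 5 5932816 1443 6 5 = true := by
  decide +kernel

set_option maxRecDepth 100000 in
theorem ch_1_7_8_10_6 : enum 11 ck11 1 5 6981392 1475 6 6 = true := by
  decide +kernel

set_option maxRecDepth 100000 in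
theorem ch_1_7_8_10_9 : enum 11 ck11 1 5 10127120 1923 6 9 = true := by
  decide +kernel

theorem ch_1_7_8_10 : enum 11 ck11 1 6 689936 1411 5 10 = true := by
  refine enum_intro 11 ck11 1 5 689936 1411 5 10 ?_
  intro v hv hb hd
  interval_cases v
  · exact absurd hb (by decide)
  · exact absurd hb (by decide)
  · exact ch_1_7_8_10_2
  · exact ch_1_7_8_10_3
  · exact ch_1_7_8_10_4
  · exact ch_1_7_8_10_5
  · exact ch_1_7_8_10_6
  · exact absurd hb (by decide)
  · exact absurd hb (by decide)
  · exact ch_1_7_8_10_9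
  · exact absurd hb (by decide)

theorem ch_1_7_8 : enum 11 ck11 1 7 34576 387 4 8 = true := by
  refine enum_intro 11 ck11 1 6 34576 387 4 8 ?_
  intro v hv hb hd
  interval_cases v
  · exact absurd hb (by decide)
  · exact absurd hb (by decide)
  · exact ch_1_7_8_2
  · exact ch_1_7_8_3
  · exact ch_1_7_8_4
  · exact ch_1_7_8_5
  · exact ch_1_7_8_6
  · exact absurd hb (by decide)
  · exact absurd hb (by decide)
  · exact ch_1_7_8_9
  · exact ch_1_7_8_10

end Cfsg.Agent.Helper9.T11
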