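import Mathlib
import Cfsg.Agent.Helper9.T11.Chk

set_option autoImplicit false
set_option Elab.async false

/-!
A part of the enumeration on 11 points: the test holds at every permutation of the part.
-/

namespace Cfsg.Agent.Helper9.T11

set_option maxRecDepth 100000 in
theorem ch_1_7_9_2_3 : enum 11 ck11 1 5 3315472 655 6 3 = true := by
  decide +kernel

set_option maxRecDepth 100000 in
theorem ch_1_7_9_2_4 : enum 11 ck11 1 5 4364048 663 6 4 = true := by
  decide +kernel

set_option maxRecDepth 100000 in
theorem ch_1_7_9_2_5 : enum 11 ck11 1 5 5412624 679 6 5 = true := by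
  decide +kernel

set_option maxRecDepth 100000 in
theorem ch_1_7_9_2_6 : enum 11 ck11 1 5 6461200 711 6 6 = true := by
  decide +kernel

set_option maxRecDepth 100000 in
theorem ch_1_7_9_2_8 : enum 11 ck11 1 5 8558352 903 6 8 = true := by
  decide +kernel

set_option maxRecDepth 100000 in
theorem ch_1_7_9_2_10 : enum 11 ck11 1 5 10655504 1671 6 10 = true := by
  decide +kernel

theorem ch_1_7_9_2 : enum 11 ck11 1 6 169744 647 5 2 = true := by
  refine enum_intro 11 ck11 1 5 169744 647 5 2 ?_
  intro v hv hb hd
  interval_cases v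
  · exact absurd hb (by decide)
  · exact absurd hb (by decide)
  · exact absurd hb (by decide)
  · exact ch_1_7_9_2_3
  · exact ch_1_7_9_2_4
  · exact ch_1_7_9_2_5
  · exact ch_1_7_9_2_6
  · exact absurd hb (by decide)
  · exact ch_1_7_9_2_8
  · exact absurd hb (by decide)
  · exact ch_1_7_9_2_10

set_option maxRecDepth 100000 in
theorem ch_1_7_9_3_2 : enum 11 ck11 1 5 2332432 655 6 2 = true := by
  decide +kernel

set_option maxRecDepth 100000 in
theorem ch_1_7_9_3_4 : enum 11 ck11 1 5 4429584 667 6 4 = true := by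
  decide +kernel

set_option maxRecDepth 100000 in
theorem ch_1_7_9_3_5 : enum 11 ck11 1 5 5478160 683 6 5 = true := by
  decide +kernel

set_option maxRecDepth 100000 in
theorem ch_1_7_9_3_6 : enum 11 ck11 1 5 6526736 715 6 6 = true := by
  decide +kernel

set_option maxRecDepth 100000 in
theorem ch_1_7_9_3_8 : enum 11 ck11 1 5 8623888 907 6 8 = true := by
  decide +kernel

set_option maxRecDepth 100000 in
theorem ch_1_7_9_3_10 : enum 11 ck11 1 5 10721040 1675 6 10 = true := by
  decide +kernel

theorem ch_1_7_9_3 : enum 11 ck11 1 6 235280 651 5 3 = true := by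
  refine enum_intro 11 ck11 1 5 235280 651 5 3 ?_
  intro v hv hb hd
  interval_cases v
  · exact absurd hb (by decide)
  · exact absurd hb (by decide)
  · exact ch_1_7_9_3_2
  · exact absurd hb (by decide)
  · exact ch_1_7_9_3_4
  · exact ch_1_7_9_3_5
  · exact ch_1_7_9_3_6
  · exact absurd hb (by decide)
  · exact ch_1_7_9_3_8
  · exact absurd hb (by decide)
  · exact ch_1_7_9_3_10

set_option maxRecDepth 100000 in
theorem ch_1_7_9_4_2 : enum 11 ck11 1 5 2397968 663 6 2 = true := by
  decide +kernel

set_option maxRecDepth 100000 in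
theorem ch_1_7_9_4_3 : enum 11 ck11 1 5 3446544 667 6 3 = true := by
  decide +kernel

set_option maxRecDepth 100000 in
theorem ch_1_7_9_4_5 : enum 11 ck11 1 5 5543696 691 6 5 = true := by
  decide +kernel

set_option maxRecDepth 100000 in
theorem ch_1_7_9_4_6 : enum 11 ck11 1 5 6592272 723 6 6 = true := by
  decide +kernel

set_option maxRecDepth 100000 in
theorem ch_1_7_9_4_8 : enum 11 ck11 1 5 8689424 915 6 8 = true := by
  decide +kernel

set_option maxRecDepth 100000 in
theorem ch_1_7_9_4_10 : enum 11 ck11 1 5 10786576 1683 6 10 = true := by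
  decide +kernel

theorem ch_1_7_9_4 : enum 11 ck11 1 6 300816 659 5 4 = true := by
  refine enum_intro 11 ck11 1 5 300816 659 5 4 ?_
  intro v hv hb hd
  interval_cases v
  · exact absurd hb (by decide)
  · exact absurd hb (by decide)
  · exact ch_1_7_9_4_2
  · exact ch_1_7_9_4_3
  · exact absurd hb (by decide)
  · exact ch_1_7_9_4_5
  · exact ch_1_7_9_4_6
  · exact absurd hb (by decide)
  · exact ch_1_7_9_4_8
  · exact absurd hb (by decide)
  · exact ch_1_7_9_4_10

set_option maxRecDepth 100000 in
theorem ch_1_7_9_5_2 : enum 11 ck11 1 5 2463504 679 6 2 = true := by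
  decide +kernel

set_option maxRecDepth 100000 in
theorem ch_1_7_9_5_3 : enum 11 ck11 1 5 3512080 683 6 3 = true := by
  decide +kernel

set_option maxRecDepth 100000 in
theorem ch_1_7_9_5_4 : enum 11 ck11 1 5 4560656 691 6 4 = true := by
  decide +kernel

set_option maxRecDepth 100000 in
theorem ch_1_7_9_5_6 : enum 11 ck11 1 5 6657808 739 6 6 = true := by
  decide +kernel

set_option maxRecDepth 100000 in
theorem ch_1_7_9_5_8 : enum 11 ck11 1 5 8754960 931 6 8 = true := by
  decide +kernel

set_option maxRecDepth 100000 in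
theorem ch_1_7_9_5_10 : enum 11 ck11 1 5 10852112 1699 6 10 = true := by
  decide +kernel

theorem ch_1_7_9_5 : enum 11 ck11 1 6 366352 675 5 5 = true := by
  refine enum_intro 11 ck11 1 5 366352 675 5 5 ?_
  intro v hv hb hd
  interval_cases v
  · exact absurd hb (by decide)
  · exact absurd hb (by decide)
  · exact ch_1_7_9_5_2
  · exact ch_1_7_9_5_3
  · exact ch_1_7_9_5_4
  · exact absurd hb (by decide)
  · exact ch_1_7_9_5_6
  · exact absurd hb (by decide)
  · exact ch_1_7_9_5_8
  · exact absurd hb (by decide)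
  · exact ch_1_7_9_5_10

set_option maxRecDepth 100000 in
theorem ch_1_7_9_6_2 : enum 11 ck11 1 5 2529040 711 6 2 = true := by
  decide +kernel

set_option maxRecDepth 100000 in
theorem ch_1_7_9_6_3 : enum 11 ck11 1 5 3577616 715 6 3 = true := by
  decide +kernel

set_option maxRecDepth 100000 in
theorem ch_1_7_9_6_4 : enum 11 ck11 1 5 4626192 723 6 4 = true := by
  decide +kernel

set_option maxRecDepth 100000 in
theorem ch_1_7_9_6_5 : enum 11 ck11 1 5 5674768 739 6 5 = true := by
  decide +kernel

set_option maxRecDepth 100000 in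
theorem ch_1_7_9_6_8 : enum 11 ck11 1 5 8820496 963 6 8 = true := by
  decide +kernel

set_option maxRecDepth 100000 in
theorem ch_1_7_9_6_10 : enum 11 ck11 1 5 10917648 1731 6 10 = true := by
  decide +kernel

theorem ch_1_7_9_6 : enum 11 ck11 1 6 431888 707 5 6 = true := by
  refine enum_intro 11 ck11 1 5 431888 707 5 6 ?_
  intro v hv hb hd
  interval_cases v
  · exact absurd hb (by decide)
  · exact absurd hb (by decide)
  · exact ch_1_7_9_6_2
  · exact ch_1_7_9_6_3
  · exact ch_1_7_9_6_4
  · exact ch_1_7_9_6_5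
  · exact absurd hb (by decide)
  · exact absurd hb (by decide)
  · exact ch_1_7_9_6_8
  · exact absurd hb (by decide)
  · exact ch_1_7_9_6_10

set_option maxRecDepth 100000 in
theorem ch_1_7_9_8_2 : enum 11 ck11 1 5 2660112 903 6 2 = true := by
  decide +kernel

set_option maxRecDepth 100000 in
theorem ch_1_7_9_8_3 : enum 11 ck11 1 5 3708688 907 6 3 = true := by
  decide +kernel

set_option maxRecDepth 100000 in
theorem ch_1_7_9_8_4 : enum 11 ck11 1 5 4757264 915 6 4 = true := by
  decide +kernel

set_option maxRecDepth 100000 in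
theorem ch_1_7_9_8_5 : enum 11 ck11 1 5 5805840 931 6 5 = true := by
  decide +kernel

set_option maxRecDepth 100000 in
theorem ch_1_7_9_8_6 : enum 11 ck11 1 5 6854416 963 6 6 = true := by
  decide +kernel

set_option maxRecDepth 100000 in
theorem ch_1_7_9_8_10 : enum 11 ck11 1 5 11048720 1923 6 10 = true := by
  decide +kernel

theorem ch_1_7_9_8 : enum 11 ck11 1 6 562960 899 5 8 = true := by
  refine enum_intro 11 ck11 1 5 562960 899 5 8 ?_
  intro v hv hb hd
  interval_cases v
  · exact absurd hb (by decide)
  · exact absurd hb (by decide)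
  · exact ch_1_7_9_8_2
  · exact ch_1_7_9_8_3
  · exact ch_1_7_9_8_4
  · exact ch_1_7_9_8_5
  · exact ch_1_7_9_8_6
  · exact absurd hb (by decide)
  · exact absurd hb (by decide)
  · exact absurd hb (by decide)
  · exact ch_1_7_9_8_10

set_option maxRecDepth 100000 in
theorem ch_1_7_9_10_2 : enum 11 ck11 1 5 2791184 1671 6 2 = true := by
  decide +kernel

set_option maxRecDepth 100000 in
theorem ch_1_7_9_10_3 : enum 11 ck11 1 5 3839760 1675 6 3 = true := by
  decide +kernel

set_option maxRecDepth 100000 in
theorem ch_1_7_9_10_4 : enum 11 ck11 1 5 4888336 1683 6 4 = true := by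
  decide +kernel

set_option maxRecDepth 100000 in
theorem ch_1_7_9_10_5 : enum 11 ck11 1 5 5936912 1699 6 5 = true := by
  decide +kernel

set_option maxRecDepth 100000 in
theorem ch_1_7_9_10_6 : enum 11 ck11 1 5 6985488 1731 6 6 = true := by
  decide +kernel

set_option maxRecDepth 100000 in
theorem ch_1_7_9_10_8 : enum 11 ck11 1 5 9082640 1923 6 8 = true := by
  decide +kernel

theorem ch_1_7_9_10 : enum 11 ck11 1 6 694032 1667 5 10 = true := by
  refine enum_intro 11 ck11 1 5 694032 1667 5 10 ?_
  intro v hv hb hd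
  interval_cases v
  · exact absurd hb (by decide)
  · exact absurd hb (by decide)
  · exact ch_1_7_9_10_2
  · exact ch_1_7_9_10_3
  · exact ch_1_7_9_10_4
  · exact ch_1_7_9_10_5
  · exact ch_1_7_9_10_6
  · exact absurd hb (by decide)
  · exact ch_1_7_9_10_8
  · exact absurd hb (by decide)
  · exact absurd hb (by decide)

theorem ch_1_7_9 : enum 11 ck11 1 7 38672 643 4 9 = true := by
  refine enum_intro 11 ck11 1 6 38672 643 4 9 ?_
  intro v hv hb hd
  interval_cases v
  · exact absurd hb (by decide)
  · exact absurd hb (by decide)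
  · exact ch_1_7_9_2
  · exact ch_1_7_9_3
  · exact ch_1_7_9_4
  · exact ch_1_7_9_5
  · exact ch_1_7_9_6
  · exact absurd hb (by decide)
  · exact ch_1_7_9_8
  · exact absurd hb (by decide)
  · exact ch_1_7_9_10

set_option maxRecDepth 100000 in
theorem ch_1_7_10_2_3 : enum 11 ck11 1 5 3319568 1167 6 3 = true := by
  decide +kernel

set_option maxRecDepth 100000 in
theorem ch_1_7_10_2_4 : enum 11 ck11 1 5 4368144 1175 6 4 = true := by
  decide +kernel

set_option maxRecDepth 100000 in
theorem ch_1_7_10_2_5 : enum 11 ck11 1 5 5416720 1191 6 5 = true := by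
  decide +kernel

set_option maxRecDepth 100000 in
theorem ch_1_7_10_2_6 : enum 11 ck11 1 5 6465296 1223 6 6 = true := by
  decide +kernel

set_option maxRecDepth 100000 in
theorem ch_1_7_10_2_8 : enum 11 ck11 1 5 8562448 1415 6 8 = true := by
  decide +kernel

set_option maxRecDepth 100000 in
theorem ch_1_7_10_2_9 : enum 11 ck11 1 5 9611024 1671 6 9 = true := by
  decide +kernel

theorem ch_1_7_10_2 : enum 11 ck11 1 6 173840 1159 5 2 = true := by
  refine enum_intro 11 ck11 1 5 173840 1159 5 2 ?_
  intro v hv hb hd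
  interval_cases v
  · exact absurd hb (by decide)
  · exact absurd hb (by decide)
  · exact absurd hb (by decide)
  · exact ch_1_7_10_2_3
  · exact ch_1_7_10_2_4
  · exact ch_1_7_10_2_5
  · exact ch_1_7_10_2_6
  · exact absurd hb (by decide)
  · exact ch_1_7_10_2_8
  · exact ch_1_7_10_2_9
  · exact absurd hb (by decide)

set_option maxRecDepth 100000 in
theorem ch_1_7_10_3_2 : enum 11 ck11 1 5 2336528 1167 6 2 = true := by
  decide +kernel

set_option maxRecDepth 100000 in
theorem ch_1_7_10_3_4 : enum 11 ck11 1 5 4433680 1179 6 4 = true := by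
  decide +kernel

set_option maxRecDepth 100000 in
theorem ch_1_7_10_3_5 : enum 11 ck11 1 5 5482256 1195 6 5 = true := by
  decide +kernel

set_option maxRecDepth 100000 in
theorem ch_1_7_10_3_6 : enum 11 ck11 1 5 6530832 1227 6 6 = true := by
  decide +kernel

set_option maxRecDepth 100000 in
theorem ch_1_7_10_3_8 : enum 11 ck11 1 5 8627984 1419 6 8 = true := by
  decide +kernel

set_option maxRecDepth 100000 in
theorem ch_1_7_10_3_9 : enum 11 ck11 1 5 9676560 1675 6 9 = true := by
  decide +kernel

theorem ch_1_7_10_3 : enum 11 ck11 1 6 239376 1163 5 3 = true := by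
  refine enum_intro 11 ck11 1 5 239376 1163 5 3 ?_
  intro v hv hb hd
  interval_cases v
  · exact absurd hb (by decide)
  · exact absurd hb (by decide)
  · exact ch_1_7_10_3_2
  · exact absurd hb (by decide)
  · exact ch_1_7_10_3_4
  · exact ch_1_7_10_3_5
  · exact ch_1_7_10_3_6
  · exact absurd hb (by decide)
  · exact ch_1_7_10_3_8
  · exact ch_1_7_10_3_9
  · exact absurd hb (by decide)

set_option maxRecDepth 100000 in
theorem ch_1_7_10_4_2 : enum 11 ck11 1 5 2402064 1175 6 2 = true := by
  decide +kernel

set_option maxRecDepth 100000 in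
theorem ch_1_7_10_4_3 : enum 11 ck11 1 5 3450640 1179 6 3 = true := by
  decide +kernel

set_option maxRecDepth 100000 in
theorem ch_1_7_10_4_5 : enum 11 ck11 1 5 5547792 1203 6 5 = true := by
  decide +kernel

set_option maxRecDepth 100000 in
theorem ch_1_7_10_4_6 : enum 11 ck11 1 5 6596368 1235 6 6 = true := by
  decide +kernel

set_option maxRecDepth 100000 in
theorem ch_1_7_10_4_8 : enum 11 ck11 1 5 8693520 1427 6 8 = true := by
  decide +kernel

set_option maxRecDepth 100000 in
theorem ch_1_7_10_4_9 : enum 11 ck11 1 5 9742096 1683 6 9 = true := by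
  decide +kernel

theorem ch_1_7_10_4 : enum 11 ck11 1 6 304912 1171 5 4 = true := by
  refine enum_intro 11 ck11 1 5 304912 1171 5 4 ?_
  intro v hv hb hd
  interval_cases v
  · exact absurd hb (by decide)
  · exact absurd hb (by decide)
  · exact ch_1_7_10_4_2
  · exact ch_1_7_10_4_3
  · exact absurd hb (by decide)
  · exact ch_1_7_10_4_5
  · exact ch_1_7_10_4_6
  · exact absurd hb (by decide)
  · exact ch_1_7_10_4_8
  · exact ch_1_7_10_4_9
  · exact absurd hb (by decide)

set_option maxRecDepth 100000 in
theorem ch_1_7_10_5_2 : enum 11 ck11 1 5 2467600 1191 6 2 = true := by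
  decide +kernel

set_option maxRecDepth 100000 in
theorem ch_1_7_10_5_3 : enum 11 ck11 1 5 3516176 1195 6 3 = true := by
  decide +kernel

set_option maxRecDepth 100000 in
theorem ch_1_7_10_5_4 : enum 11 ck11 1 5 4564752 1203 6 4 = true := by
  decide +kernel

set_option maxRecDepth 100000 in
theorem ch_1_7_10_5_6 : enum 11 ck11 1 5 6661904 1251 6 6 = true := by
  decide +kernel

set_option maxRecDepth 100000 in
theorem ch_1_7_10_5_8 : enum 11 ck11 1 5 8759056 1443 6 8 = true := by
  decide +kernel

set_option maxRecDepth 100000 in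
theorem ch_1_7_10_5_9 : enum 11 ck11 1 5 9807632 1699 6 9 = true := by
  decide +kernel

theorem ch_1_7_10_5 : enum 11 ck11 1 6 370448 1187 5 5 = true := by
  refine enum_intro 11 ck11 1 5 370448 1187 5 5 ?_
  intro v hv hb hd
  interval_cases v
  · exact absurd hb (by decide)
  · exact absurd hb (by decide)
  · exact ch_1_7_10_5_2
  · exact ch_1_7_10_5_3
  · exact ch_1_7_10_5_4
  · exact absurd hb (by decide)
  · exact ch_1_7_10_5_6
  · exact absurd hb (by decide)
  · exact ch_1_7_10_5_8
  · exact ch_1_7_10_5_9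
  · exact absurd hb (by decide)

set_option maxRecDepth 100000 in
theorem ch_1_7_10_6_2 : enum 11 ck11 1 5 2533136 1223 6 2 = true := by
  decide +kernel

set_option maxRecDepth 100000 in
theorem ch_1_7_10_6_3 : enum 11 ck11 1 5 3581712 1227 6 3 = true := by
  decide +kernel

set_option maxRecDepth 100000 in
theorem ch_1_7_10_6_4 : enum 11 ck11 1 5 4630288 1235 6 4 = true := by
  decide +kernel

set_option maxRecDepth 100000 in
theorem ch_1_7_10_6_5 : enum 11 ck11 1 5 5678864 1251 6 5 = true := by
  decide +kernel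

set_option maxRecDepth 100000 in
theorem ch_1_7_10_6_8 : enum 11 ck11 1 5 8824592 1475 6 8 = true := by
  decide +kernel

set_option maxRecDepth 100000 in
theorem ch_1_7_10_6_9 : enum 11 ck11 1 5 9873168 1731 6 9 = true := by
  decide +kernel

theorem ch_1_7_10_6 : enum 11 ck11 1 6 435984 1219 5 6 = true := by
  refine enum_intro 11 ck11 1 5 435984 1219 5 6 ?_
  intro v hv hb hd
  interval_cases v
  · exact absurd hb (by decide)
  · exact absurd hb (by decide)
  · exact ch_1_7_10_6_2
  · exact ch_1_7_10_6_3
  · exact ch_1_7_10_6_4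
  · exact ch_1_7_10_6_5
  · exact absurd hb (by decide)
  · exact absurd hb (by decide)
  · exact ch_1_7_10_6_8
  · exact ch_1_7_10_6_9
  · exact absurd hb (by decide)

set_option maxRecDepth 100000 in
theorem ch_1_7_10_8_2 : enum 11 ck11 1 5 2664208 1415 6 2 = true := by
  decide +kernel

set_option maxRecDepth 100000 in
theorem ch_1_7_10_8_3 : enum 11 ck11 1 5 3712784 1419 6 3 = true := by
  decide +kernel

set_option maxRecDepth 100000 in
theorem ch_1_7_10_8_4 : enum 11 ck11 1 5 4761360 1427 6 4 = true := by
  decide +kernel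

set_option maxRecDepth 100000 in
theorem ch_1_7_10_8_5 : enum 11 ck11 1 5 5809936 1443 6 5 = true := by
  decide +kernel

set_option maxRecDepth 100000 in
theorem ch_1_7_10_8_6 : enum 11 ck11 1 5 6858512 1475 6 6 = true := by
  decide +kernel

set_option maxRecDepth 100000 in
theorem ch_1_7_10_8_9 : enum 11 ck11 1 5 10004240 1923 6 9 = true := by
  decide +kernel

theorem ch_1_7_10_8 : enum 11 ck11 1 6 567056 1411 5 8 = true := by
  refine enum_intro 11 ck11 1 5 567056 1411 5 8 ?_
  intro v hv hb hd
  interval_cases v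
  · exact absurd hb (by decide)
  · exact absurd hb (by decide)
  · exact ch_1_7_10_8_2
  · exact ch_1_7_10_8_3
  · exact ch_1_7_10_8_4
  · exact ch_1_7_10_8_5
  · exact ch_1_7_10_8_6
  · exact absurd hb (by decide)
  · exact absurd hb (by decide)
  · exact ch_1_7_10_8_9
  · exact absurd hb (by decide)

set_option maxRecDepth 100000 in
theorem ch_1_7_10_9_2 : enum 11 ck11 1 5 2729744 1671 6 2 = true := by
  decide +kernel

set_option maxRecDepth 100000 in
theorem ch_1_7_10_9_3 : enum 11 ck11 1 5 3778320 1675 6 3 = true := by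
  decide +kernel

set_option maxRecDepth 100000 in
theorem ch_1_7_10_9_4 : enum 11 ck11 1 5 4826896 1683 6 4 = true := by
  decide +kernel

set_option maxRecDepth 100000 in
theorem ch_1_7_10_9_5 : enum 11 ck11 1 5 5875472 1699 6 5 = true := by
  decide +kernel

set_option maxRecDepth 100000 in
theorem ch_1_7_10_9_6 : enum 11 ck11 1 5 6924048 1731 6 6 = true := by
  decide +kernel

set_option maxRecDepth 100000 in
theorem ch_1_7_10_9_8 : enum 11 ck11 1 5 9021200 1923 6 8 = true := by
  decide +kernel

theorem ch_1_7_10_9 : enum 11 ck11 1 6 632592 1667 5 9 = true := by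
  refine enum_intro 11 ck11 1 5 632592 1667 5 9 ?_
  intro v hv hb hd
  interval_cases v
  · exact absurd hb (by decide)
  · exact absurd hb (by decide)
  · exact ch_1_7_10_9_2
  · exact ch_1_7_10_9_3
  · exact ch_1_7_10_9_4
  · exact ch_1_7_10_9_5
  · exact ch_1_7_10_9_6
  · exact absurd hb (by decide)
  · exact ch_1_7_10_9_8
  · exact absurd hb (by decide)
  · exact absurd hb (by decide)

theorem ch_1_7_10 : enum 11 ck11 1 7 42768 1155 4 10 = true := by
  refine enum_intro 11 ck11 1 6 42768 1155 4 10 ?_
  intro v hv hb hd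
  interval_cases v
  · exact absurd hb (by decide)
  · exact absurd hb (by decide)
  · exact ch_1_7_10_2
  · exact ch_1_7_10_3
  · exact ch_1_7_10_4
  · exact ch_1_7_10_5
  · exact ch_1_7_10_6
  · exact absurd hb (by decide)
  · exact ch_1_7_10_8
  · exact ch_1_7_10_9
  · exact absurd hb (by decide)

end Cfsg.Agent.Helper9.T11
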