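import Mathlib
import Cfsg.Agent.Helper9.T11.Chk

set_option autoImplicit false
set_option Elab.async false

/-!
A part of the enumeration on 11 points: the test holds at every permutation of the part.
-/

namespace Cfsg.Agent.Helper9.T11

set_option maxRecDepth 100000 in
theorem ch_1_8_2_3_4 : enum 11 ck11 1 5 4401168 287 6 4 = true := by
  decide +kernel

set_option maxRecDepth 100000 in
theorem ch_1_8_2_3_5 : enum 11 ck11 1 5 5449744 303 6 5 = true := by
  decide +kernel

set_option maxRecDepth 100000 in
theorem ch_1_8_2_3_6 : enum 11 ck11 1 5 6498320 335 6 6 = true := by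
  decide +kernel

set_option maxRecDepth 100000 in
theorem ch_1_8_2_3_7 : enum 11 ck11 1 5 7546896 399 6 7 = true := by
  decide +kernel

set_option maxRecDepth 100000 in
theorem ch_1_8_2_3_9 : enum 11 ck11 1 5 9644048 783 6 9 = true := by
  decide +kernel

set_option maxRecDepth 100000 in
theorem ch_1_8_2_3_10 : enum 11 ck11 1 5 10692624 1295 6 10 = true := by
  decide +kernel

theorem ch_1_8_2_3 : enum 11 ck11 1 6 206864 271 5 3 = true := by
  refine enum_intro 11 ck11 1 5 206864 271 5 3 ?_
  intro v hv hb hd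
  interval_cases v
  · exact absurd hb (by decide)
  · exact absurd hb (by decide)
  · exact absurd hb (by decide)
  · exact absurd hb (by decide)
  · exact ch_1_8_2_3_4
  · exact ch_1_8_2_3_5
  · exact ch_1_8_2_3_6
  · exact ch_1_8_2_3_7
  · exact absurd hb (by decide)
  · exact ch_1_8_2_3_9
  · exact ch_1_8_2_3_10

set_option maxRecDepth 100000 in
theorem ch_1_8_2_4_3 : enum 11 ck11 1 5 3418128 287 6 3 = true := by
  decide +kernel

set_option maxRecDepth 100000 in
theorem ch_1_8_2_4_5 : enum 11 ck11 1 5 5515280 311 6 5 = true := by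
  decide +kernel

set_option maxRecDepth 100000 in
theorem ch_1_8_2_4_6 : enum 11 ck11 1 5 6563856 343 6 6 = true := by
  decide +kernel

set_option maxRecDepth 100000 in
theorem ch_1_8_2_4_7 : enum 11 ck11 1 5 7612432 407 6 7 = true := by
  decide +kernel

set_option maxRecDepth 100000 in
theorem ch_1_8_2_4_9 : enum 11 ck11 1 5 9709584 791 6 9 = true := by
  decide +kernel

set_option maxRecDepth 100000 in
theorem ch_1_8_2_4_10 : enum 11 ck11 1 5 10758160 1303 6 10 = true := by
  decide +kernel

theorem ch_1_8_2_4 : enum 11 ck11 1 6 272400 279 5 4 = true := by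
  refine enum_intro 11 ck11 1 5 272400 279 5 4 ?_
  intro v hv hb hd
  interval_cases v
  · exact absurd hb (by decide)
  · exact absurd hb (by decide)
  · exact absurd hb (by decide)
  · exact ch_1_8_2_4_3
  · exact absurd hb (by decide)
  · exact ch_1_8_2_4_5
  · exact ch_1_8_2_4_6
  · exact ch_1_8_2_4_7
  · exact absurd hb (by decide)
  · exact ch_1_8_2_4_9
  · exact ch_1_8_2_4_10

set_option maxRecDepth 100000 in
theorem ch_1_8_2_5_3 : enum 11 ck11 1 5 3483664 303 6 3 = true := by
  decide +kernel

set_option maxRecDepth 100000 in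
theorem ch_1_8_2_5_4 : enum 11 ck11 1 5 4532240 311 6 4 = true := by
  decide +kernel

set_option maxRecDepth 100000 in
theorem ch_1_8_2_5_6 : enum 11 ck11 1 5 6629392 359 6 6 = true := by
  decide +kernel

set_option maxRecDepth 100000 in
theorem ch_1_8_2_5_7 : enum 11 ck11 1 5 7677968 423 6 7 = true := by
  decide +kernel

set_option maxRecDepth 100000 in
theorem ch_1_8_2_5_9 : enum 11 ck11 1 5 9775120 807 6 9 = true := by
  decide +kernel

set_option maxRecDepth 100000 in
theorem ch_1_8_2_5_10 : enum 11 ck11 1 5 10823696 1319 6 10 = true := by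
  decide +kernel

theorem ch_1_8_2_5 : enum 11 ck11 1 6 337936 295 5 5 = true := by
  refine enum_intro 11 ck11 1 5 337936 295 5 5 ?_
  intro v hv hb hd
  interval_cases v
  · exact absurd hb (by decide)
  · exact absurd hb (by decide)
  · exact absurd hb (by decide)
  · exact ch_1_8_2_5_3
  · exact ch_1_8_2_5_4
  · exact absurd hb (by decide)
  · exact ch_1_8_2_5_6
  · exact ch_1_8_2_5_7
  · exact absurd hb (by decide)
  · exact ch_1_8_2_5_9
  · exact ch_1_8_2_5_10

set_option maxRecDepth 100000 in
theorem ch_1_8_2_6_3 : enum 11 ck11 1 5 3549200 335 6 3 = true := by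
  decide +kernel

set_option maxRecDepth 100000 in
theorem ch_1_8_2_6_4 : enum 11 ck11 1 5 4597776 343 6 4 = true := by
  decide +kernel

set_option maxRecDepth 100000 in
theorem ch_1_8_2_6_5 : enum 11 ck11 1 5 5646352 359 6 5 = true := by
  decide +kernel

set_option maxRecDepth 100000 in
theorem ch_1_8_2_6_7 : enum 11 ck11 1 5 7743504 455 6 7 = true := by
  decide +kernel

set_option maxRecDepth 100000 in
theorem ch_1_8_2_6_9 : enum 11 ck11 1 5 9840656 839 6 9 = true := by
  decide +kernel

set_option maxRecDepth 100000 in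
theorem ch_1_8_2_6_10 : enum 11 ck11 1 5 10889232 1351 6 10 = true := by
  decide +kernel

theorem ch_1_8_2_6 : enum 11 ck11 1 6 403472 327 5 6 = true := by
  refine enum_intro 11 ck11 1 5 403472 327 5 6 ?_
  intro v hv hb hd
  interval_cases v
  · exact absurd hb (by decide)
  · exact absurd hb (by decide)
  · exact absurd hb (by decide)
  · exact ch_1_8_2_6_3
  · exact ch_1_8_2_6_4
  · exact ch_1_8_2_6_5
  · exact absurd hb (by decide)
  · exact ch_1_8_2_6_7
  · exact absurd hb (by decide)
  · exact ch_1_8_2_6_9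
  · exact ch_1_8_2_6_10

set_option maxRecDepth 100000 in
theorem ch_1_8_2_7_3 : enum 11 ck11 1 5 3614736 399 6 3 = true := by
  decide +kernel

set_option maxRecDepth 100000 in
theorem ch_1_8_2_7_4 : enum 11 ck11 1 5 4663312 407 6 4 = true := by
  decide +kernel

set_option maxRecDepth 100000 in
theorem ch_1_8_2_7_5 : enum 11 ck11 1 5 5711888 423 6 5 = true := by
  decide +kernel

set_option maxRecDepth 100000 in
theorem ch_1_8_2_7_6 : enum 11 ck11 1 5 6760464 455 6 6 = true := by
  decide +kernel

set_option maxRecDepth 100000 in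
theorem ch_1_8_2_7_9 : enum 11 ck11 1 5 9906192 903 6 9 = true := by
  decide +kernel

set_option maxRecDepth 100000 in
theorem ch_1_8_2_7_10 : enum 11 ck11 1 5 10954768 1415 6 10 = true := by
  decide +kernel

theorem ch_1_8_2_7 : enum 11 ck11 1 6 469008 391 5 7 = true := by
  refine enum_intro 11 ck11 1 5 469008 391 5 7 ?_
  intro v hv hb hd
  interval_cases v
  · exact absurd hb (by decide)
  · exact absurd hb (by decide)
  · exact absurd hb (by decide)
  · exact ch_1_8_2_7_3
  · exact ch_1_8_2_7_4
  · exact ch_1_8_2_7_5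
  · exact ch_1_8_2_7_6
  · exact absurd hb (by decide)
  · exact absurd hb (by decide)
  · exact ch_1_8_2_7_9
  · exact ch_1_8_2_7_10

set_option maxRecDepth 100000 in
theorem ch_1_8_2_9_3 : enum 11 ck11 1 5 3745808 783 6 3 = true := by
  decide +kernel

set_option maxRecDepth 100000 in
theorem ch_1_8_2_9_4 : enum 11 ck11 1 5 4794384 791 6 4 = true := by
  decide +kernel

set_option maxRecDepth 100000 in
theorem ch_1_8_2_9_5 : enum 11 ck11 1 5 5842960 807 6 5 = true := by
  decide +kernel

set_option maxRecDepth 100000 in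
theorem ch_1_8_2_9_6 : enum 11 ck11 1 5 6891536 839 6 6 = true := by
  decide +kernel

set_option maxRecDepth 100000 in
theorem ch_1_8_2_9_7 : enum 11 ck11 1 5 7940112 903 6 7 = true := by
  decide +kernel

set_option maxRecDepth 100000 in
theorem ch_1_8_2_9_10 : enum 11 ck11 1 5 11085840 1799 6 10 = true := by
  decide +kernel

theorem ch_1_8_2_9 : enum 11 ck11 1 6 600080 775 5 9 = true := by
  refine enum_intro 11 ck11 1 5 600080 775 5 9 ?_
  intro v hv hb hd
  interval_cases v
  · exact absurd hb (by decide)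
  · exact absurd hb (by decide)
  · exact absurd hb (by decide)
  · exact ch_1_8_2_9_3
  · exact ch_1_8_2_9_4
  · exact ch_1_8_2_9_5
  · exact ch_1_8_2_9_6
  · exact ch_1_8_2_9_7
  · exact absurd hb (by decide)
  · exact absurd hb (by decide)
  · exact ch_1_8_2_9_10

set_option maxRecDepth 100000 in
theorem ch_1_8_2_10_3 : enum 11 ck11 1 5 3811344 1295 6 3 = true := by
  decide +kernel

set_option maxRecDepth 100000 in
theorem ch_1_8_2_10_4 : enum 11 ck11 1 5 4859920 1303 6 4 = true := by
  decide +kernel

set_option maxRecDepth 100000 in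
theorem ch_1_8_2_10_5 : enum 11 ck11 1 5 5908496 1319 6 5 = true := by
  decide +kernel

set_option maxRecDepth 100000 in
theorem ch_1_8_2_10_6 : enum 11 ck11 1 5 6957072 1351 6 6 = true := by
  decide +kernel

set_option maxRecDepth 100000 in
theorem ch_1_8_2_10_7 : enum 11 ck11 1 5 8005648 1415 6 7 = true := by
  decide +kernel

set_option maxRecDepth 100000 in
theorem ch_1_8_2_10_9 : enum 11 ck11 1 5 10102800 1799 6 9 = true := by
  decide +kernel

theorem ch_1_8_2_10 : enum 11 ck11 1 6 665616 1287 5 10 = true := by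
  refine enum_intro 11 ck11 1 5 665616 1287 5 10 ?_
  intro v hv hb hd
  interval_cases v
  · exact absurd hb (by decide)
  · exact absurd hb (by decide)
  · exact absurd hb (by decide)
  · exact ch_1_8_2_10_3
  · exact ch_1_8_2_10_4
  · exact ch_1_8_2_10_5
  · exact ch_1_8_2_10_6
  · exact ch_1_8_2_10_7
  · exact absurd hb (by decide)
  · exact ch_1_8_2_10_9
  · exact absurd hb (by decide)

theorem ch_1_8_2 : enum 11 ck11 1 7 10256 263 4 2 = true := by
  refine enum_intro 11 ck11 1 6 10256 263 4 2 ?_
  intro v hv hb hd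
  interval_cases v
  · exact absurd hb (by decide)
  · exact absurd hb (by decide)
  · exact absurd hb (by decide)
  · exact ch_1_8_2_3
  · exact ch_1_8_2_4
  · exact ch_1_8_2_5
  · exact ch_1_8_2_6
  · exact ch_1_8_2_7
  · exact absurd hb (by decide)
  · exact ch_1_8_2_9
  · exact ch_1_8_2_10

set_option maxRecDepth 100000 in
theorem ch_1_8_3_2_4 : enum 11 ck11 1 5 4339728 287 6 4 = true := by
  decide +kernel

set_option maxRecDepth 100000 in
theorem ch_1_8_3_2_5 : enum 11 ck11 1 5 5388304 303 6 5 = true := by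
  decide +kernel

set_option maxRecDepth 100000 in
theorem ch_1_8_3_2_6 : enum 11 ck11 1 5 6436880 335 6 6 = true := by
  decide +kernel

set_option maxRecDepth 100000 in
theorem ch_1_8_3_2_7 : enum 11 ck11 1 5 7485456 399 6 7 = true := by
  decide +kernel

set_option maxRecDepth 100000 in
theorem ch_1_8_3_2_9 : enum 11 ck11 1 5 9582608 783 6 9 = true := by
  decide +kernel

set_option maxRecDepth 100000 in
theorem ch_1_8_3_2_10 : enum 11 ck11 1 5 10631184 1295 6 10 = true := by
  decide +kernel

theorem ch_1_8_3_2 : enum 11 ck11 1 6 145424 271 5 2 = true := by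
  refine enum_intro 11 ck11 1 5 145424 271 5 2 ?_
  intro v hv hb hd
  interval_cases v
  · exact absurd hb (by decide)
  · exact absurd hb (by decide)
  · exact absurd hb (by decide)
  · exact absurd hb (by decide)
  · exact ch_1_8_3_2_4
  · exact ch_1_8_3_2_5
  · exact ch_1_8_3_2_6
  · exact ch_1_8_3_2_7
  · exact absurd hb (by decide)
  · exact ch_1_8_3_2_9
  · exact ch_1_8_3_2_10

set_option maxRecDepth 100000 in
theorem ch_1_8_3_4_2 : enum 11 ck11 1 5 2373648 287 6 2 = true := by
  decide +kernel

set_option maxRecDepth 100000 in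
theorem ch_1_8_3_4_5 : enum 11 ck11 1 5 5519376 315 6 5 = true := by
  decide +kernel

set_option maxRecDepth 100000 in
theorem ch_1_8_3_4_6 : enum 11 ck11 1 5 6567952 347 6 6 = true := by
  decide +kernel

set_option maxRecDepth 100000 in
theorem ch_1_8_3_4_7 : enum 11 ck11 1 5 7616528 411 6 7 = true := by
  decide +kernel

set_option maxRecDepth 100000 in
theorem ch_1_8_3_4_9 : enum 11 ck11 1 5 9713680 795 6 9 = true := by
  decide +kernel

set_option maxRecDepth 100000 in
theorem ch_1_8_3_4_10 : enum 11 ck11 1 5 10762256 1307 6 10 = true := by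
  decide +kernel

theorem ch_1_8_3_4 : enum 11 ck11 1 6 276496 283 5 4 = true := by
  refine enum_intro 11 ck11 1 5 276496 283 5 4 ?_
  intro v hv hb hd
  interval_cases v
  · exact absurd hb (by decide)
  · exact absurd hb (by decide)
  · exact ch_1_8_3_4_2
  · exact absurd hb (by decide)
  · exact absurd hb (by decide)
  · exact ch_1_8_3_4_5
  · exact ch_1_8_3_4_6
  · exact ch_1_8_3_4_7
  · exact absurd hb (by decide)
  · exact ch_1_8_3_4_9
  · exact ch_1_8_3_4_10

set_option maxRecDepth 100000 in
theorem ch_1_8_3_5_2 : enum 11 ck11 1 5 2439184 303 6 2 = true := by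
  decide +kernel

set_option maxRecDepth 100000 in
theorem ch_1_8_3_5_4 : enum 11 ck11 1 5 4536336 315 6 4 = true := by
  decide +kernel

set_option maxRecDepth 100000 in
theorem ch_1_8_3_5_6 : enum 11 ck11 1 5 6633488 363 6 6 = true := by
  decide +kernel

set_option maxRecDepth 100000 in
theorem ch_1_8_3_5_7 : enum 11 ck11 1 5 7682064 427 6 7 = true := by
  decide +kernel

set_option maxRecDepth 100000 in
theorem ch_1_8_3_5_9 : enum 11 ck11 1 5 9779216 811 6 9 = true := by
  decide +kernel

set_option maxRecDepth 100000 in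
theorem ch_1_8_3_5_10 : enum 11 ck11 1 5 10827792 1323 6 10 = true := by
  decide +kernel

theorem ch_1_8_3_5 : enum 11 ck11 1 6 342032 299 5 5 = true := by
  refine enum_intro 11 ck11 1 5 342032 299 5 5 ?_
  intro v hv hb hd
  interval_cases v
  · exact absurd hb (by decide)
  · exact absurd hb (by decide)
  · exact ch_1_8_3_5_2
  · exact absurd hb (by decide)
  · exact ch_1_8_3_5_4
  · exact absurd hb (by decide)
  · exact ch_1_8_3_5_6
  · exact ch_1_8_3_5_7
  · exact absurd hb (by decide)
  · exact ch_1_8_3_5_9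
  · exact ch_1_8_3_5_10

set_option maxRecDepth 100000 in
theorem ch_1_8_3_6_2 : enum 11 ck11 1 5 2504720 335 6 2 = true := by
  decide +kernel

set_option maxRecDepth 100000 in
theorem ch_1_8_3_6_4 : enum 11 ck11 1 5 4601872 347 6 4 = true := by
  decide +kernel

set_option maxRecDepth 100000 in
theorem ch_1_8_3_6_5 : enum 11 ck11 1 5 5650448 363 6 5 = true := by
  decide +kernel

set_option maxRecDepth 100000 in
theorem ch_1_8_3_6_7 : enum 11 ck11 1 5 7747600 459 6 7 = true := by
  decide +kernel

set_option maxRecDepth 100000 in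
theorem ch_1_8_3_6_9 : enum 11 ck11 1 5 9844752 843 6 9 = true := by
  decide +kernel

set_option maxRecDepth 100000 in
theorem ch_1_8_3_6_10 : enum 11 ck11 1 5 10893328 1355 6 10 = true := by
  decide +kernel

theorem ch_1_8_3_6 : enum 11 ck11 1 6 407568 331 5 6 = true := by
  refine enum_intro 11 ck11 1 5 407568 331 5 6 ?_
  intro v hv hb hd
  interval_cases v
  · exact absurd hb (by decide)
  · exact absurd hb (by decide)
  · exact ch_1_8_3_6_2
  · exact absurd hb (by decide)
  · exact ch_1_8_3_6_4
  · exact ch_1_8_3_6_5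
  · exact absurd hb (by decide)
  · exact ch_1_8_3_6_7
  · exact absurd hb (by decide)
  · exact ch_1_8_3_6_9
  · exact ch_1_8_3_6_10

set_option maxRecDepth 100000 in
theorem ch_1_8_3_7_2 : enum 11 ck11 1 5 2570256 399 6 2 = true := by
  decide +kernel

set_option maxRecDepth 100000 in
theorem ch_1_8_3_7_4 : enum 11 ck11 1 5 4667408 411 6 4 = true := by
  decide +kernel

set_option maxRecDepth 100000 in
theorem ch_1_8_3_7_5 : enum 11 ck11 1 5 5715984 427 6 5 = true := by
  decide +kernel

set_option maxRecDepth 100000 in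
theorem ch_1_8_3_7_6 : enum 11 ck11 1 5 6764560 459 6 6 = true := by
  decide +kernel

set_option maxRecDepth 100000 in
theorem ch_1_8_3_7_9 : enum 11 ck11 1 5 9910288 907 6 9 = true := by
  decide +kernel

set_option maxRecDepth 100000 in
theorem ch_1_8_3_7_10 : enum 11 ck11 1 5 10958864 1419 6 10 = true := by
  decide +kernel

theorem ch_1_8_3_7 : enum 11 ck11 1 6 473104 395 5 7 = true := by
  refine enum_intro 11 ck11 1 5 473104 395 5 7 ?_
  intro v hv hb hd
  interval_cases v
  · exact absurd hb (by decide)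
  · exact absurd hb (by decide)
  · exact ch_1_8_3_7_2
  · exact absurd hb (by decide)
  · exact ch_1_8_3_7_4
  · exact ch_1_8_3_7_5
  · exact ch_1_8_3_7_6
  · exact absurd hb (by decide)
  · exact absurd hb (by decide)
  · exact ch_1_8_3_7_9
  · exact ch_1_8_3_7_10

set_option maxRecDepth 100000 in
theorem ch_1_8_3_9_2 : enum 11 ck11 1 5 2701328 783 6 2 = true := by
  decide +kernel

set_option maxRecDepth 100000 in
theorem ch_1_8_3_9_4 : enum 11 ck11 1 5 4798480 795 6 4 = true := by
  decide +kernel

set_option maxRecDepth 100000 in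
theorem ch_1_8_3_9_5 : enum 11 ck11 1 5 5847056 811 6 5 = true := by
  decide +kernel

set_option maxRecDepth 100000 in
theorem ch_1_8_3_9_6 : enum 11 ck11 1 5 6895632 843 6 6 = true := by
  decide +kernel

set_option maxRecDepth 100000 in
theorem ch_1_8_3_9_7 : enum 11 ck11 1 5 7944208 907 6 7 = true := by
  decide +kernel

set_option maxRecDepth 100000 in
theorem ch_1_8_3_9_10 : enum 11 ck11 1 5 11089936 1803 6 10 = true := by
  decide +kernel

theorem ch_1_8_3_9 : enum 11 ck11 1 6 604176 779 5 9 = true := by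
  refine enum_intro 11 ck11 1 5 604176 779 5 9 ?_
  intro v hv hb hd
  interval_cases v
  · exact absurd hb (by decide)
  · exact absurd hb (by decide)
  · exact ch_1_8_3_9_2
  · exact absurd hb (by decide)
  · exact ch_1_8_3_9_4
  · exact ch_1_8_3_9_5
  · exact ch_1_8_3_9_6
  · exact ch_1_8_3_9_7
  · exact absurd hb (by decide)
  · exact absurd hb (by decide)
  · exact ch_1_8_3_9_10

set_option maxRecDepth 100000 in
theorem ch_1_8_3_10_2 : enum 11 ck11 1 5 2766864 1295 6 2 = true := by
  decide +kernel

set_option maxRecDepth 100000 in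
theorem ch_1_8_3_10_4 : enum 11 ck11 1 5 4864016 1307 6 4 = true := by
  decide +kernel

set_option maxRecDepth 100000 in
theorem ch_1_8_3_10_5 : enum 11 ck11 1 5 5912592 1323 6 5 = true := by
  decide +kernel

set_option maxRecDepth 100000 in
theorem ch_1_8_3_10_6 : enum 11 ck11 1 5 6961168 1355 6 6 = true := by
  decide +kernel

set_option maxRecDepth 100000 in
theorem ch_1_8_3_10_7 : enum 11 ck11 1 5 8009744 1419 6 7 = true := by
  decide +kernel

set_option maxRecDepth 100000 in
theorem ch_1_8_3_10_9 : enum 11 ck11 1 5 10106896 1803 6 9 = true := by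
  decide +kernel

theorem ch_1_8_3_10 : enum 11 ck11 1 6 669712 1291 5 10 = true := by
  refine enum_intro 11 ck11 1 5 669712 1291 5 10 ?_
  intro v hv hb hd
  interval_cases v
  · exact absurd hb (by decide)
  · exact absurd hb (by decide)
  · exact ch_1_8_3_10_2
  · exact absurd hb (by decide)
  · exact ch_1_8_3_10_4
  · exact ch_1_8_3_10_5
  · exact ch_1_8_3_10_6
  · exact ch_1_8_3_10_7
  · exact absurd hb (by decide)
  · exact ch_1_8_3_10_9
  · exact absurd hb (by decide)

theorem ch_1_8_3 : enum 11 ck11 1 7 14352 267 4 3 = true := by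
  refine enum_intro 11 ck11 1 6 14352 267 4 3 ?_
  intro v hv hb hd
  interval_cases v
  · exact absurd hb (by decide)
  · exact absurd hb (by decide)
  · exact ch_1_8_3_2
  · exact absurd hb (by decide)
  · exact ch_1_8_3_4
  · exact ch_1_8_3_5
  · exact ch_1_8_3_6
  · exact ch_1_8_3_7
  · exact absurd hb (by decide)
  · exact ch_1_8_3_9
  · exact ch_1_8_3_10

set_option maxRecDepth 100000 in
theorem ch_1_8_4_2_3 : enum 11 ck11 1 5 3295248 287 6 3 = true := by
  decide +kernel

set_option maxRecDepth 100000 in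
theorem ch_1_8_4_2_5 : enum 11 ck11 1 5 5392400 311 6 5 = true := by
  decide +kernel

set_option maxRecDepth 100000 in
theorem ch_1_8_4_2_6 : enum 11 ck11 1 5 6440976 343 6 6 = true := by
  decide +kernel

set_option maxRecDepth 100000 in
theorem ch_1_8_4_2_7 : enum 11 ck11 1 5 7489552 407 6 7 = true := by
  decide +kernel

set_option maxRecDepth 100000 in
theorem ch_1_8_4_2_9 : enum 11 ck11 1 5 9586704 791 6 9 = true := by
  decide +kernel

set_option maxRecDepth 100000 in
theorem ch_1_8_4_2_10 : enum 11 ck11 1 5 10635280 1303 6 10 = true := by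
  decide +kernel

theorem ch_1_8_4_2 : enum 11 ck11 1 6 149520 279 5 2 = true := by
  refine enum_intro 11 ck11 1 5 149520 279 5 2 ?_
  intro v hv hb hd
  interval_cases v
  · exact absurd hb (by decide)
  · exact absurd hb (by decide)
  · exact absurd hb (by decide)
  · exact ch_1_8_4_2_3
  · exact absurd hb (by decide)
  · exact ch_1_8_4_2_5
  · exact ch_1_8_4_2_6
  · exact ch_1_8_4_2_7
  · exact absurd hb (by decide)
  · exact ch_1_8_4_2_9
  · exact ch_1_8_4_2_10

set_option maxRecDepth 100000 in
theorem ch_1_8_4_3_2 : enum 11 ck11 1 5 2312208 287 6 2 = true := by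
  decide +kernel

set_option maxRecDepth 100000 in
theorem ch_1_8_4_3_5 : enum 11 ck11 1 5 5457936 315 6 5 = true := by
  decide +kernel

set_option maxRecDepth 100000 in
theorem ch_1_8_4_3_6 : enum 11 ck11 1 5 6506512 347 6 6 = true := by
  decide +kernel

set_option maxRecDepth 100000 in
theorem ch_1_8_4_3_7 : enum 11 ck11 1 5 7555088 411 6 7 = true := by
  decide +kernel

set_option maxRecDepth 100000 in
theorem ch_1_8_4_3_9 : enum 11 ck11 1 5 9652240 795 6 9 = true := by
  decide +kernel

set_option maxRecDepth 100000 in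
theorem ch_1_8_4_3_10 : enum 11 ck11 1 5 10700816 1307 6 10 = true := by
  decide +kernel

theorem ch_1_8_4_3 : enum 11 ck11 1 6 215056 283 5 3 = true := by
  refine enum_intro 11 ck11 1 5 215056 283 5 3 ?_
  intro v hv hb hd
  interval_cases v
  · exact absurd hb (by decide)
  · exact absurd hb (by decide)
  · exact ch_1_8_4_3_2
  · exact absurd hb (by decide)
  · exact absurd hb (by decide)
  · exact ch_1_8_4_3_5
  · exact ch_1_8_4_3_6
  · exact ch_1_8_4_3_7
  · exact absurd hb (by decide)
  · exact ch_1_8_4_3_9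
  · exact ch_1_8_4_3_10

set_option maxRecDepth 100000 in
theorem ch_1_8_4_5_2 : enum 11 ck11 1 5 2443280 311 6 2 = true := by
  decide +kernel

set_option maxRecDepth 100000 in
theorem ch_1_8_4_5_3 : enum 11 ck11 1 5 3491856 315 6 3 = true := by
  decide +kernel

set_option maxRecDepth 100000 in
theorem ch_1_8_4_5_6 : enum 11 ck11 1 5 6637584 371 6 6 = true := by
  decide +kernel

set_option maxRecDepth 100000 in
theorem ch_1_8_4_5_7 : enum 11 ck11 1 5 7686160 435 6 7 = true := by
  decide +kernel

set_option maxRecDepth 100000 in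
theorem ch_1_8_4_5_9 : enum 11 ck11 1 5 9783312 819 6 9 = true := by
  decide +kernel

set_option maxRecDepth 100000 in
theorem ch_1_8_4_5_10 : enum 11 ck11 1 5 10831888 1331 6 10 = true := by
  decide +kernel

theorem ch_1_8_4_5 : enum 11 ck11 1 6 346128 307 5 5 = true := by
  refine enum_intro 11 ck11 1 5 346128 307 5 5 ?_
  intro v hv hb hd
  interval_cases v
  · exact absurd hb (by decide)
  · exact absurd hb (by decide)
  · exact ch_1_8_4_5_2
  · exact ch_1_8_4_5_3
  · exact absurd hb (by decide)
  · exact absurd hb (by decide)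
  · exact ch_1_8_4_5_6
  · exact ch_1_8_4_5_7
  · exact absurd hb (by decide)
  · exact ch_1_8_4_5_9
  · exact ch_1_8_4_5_10

set_option maxRecDepth 100000 in
theorem ch_1_8_4_6_2 : enum 11 ck11 1 5 2508816 343 6 2 = true := by
  decide +kernel

set_option maxRecDepth 100000 in
theorem ch_1_8_4_6_3 : enum 11 ck11 1 5 3557392 347 6 3 = true := by
  decide +kernel

set_option maxRecDepth 100000 in
theorem ch_1_8_4_6_5 : enum 11 ck11 1 5 5654544 371 6 5 = true := by
  decide +kernel

set_option maxRecDepth 100000 in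
theorem ch_1_8_4_6_7 : enum 11 ck11 1 5 7751696 467 6 7 = true := by
  decide +kernel

set_option maxRecDepth 100000 in
theorem ch_1_8_4_6_9 : enum 11 ck11 1 5 9848848 851 6 9 = true := by
  decide +kernel

set_option maxRecDepth 100000 in
theorem ch_1_8_4_6_10 : enum 11 ck11 1 5 10897424 1363 6 10 = true := by
  decide +kernel

theorem ch_1_8_4_6 : enum 11 ck11 1 6 411664 339 5 6 = true := by
  refine enum_intro 11 ck11 1 5 411664 339 5 6 ?_
  intro v hv hb hd
  interval_cases v
  · exact absurd hb (by decide)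
  · exact absurd hb (by decide)
  · exact ch_1_8_4_6_2
  · exact ch_1_8_4_6_3
  · exact absurd hb (by decide)
  · exact ch_1_8_4_6_5
  · exact absurd hb (by decide)
  · exact ch_1_8_4_6_7
  · exact absurd hb (by decide)
  · exact ch_1_8_4_6_9
  · exact ch_1_8_4_6_10

set_option maxRecDepth 100000 in
theorem ch_1_8_4_7_2 : enum 11 ck11 1 5 2574352 407 6 2 = true := by
  decide +kernel

set_option maxRecDepth 100000 in
theorem ch_1_8_4_7_3 : enum 11 ck11 1 5 3622928 411 6 3 = true := by
  decide +kernel

set_option maxRecDepth 100000 in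
theorem ch_1_8_4_7_5 : enum 11 ck11 1 5 5720080 435 6 5 = true := by
  decide +kernel

set_option maxRecDepth 100000 in
theorem ch_1_8_4_7_6 : enum 11 ck11 1 5 6768656 467 6 6 = true := by
  decide +kernel

set_option maxRecDepth 100000 in
theorem ch_1_8_4_7_9 : enum 11 ck11 1 5 9914384 915 6 9 = true := by
  decide +kernel

set_option maxRecDepth 100000 in
theorem ch_1_8_4_7_10 : enum 11 ck11 1 5 10962960 1427 6 10 = true := by
  decide +kernel

theorem ch_1_8_4_7 : enum 11 ck11 1 6 477200 403 5 7 = true := by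
  refine enum_intro 11 ck11 1 5 477200 403 5 7 ?_
  intro v hv hb hd
  interval_cases v
  · exact absurd hb (by decide)
  · exact absurd hb (by decide)
  · exact ch_1_8_4_7_2
  · exact ch_1_8_4_7_3
  · exact absurd hb (by decide)
  · exact ch_1_8_4_7_5
  · exact ch_1_8_4_7_6
  · exact absurd hb (by decide)
  · exact absurd hb (by decide)
  · exact ch_1_8_4_7_9
  · exact ch_1_8_4_7_10

set_option maxRecDepth 100000 in
theorem ch_1_8_4_9_2 : enum 11 ck11 1 5 2705424 791 6 2 = true := by
  decide +kernel

set_option maxRecDepth 100000 in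
theorem ch_1_8_4_9_3 : enum 11 ck11 1 5 3754000 795 6 3 = true := by
  decide +kernel

set_option maxRecDepth 100000 in
theorem ch_1_8_4_9_5 : enum 11 ck11 1 5 5851152 819 6 5 = true := by
  decide +kernel

set_option maxRecDepth 100000 in
theorem ch_1_8_4_9_6 : enum 11 ck11 1 5 6899728 851 6 6 = true := by
  decide +kernel

set_option maxRecDepth 100000 in
theorem ch_1_8_4_9_7 : enum 11 ck11 1 5 7948304 915 6 7 = true := by
  decide +kernel

set_option maxRecDepth 100000 in
theorem ch_1_8_4_9_10 : enum 11 ck11 1 5 11094032 1811 6 10 = true := by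
  decide +kernel

theorem ch_1_8_4_9 : enum 11 ck11 1 6 608272 787 5 9 = true := by
  refine enum_intro 11 ck11 1 5 608272 787 5 9 ?_
  intro v hv hb hd
  interval_cases v
  · exact absurd hb (by decide)
  · exact absurd hb (by decide)
  · exact ch_1_8_4_9_2
  · exact ch_1_8_4_9_3
  · exact absurd hb (by decide)
  · exact ch_1_8_4_9_5
  · exact ch_1_8_4_9_6
  · exact ch_1_8_4_9_7
  · exact absurd hb (by decide)
  · exact absurd hb (by decide)
  · exact ch_1_8_4_9_10

set_option maxRecDepth 100000 in
theorem ch_1_8_4_10_2 : enum 11 ck11 1 5 2770960 1303 6 2 = true := by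
  decide +kernel

set_option maxRecDepth 100000 in
theorem ch_1_8_4_10_3 : enum 11 ck11 1 5 3819536 1307 6 3 = true := by
  decide +kernel

set_option maxRecDepth 100000 in
theorem ch_1_8_4_10_5 : enum 11 ck11 1 5 5916688 1331 6 5 = true := by
  decide +kernel

set_option maxRecDepth 100000 in
theorem ch_1_8_4_10_6 : enum 11 ck11 1 5 6965264 1363 6 6 = true := by
  decide +kernel

set_option maxRecDepth 100000 in
theorem ch_1_8_4_10_7 : enum 11 ck11 1 5 8013840 1427 6 7 = true := by
  decide +kernel

set_option maxRecDepth 100000 in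
theorem ch_1_8_4_10_9 : enum 11 ck11 1 5 10110992 1811 6 9 = true := by
  decide +kernel

theorem ch_1_8_4_10 : enum 11 ck11 1 6 673808 1299 5 10 = true := by
  refine enum_intro 11 ck11 1 5 673808 1299 5 10 ?_
  intro v hv hb hd
  interval_cases v
  · exact absurd hb (by decide)
  · exact absurd hb (by decide)
  · exact ch_1_8_4_10_2
  · exact ch_1_8_4_10_3
  · exact absurd hb (by decide)
  · exact ch_1_8_4_10_5
  · exact ch_1_8_4_10_6
  · exact ch_1_8_4_10_7
  · exact absurd hb (by decide)
  · exact ch_1_8_4_10_9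
  · exact absurd hb (by decide)

theorem ch_1_8_4 : enum 11 ck11 1 7 18448 275 4 4 = true := by
  refine enum_intro 11 ck11 1 6 18448 275 4 4 ?_
  intro v hv hb hd
  interval_cases v
  · exact absurd hb (by decide)
  · exact absurd hb (by decide)
  · exact ch_1_8_4_2
  · exact ch_1_8_4_3
  · exact absurd hb (by decide)
  · exact ch_1_8_4_5
  · exact ch_1_8_4_6
  · exact ch_1_8_4_7
  · exact absurd hb (by decide)
  · exact ch_1_8_4_9
  · exact ch_1_8_4_10

end Cfsg.Agent.Helper9.T11
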