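import Mathlib
import Cfsg.Agent.Helper9.T11.Chk

set_option autoImplicit false
set_option Elab.async false

/-!
A part of the enumeration on 11 points: the test holds at every permutation of the part.
-/

namespace Cfsg.Agent.Helper9.T11

set_option maxRecDepth 100000 in
theorem ch_1_8_5_2_3 : enum 11 ck11 1 5 3299344 303 6 3 = true := by
  decide +kernel

set_option maxRecDepth 100000 in
theorem ch_1_8_5_2_4 : enum 11 ck11 1 5 4347920 311 6 4 = true := by
  decide +kernel

set_option maxRecDepth 100000 in
theorem ch_1_8_5_2_6 : enum 11 ck11 1 5 6445072 359 6 6 = true := by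
  decide +kernel

set_option maxRecDepth 100000 in
theorem ch_1_8_5_2_7 : enum 11 ck11 1 5 7493648 423 6 7 = true := by
  decide +kernel

set_option maxRecDepth 100000 in
theorem ch_1_8_5_2_9 : enum 11 ck11 1 5 9590800 807 6 9 = true := by
  decide +kernel

set_option maxRecDepth 100000 in
theorem ch_1_8_5_2_10 : enum 11 ck11 1 5 10639376 1319 6 10 = true := by
  decide +kernel

theorem ch_1_8_5_2 : enum 11 ck11 1 6 153616 295 5 2 = true := by
  refine enum_intro 11 ck11 1 5 153616 295 5 2 ?_
  intro v hv hb hd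
  interval_cases v
  · exact absurd hb (by decide)
  · exact absurd hb (by decide)
  · exact absurd hb (by decide)
  · exact ch_1_8_5_2_3
  · exact ch_1_8_5_2_4
  · exact absurd hb (by decide)
  · exact ch_1_8_5_2_6
  · exact ch_1_8_5_2_7
  · exact absurd hb (by decide)
  · exact ch_1_8_5_2_9
  · exact ch_1_8_5_2_10

set_option maxRecDepth 100000 in
theorem ch_1_8_5_3_2 : enum 11 ck11 1 5 2316304 303 6 2 = true := by
  decide +kernel

set_option maxRecDepth 100000 in
theorem ch_1_8_5_3_4 : enum 11 ck11 1 5 4413456 315 6 4 = true := by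
  decide +kernel

set_option maxRecDepth 100000 in
theorem ch_1_8_5_3_6 : enum 11 ck11 1 5 6510608 363 6 6 = true := by
  decide +kernel

set_option maxRecDepth 100000 in
theorem ch_1_8_5_3_7 : enum 11 ck11 1 5 7559184 427 6 7 = true := by
  decide +kernel

set_option maxRecDepth 100000 in
theorem ch_1_8_5_3_9 : enum 11 ck11 1 5 9656336 811 6 9 = true := by
  decide +kernel

set_option maxRecDepth 100000 in
theorem ch_1_8_5_3_10 : enum 11 ck11 1 5 10704912 1323 6 10 = true := by
  decide +kernel

theorem ch_1_8_5_3 : enum 11 ck11 1 6 219152 299 5 3 = true := by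
  refine enum_intro 11 ck11 1 5 219152 299 5 3 ?_
  intro v hv hb hd
  interval_cases v
  · exact absurd hb (by decide)
  · exact absurd hb (by decide)
  · exact ch_1_8_5_3_2
  · exact absurd hb (by decide)
  · exact ch_1_8_5_3_4
  · exact absurd hb (by decide)
  · exact ch_1_8_5_3_6
  · exact ch_1_8_5_3_7
  · exact absurd hb (by decide)
  · exact ch_1_8_5_3_9
  · exact ch_1_8_5_3_10

set_option maxRecDepth 100000 in
theorem ch_1_8_5_4_2 : enum 11 ck11 1 5 2381840 311 6 2 = true := by
  decide +kernel

set_option maxRecDepth 100000 in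
theorem ch_1_8_5_4_3 : enum 11 ck11 1 5 3430416 315 6 3 = true := by
  decide +kernel

set_option maxRecDepth 100000 in
theorem ch_1_8_5_4_6 : enum 11 ck11 1 5 6576144 371 6 6 = true := by
  decide +kernel

set_option maxRecDepth 100000 in
theorem ch_1_8_5_4_7 : enum 11 ck11 1 5 7624720 435 6 7 = true := by
  decide +kernel

set_option maxRecDepth 100000 in
theorem ch_1_8_5_4_9 : enum 11 ck11 1 5 9721872 819 6 9 = true := by
  decide +kernel

set_option maxRecDepth 100000 in
theorem ch_1_8_5_4_10 : enum 11 ck11 1 5 10770448 1331 6 10 = true := by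
  decide +kernel

theorem ch_1_8_5_4 : enum 11 ck11 1 6 284688 307 5 4 = true := by
  refine enum_intro 11 ck11 1 5 284688 307 5 4 ?_
  intro v hv hb hd
  interval_cases v
  · exact absurd hb (by decide)
  · exact absurd hb (by decide)
  · exact ch_1_8_5_4_2
  · exact ch_1_8_5_4_3
  · exact absurd hb (by decide)
  · exact absurd hb (by decide)
  · exact ch_1_8_5_4_6
  · exact ch_1_8_5_4_7
  · exact absurd hb (by decide)
  · exact ch_1_8_5_4_9
  · exact ch_1_8_5_4_10

set_option maxRecDepth 100000 in
theorem ch_1_8_5_6_2 : enum 11 ck11 1 5 2512912 359 6 2 = true := by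
  decide +kernel

set_option maxRecDepth 100000 in
theorem ch_1_8_5_6_3 : enum 11 ck11 1 5 3561488 363 6 3 = true := by
  decide +kernel

set_option maxRecDepth 100000 in
theorem ch_1_8_5_6_4 : enum 11 ck11 1 5 4610064 371 6 4 = true := by
  decide +kernel

set_option maxRecDepth 100000 in
theorem ch_1_8_5_6_7 : enum 11 ck11 1 5 7755792 483 6 7 = true := by
  decide +kernel

set_option maxRecDepth 100000 in
theorem ch_1_8_5_6_9 : enum 11 ck11 1 5 9852944 867 6 9 = true := by
  decide +kernel

set_option maxRecDepth 100000 in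
theorem ch_1_8_5_6_10 : enum 11 ck11 1 5 10901520 1379 6 10 = true := by
  decide +kernel

theorem ch_1_8_5_6 : enum 11 ck11 1 6 415760 355 5 6 = true := by
  refine enum_intro 11 ck11 1 5 415760 355 5 6 ?_
  intro v hv hb hd
  interval_cases v
  · exact absurd hb (by decide)
  · exact absurd hb (by decide)
  · exact ch_1_8_5_6_2
  · exact ch_1_8_5_6_3
  · exact ch_1_8_5_6_4
  · exact absurd hb (by decide)
  · exact absurd hb (by decide)
  · exact ch_1_8_5_6_7
  · exact absurd hb (by decide)
  · exact ch_1_8_5_6_9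
  · exact ch_1_8_5_6_10

set_option maxRecDepth 100000 in
theorem ch_1_8_5_7_2 : enum 11 ck11 1 5 2578448 423 6 2 = true := by
  decide +kernel

set_option maxRecDepth 100000 in
theorem ch_1_8_5_7_3 : enum 11 ck11 1 5 3627024 427 6 3 = true := by
  decide +kernel

set_option maxRecDepth 100000 in
theorem ch_1_8_5_7_4 : enum 11 ck11 1 5 4675600 435 6 4 = true := by
  decide +kernel

set_option maxRecDepth 100000 in
theorem ch_1_8_5_7_6 : enum 11 ck11 1 5 6772752 483 6 6 = true := by
  decide +kernel

set_option maxRecDepth 100000 in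
theorem ch_1_8_5_7_9 : enum 11 ck11 1 5 9918480 931 6 9 = true := by
  decide +kernel

set_option maxRecDepth 100000 in
theorem ch_1_8_5_7_10 : enum 11 ck11 1 5 10967056 1443 6 10 = true := by
  decide +kernel

theorem ch_1_8_5_7 : enum 11 ck11 1 6 481296 419 5 7 = true := by
  refine enum_intro 11 ck11 1 5 481296 419 5 7 ?_
  intro v hv hb hd
  interval_cases v
  · exact absurd hb (by decide)
  · exact absurd hb (by decide)
  · exact ch_1_8_5_7_2
  · exact ch_1_8_5_7_3
  · exact ch_1_8_5_7_4
  · exact absurd hb (by decide)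
  · exact ch_1_8_5_7_6
  · exact absurd hb (by decide)
  · exact absurd hb (by decide)
  · exact ch_1_8_5_7_9
  · exact ch_1_8_5_7_10

set_option maxRecDepth 100000 in
theorem ch_1_8_5_9_2 : enum 11 ck11 1 5 2709520 807 6 2 = true := by
  decide +kernel

set_option maxRecDepth 100000 in
theorem ch_1_8_5_9_3 : enum 11 ck11 1 5 3758096 811 6 3 = true := by
  decide +kernel

set_option maxRecDepth 100000 in
theorem ch_1_8_5_9_4 : enum 11 ck11 1 5 4806672 819 6 4 = true := by
  decide +kernel

set_option maxRecDepth 100000 in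
theorem ch_1_8_5_9_6 : enum 11 ck11 1 5 6903824 867 6 6 = true := by
  decide +kernel

set_option maxRecDepth 100000 in
theorem ch_1_8_5_9_7 : enum 11 ck11 1 5 7952400 931 6 7 = true := by
  decide +kernel

set_option maxRecDepth 100000 in
theorem ch_1_8_5_9_10 : enum 11 ck11 1 5 11098128 1827 6 10 = true := by
  decide +kernel

theorem ch_1_8_5_9 : enum 11 ck11 1 6 612368 803 5 9 = true := by
  refine enum_intro 11 ck11 1 5 612368 803 5 9 ?_
  intro v hv hb hd
  interval_cases v
  · exact absurd hb (by decide)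
  · exact absurd hb (by decide)
  · exact ch_1_8_5_9_2
  · exact ch_1_8_5_9_3
  · exact ch_1_8_5_9_4
  · exact absurd hb (by decide)
  · exact ch_1_8_5_9_6
  · exact ch_1_8_5_9_7
  · exact absurd hb (by decide)
  · exact absurd hb (by decide)
  · exact ch_1_8_5_9_10

set_option maxRecDepth 100000 in
theorem ch_1_8_5_10_2 : enum 11 ck11 1 5 2775056 1319 6 2 = true := by
  decide +kernel

set_option maxRecDepth 100000 in
theorem ch_1_8_5_10_3 : enum 11 ck11 1 5 3823632 1323 6 3 = true := by
  decide +kernel

set_option maxRecDepth 100000 in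
theorem ch_1_8_5_10_4 : enum 11 ck11 1 5 4872208 1331 6 4 = true := by
  decide +kernel

set_option maxRecDepth 100000 in
theorem ch_1_8_5_10_6 : enum 11 ck11 1 5 6969360 1379 6 6 = true := by
  decide +kernel

set_option maxRecDepth 100000 in
theorem ch_1_8_5_10_7 : enum 11 ck11 1 5 8017936 1443 6 7 = true := by
  decide +kernel

set_option maxRecDepth 100000 in
theorem ch_1_8_5_10_9 : enum 11 ck11 1 5 10115088 1827 6 9 = true := by
  decide +kernel

theorem ch_1_8_5_10 : enum 11 ck11 1 6 677904 1315 5 10 = true := by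
  refine enum_intro 11 ck11 1 5 677904 1315 5 10 ?_
  intro v hv hb hd
  interval_cases v
  · exact absurd hb (by decide)
  · exact absurd hb (by decide)
  · exact ch_1_8_5_10_2
  · exact ch_1_8_5_10_3
  · exact ch_1_8_5_10_4
  · exact absurd hb (by decide)
  · exact ch_1_8_5_10_6
  · exact ch_1_8_5_10_7
  · exact absurd hb (by decide)
  · exact ch_1_8_5_10_9
  · exact absurd hb (by decide)

theorem ch_1_8_5 : enum 11 ck11 1 7 22544 291 4 5 = true := by
  refine enum_intro 11 ck11 1 6 22544 291 4 5 ?_
  intro v hv hb hd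
  interval_cases v
  · exact absurd hb (by decide)
  · exact absurd hb (by decide)
  · exact ch_1_8_5_2
  · exact ch_1_8_5_3
  · exact ch_1_8_5_4
  · exact absurd hb (by decide)
  · exact ch_1_8_5_6
  · exact ch_1_8_5_7
  · exact absurd hb (by decide)
  · exact ch_1_8_5_9
  · exact ch_1_8_5_10

set_option maxRecDepth 100000 in
theorem ch_1_8_6_2_3 : enum 11 ck11 1 5 3303440 335 6 3 = true := by
  decide +kernel

set_option maxRecDepth 100000 in
theorem ch_1_8_6_2_4 : enum 11 ck11 1 5 4352016 343 6 4 = true := by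
  decide +kernel

set_option maxRecDepth 100000 in
theorem ch_1_8_6_2_5 : enum 11 ck11 1 5 5400592 359 6 5 = true := by
  decide +kernel

set_option maxRecDepth 100000 in
theorem ch_1_8_6_2_7 : enum 11 ck11 1 5 7497744 455 6 7 = true := by
  decide +kernel

set_option maxRecDepth 100000 in
theorem ch_1_8_6_2_9 : enum 11 ck11 1 5 9594896 839 6 9 = true := by
  decide +kernel

set_option maxRecDepth 100000 in
theorem ch_1_8_6_2_10 : enum 11 ck11 1 5 10643472 1351 6 10 = true := by
  decide +kernel

theorem ch_1_8_6_2 : enum 11 ck11 1 6 157712 327 5 2 = true := by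
  refine enum_intro 11 ck11 1 5 157712 327 5 2 ?_
  intro v hv hb hd
  interval_cases v
  · exact absurd hb (by decide)
  · exact absurd hb (by decide)
  · exact absurd hb (by decide)
  · exact ch_1_8_6_2_3
  · exact ch_1_8_6_2_4
  · exact ch_1_8_6_2_5
  · exact absurd hb (by decide)
  · exact ch_1_8_6_2_7
  · exact absurd hb (by decide)
  · exact ch_1_8_6_2_9
  · exact ch_1_8_6_2_10

set_option maxRecDepth 100000 in
theorem ch_1_8_6_3_2 : enum 11 ck11 1 5 2320400 335 6 2 = true := by
  decide +kernel

set_option maxRecDepth 100000 in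
theorem ch_1_8_6_3_4 : enum 11 ck11 1 5 4417552 347 6 4 = true := by
  decide +kernel

set_option maxRecDepth 100000 in
theorem ch_1_8_6_3_5 : enum 11 ck11 1 5 5466128 363 6 5 = true := by
  decide +kernel

set_option maxRecDepth 100000 in
theorem ch_1_8_6_3_7 : enum 11 ck11 1 5 7563280 459 6 7 = true := by
  decide +kernel

set_option maxRecDepth 100000 in
theorem ch_1_8_6_3_9 : enum 11 ck11 1 5 9660432 843 6 9 = true := by
  decide +kernel

set_option maxRecDepth 100000 in
theorem ch_1_8_6_3_10 : enum 11 ck11 1 5 10709008 1355 6 10 = true := by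
  decide +kernel

theorem ch_1_8_6_3 : enum 11 ck11 1 6 223248 331 5 3 = true := by
  refine enum_intro 11 ck11 1 5 223248 331 5 3 ?_
  intro v hv hb hd
  interval_cases v
  · exact absurd hb (by decide)
  · exact absurd hb (by decide)
  · exact ch_1_8_6_3_2
  · exact absurd hb (by decide)
  · exact ch_1_8_6_3_4
  · exact ch_1_8_6_3_5
  · exact absurd hb (by decide)
  · exact ch_1_8_6_3_7
  · exact absurd hb (by decide)
  · exact ch_1_8_6_3_9
  · exact ch_1_8_6_3_10

set_option maxRecDepth 100000 in
theorem ch_1_8_6_4_2 : enum 11 ck11 1 5 2385936 343 6 2 = true := by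
  decide +kernel

set_option maxRecDepth 100000 in
theorem ch_1_8_6_4_3 : enum 11 ck11 1 5 3434512 347 6 3 = true := by
  decide +kernel

set_option maxRecDepth 100000 in
theorem ch_1_8_6_4_5 : enum 11 ck11 1 5 5531664 371 6 5 = true := by
  decide +kernel

set_option maxRecDepth 100000 in
theorem ch_1_8_6_4_7 : enum 11 ck11 1 5 7628816 467 6 7 = true := by
  decide +kernel

set_option maxRecDepth 100000 in
theorem ch_1_8_6_4_9 : enum 11 ck11 1 5 9725968 851 6 9 = true := by
  decide +kernel

set_option maxRecDepth 100000 in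
theorem ch_1_8_6_4_10 : enum 11 ck11 1 5 10774544 1363 6 10 = true := by
  decide +kernel

theorem ch_1_8_6_4 : enum 11 ck11 1 6 288784 339 5 4 = true := by
  refine enum_intro 11 ck11 1 5 288784 339 5 4 ?_
  intro v hv hb hd
  interval_cases v
  · exact absurd hb (by decide)
  · exact absurd hb (by decide)
  · exact ch_1_8_6_4_2
  · exact ch_1_8_6_4_3
  · exact absurd hb (by decide)
  · exact ch_1_8_6_4_5
  · exact absurd hb (by decide)
  · exact ch_1_8_6_4_7
  · exact absurd hb (by decide)
  · exact ch_1_8_6_4_9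
  · exact ch_1_8_6_4_10

set_option maxRecDepth 100000 in
theorem ch_1_8_6_5_2 : enum 11 ck11 1 5 2451472 359 6 2 = true := by
  decide +kernel

set_option maxRecDepth 100000 in
theorem ch_1_8_6_5_3 : enum 11 ck11 1 5 3500048 363 6 3 = true := by
  decide +kernel

set_option maxRecDepth 100000 in
theorem ch_1_8_6_5_4 : enum 11 ck11 1 5 4548624 371 6 4 = true := by
  decide +kernel

set_option maxRecDepth 100000 in
theorem ch_1_8_6_5_7 : enum 11 ck11 1 5 7694352 483 6 7 = true := by
  decide +kernel

set_option maxRecDepth 100000 in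
theorem ch_1_8_6_5_9 : enum 11 ck11 1 5 9791504 867 6 9 = true := by
  decide +kernel

set_option maxRecDepth 100000 in
theorem ch_1_8_6_5_10 : enum 11 ck11 1 5 10840080 1379 6 10 = true := by
  decide +kernel

theorem ch_1_8_6_5 : enum 11 ck11 1 6 354320 355 5 5 = true := by
  refine enum_intro 11 ck11 1 5 354320 355 5 5 ?_
  intro v hv hb hd
  interval_cases v
  · exact absurd hb (by decide)
  · exact absurd hb (by decide)
  · exact ch_1_8_6_5_2
  · exact ch_1_8_6_5_3
  · exact ch_1_8_6_5_4
  · exact absurd hb (by decide)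
  · exact absurd hb (by decide)
  · exact ch_1_8_6_5_7
  · exact absurd hb (by decide)
  · exact ch_1_8_6_5_9
  · exact ch_1_8_6_5_10

set_option maxRecDepth 100000 in
theorem ch_1_8_6_7_2 : enum 11 ck11 1 5 2582544 455 6 2 = true := by
  decide +kernel

set_option maxRecDepth 100000 in
theorem ch_1_8_6_7_3 : enum 11 ck11 1 5 3631120 459 6 3 = true := by
  decide +kernel

set_option maxRecDepth 100000 in
theorem ch_1_8_6_7_4 : enum 11 ck11 1 5 4679696 467 6 4 = true := by
  decide +kernel

set_option maxRecDepth 100000 in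
theorem ch_1_8_6_7_5 : enum 11 ck11 1 5 5728272 483 6 5 = true := by
  decide +kernel

set_option maxRecDepth 100000 in
theorem ch_1_8_6_7_9 : enum 11 ck11 1 5 9922576 963 6 9 = true := by
  decide +kernel

set_option maxRecDepth 100000 in
theorem ch_1_8_6_7_10 : enum 11 ck11 1 5 10971152 1475 6 10 = true := by
  decide +kernel

theorem ch_1_8_6_7 : enum 11 ck11 1 6 485392 451 5 7 = true := by
  refine enum_intro 11 ck11 1 5 485392 451 5 7 ?_
  intro v hv hb hd
  interval_cases v
  · exact absurd hb (by decide)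
  · exact absurd hb (by decide)
  · exact ch_1_8_6_7_2
  · exact ch_1_8_6_7_3
  · exact ch_1_8_6_7_4
  · exact ch_1_8_6_7_5
  · exact absurd hb (by decide)
  · exact absurd hb (by decide)
  · exact absurd hb (by decide)
  · exact ch_1_8_6_7_9
  · exact ch_1_8_6_7_10

set_option maxRecDepth 100000 in
theorem ch_1_8_6_9_2 : enum 11 ck11 1 5 2713616 839 6 2 = true := by
  decide +kernel

set_option maxRecDepth 100000 in
theorem ch_1_8_6_9_3 : enum 11 ck11 1 5 3762192 843 6 3 = true := by
  decide +kernel

set_option maxRecDepth 100000 in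
theorem ch_1_8_6_9_4 : enum 11 ck11 1 5 4810768 851 6 4 = true := by
  decide +kernel

set_option maxRecDepth 100000 in
theorem ch_1_8_6_9_5 : enum 11 ck11 1 5 5859344 867 6 5 = true := by
  decide +kernel

set_option maxRecDepth 100000 in
theorem ch_1_8_6_9_7 : enum 11 ck11 1 5 7956496 963 6 7 = true := by
  decide +kernel

set_option maxRecDepth 100000 in
theorem ch_1_8_6_9_10 : enum 11 ck11 1 5 11102224 1859 6 10 = true := by
  decide +kernel

theorem ch_1_8_6_9 : enum 11 ck11 1 6 616464 835 5 9 = true := by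
  refine enum_intro 11 ck11 1 5 616464 835 5 9 ?_
  intro v hv hb hd
  interval_cases v
  · exact absurd hb (by decide)
  · exact absurd hb (by decide)
  · exact ch_1_8_6_9_2
  · exact ch_1_8_6_9_3
  · exact ch_1_8_6_9_4
  · exact ch_1_8_6_9_5
  · exact absurd hb (by decide)
  · exact ch_1_8_6_9_7
  · exact absurd hb (by decide)
  · exact absurd hb (by decide)
  · exact ch_1_8_6_9_10

set_option maxRecDepth 100000 in
theorem ch_1_8_6_10_2 : enum 11 ck11 1 5 2779152 1351 6 2 = true := by
  decide +kernel

set_option maxRecDepth 100000 in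
theorem ch_1_8_6_10_3 : enum 11 ck11 1 5 3827728 1355 6 3 = true := by
  decide +kernel

set_option maxRecDepth 100000 in
theorem ch_1_8_6_10_4 : enum 11 ck11 1 5 4876304 1363 6 4 = true := by
  decide +kernel

set_option maxRecDepth 100000 in
theorem ch_1_8_6_10_5 : enum 11 ck11 1 5 5924880 1379 6 5 = true := by
  decide +kernel

set_option maxRecDepth 100000 in
theorem ch_1_8_6_10_7 : enum 11 ck11 1 5 8022032 1475 6 7 = true := by
  decide +kernel

set_option maxRecDepth 100000 in
theorem ch_1_8_6_10_9 : enum 11 ck11 1 5 10119184 1859 6 9 = true := by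
  decide +kernel

theorem ch_1_8_6_10 : enum 11 ck11 1 6 682000 1347 5 10 = true := by
  refine enum_intro 11 ck11 1 5 682000 1347 5 10 ?_
  intro v hv hb hd
  interval_cases v
  · exact absurd hb (by decide)
  · exact absurd hb (by decide)
  · exact ch_1_8_6_10_2
  · exact ch_1_8_6_10_3
  · exact ch_1_8_6_10_4
  · exact ch_1_8_6_10_5
  · exact absurd hb (by decide)
  · exact ch_1_8_6_10_7
  · exact absurd hb (by decide)
  · exact ch_1_8_6_10_9
  · exact absurd hb (by decide)

theorem ch_1_8_6 : enum 11 ck11 1 7 26640 323 4 6 = true := by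
  refine enum_intro 11 ck11 1 6 26640 323 4 6 ?_
  intro v hv hb hd
  interval_cases v
  · exact absurd hb (by decide)
  · exact absurd hb (by decide)
  · exact ch_1_8_6_2
  · exact ch_1_8_6_3
  · exact ch_1_8_6_4
  · exact ch_1_8_6_5
  · exact absurd hb (by decide)
  · exact ch_1_8_6_7
  · exact absurd hb (by decide)
  · exact ch_1_8_6_9
  · exact ch_1_8_6_10

set_option maxRecDepth 100000 in
theorem ch_1_8_7_2_3 : enum 11 ck11 1 5 3307536 399 6 3 = true := by
  decide +kernel

set_option maxRecDepth 100000 in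
theorem ch_1_8_7_2_4 : enum 11 ck11 1 5 4356112 407 6 4 = true := by
  decide +kernel

set_option maxRecDepth 100000 in
theorem ch_1_8_7_2_5 : enum 11 ck11 1 5 5404688 423 6 5 = true := by
  decide +kernel

set_option maxRecDepth 100000 in
theorem ch_1_8_7_2_6 : enum 11 ck11 1 5 6453264 455 6 6 = true := by
  decide +kernel

set_option maxRecDepth 100000 in
theorem ch_1_8_7_2_9 : enum 11 ck11 1 5 9598992 903 6 9 = true := by
  decide +kernel

set_option maxRecDepth 100000 in
theorem ch_1_8_7_2_10 : enum 11 ck11 1 5 10647568 1415 6 10 = true := by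
  decide +kernel

theorem ch_1_8_7_2 : enum 11 ck11 1 6 161808 391 5 2 = true := by
  refine enum_intro 11 ck11 1 5 161808 391 5 2 ?_
  intro v hv hb hd
  interval_cases v
  · exact absurd hb (by decide)
  · exact absurd hb (by decide)
  · exact absurd hb (by decide)
  · exact ch_1_8_7_2_3
  · exact ch_1_8_7_2_4
  · exact ch_1_8_7_2_5
  · exact ch_1_8_7_2_6
  · exact absurd hb (by decide)
  · exact absurd hb (by decide)
  · exact ch_1_8_7_2_9
  · exact ch_1_8_7_2_10

set_option maxRecDepth 100000 in
theorem ch_1_8_7_3_2 : enum 11 ck11 1 5 2324496 399 6 2 = true := by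
  decide +kernel

set_option maxRecDepth 100000 in
theorem ch_1_8_7_3_4 : enum 11 ck11 1 5 4421648 411 6 4 = true := by
  decide +kernel

set_option maxRecDepth 100000 in
theorem ch_1_8_7_3_5 : enum 11 ck11 1 5 5470224 427 6 5 = true := by
  decide +kernel

set_option maxRecDepth 100000 in
theorem ch_1_8_7_3_6 : enum 11 ck11 1 5 6518800 459 6 6 = true := by
  decide +kernel

set_option maxRecDepth 100000 in
theorem ch_1_8_7_3_9 : enum 11 ck11 1 5 9664528 907 6 9 = true := by
  decide +kernel

set_option maxRecDepth 100000 in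
theorem ch_1_8_7_3_10 : enum 11 ck11 1 5 10713104 1419 6 10 = true := by
  decide +kernel

theorem ch_1_8_7_3 : enum 11 ck11 1 6 227344 395 5 3 = true := by
  refine enum_intro 11 ck11 1 5 227344 395 5 3 ?_
  intro v hv hb hd
  interval_cases v
  · exact absurd hb (by decide)
  · exact absurd hb (by decide)
  · exact ch_1_8_7_3_2
  · exact absurd hb (by decide)
  · exact ch_1_8_7_3_4
  · exact ch_1_8_7_3_5
  · exact ch_1_8_7_3_6
  · exact absurd hb (by decide)
  · exact absurd hb (by decide)
  · exact ch_1_8_7_3_9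
  · exact ch_1_8_7_3_10

set_option maxRecDepth 100000 in
theorem ch_1_8_7_4_2 : enum 11 ck11 1 5 2390032 407 6 2 = true := by
  decide +kernel

set_option maxRecDepth 100000 in
theorem ch_1_8_7_4_3 : enum 11 ck11 1 5 3438608 411 6 3 = true := by
  decide +kernel

set_option maxRecDepth 100000 in
theorem ch_1_8_7_4_5 : enum 11 ck11 1 5 5535760 435 6 5 = true := by
  decide +kernel

set_option maxRecDepth 100000 in
theorem ch_1_8_7_4_6 : enum 11 ck11 1 5 6584336 467 6 6 = true := by
  decide +kernel

set_option maxRecDepth 100000 in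
theorem ch_1_8_7_4_9 : enum 11 ck11 1 5 9730064 915 6 9 = true := by
  decide +kernel

set_option maxRecDepth 100000 in
theorem ch_1_8_7_4_10 : enum 11 ck11 1 5 10778640 1427 6 10 = true := by
  decide +kernel

theorem ch_1_8_7_4 : enum 11 ck11 1 6 292880 403 5 4 = true := by
  refine enum_intro 11 ck11 1 5 292880 403 5 4 ?_
  intro v hv hb hd
  interval_cases v
  · exact absurd hb (by decide)
  · exact absurd hb (by decide)
  · exact ch_1_8_7_4_2
  · exact ch_1_8_7_4_3
  · exact absurd hb (by decide)
  · exact ch_1_8_7_4_5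
  · exact ch_1_8_7_4_6
  · exact absurd hb (by decide)
  · exact absurd hb (by decide)
  · exact ch_1_8_7_4_9
  · exact ch_1_8_7_4_10

set_option maxRecDepth 100000 in
theorem ch_1_8_7_5_2 : enum 11 ck11 1 5 2455568 423 6 2 = true := by
  decide +kernel

set_option maxRecDepth 100000 in
theorem ch_1_8_7_5_3 : enum 11 ck11 1 5 3504144 427 6 3 = true := by
  decide +kernel

set_option maxRecDepth 100000 in
theorem ch_1_8_7_5_4 : enum 11 ck11 1 5 4552720 435 6 4 = true := by
  decide +kernel

set_option maxRecDepth 100000 in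
theorem ch_1_8_7_5_6 : enum 11 ck11 1 5 6649872 483 6 6 = true := by
  decide +kernel

set_option maxRecDepth 100000 in
theorem ch_1_8_7_5_9 : enum 11 ck11 1 5 9795600 931 6 9 = true := by
  decide +kernel

set_option maxRecDepth 100000 in
theorem ch_1_8_7_5_10 : enum 11 ck11 1 5 10844176 1443 6 10 = true := by
  decide +kernel

theorem ch_1_8_7_5 : enum 11 ck11 1 6 358416 419 5 5 = true := by
  refine enum_intro 11 ck11 1 5 358416 419 5 5 ?_
  intro v hv hb hd
  interval_cases v
  · exact absurd hb (by decide)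
  · exact absurd hb (by decide)
  · exact ch_1_8_7_5_2
  · exact ch_1_8_7_5_3
  · exact ch_1_8_7_5_4
  · exact absurd hb (by decide)
  · exact ch_1_8_7_5_6
  · exact absurd hb (by decide)
  · exact absurd hb (by decide)
  · exact ch_1_8_7_5_9
  · exact ch_1_8_7_5_10

set_option maxRecDepth 100000 in
theorem ch_1_8_7_6_2 : enum 11 ck11 1 5 2521104 455 6 2 = true := by
  decide +kernel

set_option maxRecDepth 100000 in
theorem ch_1_8_7_6_3 : enum 11 ck11 1 5 3569680 459 6 3 = true := by
  decide +kernel

set_option maxRecDepth 100000 in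
theorem ch_1_8_7_6_4 : enum 11 ck11 1 5 4618256 467 6 4 = true := by
  decide +kernel

set_option maxRecDepth 100000 in
theorem ch_1_8_7_6_5 : enum 11 ck11 1 5 5666832 483 6 5 = true := by
  decide +kernel

set_option maxRecDepth 100000 in
theorem ch_1_8_7_6_9 : enum 11 ck11 1 5 9861136 963 6 9 = true := by
  decide +kernel

set_option maxRecDepth 100000 in
theorem ch_1_8_7_6_10 : enum 11 ck11 1 5 10909712 1475 6 10 = true := by
  decide +kernel

theorem ch_1_8_7_6 : enum 11 ck11 1 6 423952 451 5 6 = true := by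
  refine enum_intro 11 ck11 1 5 423952 451 5 6 ?_
  intro v hv hb hd
  interval_cases v
  · exact absurd hb (by decide)
  · exact absurd hb (by decide)
  · exact ch_1_8_7_6_2
  · exact ch_1_8_7_6_3
  · exact ch_1_8_7_6_4
  · exact ch_1_8_7_6_5
  · exact absurd hb (by decide)
  · exact absurd hb (by decide)
  · exact absurd hb (by decide)
  · exact ch_1_8_7_6_9
  · exact ch_1_8_7_6_10

set_option maxRecDepth 100000 in
theorem ch_1_8_7_9_2 : enum 11 ck11 1 5 2717712 903 6 2 = true := by
  decide +kernel

set_option maxRecDepth 100000 in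
theorem ch_1_8_7_9_3 : enum 11 ck11 1 5 3766288 907 6 3 = true := by
  decide +kernel

set_option maxRecDepth 100000 in
theorem ch_1_8_7_9_4 : enum 11 ck11 1 5 4814864 915 6 4 = true := by
  decide +kernel

set_option maxRecDepth 100000 in
theorem ch_1_8_7_9_5 : enum 11 ck11 1 5 5863440 931 6 5 = true := by
  decide +kernel

set_option maxRecDepth 100000 in
theorem ch_1_8_7_9_6 : enum 11 ck11 1 5 6912016 963 6 6 = true := by
  decide +kernel

set_option maxRecDepth 100000 in
theorem ch_1_8_7_9_10 : enum 11 ck11 1 5 11106320 1923 6 10 = true := by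
  decide +kernel

theorem ch_1_8_7_9 : enum 11 ck11 1 6 620560 899 5 9 = true := by
  refine enum_intro 11 ck11 1 5 620560 899 5 9 ?_
  intro v hv hb hd
  interval_cases v
  · exact absurd hb (by decide)
  · exact absurd hb (by decide)
  · exact ch_1_8_7_9_2
  · exact ch_1_8_7_9_3
  · exact ch_1_8_7_9_4
  · exact ch_1_8_7_9_5
  · exact ch_1_8_7_9_6
  · exact absurd hb (by decide)
  · exact absurd hb (by decide)
  · exact absurd hb (by decide)
  · exact ch_1_8_7_9_10

set_option maxRecDepth 100000 in
theorem ch_1_8_7_10_2 : enum 11 ck11 1 5 2783248 1415 6 2 = true := by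
  decide +kernel

set_option maxRecDepth 100000 in
theorem ch_1_8_7_10_3 : enum 11 ck11 1 5 3831824 1419 6 3 = true := by
  decide +kernel

set_option maxRecDepth 100000 in
theorem ch_1_8_7_10_4 : enum 11 ck11 1 5 4880400 1427 6 4 = true := by
  decide +kernel

set_option maxRecDepth 100000 in
theorem ch_1_8_7_10_5 : enum 11 ck11 1 5 5928976 1443 6 5 = true := by
  decide +kernel

set_option maxRecDepth 100000 in
theorem ch_1_8_7_10_6 : enum 11 ck11 1 5 6977552 1475 6 6 = true := by
  decide +kernel

set_option maxRecDepth 100000 in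
theorem ch_1_8_7_10_9 : enum 11 ck11 1 5 10123280 1923 6 9 = true := by
  decide +kernel

theorem ch_1_8_7_10 : enum 11 ck11 1 6 686096 1411 5 10 = true := by
  refine enum_intro 11 ck11 1 5 686096 1411 5 10 ?_
  intro v hv hb hd
  interval_cases v
  · exact absurd hb (by decide)
  · exact absurd hb (by decide)
  · exact ch_1_8_7_10_2
  · exact ch_1_8_7_10_3
  · exact ch_1_8_7_10_4
  · exact ch_1_8_7_10_5
  · exact ch_1_8_7_10_6
  · exact absurd hb (by decide)
  · exact absurd hb (by decide)
  · exact ch_1_8_7_10_9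
  · exact absurd hb (by decide)

theorem ch_1_8_7 : enum 11 ck11 1 7 30736 387 4 7 = true := by
  refine enum_intro 11 ck11 1 6 30736 387 4 7 ?_
  intro v hv hb hd
  interval_cases v
  · exact absurd hb (by decide)
  · exact absurd hb (by decide)
  · exact ch_1_8_7_2
  · exact ch_1_8_7_3
  · exact ch_1_8_7_4
  · exact ch_1_8_7_5
  · exact ch_1_8_7_6
  · exact absurd hb (by decide)
  · exact absurd hb (by decide)
  · exact ch_1_8_7_9
  · exact ch_1_8_7_10

end Cfsg.Agent.Helper9.T11
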