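import Mathlib
import Cfsg.Agent.Helper9.T11.Chk

set_option autoImplicit false
set_option Elab.async false

/-!
A part of the enumeration on 11 points: the test holds at every permutation of the part.
-/

namespace Cfsg.Agent.Helper9.T11

set_option maxRecDepth 100000 in
theorem ch_1_8_9_2_3 : enum 11 ck11 1 5 3315728 783 6 3 = true := by
  decide +kernel

set_option maxRecDepth 100000 in
theorem ch_1_8_9_2_4 : enum 11 ck11 1 5 4364304 791 6 4 = true := by
  decide +kernel

set_option maxRecDepth 100000 in
theorem ch_1_8_9_2_5 : enum 11 ck11 1 5 5412880 807 6 5 = true := by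
  decide +kernel

set_option maxRecDepth 100000 in
theorem ch_1_8_9_2_6 : enum 11 ck11 1 5 6461456 839 6 6 = true := by
  decide +kernel

set_option maxRecDepth 100000 in
theorem ch_1_8_9_2_7 : enum 11 ck11 1 5 7510032 903 6 7 = true := by
  decide +kernel

set_option maxRecDepth 100000 in
theorem ch_1_8_9_2_10 : enum 11 ck11 1 5 10655760 1799 6 10 = true := by
  decide +kernel

theorem ch_1_8_9_2 : enum 11 ck11 1 6 170000 775 5 2 = true := by
  refine enum_intro 11 ck11 1 5 170000 775 5 2 ?_
  intro v hv hb hd
  interval_cases v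
  · exact absurd hb (by decide)
  · exact absurd hb (by decide)
  · exact absurd hb (by decide)
  · exact ch_1_8_9_2_3
  · exact ch_1_8_9_2_4
  · exact ch_1_8_9_2_5
  · exact ch_1_8_9_2_6
  · exact ch_1_8_9_2_7
  · exact absurd hb (by decide)
  · exact absurd hb (by decide)
  · exact ch_1_8_9_2_10

set_option maxRecDepth 100000 in
theorem ch_1_8_9_3_2 : enum 11 ck11 1 5 2332688 783 6 2 = true := by
  decide +kernel

set_option maxRecDepth 100000 in
theorem ch_1_8_9_3_4 : enum 11 ck11 1 5 4429840 795 6 4 = true := by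
  decide +kernel

set_option maxRecDepth 100000 in
theorem ch_1_8_9_3_5 : enum 11 ck11 1 5 5478416 811 6 5 = true := by
  decide +kernel

set_option maxRecDepth 100000 in
theorem ch_1_8_9_3_6 : enum 11 ck11 1 5 6526992 843 6 6 = true := by
  decide +kernel

set_option maxRecDepth 100000 in
theorem ch_1_8_9_3_7 : enum 11 ck11 1 5 7575568 907 6 7 = true := by
  decide +kernel

set_option maxRecDepth 100000 in
theorem ch_1_8_9_3_10 : enum 11 ck11 1 5 10721296 1803 6 10 = true := by
  decide +kernel

theorem ch_1_8_9_3 : enum 11 ck11 1 6 235536 779 5 3 = true := by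
  refine enum_intro 11 ck11 1 5 235536 779 5 3 ?_
  intro v hv hb hd
  interval_cases v
  · exact absurd hb (by decide)
  · exact absurd hb (by decide)
  · exact ch_1_8_9_3_2
  · exact absurd hb (by decide)
  · exact ch_1_8_9_3_4
  · exact ch_1_8_9_3_5
  · exact ch_1_8_9_3_6
  · exact ch_1_8_9_3_7
  · exact absurd hb (by decide)
  · exact absurd hb (by decide)
  · exact ch_1_8_9_3_10

set_option maxRecDepth 100000 in
theorem ch_1_8_9_4_2 : enum 11 ck11 1 5 2398224 791 6 2 = true := by
  decide +kernel

set_option maxRecDepth 100000 in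
theorem ch_1_8_9_4_3 : enum 11 ck11 1 5 3446800 795 6 3 = true := by
  decide +kernel

set_option maxRecDepth 100000 in
theorem ch_1_8_9_4_5 : enum 11 ck11 1 5 5543952 819 6 5 = true := by
  decide +kernel

set_option maxRecDepth 100000 in
theorem ch_1_8_9_4_6 : enum 11 ck11 1 5 6592528 851 6 6 = true := by
  decide +kernel

set_option maxRecDepth 100000 in
theorem ch_1_8_9_4_7 : enum 11 ck11 1 5 7641104 915 6 7 = true := by
  decide +kernel

set_option maxRecDepth 100000 in
theorem ch_1_8_9_4_10 : enum 11 ck11 1 5 10786832 1811 6 10 = true := by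
  decide +kernel

theorem ch_1_8_9_4 : enum 11 ck11 1 6 301072 787 5 4 = true := by
  refine enum_intro 11 ck11 1 5 301072 787 5 4 ?_
  intro v hv hb hd
  interval_cases v
  · exact absurd hb (by decide)
  · exact absurd hb (by decide)
  · exact ch_1_8_9_4_2
  · exact ch_1_8_9_4_3
  · exact absurd hb (by decide)
  · exact ch_1_8_9_4_5
  · exact ch_1_8_9_4_6
  · exact ch_1_8_9_4_7
  · exact absurd hb (by decide)
  · exact absurd hb (by decide)
  · exact ch_1_8_9_4_10

set_option maxRecDepth 100000 in
theorem ch_1_8_9_5_2 : enum 11 ck11 1 5 2463760 807 6 2 = true := by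
  decide +kernel

set_option maxRecDepth 100000 in
theorem ch_1_8_9_5_3 : enum 11 ck11 1 5 3512336 811 6 3 = true := by
  decide +kernel

set_option maxRecDepth 100000 in
theorem ch_1_8_9_5_4 : enum 11 ck11 1 5 4560912 819 6 4 = true := by
  decide +kernel

set_option maxRecDepth 100000 in
theorem ch_1_8_9_5_6 : enum 11 ck11 1 5 6658064 867 6 6 = true := by
  decide +kernel

set_option maxRecDepth 100000 in
theorem ch_1_8_9_5_7 : enum 11 ck11 1 5 7706640 931 6 7 = true := by
  decide +kernel

set_option maxRecDepth 100000 in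
theorem ch_1_8_9_5_10 : enum 11 ck11 1 5 10852368 1827 6 10 = true := by
  decide +kernel

theorem ch_1_8_9_5 : enum 11 ck11 1 6 366608 803 5 5 = true := by
  refine enum_intro 11 ck11 1 5 366608 803 5 5 ?_
  intro v hv hb hd
  interval_cases v
  · exact absurd hb (by decide)
  · exact absurd hb (by decide)
  · exact ch_1_8_9_5_2
  · exact ch_1_8_9_5_3
  · exact ch_1_8_9_5_4
  · exact absurd hb (by decide)
  · exact ch_1_8_9_5_6
  · exact ch_1_8_9_5_7
  · exact absurd hb (by decide)
  · exact absurd hb (by decide)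
  · exact ch_1_8_9_5_10

set_option maxRecDepth 100000 in
theorem ch_1_8_9_6_2 : enum 11 ck11 1 5 2529296 839 6 2 = true := by
  decide +kernel

set_option maxRecDepth 100000 in
theorem ch_1_8_9_6_3 : enum 11 ck11 1 5 3577872 843 6 3 = true := by
  decide +kernel

set_option maxRecDepth 100000 in
theorem ch_1_8_9_6_4 : enum 11 ck11 1 5 4626448 851 6 4 = true := by
  decide +kernel

set_option maxRecDepth 100000 in
theorem ch_1_8_9_6_5 : enum 11 ck11 1 5 5675024 867 6 5 = true := by
  decide +kernel

set_option maxRecDepth 100000 in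
theorem ch_1_8_9_6_7 : enum 11 ck11 1 5 7772176 963 6 7 = true := by
  decide +kernel

set_option maxRecDepth 100000 in
theorem ch_1_8_9_6_10 : enum 11 ck11 1 5 10917904 1859 6 10 = true := by
  decide +kernel

theorem ch_1_8_9_6 : enum 11 ck11 1 6 432144 835 5 6 = true := by
  refine enum_intro 11 ck11 1 5 432144 835 5 6 ?_
  intro v hv hb hd
  interval_cases v
  · exact absurd hb (by decide)
  · exact absurd hb (by decide)
  · exact ch_1_8_9_6_2
  · exact ch_1_8_9_6_3
  · exact ch_1_8_9_6_4
  · exact ch_1_8_9_6_5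
  · exact absurd hb (by decide)
  · exact ch_1_8_9_6_7
  · exact absurd hb (by decide)
  · exact absurd hb (by decide)
  · exact ch_1_8_9_6_10

set_option maxRecDepth 100000 in
theorem ch_1_8_9_7_2 : enum 11 ck11 1 5 2594832 903 6 2 = true := by
  decide +kernel

set_option maxRecDepth 100000 in
theorem ch_1_8_9_7_3 : enum 11 ck11 1 5 3643408 907 6 3 = true := by
  decide +kernel

set_option maxRecDepth 100000 in
theorem ch_1_8_9_7_4 : enum 11 ck11 1 5 4691984 915 6 4 = true := by
  decide +kernel

set_option maxRecDepth 100000 in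
theorem ch_1_8_9_7_5 : enum 11 ck11 1 5 5740560 931 6 5 = true := by
  decide +kernel

set_option maxRecDepth 100000 in
theorem ch_1_8_9_7_6 : enum 11 ck11 1 5 6789136 963 6 6 = true := by
  decide +kernel

set_option maxRecDepth 100000 in
theorem ch_1_8_9_7_10 : enum 11 ck11 1 5 10983440 1923 6 10 = true := by
  decide +kernel

theorem ch_1_8_9_7 : enum 11 ck11 1 6 497680 899 5 7 = true := by
  refine enum_intro 11 ck11 1 5 497680 899 5 7 ?_
  intro v hv hb hd
  interval_cases v
  · exact absurd hb (by decide)
  · exact absurd hb (by decide)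
  · exact ch_1_8_9_7_2
  · exact ch_1_8_9_7_3
  · exact ch_1_8_9_7_4
  · exact ch_1_8_9_7_5
  · exact ch_1_8_9_7_6
  · exact absurd hb (by decide)
  · exact absurd hb (by decide)
  · exact absurd hb (by decide)
  · exact ch_1_8_9_7_10

set_option maxRecDepth 100000 in
theorem ch_1_8_9_10_2 : enum 11 ck11 1 5 2791440 1799 6 2 = true := by
  decide +kernel

set_option maxRecDepth 100000 in
theorem ch_1_8_9_10_3 : enum 11 ck11 1 5 3840016 1803 6 3 = true := by
  decide +kernel

set_option maxRecDepth 100000 in
theorem ch_1_8_9_10_4 : enum 11 ck11 1 5 4888592 1811 6 4 = true := by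
  decide +kernel

set_option maxRecDepth 100000 in
theorem ch_1_8_9_10_5 : enum 11 ck11 1 5 5937168 1827 6 5 = true := by
  decide +kernel

set_option maxRecDepth 100000 in
theorem ch_1_8_9_10_6 : enum 11 ck11 1 5 6985744 1859 6 6 = true := by
  decide +kernel

set_option maxRecDepth 100000 in
theorem ch_1_8_9_10_7 : enum 11 ck11 1 5 8034320 1923 6 7 = true := by
  decide +kernel

theorem ch_1_8_9_10 : enum 11 ck11 1 6 694288 1795 5 10 = true := by
  refine enum_intro 11 ck11 1 5 694288 1795 5 10 ?_
  intro v hv hb hd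
  interval_cases v
  · exact absurd hb (by decide)
  · exact absurd hb (by decide)
  · exact ch_1_8_9_10_2
  · exact ch_1_8_9_10_3
  · exact ch_1_8_9_10_4
  · exact ch_1_8_9_10_5
  · exact ch_1_8_9_10_6
  · exact ch_1_8_9_10_7
  · exact absurd hb (by decide)
  · exact absurd hb (by decide)
  · exact absurd hb (by decide)

theorem ch_1_8_9 : enum 11 ck11 1 7 38928 771 4 9 = true := by
  refine enum_intro 11 ck11 1 6 38928 771 4 9 ?_
  intro v hv hb hd
  interval_cases v
  · exact absurd hb (by decide)
  · exact absurd hb (by decide)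
  · exact ch_1_8_9_2
  · exact ch_1_8_9_3
  · exact ch_1_8_9_4
  · exact ch_1_8_9_5
  · exact ch_1_8_9_6
  · exact ch_1_8_9_7
  · exact absurd hb (by decide)
  · exact absurd hb (by decide)
  · exact ch_1_8_9_10

set_option maxRecDepth 100000 in
theorem ch_1_8_10_2_3 : enum 11 ck11 1 5 3319824 1295 6 3 = true := by
  decide +kernel

set_option maxRecDepth 100000 in
theorem ch_1_8_10_2_4 : enum 11 ck11 1 5 4368400 1303 6 4 = true := by
  decide +kernel

set_option maxRecDepth 100000 in
theorem ch_1_8_10_2_5 : enum 11 ck11 1 5 5416976 1319 6 5 = true := by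
  decide +kernel

set_option maxRecDepth 100000 in
theorem ch_1_8_10_2_6 : enum 11 ck11 1 5 6465552 1351 6 6 = true := by
  decide +kernel

set_option maxRecDepth 100000 in
theorem ch_1_8_10_2_7 : enum 11 ck11 1 5 7514128 1415 6 7 = true := by
  decide +kernel

set_option maxRecDepth 100000 in
theorem ch_1_8_10_2_9 : enum 11 ck11 1 5 9611280 1799 6 9 = true := by
  decide +kernel

theorem ch_1_8_10_2 : enum 11 ck11 1 6 174096 1287 5 2 = true := by
  refine enum_intro 11 ck11 1 5 174096 1287 5 2 ?_
  intro v hv hb hd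
  interval_cases v
  · exact absurd hb (by decide)
  · exact absurd hb (by decide)
  · exact absurd hb (by decide)
  · exact ch_1_8_10_2_3
  · exact ch_1_8_10_2_4
  · exact ch_1_8_10_2_5
  · exact ch_1_8_10_2_6
  · exact ch_1_8_10_2_7
  · exact absurd hb (by decide)
  · exact ch_1_8_10_2_9
  · exact absurd hb (by decide)

set_option maxRecDepth 100000 in
theorem ch_1_8_10_3_2 : enum 11 ck11 1 5 2336784 1295 6 2 = true := by
  decide +kernel

set_option maxRecDepth 100000 in
theorem ch_1_8_10_3_4 : enum 11 ck11 1 5 4433936 1307 6 4 = true := by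
  decide +kernel

set_option maxRecDepth 100000 in
theorem ch_1_8_10_3_5 : enum 11 ck11 1 5 5482512 1323 6 5 = true := by
  decide +kernel

set_option maxRecDepth 100000 in
theorem ch_1_8_10_3_6 : enum 11 ck11 1 5 6531088 1355 6 6 = true := by
  decide +kernel

set_option maxRecDepth 100000 in
theorem ch_1_8_10_3_7 : enum 11 ck11 1 5 7579664 1419 6 7 = true := by
  decide +kernel

set_option maxRecDepth 100000 in
theorem ch_1_8_10_3_9 : enum 11 ck11 1 5 9676816 1803 6 9 = true := by
  decide +kernel

theorem ch_1_8_10_3 : enum 11 ck11 1 6 239632 1291 5 3 = true := by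
  refine enum_intro 11 ck11 1 5 239632 1291 5 3 ?_
  intro v hv hb hd
  interval_cases v
  · exact absurd hb (by decide)
  · exact absurd hb (by decide)
  · exact ch_1_8_10_3_2
  · exact absurd hb (by decide)
  · exact ch_1_8_10_3_4
  · exact ch_1_8_10_3_5
  · exact ch_1_8_10_3_6
  · exact ch_1_8_10_3_7
  · exact absurd hb (by decide)
  · exact ch_1_8_10_3_9
  · exact absurd hb (by decide)

set_option maxRecDepth 100000 in
theorem ch_1_8_10_4_2 : enum 11 ck11 1 5 2402320 1303 6 2 = true := by
  decide +kernel

set_option maxRecDepth 100000 in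
theorem ch_1_8_10_4_3 : enum 11 ck11 1 5 3450896 1307 6 3 = true := by
  decide +kernel

set_option maxRecDepth 100000 in
theorem ch_1_8_10_4_5 : enum 11 ck11 1 5 5548048 1331 6 5 = true := by
  decide +kernel

set_option maxRecDepth 100000 in
theorem ch_1_8_10_4_6 : enum 11 ck11 1 5 6596624 1363 6 6 = true := by
  decide +kernel

set_option maxRecDepth 100000 in
theorem ch_1_8_10_4_7 : enum 11 ck11 1 5 7645200 1427 6 7 = true := by
  decide +kernel

set_option maxRecDepth 100000 in
theorem ch_1_8_10_4_9 : enum 11 ck11 1 5 9742352 1811 6 9 = true := by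
  decide +kernel

theorem ch_1_8_10_4 : enum 11 ck11 1 6 305168 1299 5 4 = true := by
  refine enum_intro 11 ck11 1 5 305168 1299 5 4 ?_
  intro v hv hb hd
  interval_cases v
  · exact absurd hb (by decide)
  · exact absurd hb (by decide)
  · exact ch_1_8_10_4_2
  · exact ch_1_8_10_4_3
  · exact absurd hb (by decide)
  · exact ch_1_8_10_4_5
  · exact ch_1_8_10_4_6
  · exact ch_1_8_10_4_7
  · exact absurd hb (by decide)
  · exact ch_1_8_10_4_9
  · exact absurd hb (by decide)

set_option maxRecDepth 100000 in
theorem ch_1_8_10_5_2 : enum 11 ck11 1 5 2467856 1319 6 2 = true := by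
  decide +kernel

set_option maxRecDepth 100000 in
theorem ch_1_8_10_5_3 : enum 11 ck11 1 5 3516432 1323 6 3 = true := by
  decide +kernel

set_option maxRecDepth 100000 in
theorem ch_1_8_10_5_4 : enum 11 ck11 1 5 4565008 1331 6 4 = true := by
  decide +kernel

set_option maxRecDepth 100000 in
theorem ch_1_8_10_5_6 : enum 11 ck11 1 5 6662160 1379 6 6 = true := by
  decide +kernel

set_option maxRecDepth 100000 in
theorem ch_1_8_10_5_7 : enum 11 ck11 1 5 7710736 1443 6 7 = true := by
  decide +kernel

set_option maxRecDepth 100000 in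
theorem ch_1_8_10_5_9 : enum 11 ck11 1 5 9807888 1827 6 9 = true := by
  decide +kernel

theorem ch_1_8_10_5 : enum 11 ck11 1 6 370704 1315 5 5 = true := by
  refine enum_intro 11 ck11 1 5 370704 1315 5 5 ?_
  intro v hv hb hd
  interval_cases v
  · exact absurd hb (by decide)
  · exact absurd hb (by decide)
  · exact ch_1_8_10_5_2
  · exact ch_1_8_10_5_3
  · exact ch_1_8_10_5_4
  · exact absurd hb (by decide)
  · exact ch_1_8_10_5_6
  · exact ch_1_8_10_5_7
  · exact absurd hb (by decide)
  · exact ch_1_8_10_5_9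
  · exact absurd hb (by decide)

set_option maxRecDepth 100000 in
theorem ch_1_8_10_6_2 : enum 11 ck11 1 5 2533392 1351 6 2 = true := by
  decide +kernel

set_option maxRecDepth 100000 in
theorem ch_1_8_10_6_3 : enum 11 ck11 1 5 3581968 1355 6 3 = true := by
  decide +kernel

set_option maxRecDepth 100000 in
theorem ch_1_8_10_6_4 : enum 11 ck11 1 5 4630544 1363 6 4 = true := by
  decide +kernel

set_option maxRecDepth 100000 in
theorem ch_1_8_10_6_5 : enum 11 ck11 1 5 5679120 1379 6 5 = true := by
  decide +kernel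

set_option maxRecDepth 100000 in
theorem ch_1_8_10_6_7 : enum 11 ck11 1 5 7776272 1475 6 7 = true := by
  decide +kernel

set_option maxRecDepth 100000 in
theorem ch_1_8_10_6_9 : enum 11 ck11 1 5 9873424 1859 6 9 = true := by
  decide +kernel

theorem ch_1_8_10_6 : enum 11 ck11 1 6 436240 1347 5 6 = true := by
  refine enum_intro 11 ck11 1 5 436240 1347 5 6 ?_
  intro v hv hb hd
  interval_cases v
  · exact absurd hb (by decide)
  · exact absurd hb (by decide)
  · exact ch_1_8_10_6_2
  · exact ch_1_8_10_6_3
  · exact ch_1_8_10_6_4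
  · exact ch_1_8_10_6_5
  · exact absurd hb (by decide)
  · exact ch_1_8_10_6_7
  · exact absurd hb (by decide)
  · exact ch_1_8_10_6_9
  · exact absurd hb (by decide)

set_option maxRecDepth 100000 in
theorem ch_1_8_10_7_2 : enum 11 ck11 1 5 2598928 1415 6 2 = true := by
  decide +kernel

set_option maxRecDepth 100000 in
theorem ch_1_8_10_7_3 : enum 11 ck11 1 5 3647504 1419 6 3 = true := by
  decide +kernel

set_option maxRecDepth 100000 in
theorem ch_1_8_10_7_4 : enum 11 ck11 1 5 4696080 1427 6 4 = true := by
  decide +kernel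

set_option maxRecDepth 100000 in
theorem ch_1_8_10_7_5 : enum 11 ck11 1 5 5744656 1443 6 5 = true := by
  decide +kernel

set_option maxRecDepth 100000 in
theorem ch_1_8_10_7_6 : enum 11 ck11 1 5 6793232 1475 6 6 = true := by
  decide +kernel

set_option maxRecDepth 100000 in
theorem ch_1_8_10_7_9 : enum 11 ck11 1 5 9938960 1923 6 9 = true := by
  decide +kernel

theorem ch_1_8_10_7 : enum 11 ck11 1 6 501776 1411 5 7 = true := by
  refine enum_intro 11 ck11 1 5 501776 1411 5 7 ?_
  intro v hv hb hd
  interval_cases v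
  · exact absurd hb (by decide)
  · exact absurd hb (by decide)
  · exact ch_1_8_10_7_2
  · exact ch_1_8_10_7_3
  · exact ch_1_8_10_7_4
  · exact ch_1_8_10_7_5
  · exact ch_1_8_10_7_6
  · exact absurd hb (by decide)
  · exact absurd hb (by decide)
  · exact ch_1_8_10_7_9
  · exact absurd hb (by decide)

set_option maxRecDepth 100000 in
theorem ch_1_8_10_9_2 : enum 11 ck11 1 5 2730000 1799 6 2 = true := by
  decide +kernel

set_option maxRecDepth 100000 in
theorem ch_1_8_10_9_3 : enum 11 ck11 1 5 3778576 1803 6 3 = true := by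
  decide +kernel

set_option maxRecDepth 100000 in
theorem ch_1_8_10_9_4 : enum 11 ck11 1 5 4827152 1811 6 4 = true := by
  decide +kernel

set_option maxRecDepth 100000 in
theorem ch_1_8_10_9_5 : enum 11 ck11 1 5 5875728 1827 6 5 = true := by
  decide +kernel

set_option maxRecDepth 100000 in
theorem ch_1_8_10_9_6 : enum 11 ck11 1 5 6924304 1859 6 6 = true := by
  decide +kernel

set_option maxRecDepth 100000 in
theorem ch_1_8_10_9_7 : enum 11 ck11 1 5 7972880 1923 6 7 = true := by
  decide +kernel

theorem ch_1_8_10_9 : enum 11 ck11 1 6 632848 1795 5 9 = true := by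
  refine enum_intro 11 ck11 1 5 632848 1795 5 9 ?_
  intro v hv hb hd
  interval_cases v
  · exact absurd hb (by decide)
  · exact absurd hb (by decide)
  · exact ch_1_8_10_9_2
  · exact ch_1_8_10_9_3
  · exact ch_1_8_10_9_4
  · exact ch_1_8_10_9_5
  · exact ch_1_8_10_9_6
  · exact ch_1_8_10_9_7
  · exact absurd hb (by decide)
  · exact absurd hb (by decide)
  · exact absurd hb (by decide)

theorem ch_1_8_10 : enum 11 ck11 1 7 43024 1283 4 10 = true := by
  refine enum_intro 11 ck11 1 6 43024 1283 4 10 ?_
  intro v hv hb hd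
  interval_cases v
  · exact absurd hb (by decide)
  · exact absurd hb (by decide)
  · exact ch_1_8_10_2
  · exact ch_1_8_10_3
  · exact ch_1_8_10_4
  · exact ch_1_8_10_5
  · exact ch_1_8_10_6
  · exact ch_1_8_10_7
  · exact absurd hb (by decide)
  · exact ch_1_8_10_9
  · exact absurd hb (by decide)

end Cfsg.Agent.Helper9.T11
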