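import Mathlib
import Cfsg.Agent.Helper9.T11.Chk

set_option autoImplicit false
set_option Elab.async false

/-!
A part of the enumeration on 11 points: the test holds at every permutation of the part.
-/

namespace Cfsg.Agent.Helper9.T11

set_option maxRecDepth 100000 in
theorem ch_1_9_2_3_4 : enum 11 ck11 1 5 4401424 543 6 4 = true := by
  decide +kernel

set_option maxRecDepth 100000 in
theorem ch_1_9_2_3_5 : enum 11 ck11 1 5 5450000 559 6 5 = true := by
  decide +kernel

set_option maxRecDepth 100000 in
theorem ch_1_9_2_3_6 : enum 11 ck11 1 5 6498576 591 6 6 = true := by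
  decide +kernel

set_option maxRecDepth 100000 in
theorem ch_1_9_2_3_7 : enum 11 ck11 1 5 7547152 655 6 7 = true := by
  decide +kernel

set_option maxRecDepth 100000 in
theorem ch_1_9_2_3_8 : enum 11 ck11 1 5 8595728 783 6 8 = true := by
  decide +kernel

set_option maxRecDepth 100000 in
theorem ch_1_9_2_3_10 : enum 11 ck11 1 5 10692880 1551 6 10 = true := by
  decide +kernel

theorem ch_1_9_2_3 : enum 11 ck11 1 6 207120 527 5 3 = true := by
  refine enum_intro 11 ck11 1 5 207120 527 5 3 ?_
  intro v hv hb hd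
  interval_cases v
  · exact absurd hb (by decide)
  · exact absurd hb (by decide)
  · exact absurd hb (by decide)
  · exact absurd hb (by decide)
  · exact ch_1_9_2_3_4
  · exact ch_1_9_2_3_5
  · exact ch_1_9_2_3_6
  · exact ch_1_9_2_3_7
  · exact ch_1_9_2_3_8
  · exact absurd hb (by decide)
  · exact ch_1_9_2_3_10

set_option maxRecDepth 100000 in
theorem ch_1_9_2_4_3 : enum 11 ck11 1 5 3418384 543 6 3 = true := by
  decide +kernel

set_option maxRecDepth 100000 in
theorem ch_1_9_2_4_5 : enum 11 ck11 1 5 5515536 567 6 5 = true := by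
  decide +kernel

set_option maxRecDepth 100000 in
theorem ch_1_9_2_4_6 : enum 11 ck11 1 5 6564112 599 6 6 = true := by
  decide +kernel

set_option maxRecDepth 100000 in
theorem ch_1_9_2_4_7 : enum 11 ck11 1 5 7612688 663 6 7 = true := by
  decide +kernel

set_option maxRecDepth 100000 in
theorem ch_1_9_2_4_8 : enum 11 ck11 1 5 8661264 791 6 8 = true := by
  decide +kernel

set_option maxRecDepth 100000 in
theorem ch_1_9_2_4_10 : enum 11 ck11 1 5 10758416 1559 6 10 = true := by
  decide +kernel

theorem ch_1_9_2_4 : enum 11 ck11 1 6 272656 535 5 4 = true := by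
  refine enum_intro 11 ck11 1 5 272656 535 5 4 ?_
  intro v hv hb hd
  interval_cases v
  · exact absurd hb (by decide)
  · exact absurd hb (by decide)
  · exact absurd hb (by decide)
  · exact ch_1_9_2_4_3
  · exact absurd hb (by decide)
  · exact ch_1_9_2_4_5
  · exact ch_1_9_2_4_6
  · exact ch_1_9_2_4_7
  · exact ch_1_9_2_4_8
  · exact absurd hb (by decide)
  · exact ch_1_9_2_4_10

set_option maxRecDepth 100000 in
theorem ch_1_9_2_5_3 : enum 11 ck11 1 5 3483920 559 6 3 = true := by
  decide +kernel

set_option maxRecDepth 100000 in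
theorem ch_1_9_2_5_4 : enum 11 ck11 1 5 4532496 567 6 4 = true := by
  decide +kernel

set_option maxRecDepth 100000 in
theorem ch_1_9_2_5_6 : enum 11 ck11 1 5 6629648 615 6 6 = true := by
  decide +kernel

set_option maxRecDepth 100000 in
theorem ch_1_9_2_5_7 : enum 11 ck11 1 5 7678224 679 6 7 = true := by
  decide +kernel

set_option maxRecDepth 100000 in
theorem ch_1_9_2_5_8 : enum 11 ck11 1 5 8726800 807 6 8 = true := by
  decide +kernel

set_option maxRecDepth 100000 in
theorem ch_1_9_2_5_10 : enum 11 ck11 1 5 10823952 1575 6 10 = true := by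
  decide +kernel

theorem ch_1_9_2_5 : enum 11 ck11 1 6 338192 551 5 5 = true := by
  refine enum_intro 11 ck11 1 5 338192 551 5 5 ?_
  intro v hv hb hd
  interval_cases v
  · exact absurd hb (by decide)
  · exact absurd hb (by decide)
  · exact absurd hb (by decide)
  · exact ch_1_9_2_5_3
  · exact ch_1_9_2_5_4
  · exact absurd hb (by decide)
  · exact ch_1_9_2_5_6
  · exact ch_1_9_2_5_7
  · exact ch_1_9_2_5_8
  · exact absurd hb (by decide)
  · exact ch_1_9_2_5_10

set_option maxRecDepth 100000 in
theorem ch_1_9_2_6_3 : enum 11 ck11 1 5 3549456 591 6 3 = true := by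
  decide +kernel

set_option maxRecDepth 100000 in
theorem ch_1_9_2_6_4 : enum 11 ck11 1 5 4598032 599 6 4 = true := by
  decide +kernel

set_option maxRecDepth 100000 in
theorem ch_1_9_2_6_5 : enum 11 ck11 1 5 5646608 615 6 5 = true := by
  decide +kernel

set_option maxRecDepth 100000 in
theorem ch_1_9_2_6_7 : enum 11 ck11 1 5 7743760 711 6 7 = true := by
  decide +kernel

set_option maxRecDepth 100000 in
theorem ch_1_9_2_6_8 : enum 11 ck11 1 5 8792336 839 6 8 = true := by
  decide +kernel

set_option maxRecDepth 100000 in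
theorem ch_1_9_2_6_10 : enum 11 ck11 1 5 10889488 1607 6 10 = true := by
  decide +kernel

theorem ch_1_9_2_6 : enum 11 ck11 1 6 403728 583 5 6 = true := by
  refine enum_intro 11 ck11 1 5 403728 583 5 6 ?_
  intro v hv hb hd
  interval_cases v
  · exact absurd hb (by decide)
  · exact absurd hb (by decide)
  · exact absurd hb (by decide)
  · exact ch_1_9_2_6_3
  · exact ch_1_9_2_6_4
  · exact ch_1_9_2_6_5
  · exact absurd hb (by decide)
  · exact ch_1_9_2_6_7
  · exact ch_1_9_2_6_8
  · exact absurd hb (by decide)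
  · exact ch_1_9_2_6_10

set_option maxRecDepth 100000 in
theorem ch_1_9_2_7_3 : enum 11 ck11 1 5 3614992 655 6 3 = true := by
  decide +kernel

set_option maxRecDepth 100000 in
theorem ch_1_9_2_7_4 : enum 11 ck11 1 5 4663568 663 6 4 = true := by
  decide +kernel

set_option maxRecDepth 100000 in
theorem ch_1_9_2_7_5 : enum 11 ck11 1 5 5712144 679 6 5 = true := by
  decide +kernel

set_option maxRecDepth 100000 in
theorem ch_1_9_2_7_6 : enum 11 ck11 1 5 6760720 711 6 6 = true := by
  decide +kernel

set_option maxRecDepth 100000 in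
theorem ch_1_9_2_7_8 : enum 11 ck11 1 5 8857872 903 6 8 = true := by
  decide +kernel

set_option maxRecDepth 100000 in
theorem ch_1_9_2_7_10 : enum 11 ck11 1 5 10955024 1671 6 10 = true := by
  decide +kernel

theorem ch_1_9_2_7 : enum 11 ck11 1 6 469264 647 5 7 = true := by
  refine enum_intro 11 ck11 1 5 469264 647 5 7 ?_
  intro v hv hb hd
  interval_cases v
  · exact absurd hb (by decide)
  · exact absurd hb (by decide)
  · exact absurd hb (by decide)
  · exact ch_1_9_2_7_3
  · exact ch_1_9_2_7_4
  · exact ch_1_9_2_7_5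
  · exact ch_1_9_2_7_6
  · exact absurd hb (by decide)
  · exact ch_1_9_2_7_8
  · exact absurd hb (by decide)
  · exact ch_1_9_2_7_10

set_option maxRecDepth 100000 in
theorem ch_1_9_2_8_3 : enum 11 ck11 1 5 3680528 783 6 3 = true := by
  decide +kernel

set_option maxRecDepth 100000 in
theorem ch_1_9_2_8_4 : enum 11 ck11 1 5 4729104 791 6 4 = true := by
  decide +kernel

set_option maxRecDepth 100000 in
theorem ch_1_9_2_8_5 : enum 11 ck11 1 5 5777680 807 6 5 = true := by
  decide +kernel

set_option maxRecDepth 100000 in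
theorem ch_1_9_2_8_6 : enum 11 ck11 1 5 6826256 839 6 6 = true := by
  decide +kernel

set_option maxRecDepth 100000 in
theorem ch_1_9_2_8_7 : enum 11 ck11 1 5 7874832 903 6 7 = true := by
  decide +kernel

set_option maxRecDepth 100000 in
theorem ch_1_9_2_8_10 : enum 11 ck11 1 5 11020560 1799 6 10 = true := by
  decide +kernel

theorem ch_1_9_2_8 : enum 11 ck11 1 6 534800 775 5 8 = true := by
  refine enum_intro 11 ck11 1 5 534800 775 5 8 ?_
  intro v hv hb hd
  interval_cases v
  · exact absurd hb (by decide)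
  · exact absurd hb (by decide)
  · exact absurd hb (by decide)
  · exact ch_1_9_2_8_3
  · exact ch_1_9_2_8_4
  · exact ch_1_9_2_8_5
  · exact ch_1_9_2_8_6
  · exact ch_1_9_2_8_7
  · exact absurd hb (by decide)
  · exact absurd hb (by decide)
  · exact ch_1_9_2_8_10

set_option maxRecDepth 100000 in
theorem ch_1_9_2_10_3 : enum 11 ck11 1 5 3811600 1551 6 3 = true := by
  decide +kernel

set_option maxRecDepth 100000 in
theorem ch_1_9_2_10_4 : enum 11 ck11 1 5 4860176 1559 6 4 = true := by
  decide +kernel

set_option maxRecDepth 100000 in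
theorem ch_1_9_2_10_5 : enum 11 ck11 1 5 5908752 1575 6 5 = true := by
  decide +kernel

set_option maxRecDepth 100000 in
theorem ch_1_9_2_10_6 : enum 11 ck11 1 5 6957328 1607 6 6 = true := by
  decide +kernel

set_option maxRecDepth 100000 in
theorem ch_1_9_2_10_7 : enum 11 ck11 1 5 8005904 1671 6 7 = true := by
  decide +kernel

set_option maxRecDepth 100000 in
theorem ch_1_9_2_10_8 : enum 11 ck11 1 5 9054480 1799 6 8 = true := by
  decide +kernel

theorem ch_1_9_2_10 : enum 11 ck11 1 6 665872 1543 5 10 = true := by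
  refine enum_intro 11 ck11 1 5 665872 1543 5 10 ?_
  intro v hv hb hd
  interval_cases v
  · exact absurd hb (by decide)
  · exact absurd hb (by decide)
  · exact absurd hb (by decide)
  · exact ch_1_9_2_10_3
  · exact ch_1_9_2_10_4
  · exact ch_1_9_2_10_5
  · exact ch_1_9_2_10_6
  · exact ch_1_9_2_10_7
  · exact ch_1_9_2_10_8
  · exact absurd hb (by decide)
  · exact absurd hb (by decide)

theorem ch_1_9_2 : enum 11 ck11 1 7 10512 519 4 2 = true := by
  refine enum_intro 11 ck11 1 6 10512 519 4 2 ?_
  intro v hv hb hd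
  interval_cases v
  · exact absurd hb (by decide)
  · exact absurd hb (by decide)
  · exact absurd hb (by decide)
  · exact ch_1_9_2_3
  · exact ch_1_9_2_4
  · exact ch_1_9_2_5
  · exact ch_1_9_2_6
  · exact ch_1_9_2_7
  · exact ch_1_9_2_8
  · exact absurd hb (by decide)
  · exact ch_1_9_2_10

set_option maxRecDepth 100000 in
theorem ch_1_9_3_2_4 : enum 11 ck11 1 5 4339984 543 6 4 = true := by
  decide +kernel

set_option maxRecDepth 100000 in
theorem ch_1_9_3_2_5 : enum 11 ck11 1 5 5388560 559 6 5 = true := by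
  decide +kernel

set_option maxRecDepth 100000 in
theorem ch_1_9_3_2_6 : enum 11 ck11 1 5 6437136 591 6 6 = true := by
  decide +kernel

set_option maxRecDepth 100000 in
theorem ch_1_9_3_2_7 : enum 11 ck11 1 5 7485712 655 6 7 = true := by
  decide +kernel

set_option maxRecDepth 100000 in
theorem ch_1_9_3_2_8 : enum 11 ck11 1 5 8534288 783 6 8 = true := by
  decide +kernel

set_option maxRecDepth 100000 in
theorem ch_1_9_3_2_10 : enum 11 ck11 1 5 10631440 1551 6 10 = true := by
  decide +kernel

theorem ch_1_9_3_2 : enum 11 ck11 1 6 145680 527 5 2 = true := by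
  refine enum_intro 11 ck11 1 5 145680 527 5 2 ?_
  intro v hv hb hd
  interval_cases v
  · exact absurd hb (by decide)
  · exact absurd hb (by decide)
  · exact absurd hb (by decide)
  · exact absurd hb (by decide)
  · exact ch_1_9_3_2_4
  · exact ch_1_9_3_2_5
  · exact ch_1_9_3_2_6
  · exact ch_1_9_3_2_7
  · exact ch_1_9_3_2_8
  · exact absurd hb (by decide)
  · exact ch_1_9_3_2_10

set_option maxRecDepth 100000 in
theorem ch_1_9_3_4_2 : enum 11 ck11 1 5 2373904 543 6 2 = true := by
  decide +kernel

set_option maxRecDepth 100000 in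
theorem ch_1_9_3_4_5 : enum 11 ck11 1 5 5519632 571 6 5 = true := by
  decide +kernel

set_option maxRecDepth 100000 in
theorem ch_1_9_3_4_6 : enum 11 ck11 1 5 6568208 603 6 6 = true := by
  decide +kernel

set_option maxRecDepth 100000 in
theorem ch_1_9_3_4_7 : enum 11 ck11 1 5 7616784 667 6 7 = true := by
  decide +kernel

set_option maxRecDepth 100000 in
theorem ch_1_9_3_4_8 : enum 11 ck11 1 5 8665360 795 6 8 = true := by
  decide +kernel

set_option maxRecDepth 100000 in
theorem ch_1_9_3_4_10 : enum 11 ck11 1 5 10762512 1563 6 10 = true := by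
  decide +kernel

theorem ch_1_9_3_4 : enum 11 ck11 1 6 276752 539 5 4 = true := by
  refine enum_intro 11 ck11 1 5 276752 539 5 4 ?_
  intro v hv hb hd
  interval_cases v
  · exact absurd hb (by decide)
  · exact absurd hb (by decide)
  · exact ch_1_9_3_4_2
  · exact absurd hb (by decide)
  · exact absurd hb (by decide)
  · exact ch_1_9_3_4_5
  · exact ch_1_9_3_4_6
  · exact ch_1_9_3_4_7
  · exact ch_1_9_3_4_8
  · exact absurd hb (by decide)
  · exact ch_1_9_3_4_10

set_option maxRecDepth 100000 in
theorem ch_1_9_3_5_2 : enum 11 ck11 1 5 2439440 559 6 2 = true := by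
  decide +kernel

set_option maxRecDepth 100000 in
theorem ch_1_9_3_5_4 : enum 11 ck11 1 5 4536592 571 6 4 = true := by
  decide +kernel

set_option maxRecDepth 100000 in
theorem ch_1_9_3_5_6 : enum 11 ck11 1 5 6633744 619 6 6 = true := by
  decide +kernel

set_option maxRecDepth 100000 in
theorem ch_1_9_3_5_7 : enum 11 ck11 1 5 7682320 683 6 7 = true := by
  decide +kernel

set_option maxRecDepth 100000 in
theorem ch_1_9_3_5_8 : enum 11 ck11 1 5 8730896 811 6 8 = true := by
  decide +kernel

set_option maxRecDepth 100000 in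
theorem ch_1_9_3_5_10 : enum 11 ck11 1 5 10828048 1579 6 10 = true := by
  decide +kernel

theorem ch_1_9_3_5 : enum 11 ck11 1 6 342288 555 5 5 = true := by
  refine enum_intro 11 ck11 1 5 342288 555 5 5 ?_
  intro v hv hb hd
  interval_cases v
  · exact absurd hb (by decide)
  · exact absurd hb (by decide)
  · exact ch_1_9_3_5_2
  · exact absurd hb (by decide)
  · exact ch_1_9_3_5_4
  · exact absurd hb (by decide)
  · exact ch_1_9_3_5_6
  · exact ch_1_9_3_5_7
  · exact ch_1_9_3_5_8
  · exact absurd hb (by decide)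
  · exact ch_1_9_3_5_10

set_option maxRecDepth 100000 in
theorem ch_1_9_3_6_2 : enum 11 ck11 1 5 2504976 591 6 2 = true := by
  decide +kernel

set_option maxRecDepth 100000 in
theorem ch_1_9_3_6_4 : enum 11 ck11 1 5 4602128 603 6 4 = true := by
  decide +kernel

set_option maxRecDepth 100000 in
theorem ch_1_9_3_6_5 : enum 11 ck11 1 5 5650704 619 6 5 = true := by
  decide +kernel

set_option maxRecDepth 100000 in
theorem ch_1_9_3_6_7 : enum 11 ck11 1 5 7747856 715 6 7 = true := by
  decide +kernel

set_option maxRecDepth 100000 in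
theorem ch_1_9_3_6_8 : enum 11 ck11 1 5 8796432 843 6 8 = true := by
  decide +kernel

set_option maxRecDepth 100000 in
theorem ch_1_9_3_6_10 : enum 11 ck11 1 5 10893584 1611 6 10 = true := by
  decide +kernel

theorem ch_1_9_3_6 : enum 11 ck11 1 6 407824 587 5 6 = true := by
  refine enum_intro 11 ck11 1 5 407824 587 5 6 ?_
  intro v hv hb hd
  interval_cases v
  · exact absurd hb (by decide)
  · exact absurd hb (by decide)
  · exact ch_1_9_3_6_2
  · exact absurd hb (by decide)
  · exact ch_1_9_3_6_4
  · exact ch_1_9_3_6_5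
  · exact absurd hb (by decide)
  · exact ch_1_9_3_6_7
  · exact ch_1_9_3_6_8
  · exact absurd hb (by decide)
  · exact ch_1_9_3_6_10

set_option maxRecDepth 100000 in
theorem ch_1_9_3_7_2 : enum 11 ck11 1 5 2570512 655 6 2 = true := by
  decide +kernel

set_option maxRecDepth 100000 in
theorem ch_1_9_3_7_4 : enum 11 ck11 1 5 4667664 667 6 4 = true := by
  decide +kernel

set_option maxRecDepth 100000 in
theorem ch_1_9_3_7_5 : enum 11 ck11 1 5 5716240 683 6 5 = true := by
  decide +kernel

set_option maxRecDepth 100000 in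
theorem ch_1_9_3_7_6 : enum 11 ck11 1 5 6764816 715 6 6 = true := by
  decide +kernel

set_option maxRecDepth 100000 in
theorem ch_1_9_3_7_8 : enum 11 ck11 1 5 8861968 907 6 8 = true := by
  decide +kernel

set_option maxRecDepth 100000 in
theorem ch_1_9_3_7_10 : enum 11 ck11 1 5 10959120 1675 6 10 = true := by
  decide +kernel

theorem ch_1_9_3_7 : enum 11 ck11 1 6 473360 651 5 7 = true := by
  refine enum_intro 11 ck11 1 5 473360 651 5 7 ?_
  intro v hv hb hd
  interval_cases v
  · exact absurd hb (by decide)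
  · exact absurd hb (by decide)
  · exact ch_1_9_3_7_2
  · exact absurd hb (by decide)
  · exact ch_1_9_3_7_4
  · exact ch_1_9_3_7_5
  · exact ch_1_9_3_7_6
  · exact absurd hb (by decide)
  · exact ch_1_9_3_7_8
  · exact absurd hb (by decide)
  · exact ch_1_9_3_7_10

set_option maxRecDepth 100000 in
theorem ch_1_9_3_8_2 : enum 11 ck11 1 5 2636048 783 6 2 = true := by
  decide +kernel

set_option maxRecDepth 100000 in
theorem ch_1_9_3_8_4 : enum 11 ck11 1 5 4733200 795 6 4 = true := by
  decide +kernel

set_option maxRecDepth 100000 in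
theorem ch_1_9_3_8_5 : enum 11 ck11 1 5 5781776 811 6 5 = true := by
  decide +kernel

set_option maxRecDepth 100000 in
theorem ch_1_9_3_8_6 : enum 11 ck11 1 5 6830352 843 6 6 = true := by
  decide +kernel

set_option maxRecDepth 100000 in
theorem ch_1_9_3_8_7 : enum 11 ck11 1 5 7878928 907 6 7 = true := by
  decide +kernel

set_option maxRecDepth 100000 in
theorem ch_1_9_3_8_10 : enum 11 ck11 1 5 11024656 1803 6 10 = true := by
  decide +kernel

theorem ch_1_9_3_8 : enum 11 ck11 1 6 538896 779 5 8 = true := by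
  refine enum_intro 11 ck11 1 5 538896 779 5 8 ?_
  intro v hv hb hd
  interval_cases v
  · exact absurd hb (by decide)
  · exact absurd hb (by decide)
  · exact ch_1_9_3_8_2
  · exact absurd hb (by decide)
  · exact ch_1_9_3_8_4
  · exact ch_1_9_3_8_5
  · exact ch_1_9_3_8_6
  · exact ch_1_9_3_8_7
  · exact absurd hb (by decide)
  · exact absurd hb (by decide)
  · exact ch_1_9_3_8_10

set_option maxRecDepth 100000 in
theorem ch_1_9_3_10_2 : enum 11 ck11 1 5 2767120 1551 6 2 = true := by
  decide +kernel

set_option maxRecDepth 100000 in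
theorem ch_1_9_3_10_4 : enum 11 ck11 1 5 4864272 1563 6 4 = true := by
  decide +kernel

set_option maxRecDepth 100000 in
theorem ch_1_9_3_10_5 : enum 11 ck11 1 5 5912848 1579 6 5 = true := by
  decide +kernel

set_option maxRecDepth 100000 in
theorem ch_1_9_3_10_6 : enum 11 ck11 1 5 6961424 1611 6 6 = true := by
  decide +kernel

set_option maxRecDepth 100000 in
theorem ch_1_9_3_10_7 : enum 11 ck11 1 5 8010000 1675 6 7 = true := by
  decide +kernel

set_option maxRecDepth 100000 in
theorem ch_1_9_3_10_8 : enum 11 ck11 1 5 9058576 1803 6 8 = true := by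
  decide +kernel

theorem ch_1_9_3_10 : enum 11 ck11 1 6 669968 1547 5 10 = true := by
  refine enum_intro 11 ck11 1 5 669968 1547 5 10 ?_
  intro v hv hb hd
  interval_cases v
  · exact absurd hb (by decide)
  · exact absurd hb (by decide)
  · exact ch_1_9_3_10_2
  · exact absurd hb (by decide)
  · exact ch_1_9_3_10_4
  · exact ch_1_9_3_10_5
  · exact ch_1_9_3_10_6
  · exact ch_1_9_3_10_7
  · exact ch_1_9_3_10_8
  · exact absurd hb (by decide)
  · exact absurd hb (by decide)

theorem ch_1_9_3 : enum 11 ck11 1 7 14608 523 4 3 = true := by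
  refine enum_intro 11 ck11 1 6 14608 523 4 3 ?_
  intro v hv hb hd
  interval_cases v
  · exact absurd hb (by decide)
  · exact absurd hb (by decide)
  · exact ch_1_9_3_2
  · exact absurd hb (by decide)
  · exact ch_1_9_3_4
  · exact ch_1_9_3_5
  · exact ch_1_9_3_6
  · exact ch_1_9_3_7
  · exact ch_1_9_3_8
  · exact absurd hb (by decide)
  · exact ch_1_9_3_10

set_option maxRecDepth 100000 in
theorem ch_1_9_4_2_3 : enum 11 ck11 1 5 3295504 543 6 3 = true := by
  decide +kernel

set_option maxRecDepth 100000 in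
theorem ch_1_9_4_2_5 : enum 11 ck11 1 5 5392656 567 6 5 = true := by
  decide +kernel

set_option maxRecDepth 100000 in
theorem ch_1_9_4_2_6 : enum 11 ck11 1 5 6441232 599 6 6 = true := by
  decide +kernel

set_option maxRecDepth 100000 in
theorem ch_1_9_4_2_7 : enum 11 ck11 1 5 7489808 663 6 7 = true := by
  decide +kernel

set_option maxRecDepth 100000 in
theorem ch_1_9_4_2_8 : enum 11 ck11 1 5 8538384 791 6 8 = true := by
  decide +kernel

set_option maxRecDepth 100000 in
theorem ch_1_9_4_2_10 : enum 11 ck11 1 5 10635536 1559 6 10 = true := by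
  decide +kernel

theorem ch_1_9_4_2 : enum 11 ck11 1 6 149776 535 5 2 = true := by
  refine enum_intro 11 ck11 1 5 149776 535 5 2 ?_
  intro v hv hb hd
  interval_cases v
  · exact absurd hb (by decide)
  · exact absurd hb (by decide)
  · exact absurd hb (by decide)
  · exact ch_1_9_4_2_3
  · exact absurd hb (by decide)
  · exact ch_1_9_4_2_5
  · exact ch_1_9_4_2_6
  · exact ch_1_9_4_2_7
  · exact ch_1_9_4_2_8
  · exact absurd hb (by decide)
  · exact ch_1_9_4_2_10

set_option maxRecDepth 100000 in
theorem ch_1_9_4_3_2 : enum 11 ck11 1 5 2312464 543 6 2 = true := by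
  decide +kernel

set_option maxRecDepth 100000 in
theorem ch_1_9_4_3_5 : enum 11 ck11 1 5 5458192 571 6 5 = true := by
  decide +kernel

set_option maxRecDepth 100000 in
theorem ch_1_9_4_3_6 : enum 11 ck11 1 5 6506768 603 6 6 = true := by
  decide +kernel

set_option maxRecDepth 100000 in
theorem ch_1_9_4_3_7 : enum 11 ck11 1 5 7555344 667 6 7 = true := by
  decide +kernel

set_option maxRecDepth 100000 in
theorem ch_1_9_4_3_8 : enum 11 ck11 1 5 8603920 795 6 8 = true := by
  decide +kernel

set_option maxRecDepth 100000 in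
theorem ch_1_9_4_3_10 : enum 11 ck11 1 5 10701072 1563 6 10 = true := by
  decide +kernel

theorem ch_1_9_4_3 : enum 11 ck11 1 6 215312 539 5 3 = true := by
  refine enum_intro 11 ck11 1 5 215312 539 5 3 ?_
  intro v hv hb hd
  interval_cases v
  · exact absurd hb (by decide)
  · exact absurd hb (by decide)
  · exact ch_1_9_4_3_2
  · exact absurd hb (by decide)
  · exact absurd hb (by decide)
  · exact ch_1_9_4_3_5
  · exact ch_1_9_4_3_6
  · exact ch_1_9_4_3_7
  · exact ch_1_9_4_3_8
  · exact absurd hb (by decide)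
  · exact ch_1_9_4_3_10

set_option maxRecDepth 100000 in
theorem ch_1_9_4_5_2 : enum 11 ck11 1 5 2443536 567 6 2 = true := by
  decide +kernel

set_option maxRecDepth 100000 in
theorem ch_1_9_4_5_3 : enum 11 ck11 1 5 3492112 571 6 3 = true := by
  decide +kernel

set_option maxRecDepth 100000 in
theorem ch_1_9_4_5_6 : enum 11 ck11 1 5 6637840 627 6 6 = true := by
  decide +kernel

set_option maxRecDepth 100000 in
theorem ch_1_9_4_5_7 : enum 11 ck11 1 5 7686416 691 6 7 = true := by
  decide +kernel

set_option maxRecDepth 100000 in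
theorem ch_1_9_4_5_8 : enum 11 ck11 1 5 8734992 819 6 8 = true := by
  decide +kernel

set_option maxRecDepth 100000 in
theorem ch_1_9_4_5_10 : enum 11 ck11 1 5 10832144 1587 6 10 = true := by
  decide +kernel

theorem ch_1_9_4_5 : enum 11 ck11 1 6 346384 563 5 5 = true := by
  refine enum_intro 11 ck11 1 5 346384 563 5 5 ?_
  intro v hv hb hd
  interval_cases v
  · exact absurd hb (by decide)
  · exact absurd hb (by decide)
  · exact ch_1_9_4_5_2
  · exact ch_1_9_4_5_3
  · exact absurd hb (by decide)
  · exact absurd hb (by decide)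
  · exact ch_1_9_4_5_6
  · exact ch_1_9_4_5_7
  · exact ch_1_9_4_5_8
  · exact absurd hb (by decide)
  · exact ch_1_9_4_5_10

set_option maxRecDepth 100000 in
theorem ch_1_9_4_6_2 : enum 11 ck11 1 5 2509072 599 6 2 = true := by
  decide +kernel

set_option maxRecDepth 100000 in
theorem ch_1_9_4_6_3 : enum 11 ck11 1 5 3557648 603 6 3 = true := by
  decide +kernel

set_option maxRecDepth 100000 in
theorem ch_1_9_4_6_5 : enum 11 ck11 1 5 5654800 627 6 5 = true := by
  decide +kernel

set_option maxRecDepth 100000 in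
theorem ch_1_9_4_6_7 : enum 11 ck11 1 5 7751952 723 6 7 = true := by
  decide +kernel

set_option maxRecDepth 100000 in
theorem ch_1_9_4_6_8 : enum 11 ck11 1 5 8800528 851 6 8 = true := by
  decide +kernel

set_option maxRecDepth 100000 in
theorem ch_1_9_4_6_10 : enum 11 ck11 1 5 10897680 1619 6 10 = true := by
  decide +kernel

theorem ch_1_9_4_6 : enum 11 ck11 1 6 411920 595 5 6 = true := by
  refine enum_intro 11 ck11 1 5 411920 595 5 6 ?_
  intro v hv hb hd
  interval_cases v
  · exact absurd hb (by decide)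
  · exact absurd hb (by decide)
  · exact ch_1_9_4_6_2
  · exact ch_1_9_4_6_3
  · exact absurd hb (by decide)
  · exact ch_1_9_4_6_5
  · exact absurd hb (by decide)
  · exact ch_1_9_4_6_7
  · exact ch_1_9_4_6_8
  · exact absurd hb (by decide)
  · exact ch_1_9_4_6_10

set_option maxRecDepth 100000 in
theorem ch_1_9_4_7_2 : enum 11 ck11 1 5 2574608 663 6 2 = true := by
  decide +kernel

set_option maxRecDepth 100000 in
theorem ch_1_9_4_7_3 : enum 11 ck11 1 5 3623184 667 6 3 = true := by
  decide +kernel

set_option maxRecDepth 100000 in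
theorem ch_1_9_4_7_5 : enum 11 ck11 1 5 5720336 691 6 5 = true := by
  decide +kernel

set_option maxRecDepth 100000 in
theorem ch_1_9_4_7_6 : enum 11 ck11 1 5 6768912 723 6 6 = true := by
  decide +kernel

set_option maxRecDepth 100000 in
theorem ch_1_9_4_7_8 : enum 11 ck11 1 5 8866064 915 6 8 = true := by
  decide +kernel

set_option maxRecDepth 100000 in
theorem ch_1_9_4_7_10 : enum 11 ck11 1 5 10963216 1683 6 10 = true := by
  decide +kernel

theorem ch_1_9_4_7 : enum 11 ck11 1 6 477456 659 5 7 = true := by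
  refine enum_intro 11 ck11 1 5 477456 659 5 7 ?_
  intro v hv hb hd
  interval_cases v
  · exact absurd hb (by decide)
  · exact absurd hb (by decide)
  · exact ch_1_9_4_7_2
  · exact ch_1_9_4_7_3
  · exact absurd hb (by decide)
  · exact ch_1_9_4_7_5
  · exact ch_1_9_4_7_6
  · exact absurd hb (by decide)
  · exact ch_1_9_4_7_8
  · exact absurd hb (by decide)
  · exact ch_1_9_4_7_10

set_option maxRecDepth 100000 in
theorem ch_1_9_4_8_2 : enum 11 ck11 1 5 2640144 791 6 2 = true := by
  decide +kernel

set_option maxRecDepth 100000 in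
theorem ch_1_9_4_8_3 : enum 11 ck11 1 5 3688720 795 6 3 = true := by
  decide +kernel

set_option maxRecDepth 100000 in
theorem ch_1_9_4_8_5 : enum 11 ck11 1 5 5785872 819 6 5 = true := by
  decide +kernel

set_option maxRecDepth 100000 in
theorem ch_1_9_4_8_6 : enum 11 ck11 1 5 6834448 851 6 6 = true := by
  decide +kernel

set_option maxRecDepth 100000 in
theorem ch_1_9_4_8_7 : enum 11 ck11 1 5 7883024 915 6 7 = true := by
  decide +kernel

set_option maxRecDepth 100000 in
theorem ch_1_9_4_8_10 : enum 11 ck11 1 5 11028752 1811 6 10 = true := by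
  decide +kernel

theorem ch_1_9_4_8 : enum 11 ck11 1 6 542992 787 5 8 = true := by
  refine enum_intro 11 ck11 1 5 542992 787 5 8 ?_
  intro v hv hb hd
  interval_cases v
  · exact absurd hb (by decide)
  · exact absurd hb (by decide)
  · exact ch_1_9_4_8_2
  · exact ch_1_9_4_8_3
  · exact absurd hb (by decide)
  · exact ch_1_9_4_8_5
  · exact ch_1_9_4_8_6
  · exact ch_1_9_4_8_7
  · exact absurd hb (by decide)
  · exact absurd hb (by decide)
  · exact ch_1_9_4_8_10

set_option maxRecDepth 100000 in
theorem ch_1_9_4_10_2 : enum 11 ck11 1 5 2771216 1559 6 2 = true := by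
  decide +kernel

set_option maxRecDepth 100000 in
theorem ch_1_9_4_10_3 : enum 11 ck11 1 5 3819792 1563 6 3 = true := by
  decide +kernel

set_option maxRecDepth 100000 in
theorem ch_1_9_4_10_5 : enum 11 ck11 1 5 5916944 1587 6 5 = true := by
  decide +kernel

set_option maxRecDepth 100000 in
theorem ch_1_9_4_10_6 : enum 11 ck11 1 5 6965520 1619 6 6 = true := by
  decide +kernel

set_option maxRecDepth 100000 in
theorem ch_1_9_4_10_7 : enum 11 ck11 1 5 8014096 1683 6 7 = true := by
  decide +kernel

set_option maxRecDepth 100000 in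
theorem ch_1_9_4_10_8 : enum 11 ck11 1 5 9062672 1811 6 8 = true := by
  decide +kernel

theorem ch_1_9_4_10 : enum 11 ck11 1 6 674064 1555 5 10 = true := by
  refine enum_intro 11 ck11 1 5 674064 1555 5 10 ?_
  intro v hv hb hd
  interval_cases v
  · exact absurd hb (by decide)
  · exact absurd hb (by decide)
  · exact ch_1_9_4_10_2
  · exact ch_1_9_4_10_3
  · exact absurd hb (by decide)
  · exact ch_1_9_4_10_5
  · exact ch_1_9_4_10_6
  · exact ch_1_9_4_10_7
  · exact ch_1_9_4_10_8
  · exact absurd hb (by decide)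
  · exact absurd hb (by decide)

theorem ch_1_9_4 : enum 11 ck11 1 7 18704 531 4 4 = true := by
  refine enum_intro 11 ck11 1 6 18704 531 4 4 ?_
  intro v hv hb hd
  interval_cases v
  · exact absurd hb (by decide)
  · exact absurd hb (by decide)
  · exact ch_1_9_4_2
  · exact ch_1_9_4_3
  · exact absurd hb (by decide)
  · exact ch_1_9_4_5
  · exact ch_1_9_4_6
  · exact ch_1_9_4_7
  · exact ch_1_9_4_8
  · exact absurd hb (by decide)
  · exact ch_1_9_4_10

end Cfsg.Agent.Helper9.T11
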