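import Mathlib
import Cfsg.Agent.Helper9.T11.Chk

set_option autoImplicit false
set_option Elab.async false

/-!
A part of the enumeration on 11 points: the test holds at every permutation of the part.
-/

namespace Cfsg.Agent.Helper9.T11

set_option maxRecDepth 100000 in
theorem ch_1_9_5_2_3 : enum 11 ck11 1 5 3299600 559 6 3 = true := by
  decide +kernel

set_option maxRecDepth 100000 in
theorem ch_1_9_5_2_4 : enum 11 ck11 1 5 4348176 567 6 4 = true := by
  decide +kernel

set_option maxRecDepth 100000 in
theorem ch_1_9_5_2_6 : enum 11 ck11 1 5 6445328 615 6 6 = true := by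
  decide +kernel

set_option maxRecDepth 100000 in
theorem ch_1_9_5_2_7 : enum 11 ck11 1 5 7493904 679 6 7 = true := by
  decide +kernel

set_option maxRecDepth 100000 in
theorem ch_1_9_5_2_8 : enum 11 ck11 1 5 8542480 807 6 8 = true := by
  decide +kernel

set_option maxRecDepth 100000 in
theorem ch_1_9_5_2_10 : enum 11 ck11 1 5 10639632 1575 6 10 = true := by
  decide +kernel

theorem ch_1_9_5_2 : enum 11 ck11 1 6 153872 551 5 2 = true := by
  refine enum_intro 11 ck11 1 5 153872 551 5 2 ?_
  intro v hv hb hd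
  interval_cases v
  · exact absurd hb (by decide)
  · exact absurd hb (by decide)
  · exact absurd hb (by decide)
  · exact ch_1_9_5_2_3
  · exact ch_1_9_5_2_4
  · exact absurd hb (by decide)
  · exact ch_1_9_5_2_6
  · exact ch_1_9_5_2_7
  · exact ch_1_9_5_2_8
  · exact absurd hb (by decide)
  · exact ch_1_9_5_2_10

set_option maxRecDepth 100000 in
theorem ch_1_9_5_3_2 : enum 11 ck11 1 5 2316560 559 6 2 = true := by
  decide +kernel

set_option maxRecDepth 100000 in
theorem ch_1_9_5_3_4 : enum 11 ck11 1 5 4413712 571 6 4 = true := by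
  decide +kernel

set_option maxRecDepth 100000 in
theorem ch_1_9_5_3_6 : enum 11 ck11 1 5 6510864 619 6 6 = true := by
  decide +kernel

set_option maxRecDepth 100000 in
theorem ch_1_9_5_3_7 : enum 11 ck11 1 5 7559440 683 6 7 = true := by
  decide +kernel

set_option maxRecDepth 100000 in
theorem ch_1_9_5_3_8 : enum 11 ck11 1 5 8608016 811 6 8 = true := by
  decide +kernel

set_option maxRecDepth 100000 in
theorem ch_1_9_5_3_10 : enum 11 ck11 1 5 10705168 1579 6 10 = true := by
  decide +kernel

theorem ch_1_9_5_3 : enum 11 ck11 1 6 219408 555 5 3 = true := by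
  refine enum_intro 11 ck11 1 5 219408 555 5 3 ?_
  intro v hv hb hd
  interval_cases v
  · exact absurd hb (by decide)
  · exact absurd hb (by decide)
  · exact ch_1_9_5_3_2
  · exact absurd hb (by decide)
  · exact ch_1_9_5_3_4
  · exact absurd hb (by decide)
  · exact ch_1_9_5_3_6
  · exact ch_1_9_5_3_7
  · exact ch_1_9_5_3_8
  · exact absurd hb (by decide)
  · exact ch_1_9_5_3_10

set_option maxRecDepth 100000 in
theorem ch_1_9_5_4_2 : enum 11 ck11 1 5 2382096 567 6 2 = true := by
  decide +kernel

set_option maxRecDepth 100000 in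
theorem ch_1_9_5_4_3 : enum 11 ck11 1 5 3430672 571 6 3 = true := by
  decide +kernel

set_option maxRecDepth 100000 in
theorem ch_1_9_5_4_6 : enum 11 ck11 1 5 6576400 627 6 6 = true := by
  decide +kernel

set_option maxRecDepth 100000 in
theorem ch_1_9_5_4_7 : enum 11 ck11 1 5 7624976 691 6 7 = true := by
  decide +kernel

set_option maxRecDepth 100000 in
theorem ch_1_9_5_4_8 : enum 11 ck11 1 5 8673552 819 6 8 = true := by
  decide +kernel

set_option maxRecDepth 100000 in
theorem ch_1_9_5_4_10 : enum 11 ck11 1 5 10770704 1587 6 10 = true := by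
  decide +kernel

theorem ch_1_9_5_4 : enum 11 ck11 1 6 284944 563 5 4 = true := by
  refine enum_intro 11 ck11 1 5 284944 563 5 4 ?_
  intro v hv hb hd
  interval_cases v
  · exact absurd hb (by decide)
  · exact absurd hb (by decide)
  · exact ch_1_9_5_4_2
  · exact ch_1_9_5_4_3
  · exact absurd hb (by decide)
  · exact absurd hb (by decide)
  · exact ch_1_9_5_4_6
  · exact ch_1_9_5_4_7
  · exact ch_1_9_5_4_8
  · exact absurd hb (by decide)
  · exact ch_1_9_5_4_10

set_option maxRecDepth 100000 in
theorem ch_1_9_5_6_2 : enum 11 ck11 1 5 2513168 615 6 2 = true := by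
  decide +kernel

set_option maxRecDepth 100000 in
theorem ch_1_9_5_6_3 : enum 11 ck11 1 5 3561744 619 6 3 = true := by
  decide +kernel

set_option maxRecDepth 100000 in
theorem ch_1_9_5_6_4 : enum 11 ck11 1 5 4610320 627 6 4 = true := by
  decide +kernel

set_option maxRecDepth 100000 in
theorem ch_1_9_5_6_7 : enum 11 ck11 1 5 7756048 739 6 7 = true := by
  decide +kernel

set_option maxRecDepth 100000 in
theorem ch_1_9_5_6_8 : enum 11 ck11 1 5 8804624 867 6 8 = true := by
  decide +kernel

set_option maxRecDepth 100000 in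
theorem ch_1_9_5_6_10 : enum 11 ck11 1 5 10901776 1635 6 10 = true := by
  decide +kernel

theorem ch_1_9_5_6 : enum 11 ck11 1 6 416016 611 5 6 = true := by
  refine enum_intro 11 ck11 1 5 416016 611 5 6 ?_
  intro v hv hb hd
  interval_cases v
  · exact absurd hb (by decide)
  · exact absurd hb (by decide)
  · exact ch_1_9_5_6_2
  · exact ch_1_9_5_6_3
  · exact ch_1_9_5_6_4
  · exact absurd hb (by decide)
  · exact absurd hb (by decide)
  · exact ch_1_9_5_6_7
  · exact ch_1_9_5_6_8
  · exact absurd hb (by decide)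
  · exact ch_1_9_5_6_10

set_option maxRecDepth 100000 in
theorem ch_1_9_5_7_2 : enum 11 ck11 1 5 2578704 679 6 2 = true := by
  decide +kernel

set_option maxRecDepth 100000 in
theorem ch_1_9_5_7_3 : enum 11 ck11 1 5 3627280 683 6 3 = true := by
  decide +kernel

set_option maxRecDepth 100000 in
theorem ch_1_9_5_7_4 : enum 11 ck11 1 5 4675856 691 6 4 = true := by
  decide +kernel

set_option maxRecDepth 100000 in
theorem ch_1_9_5_7_6 : enum 11 ck11 1 5 6773008 739 6 6 = true := by
  decide +kernel

set_option maxRecDepth 100000 in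
theorem ch_1_9_5_7_8 : enum 11 ck11 1 5 8870160 931 6 8 = true := by
  decide +kernel

set_option maxRecDepth 100000 in
theorem ch_1_9_5_7_10 : enum 11 ck11 1 5 10967312 1699 6 10 = true := by
  decide +kernel

theorem ch_1_9_5_7 : enum 11 ck11 1 6 481552 675 5 7 = true := by
  refine enum_intro 11 ck11 1 5 481552 675 5 7 ?_
  intro v hv hb hd
  interval_cases v
  · exact absurd hb (by decide)
  · exact absurd hb (by decide)
  · exact ch_1_9_5_7_2
  · exact ch_1_9_5_7_3
  · exact ch_1_9_5_7_4
  · exact absurd hb (by decide)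
  · exact ch_1_9_5_7_6
  · exact absurd hb (by decide)
  · exact ch_1_9_5_7_8
  · exact absurd hb (by decide)
  · exact ch_1_9_5_7_10

set_option maxRecDepth 100000 in
theorem ch_1_9_5_8_2 : enum 11 ck11 1 5 2644240 807 6 2 = true := by
  decide +kernel

set_option maxRecDepth 100000 in
theorem ch_1_9_5_8_3 : enum 11 ck11 1 5 3692816 811 6 3 = true := by
  decide +kernel

set_option maxRecDepth 100000 in
theorem ch_1_9_5_8_4 : enum 11 ck11 1 5 4741392 819 6 4 = true := by
  decide +kernel

set_option maxRecDepth 100000 in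
theorem ch_1_9_5_8_6 : enum 11 ck11 1 5 6838544 867 6 6 = true := by
  decide +kernel

set_option maxRecDepth 100000 in
theorem ch_1_9_5_8_7 : enum 11 ck11 1 5 7887120 931 6 7 = true := by
  decide +kernel

set_option maxRecDepth 100000 in
theorem ch_1_9_5_8_10 : enum 11 ck11 1 5 11032848 1827 6 10 = true := by
  decide +kernel

theorem ch_1_9_5_8 : enum 11 ck11 1 6 547088 803 5 8 = true := by
  refine enum_intro 11 ck11 1 5 547088 803 5 8 ?_
  intro v hv hb hd
  interval_cases v
  · exact absurd hb (by decide)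
  · exact absurd hb (by decide)
  · exact ch_1_9_5_8_2
  · exact ch_1_9_5_8_3
  · exact ch_1_9_5_8_4
  · exact absurd hb (by decide)
  · exact ch_1_9_5_8_6
  · exact ch_1_9_5_8_7
  · exact absurd hb (by decide)
  · exact absurd hb (by decide)
  · exact ch_1_9_5_8_10

set_option maxRecDepth 100000 in
theorem ch_1_9_5_10_2 : enum 11 ck11 1 5 2775312 1575 6 2 = true := by
  decide +kernel

set_option maxRecDepth 100000 in
theorem ch_1_9_5_10_3 : enum 11 ck11 1 5 3823888 1579 6 3 = true := by
  decide +kernel

set_option maxRecDepth 100000 in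
theorem ch_1_9_5_10_4 : enum 11 ck11 1 5 4872464 1587 6 4 = true := by
  decide +kernel

set_option maxRecDepth 100000 in
theorem ch_1_9_5_10_6 : enum 11 ck11 1 5 6969616 1635 6 6 = true := by
  decide +kernel

set_option maxRecDepth 100000 in
theorem ch_1_9_5_10_7 : enum 11 ck11 1 5 8018192 1699 6 7 = true := by
  decide +kernel

set_option maxRecDepth 100000 in
theorem ch_1_9_5_10_8 : enum 11 ck11 1 5 9066768 1827 6 8 = true := by
  decide +kernel

theorem ch_1_9_5_10 : enum 11 ck11 1 6 678160 1571 5 10 = true := by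
  refine enum_intro 11 ck11 1 5 678160 1571 5 10 ?_
  intro v hv hb hd
  interval_cases v
  · exact absurd hb (by decide)
  · exact absurd hb (by decide)
  · exact ch_1_9_5_10_2
  · exact ch_1_9_5_10_3
  · exact ch_1_9_5_10_4
  · exact absurd hb (by decide)
  · exact ch_1_9_5_10_6
  · exact ch_1_9_5_10_7
  · exact ch_1_9_5_10_8
  · exact absurd hb (by decide)
  · exact absurd hb (by decide)

theorem ch_1_9_5 : enum 11 ck11 1 7 22800 547 4 5 = true := by
  refine enum_intro 11 ck11 1 6 22800 547 4 5 ?_
  intro v hv hb hd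
  interval_cases v
  · exact absurd hb (by decide)
  · exact absurd hb (by decide)
  · exact ch_1_9_5_2
  · exact ch_1_9_5_3
  · exact ch_1_9_5_4
  · exact absurd hb (by decide)
  · exact ch_1_9_5_6
  · exact ch_1_9_5_7
  · exact ch_1_9_5_8
  · exact absurd hb (by decide)
  · exact ch_1_9_5_10

set_option maxRecDepth 100000 in
theorem ch_1_9_6_2_3 : enum 11 ck11 1 5 3303696 591 6 3 = true := by
  decide +kernel

set_option maxRecDepth 100000 in
theorem ch_1_9_6_2_4 : enum 11 ck11 1 5 4352272 599 6 4 = true := by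
  decide +kernel

set_option maxRecDepth 100000 in
theorem ch_1_9_6_2_5 : enum 11 ck11 1 5 5400848 615 6 5 = true := by
  decide +kernel

set_option maxRecDepth 100000 in
theorem ch_1_9_6_2_7 : enum 11 ck11 1 5 7498000 711 6 7 = true := by
  decide +kernel

set_option maxRecDepth 100000 in
theorem ch_1_9_6_2_8 : enum 11 ck11 1 5 8546576 839 6 8 = true := by
  decide +kernel

set_option maxRecDepth 100000 in
theorem ch_1_9_6_2_10 : enum 11 ck11 1 5 10643728 1607 6 10 = true := by
  decide +kernel

theorem ch_1_9_6_2 : enum 11 ck11 1 6 157968 583 5 2 = true := by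
  refine enum_intro 11 ck11 1 5 157968 583 5 2 ?_
  intro v hv hb hd
  interval_cases v
  · exact absurd hb (by decide)
  · exact absurd hb (by decide)
  · exact absurd hb (by decide)
  · exact ch_1_9_6_2_3
  · exact ch_1_9_6_2_4
  · exact ch_1_9_6_2_5
  · exact absurd hb (by decide)
  · exact ch_1_9_6_2_7
  · exact ch_1_9_6_2_8
  · exact absurd hb (by decide)
  · exact ch_1_9_6_2_10

set_option maxRecDepth 100000 in
theorem ch_1_9_6_3_2 : enum 11 ck11 1 5 2320656 591 6 2 = true := by
  decide +kernel

set_option maxRecDepth 100000 in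
theorem ch_1_9_6_3_4 : enum 11 ck11 1 5 4417808 603 6 4 = true := by
  decide +kernel

set_option maxRecDepth 100000 in
theorem ch_1_9_6_3_5 : enum 11 ck11 1 5 5466384 619 6 5 = true := by
  decide +kernel

set_option maxRecDepth 100000 in
theorem ch_1_9_6_3_7 : enum 11 ck11 1 5 7563536 715 6 7 = true := by
  decide +kernel

set_option maxRecDepth 100000 in
theorem ch_1_9_6_3_8 : enum 11 ck11 1 5 8612112 843 6 8 = true := by
  decide +kernel

set_option maxRecDepth 100000 in
theorem ch_1_9_6_3_10 : enum 11 ck11 1 5 10709264 1611 6 10 = true := by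
  decide +kernel

theorem ch_1_9_6_3 : enum 11 ck11 1 6 223504 587 5 3 = true := by
  refine enum_intro 11 ck11 1 5 223504 587 5 3 ?_
  intro v hv hb hd
  interval_cases v
  · exact absurd hb (by decide)
  · exact absurd hb (by decide)
  · exact ch_1_9_6_3_2
  · exact absurd hb (by decide)
  · exact ch_1_9_6_3_4
  · exact ch_1_9_6_3_5
  · exact absurd hb (by decide)
  · exact ch_1_9_6_3_7
  · exact ch_1_9_6_3_8
  · exact absurd hb (by decide)
  · exact ch_1_9_6_3_10

set_option maxRecDepth 100000 in
theorem ch_1_9_6_4_2 : enum 11 ck11 1 5 2386192 599 6 2 = true := by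
  decide +kernel

set_option maxRecDepth 100000 in
theorem ch_1_9_6_4_3 : enum 11 ck11 1 5 3434768 603 6 3 = true := by
  decide +kernel

set_option maxRecDepth 100000 in
theorem ch_1_9_6_4_5 : enum 11 ck11 1 5 5531920 627 6 5 = true := by
  decide +kernel

set_option maxRecDepth 100000 in
theorem ch_1_9_6_4_7 : enum 11 ck11 1 5 7629072 723 6 7 = true := by
  decide +kernel

set_option maxRecDepth 100000 in
theorem ch_1_9_6_4_8 : enum 11 ck11 1 5 8677648 851 6 8 = true := by
  decide +kernel

set_option maxRecDepth 100000 in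
theorem ch_1_9_6_4_10 : enum 11 ck11 1 5 10774800 1619 6 10 = true := by
  decide +kernel

theorem ch_1_9_6_4 : enum 11 ck11 1 6 289040 595 5 4 = true := by
  refine enum_intro 11 ck11 1 5 289040 595 5 4 ?_
  intro v hv hb hd
  interval_cases v
  · exact absurd hb (by decide)
  · exact absurd hb (by decide)
  · exact ch_1_9_6_4_2
  · exact ch_1_9_6_4_3
  · exact absurd hb (by decide)
  · exact ch_1_9_6_4_5
  · exact absurd hb (by decide)
  · exact ch_1_9_6_4_7
  · exact ch_1_9_6_4_8
  · exact absurd hb (by decide)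
  · exact ch_1_9_6_4_10

set_option maxRecDepth 100000 in
theorem ch_1_9_6_5_2 : enum 11 ck11 1 5 2451728 615 6 2 = true := by
  decide +kernel

set_option maxRecDepth 100000 in
theorem ch_1_9_6_5_3 : enum 11 ck11 1 5 3500304 619 6 3 = true := by
  decide +kernel

set_option maxRecDepth 100000 in
theorem ch_1_9_6_5_4 : enum 11 ck11 1 5 4548880 627 6 4 = true := by
  decide +kernel

set_option maxRecDepth 100000 in
theorem ch_1_9_6_5_7 : enum 11 ck11 1 5 7694608 739 6 7 = true := by
  decide +kernel

set_option maxRecDepth 100000 in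
theorem ch_1_9_6_5_8 : enum 11 ck11 1 5 8743184 867 6 8 = true := by
  decide +kernel

set_option maxRecDepth 100000 in
theorem ch_1_9_6_5_10 : enum 11 ck11 1 5 10840336 1635 6 10 = true := by
  decide +kernel

theorem ch_1_9_6_5 : enum 11 ck11 1 6 354576 611 5 5 = true := by
  refine enum_intro 11 ck11 1 5 354576 611 5 5 ?_
  intro v hv hb hd
  interval_cases v
  · exact absurd hb (by decide)
  · exact absurd hb (by decide)
  · exact ch_1_9_6_5_2
  · exact ch_1_9_6_5_3
  · exact ch_1_9_6_5_4
  · exact absurd hb (by decide)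
  · exact absurd hb (by decide)
  · exact ch_1_9_6_5_7
  · exact ch_1_9_6_5_8
  · exact absurd hb (by decide)
  · exact ch_1_9_6_5_10

set_option maxRecDepth 100000 in
theorem ch_1_9_6_7_2 : enum 11 ck11 1 5 2582800 711 6 2 = true := by
  decide +kernel

set_option maxRecDepth 100000 in
theorem ch_1_9_6_7_3 : enum 11 ck11 1 5 3631376 715 6 3 = true := by
  decide +kernel

set_option maxRecDepth 100000 in
theorem ch_1_9_6_7_4 : enum 11 ck11 1 5 4679952 723 6 4 = true := by
  decide +kernel

set_option maxRecDepth 100000 in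
theorem ch_1_9_6_7_5 : enum 11 ck11 1 5 5728528 739 6 5 = true := by
  decide +kernel

set_option maxRecDepth 100000 in
theorem ch_1_9_6_7_8 : enum 11 ck11 1 5 8874256 963 6 8 = true := by
  decide +kernel

set_option maxRecDepth 100000 in
theorem ch_1_9_6_7_10 : enum 11 ck11 1 5 10971408 1731 6 10 = true := by
  decide +kernel

theorem ch_1_9_6_7 : enum 11 ck11 1 6 485648 707 5 7 = true := by
  refine enum_intro 11 ck11 1 5 485648 707 5 7 ?_
  intro v hv hb hd
  interval_cases v
  · exact absurd hb (by decide)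
  · exact absurd hb (by decide)
  · exact ch_1_9_6_7_2
  · exact ch_1_9_6_7_3
  · exact ch_1_9_6_7_4
  · exact ch_1_9_6_7_5
  · exact absurd hb (by decide)
  · exact absurd hb (by decide)
  · exact ch_1_9_6_7_8
  · exact absurd hb (by decide)
  · exact ch_1_9_6_7_10

set_option maxRecDepth 100000 in
theorem ch_1_9_6_8_2 : enum 11 ck11 1 5 2648336 839 6 2 = true := by
  decide +kernel

set_option maxRecDepth 100000 in
theorem ch_1_9_6_8_3 : enum 11 ck11 1 5 3696912 843 6 3 = true := by
  decide +kernel

set_option maxRecDepth 100000 in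
theorem ch_1_9_6_8_4 : enum 11 ck11 1 5 4745488 851 6 4 = true := by
  decide +kernel

set_option maxRecDepth 100000 in
theorem ch_1_9_6_8_5 : enum 11 ck11 1 5 5794064 867 6 5 = true := by
  decide +kernel

set_option maxRecDepth 100000 in
theorem ch_1_9_6_8_7 : enum 11 ck11 1 5 7891216 963 6 7 = true := by
  decide +kernel

set_option maxRecDepth 100000 in
theorem ch_1_9_6_8_10 : enum 11 ck11 1 5 11036944 1859 6 10 = true := by
  decide +kernel

theorem ch_1_9_6_8 : enum 11 ck11 1 6 551184 835 5 8 = true := by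
  refine enum_intro 11 ck11 1 5 551184 835 5 8 ?_
  intro v hv hb hd
  interval_cases v
  · exact absurd hb (by decide)
  · exact absurd hb (by decide)
  · exact ch_1_9_6_8_2
  · exact ch_1_9_6_8_3
  · exact ch_1_9_6_8_4
  · exact ch_1_9_6_8_5
  · exact absurd hb (by decide)
  · exact ch_1_9_6_8_7
  · exact absurd hb (by decide)
  · exact absurd hb (by decide)
  · exact ch_1_9_6_8_10

set_option maxRecDepth 100000 in
theorem ch_1_9_6_10_2 : enum 11 ck11 1 5 2779408 1607 6 2 = true := by
  decide +kernel

set_option maxRecDepth 100000 in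
theorem ch_1_9_6_10_3 : enum 11 ck11 1 5 3827984 1611 6 3 = true := by
  decide +kernel

set_option maxRecDepth 100000 in
theorem ch_1_9_6_10_4 : enum 11 ck11 1 5 4876560 1619 6 4 = true := by
  decide +kernel

set_option maxRecDepth 100000 in
theorem ch_1_9_6_10_5 : enum 11 ck11 1 5 5925136 1635 6 5 = true := by
  decide +kernel

set_option maxRecDepth 100000 in
theorem ch_1_9_6_10_7 : enum 11 ck11 1 5 8022288 1731 6 7 = true := by
  decide +kernel

set_option maxRecDepth 100000 in
theorem ch_1_9_6_10_8 : enum 11 ck11 1 5 9070864 1859 6 8 = true := by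
  decide +kernel

theorem ch_1_9_6_10 : enum 11 ck11 1 6 682256 1603 5 10 = true := by
  refine enum_intro 11 ck11 1 5 682256 1603 5 10 ?_
  intro v hv hb hd
  interval_cases v
  · exact absurd hb (by decide)
  · exact absurd hb (by decide)
  · exact ch_1_9_6_10_2
  · exact ch_1_9_6_10_3
  · exact ch_1_9_6_10_4
  · exact ch_1_9_6_10_5
  · exact absurd hb (by decide)
  · exact ch_1_9_6_10_7
  · exact ch_1_9_6_10_8
  · exact absurd hb (by decide)
  · exact absurd hb (by decide)

theorem ch_1_9_6 : enum 11 ck11 1 7 26896 579 4 6 = true := by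
  refine enum_intro 11 ck11 1 6 26896 579 4 6 ?_
  intro v hv hb hd
  interval_cases v
  · exact absurd hb (by decide)
  · exact absurd hb (by decide)
  · exact ch_1_9_6_2
  · exact ch_1_9_6_3
  · exact ch_1_9_6_4
  · exact ch_1_9_6_5
  · exact absurd hb (by decide)
  · exact ch_1_9_6_7
  · exact ch_1_9_6_8
  · exact absurd hb (by decide)
  · exact ch_1_9_6_10

set_option maxRecDepth 100000 in
theorem ch_1_9_7_2_3 : enum 11 ck11 1 5 3307792 655 6 3 = true := by
  decide +kernel

set_option maxRecDepth 100000 in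
theorem ch_1_9_7_2_4 : enum 11 ck11 1 5 4356368 663 6 4 = true := by
  decide +kernel

set_option maxRecDepth 100000 in
theorem ch_1_9_7_2_5 : enum 11 ck11 1 5 5404944 679 6 5 = true := by
  decide +kernel

set_option maxRecDepth 100000 in
theorem ch_1_9_7_2_6 : enum 11 ck11 1 5 6453520 711 6 6 = true := by
  decide +kernel

set_option maxRecDepth 100000 in
theorem ch_1_9_7_2_8 : enum 11 ck11 1 5 8550672 903 6 8 = true := by
  decide +kernel

set_option maxRecDepth 100000 in
theorem ch_1_9_7_2_10 : enum 11 ck11 1 5 10647824 1671 6 10 = true := by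
  decide +kernel

theorem ch_1_9_7_2 : enum 11 ck11 1 6 162064 647 5 2 = true := by
  refine enum_intro 11 ck11 1 5 162064 647 5 2 ?_
  intro v hv hb hd
  interval_cases v
  · exact absurd hb (by decide)
  · exact absurd hb (by decide)
  · exact absurd hb (by decide)
  · exact ch_1_9_7_2_3
  · exact ch_1_9_7_2_4
  · exact ch_1_9_7_2_5
  · exact ch_1_9_7_2_6
  · exact absurd hb (by decide)
  · exact ch_1_9_7_2_8
  · exact absurd hb (by decide)
  · exact ch_1_9_7_2_10

set_option maxRecDepth 100000 in
theorem ch_1_9_7_3_2 : enum 11 ck11 1 5 2324752 655 6 2 = true := by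
  decide +kernel

set_option maxRecDepth 100000 in
theorem ch_1_9_7_3_4 : enum 11 ck11 1 5 4421904 667 6 4 = true := by
  decide +kernel

set_option maxRecDepth 100000 in
theorem ch_1_9_7_3_5 : enum 11 ck11 1 5 5470480 683 6 5 = true := by
  decide +kernel

set_option maxRecDepth 100000 in
theorem ch_1_9_7_3_6 : enum 11 ck11 1 5 6519056 715 6 6 = true := by
  decide +kernel

set_option maxRecDepth 100000 in
theorem ch_1_9_7_3_8 : enum 11 ck11 1 5 8616208 907 6 8 = true := by
  decide +kernel

set_option maxRecDepth 100000 in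
theorem ch_1_9_7_3_10 : enum 11 ck11 1 5 10713360 1675 6 10 = true := by
  decide +kernel

theorem ch_1_9_7_3 : enum 11 ck11 1 6 227600 651 5 3 = true := by
  refine enum_intro 11 ck11 1 5 227600 651 5 3 ?_
  intro v hv hb hd
  interval_cases v
  · exact absurd hb (by decide)
  · exact absurd hb (by decide)
  · exact ch_1_9_7_3_2
  · exact absurd hb (by decide)
  · exact ch_1_9_7_3_4
  · exact ch_1_9_7_3_5
  · exact ch_1_9_7_3_6
  · exact absurd hb (by decide)
  · exact ch_1_9_7_3_8
  · exact absurd hb (by decide)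
  · exact ch_1_9_7_3_10

set_option maxRecDepth 100000 in
theorem ch_1_9_7_4_2 : enum 11 ck11 1 5 2390288 663 6 2 = true := by
  decide +kernel

set_option maxRecDepth 100000 in
theorem ch_1_9_7_4_3 : enum 11 ck11 1 5 3438864 667 6 3 = true := by
  decide +kernel

set_option maxRecDepth 100000 in
theorem ch_1_9_7_4_5 : enum 11 ck11 1 5 5536016 691 6 5 = true := by
  decide +kernel

set_option maxRecDepth 100000 in
theorem ch_1_9_7_4_6 : enum 11 ck11 1 5 6584592 723 6 6 = true := by
  decide +kernel

set_option maxRecDepth 100000 in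
theorem ch_1_9_7_4_8 : enum 11 ck11 1 5 8681744 915 6 8 = true := by
  decide +kernel

set_option maxRecDepth 100000 in
theorem ch_1_9_7_4_10 : enum 11 ck11 1 5 10778896 1683 6 10 = true := by
  decide +kernel

theorem ch_1_9_7_4 : enum 11 ck11 1 6 293136 659 5 4 = true := by
  refine enum_intro 11 ck11 1 5 293136 659 5 4 ?_
  intro v hv hb hd
  interval_cases v
  · exact absurd hb (by decide)
  · exact absurd hb (by decide)
  · exact ch_1_9_7_4_2
  · exact ch_1_9_7_4_3
  · exact absurd hb (by decide)
  · exact ch_1_9_7_4_5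
  · exact ch_1_9_7_4_6
  · exact absurd hb (by decide)
  · exact ch_1_9_7_4_8
  · exact absurd hb (by decide)
  · exact ch_1_9_7_4_10

set_option maxRecDepth 100000 in
theorem ch_1_9_7_5_2 : enum 11 ck11 1 5 2455824 679 6 2 = true := by
  decide +kernel

set_option maxRecDepth 100000 in
theorem ch_1_9_7_5_3 : enum 11 ck11 1 5 3504400 683 6 3 = true := by
  decide +kernel

set_option maxRecDepth 100000 in
theorem ch_1_9_7_5_4 : enum 11 ck11 1 5 4552976 691 6 4 = true := by
  decide +kernel

set_option maxRecDepth 100000 in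
theorem ch_1_9_7_5_6 : enum 11 ck11 1 5 6650128 739 6 6 = true := by
  decide +kernel

set_option maxRecDepth 100000 in
theorem ch_1_9_7_5_8 : enum 11 ck11 1 5 8747280 931 6 8 = true := by
  decide +kernel

set_option maxRecDepth 100000 in
theorem ch_1_9_7_5_10 : enum 11 ck11 1 5 10844432 1699 6 10 = true := by
  decide +kernel

theorem ch_1_9_7_5 : enum 11 ck11 1 6 358672 675 5 5 = true := by
  refine enum_intro 11 ck11 1 5 358672 675 5 5 ?_
  intro v hv hb hd
  interval_cases v
  · exact absurd hb (by decide)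
  · exact absurd hb (by decide)
  · exact ch_1_9_7_5_2
  · exact ch_1_9_7_5_3
  · exact ch_1_9_7_5_4
  · exact absurd hb (by decide)
  · exact ch_1_9_7_5_6
  · exact absurd hb (by decide)
  · exact ch_1_9_7_5_8
  · exact absurd hb (by decide)
  · exact ch_1_9_7_5_10

set_option maxRecDepth 100000 in
theorem ch_1_9_7_6_2 : enum 11 ck11 1 5 2521360 711 6 2 = true := by
  decide +kernel

set_option maxRecDepth 100000 in
theorem ch_1_9_7_6_3 : enum 11 ck11 1 5 3569936 715 6 3 = true := by
  decide +kernel

set_option maxRecDepth 100000 in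
theorem ch_1_9_7_6_4 : enum 11 ck11 1 5 4618512 723 6 4 = true := by
  decide +kernel

set_option maxRecDepth 100000 in
theorem ch_1_9_7_6_5 : enum 11 ck11 1 5 5667088 739 6 5 = true := by
  decide +kernel

set_option maxRecDepth 100000 in
theorem ch_1_9_7_6_8 : enum 11 ck11 1 5 8812816 963 6 8 = true := by
  decide +kernel

set_option maxRecDepth 100000 in
theorem ch_1_9_7_6_10 : enum 11 ck11 1 5 10909968 1731 6 10 = true := by
  decide +kernel

theorem ch_1_9_7_6 : enum 11 ck11 1 6 424208 707 5 6 = true := by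
  refine enum_intro 11 ck11 1 5 424208 707 5 6 ?_
  intro v hv hb hd
  interval_cases v
  · exact absurd hb (by decide)
  · exact absurd hb (by decide)
  · exact ch_1_9_7_6_2
  · exact ch_1_9_7_6_3
  · exact ch_1_9_7_6_4
  · exact ch_1_9_7_6_5
  · exact absurd hb (by decide)
  · exact absurd hb (by decide)
  · exact ch_1_9_7_6_8
  · exact absurd hb (by decide)
  · exact ch_1_9_7_6_10

set_option maxRecDepth 100000 in
theorem ch_1_9_7_8_2 : enum 11 ck11 1 5 2652432 903 6 2 = true := by
  decide +kernel

set_option maxRecDepth 100000 in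
theorem ch_1_9_7_8_3 : enum 11 ck11 1 5 3701008 907 6 3 = true := by
  decide +kernel

set_option maxRecDepth 100000 in
theorem ch_1_9_7_8_4 : enum 11 ck11 1 5 4749584 915 6 4 = true := by
  decide +kernel

set_option maxRecDepth 100000 in
theorem ch_1_9_7_8_5 : enum 11 ck11 1 5 5798160 931 6 5 = true := by
  decide +kernel

set_option maxRecDepth 100000 in
theorem ch_1_9_7_8_6 : enum 11 ck11 1 5 6846736 963 6 6 = true := by
  decide +kernel

set_option maxRecDepth 100000 in
theorem ch_1_9_7_8_10 : enum 11 ck11 1 5 11041040 1923 6 10 = true := by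
  decide +kernel

theorem ch_1_9_7_8 : enum 11 ck11 1 6 555280 899 5 8 = true := by
  refine enum_intro 11 ck11 1 5 555280 899 5 8 ?_
  intro v hv hb hd
  interval_cases v
  · exact absurd hb (by decide)
  · exact absurd hb (by decide)
  · exact ch_1_9_7_8_2
  · exact ch_1_9_7_8_3
  · exact ch_1_9_7_8_4
  · exact ch_1_9_7_8_5
  · exact ch_1_9_7_8_6
  · exact absurd hb (by decide)
  · exact absurd hb (by decide)
  · exact absurd hb (by decide)
  · exact ch_1_9_7_8_10

set_option maxRecDepth 100000 in
theorem ch_1_9_7_10_2 : enum 11 ck11 1 5 2783504 1671 6 2 = true := by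
  decide +kernel

set_option maxRecDepth 100000 in
theorem ch_1_9_7_10_3 : enum 11 ck11 1 5 3832080 1675 6 3 = true := by
  decide +kernel

set_option maxRecDepth 100000 in
theorem ch_1_9_7_10_4 : enum 11 ck11 1 5 4880656 1683 6 4 = true := by
  decide +kernel

set_option maxRecDepth 100000 in
theorem ch_1_9_7_10_5 : enum 11 ck11 1 5 5929232 1699 6 5 = true := by
  decide +kernel

set_option maxRecDepth 100000 in
theorem ch_1_9_7_10_6 : enum 11 ck11 1 5 6977808 1731 6 6 = true := by
  decide +kernel

set_option maxRecDepth 100000 in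
theorem ch_1_9_7_10_8 : enum 11 ck11 1 5 9074960 1923 6 8 = true := by
  decide +kernel

theorem ch_1_9_7_10 : enum 11 ck11 1 6 686352 1667 5 10 = true := by
  refine enum_intro 11 ck11 1 5 686352 1667 5 10 ?_
  intro v hv hb hd
  interval_cases v
  · exact absurd hb (by decide)
  · exact absurd hb (by decide)
  · exact ch_1_9_7_10_2
  · exact ch_1_9_7_10_3
  · exact ch_1_9_7_10_4
  · exact ch_1_9_7_10_5
  · exact ch_1_9_7_10_6
  · exact absurd hb (by decide)
  · exact ch_1_9_7_10_8
  · exact absurd hb (by decide)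
  · exact absurd hb (by decide)

theorem ch_1_9_7 : enum 11 ck11 1 7 30992 643 4 7 = true := by
  refine enum_intro 11 ck11 1 6 30992 643 4 7 ?_
  intro v hv hb hd
  interval_cases v
  · exact absurd hb (by decide)
  · exact absurd hb (by decide)
  · exact ch_1_9_7_2
  · exact ch_1_9_7_3
  · exact ch_1_9_7_4
  · exact ch_1_9_7_5
  · exact ch_1_9_7_6
  · exact absurd hb (by decide)
  · exact ch_1_9_7_8
  · exact absurd hb (by decide)
  · exact ch_1_9_7_10

end Cfsg.Agent.Helper9.T11
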