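import Mathlib
import Cfsg.Agent.Helper9.T11.Chk

set_option autoImplicit false
set_option Elab.async false

/-!
A part of the enumeration on 11 points: the test holds at every permutation of the part.
-/

namespace Cfsg.Agent.Helper9.T11

set_option maxRecDepth 100000 in
theorem ch_1_9_8_2_3 : enum 11 ck11 1 5 3311888 783 6 3 = true := by
  decide +kernel

set_option maxRecDepth 100000 in
theorem ch_1_9_8_2_4 : enum 11 ck11 1 5 4360464 791 6 4 = true := by
  decide +kernel

set_option maxRecDepth 100000 in
theorem ch_1_9_8_2_5 : enum 11 ck11 1 5 5409040 807 6 5 = true := by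
  decide +kernel

set_option maxRecDepth 100000 in
theorem ch_1_9_8_2_6 : enum 11 ck11 1 5 6457616 839 6 6 = true := by
  decide +kernel

set_option maxRecDepth 100000 in
theorem ch_1_9_8_2_7 : enum 11 ck11 1 5 7506192 903 6 7 = true := by
  decide +kernel

set_option maxRecDepth 100000 in
theorem ch_1_9_8_2_10 : enum 11 ck11 1 5 10651920 1799 6 10 = true := by
  decide +kernel

theorem ch_1_9_8_2 : enum 11 ck11 1 6 166160 775 5 2 = true := by
  refine enum_intro 11 ck11 1 5 166160 775 5 2 ?_
  intro v hv hb hd
  interval_cases v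
  · exact absurd hb (by decide)
  · exact absurd hb (by decide)
  · exact absurd hb (by decide)
  · exact ch_1_9_8_2_3
  · exact ch_1_9_8_2_4
  · exact ch_1_9_8_2_5
  · exact ch_1_9_8_2_6
  · exact ch_1_9_8_2_7
  · exact absurd hb (by decide)
  · exact absurd hb (by decide)
  · exact ch_1_9_8_2_10

set_option maxRecDepth 100000 in
theorem ch_1_9_8_3_2 : enum 11 ck11 1 5 2328848 783 6 2 = true := by
  decide +kernel

set_option maxRecDepth 100000 in
theorem ch_1_9_8_3_4 : enum 11 ck11 1 5 4426000 795 6 4 = true := by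
  decide +kernel

set_option maxRecDepth 100000 in
theorem ch_1_9_8_3_5 : enum 11 ck11 1 5 5474576 811 6 5 = true := by
  decide +kernel

set_option maxRecDepth 100000 in
theorem ch_1_9_8_3_6 : enum 11 ck11 1 5 6523152 843 6 6 = true := by
  decide +kernel

set_option maxRecDepth 100000 in
theorem ch_1_9_8_3_7 : enum 11 ck11 1 5 7571728 907 6 7 = true := by
  decide +kernel

set_option maxRecDepth 100000 in
theorem ch_1_9_8_3_10 : enum 11 ck11 1 5 10717456 1803 6 10 = true := by
  decide +kernel

theorem ch_1_9_8_3 : enum 11 ck11 1 6 231696 779 5 3 = true := by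
  refine enum_intro 11 ck11 1 5 231696 779 5 3 ?_
  intro v hv hb hd
  interval_cases v
  · exact absurd hb (by decide)
  · exact absurd hb (by decide)
  · exact ch_1_9_8_3_2
  · exact absurd hb (by decide)
  · exact ch_1_9_8_3_4
  · exact ch_1_9_8_3_5
  · exact ch_1_9_8_3_6
  · exact ch_1_9_8_3_7
  · exact absurd hb (by decide)
  · exact absurd hb (by decide)
  · exact ch_1_9_8_3_10

set_option maxRecDepth 100000 in
theorem ch_1_9_8_4_2 : enum 11 ck11 1 5 2394384 791 6 2 = true := by
  decide +kernel

set_option maxRecDepth 100000 in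
theorem ch_1_9_8_4_3 : enum 11 ck11 1 5 3442960 795 6 3 = true := by
  decide +kernel

set_option maxRecDepth 100000 in
theorem ch_1_9_8_4_5 : enum 11 ck11 1 5 5540112 819 6 5 = true := by
  decide +kernel

set_option maxRecDepth 100000 in
theorem ch_1_9_8_4_6 : enum 11 ck11 1 5 6588688 851 6 6 = true := by
  decide +kernel

set_option maxRecDepth 100000 in
theorem ch_1_9_8_4_7 : enum 11 ck11 1 5 7637264 915 6 7 = true := by
  decide +kernel

set_option maxRecDepth 100000 in
theorem ch_1_9_8_4_10 : enum 11 ck11 1 5 10782992 1811 6 10 = true := by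
  decide +kernel

theorem ch_1_9_8_4 : enum 11 ck11 1 6 297232 787 5 4 = true := by
  refine enum_intro 11 ck11 1 5 297232 787 5 4 ?_
  intro v hv hb hd
  interval_cases v
  · exact absurd hb (by decide)
  · exact absurd hb (by decide)
  · exact ch_1_9_8_4_2
  · exact ch_1_9_8_4_3
  · exact absurd hb (by decide)
  · exact ch_1_9_8_4_5
  · exact ch_1_9_8_4_6
  · exact ch_1_9_8_4_7
  · exact absurd hb (by decide)
  · exact absurd hb (by decide)
  · exact ch_1_9_8_4_10

set_option maxRecDepth 100000 in
theorem ch_1_9_8_5_2 : enum 11 ck11 1 5 2459920 807 6 2 = true := by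
  decide +kernel

set_option maxRecDepth 100000 in
theorem ch_1_9_8_5_3 : enum 11 ck11 1 5 3508496 811 6 3 = true := by
  decide +kernel

set_option maxRecDepth 100000 in
theorem ch_1_9_8_5_4 : enum 11 ck11 1 5 4557072 819 6 4 = true := by
  decide +kernel

set_option maxRecDepth 100000 in
theorem ch_1_9_8_5_6 : enum 11 ck11 1 5 6654224 867 6 6 = true := by
  decide +kernel

set_option maxRecDepth 100000 in
theorem ch_1_9_8_5_7 : enum 11 ck11 1 5 7702800 931 6 7 = true := by
  decide +kernel

set_option maxRecDepth 100000 in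
theorem ch_1_9_8_5_10 : enum 11 ck11 1 5 10848528 1827 6 10 = true := by
  decide +kernel

theorem ch_1_9_8_5 : enum 11 ck11 1 6 362768 803 5 5 = true := by
  refine enum_intro 11 ck11 1 5 362768 803 5 5 ?_
  intro v hv hb hd
  interval_cases v
  · exact absurd hb (by decide)
  · exact absurd hb (by decide)
  · exact ch_1_9_8_5_2
  · exact ch_1_9_8_5_3
  · exact ch_1_9_8_5_4
  · exact absurd hb (by decide)
  · exact ch_1_9_8_5_6
  · exact ch_1_9_8_5_7
  · exact absurd hb (by decide)
  · exact absurd hb (by decide)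
  · exact ch_1_9_8_5_10

set_option maxRecDepth 100000 in
theorem ch_1_9_8_6_2 : enum 11 ck11 1 5 2525456 839 6 2 = true := by
  decide +kernel

set_option maxRecDepth 100000 in
theorem ch_1_9_8_6_3 : enum 11 ck11 1 5 3574032 843 6 3 = true := by
  decide +kernel

set_option maxRecDepth 100000 in
theorem ch_1_9_8_6_4 : enum 11 ck11 1 5 4622608 851 6 4 = true := by
  decide +kernel

set_option maxRecDepth 100000 in
theorem ch_1_9_8_6_5 : enum 11 ck11 1 5 5671184 867 6 5 = true := by
  decide +kernel

set_option maxRecDepth 100000 in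
theorem ch_1_9_8_6_7 : enum 11 ck11 1 5 7768336 963 6 7 = true := by
  decide +kernel

set_option maxRecDepth 100000 in
theorem ch_1_9_8_6_10 : enum 11 ck11 1 5 10914064 1859 6 10 = true := by
  decide +kernel

theorem ch_1_9_8_6 : enum 11 ck11 1 6 428304 835 5 6 = true := by
  refine enum_intro 11 ck11 1 5 428304 835 5 6 ?_
  intro v hv hb hd
  interval_cases v
  · exact absurd hb (by decide)
  · exact absurd hb (by decide)
  · exact ch_1_9_8_6_2
  · exact ch_1_9_8_6_3
  · exact ch_1_9_8_6_4
  · exact ch_1_9_8_6_5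
  · exact absurd hb (by decide)
  · exact ch_1_9_8_6_7
  · exact absurd hb (by decide)
  · exact absurd hb (by decide)
  · exact ch_1_9_8_6_10

set_option maxRecDepth 100000 in
theorem ch_1_9_8_7_2 : enum 11 ck11 1 5 2590992 903 6 2 = true := by
  decide +kernel

set_option maxRecDepth 100000 in
theorem ch_1_9_8_7_3 : enum 11 ck11 1 5 3639568 907 6 3 = true := by
  decide +kernel

set_option maxRecDepth 100000 in
theorem ch_1_9_8_7_4 : enum 11 ck11 1 5 4688144 915 6 4 = true := by
  decide +kernel

set_option maxRecDepth 100000 in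
theorem ch_1_9_8_7_5 : enum 11 ck11 1 5 5736720 931 6 5 = true := by
  decide +kernel

set_option maxRecDepth 100000 in
theorem ch_1_9_8_7_6 : enum 11 ck11 1 5 6785296 963 6 6 = true := by
  decide +kernel

set_option maxRecDepth 100000 in
theorem ch_1_9_8_7_10 : enum 11 ck11 1 5 10979600 1923 6 10 = true := by
  decide +kernel

theorem ch_1_9_8_7 : enum 11 ck11 1 6 493840 899 5 7 = true := by
  refine enum_intro 11 ck11 1 5 493840 899 5 7 ?_
  intro v hv hb hd
  interval_cases v
  · exact absurd hb (by decide)
  · exact absurd hb (by decide)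
  · exact ch_1_9_8_7_2
  · exact ch_1_9_8_7_3
  · exact ch_1_9_8_7_4
  · exact ch_1_9_8_7_5
  · exact ch_1_9_8_7_6
  · exact absurd hb (by decide)
  · exact absurd hb (by decide)
  · exact absurd hb (by decide)
  · exact ch_1_9_8_7_10

set_option maxRecDepth 100000 in
theorem ch_1_9_8_10_2 : enum 11 ck11 1 5 2787600 1799 6 2 = true := by
  decide +kernel

set_option maxRecDepth 100000 in
theorem ch_1_9_8_10_3 : enum 11 ck11 1 5 3836176 1803 6 3 = true := by
  decide +kernel

set_option maxRecDepth 100000 in
theorem ch_1_9_8_10_4 : enum 11 ck11 1 5 4884752 1811 6 4 = true := by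
  decide +kernel

set_option maxRecDepth 100000 in
theorem ch_1_9_8_10_5 : enum 11 ck11 1 5 5933328 1827 6 5 = true := by
  decide +kernel

set_option maxRecDepth 100000 in
theorem ch_1_9_8_10_6 : enum 11 ck11 1 5 6981904 1859 6 6 = true := by
  decide +kernel

set_option maxRecDepth 100000 in
theorem ch_1_9_8_10_7 : enum 11 ck11 1 5 8030480 1923 6 7 = true := by
  decide +kernel

theorem ch_1_9_8_10 : enum 11 ck11 1 6 690448 1795 5 10 = true := by
  refine enum_intro 11 ck11 1 5 690448 1795 5 10 ?_
  intro v hv hb hd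
  interval_cases v
  · exact absurd hb (by decide)
  · exact absurd hb (by decide)
  · exact ch_1_9_8_10_2
  · exact ch_1_9_8_10_3
  · exact ch_1_9_8_10_4
  · exact ch_1_9_8_10_5
  · exact ch_1_9_8_10_6
  · exact ch_1_9_8_10_7
  · exact absurd hb (by decide)
  · exact absurd hb (by decide)
  · exact absurd hb (by decide)

theorem ch_1_9_8 : enum 11 ck11 1 7 35088 771 4 8 = true := by
  refine enum_intro 11 ck11 1 6 35088 771 4 8 ?_
  intro v hv hb hd
  interval_cases v
  · exact absurd hb (by decide)
  · exact absurd hb (by decide)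
  · exact ch_1_9_8_2
  · exact ch_1_9_8_3
  · exact ch_1_9_8_4
  · exact ch_1_9_8_5
  · exact ch_1_9_8_6
  · exact ch_1_9_8_7
  · exact absurd hb (by decide)
  · exact absurd hb (by decide)
  · exact ch_1_9_8_10

set_option maxRecDepth 100000 in
theorem ch_1_9_10_2_3 : enum 11 ck11 1 5 3320080 1551 6 3 = true := by
  decide +kernel

set_option maxRecDepth 100000 in
theorem ch_1_9_10_2_4 : enum 11 ck11 1 5 4368656 1559 6 4 = true := by
  decide +kernel

set_option maxRecDepth 100000 in
theorem ch_1_9_10_2_5 : enum 11 ck11 1 5 5417232 1575 6 5 = true := by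
  decide +kernel

set_option maxRecDepth 100000 in
theorem ch_1_9_10_2_6 : enum 11 ck11 1 5 6465808 1607 6 6 = true := by
  decide +kernel

set_option maxRecDepth 100000 in
theorem ch_1_9_10_2_7 : enum 11 ck11 1 5 7514384 1671 6 7 = true := by
  decide +kernel

set_option maxRecDepth 100000 in
theorem ch_1_9_10_2_8 : enum 11 ck11 1 5 8562960 1799 6 8 = true := by
  decide +kernel

theorem ch_1_9_10_2 : enum 11 ck11 1 6 174352 1543 5 2 = true := by
  refine enum_intro 11 ck11 1 5 174352 1543 5 2 ?_
  intro v hv hb hd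
  interval_cases v
  · exact absurd hb (by decide)
  · exact absurd hb (by decide)
  · exact absurd hb (by decide)
  · exact ch_1_9_10_2_3
  · exact ch_1_9_10_2_4
  · exact ch_1_9_10_2_5
  · exact ch_1_9_10_2_6
  · exact ch_1_9_10_2_7
  · exact ch_1_9_10_2_8
  · exact absurd hb (by decide)
  · exact absurd hb (by decide)

set_option maxRecDepth 100000 in
theorem ch_1_9_10_3_2 : enum 11 ck11 1 5 2337040 1551 6 2 = true := by
  decide +kernel

set_option maxRecDepth 100000 in
theorem ch_1_9_10_3_4 : enum 11 ck11 1 5 4434192 1563 6 4 = true := by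
  decide +kernel

set_option maxRecDepth 100000 in
theorem ch_1_9_10_3_5 : enum 11 ck11 1 5 5482768 1579 6 5 = true := by
  decide +kernel

set_option maxRecDepth 100000 in
theorem ch_1_9_10_3_6 : enum 11 ck11 1 5 6531344 1611 6 6 = true := by
  decide +kernel

set_option maxRecDepth 100000 in
theorem ch_1_9_10_3_7 : enum 11 ck11 1 5 7579920 1675 6 7 = true := by
  decide +kernel

set_option maxRecDepth 100000 in
theorem ch_1_9_10_3_8 : enum 11 ck11 1 5 8628496 1803 6 8 = true := by
  decide +kernel

theorem ch_1_9_10_3 : enum 11 ck11 1 6 239888 1547 5 3 = true := by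
  refine enum_intro 11 ck11 1 5 239888 1547 5 3 ?_
  intro v hv hb hd
  interval_cases v
  · exact absurd hb (by decide)
  · exact absurd hb (by decide)
  · exact ch_1_9_10_3_2
  · exact absurd hb (by decide)
  · exact ch_1_9_10_3_4
  · exact ch_1_9_10_3_5
  · exact ch_1_9_10_3_6
  · exact ch_1_9_10_3_7
  · exact ch_1_9_10_3_8
  · exact absurd hb (by decide)
  · exact absurd hb (by decide)

set_option maxRecDepth 100000 in
theorem ch_1_9_10_4_2 : enum 11 ck11 1 5 2402576 1559 6 2 = true := by
  decide +kernel

set_option maxRecDepth 100000 in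
theorem ch_1_9_10_4_3 : enum 11 ck11 1 5 3451152 1563 6 3 = true := by
  decide +kernel

set_option maxRecDepth 100000 in
theorem ch_1_9_10_4_5 : enum 11 ck11 1 5 5548304 1587 6 5 = true := by
  decide +kernel

set_option maxRecDepth 100000 in
theorem ch_1_9_10_4_6 : enum 11 ck11 1 5 6596880 1619 6 6 = true := by
  decide +kernel

set_option maxRecDepth 100000 in
theorem ch_1_9_10_4_7 : enum 11 ck11 1 5 7645456 1683 6 7 = true := by
  decide +kernel

set_option maxRecDepth 100000 in
theorem ch_1_9_10_4_8 : enum 11 ck11 1 5 8694032 1811 6 8 = true := by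
  decide +kernel

theorem ch_1_9_10_4 : enum 11 ck11 1 6 305424 1555 5 4 = true := by
  refine enum_intro 11 ck11 1 5 305424 1555 5 4 ?_
  intro v hv hb hd
  interval_cases v
  · exact absurd hb (by decide)
  · exact absurd hb (by decide)
  · exact ch_1_9_10_4_2
  · exact ch_1_9_10_4_3
  · exact absurd hb (by decide)
  · exact ch_1_9_10_4_5
  · exact ch_1_9_10_4_6
  · exact ch_1_9_10_4_7
  · exact ch_1_9_10_4_8
  · exact absurd hb (by decide)
  · exact absurd hb (by decide)

set_option maxRecDepth 100000 in
theorem ch_1_9_10_5_2 : enum 11 ck11 1 5 2468112 1575 6 2 = true := by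
  decide +kernel

set_option maxRecDepth 100000 in
theorem ch_1_9_10_5_3 : enum 11 ck11 1 5 3516688 1579 6 3 = true := by
  decide +kernel

set_option maxRecDepth 100000 in
theorem ch_1_9_10_5_4 : enum 11 ck11 1 5 4565264 1587 6 4 = true := by
  decide +kernel

set_option maxRecDepth 100000 in
theorem ch_1_9_10_5_6 : enum 11 ck11 1 5 6662416 1635 6 6 = true := by
  decide +kernel

set_option maxRecDepth 100000 in
theorem ch_1_9_10_5_7 : enum 11 ck11 1 5 7710992 1699 6 7 = true := by
  decide +kernel

set_option maxRecDepth 100000 in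
theorem ch_1_9_10_5_8 : enum 11 ck11 1 5 8759568 1827 6 8 = true := by
  decide +kernel

theorem ch_1_9_10_5 : enum 11 ck11 1 6 370960 1571 5 5 = true := by
  refine enum_intro 11 ck11 1 5 370960 1571 5 5 ?_
  intro v hv hb hd
  interval_cases v
  · exact absurd hb (by decide)
  · exact absurd hb (by decide)
  · exact ch_1_9_10_5_2
  · exact ch_1_9_10_5_3
  · exact ch_1_9_10_5_4
  · exact absurd hb (by decide)
  · exact ch_1_9_10_5_6
  · exact ch_1_9_10_5_7
  · exact ch_1_9_10_5_8
  · exact absurd hb (by decide)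
  · exact absurd hb (by decide)

set_option maxRecDepth 100000 in
theorem ch_1_9_10_6_2 : enum 11 ck11 1 5 2533648 1607 6 2 = true := by
  decide +kernel

set_option maxRecDepth 100000 in
theorem ch_1_9_10_6_3 : enum 11 ck11 1 5 3582224 1611 6 3 = true := by
  decide +kernel

set_option maxRecDepth 100000 in
theorem ch_1_9_10_6_4 : enum 11 ck11 1 5 4630800 1619 6 4 = true := by
  decide +kernel

set_option maxRecDepth 100000 in
theorem ch_1_9_10_6_5 : enum 11 ck11 1 5 5679376 1635 6 5 = true := by
  decide +kernel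

set_option maxRecDepth 100000 in
theorem ch_1_9_10_6_7 : enum 11 ck11 1 5 7776528 1731 6 7 = true := by
  decide +kernel

set_option maxRecDepth 100000 in
theorem ch_1_9_10_6_8 : enum 11 ck11 1 5 8825104 1859 6 8 = true := by
  decide +kernel

theorem ch_1_9_10_6 : enum 11 ck11 1 6 436496 1603 5 6 = true := by
  refine enum_intro 11 ck11 1 5 436496 1603 5 6 ?_
  intro v hv hb hd
  interval_cases v
  · exact absurd hb (by decide)
  · exact absurd hb (by decide)
  · exact ch_1_9_10_6_2
  · exact ch_1_9_10_6_3
  · exact ch_1_9_10_6_4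
  · exact ch_1_9_10_6_5
  · exact absurd hb (by decide)
  · exact ch_1_9_10_6_7
  · exact ch_1_9_10_6_8
  · exact absurd hb (by decide)
  · exact absurd hb (by decide)

set_option maxRecDepth 100000 in
theorem ch_1_9_10_7_2 : enum 11 ck11 1 5 2599184 1671 6 2 = true := by
  decide +kernel

set_option maxRecDepth 100000 in
theorem ch_1_9_10_7_3 : enum 11 ck11 1 5 3647760 1675 6 3 = true := by
  decide +kernel

set_option maxRecDepth 100000 in
theorem ch_1_9_10_7_4 : enum 11 ck11 1 5 4696336 1683 6 4 = true := by
  decide +kernel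

set_option maxRecDepth 100000 in
theorem ch_1_9_10_7_5 : enum 11 ck11 1 5 5744912 1699 6 5 = true := by
  decide +kernel

set_option maxRecDepth 100000 in
theorem ch_1_9_10_7_6 : enum 11 ck11 1 5 6793488 1731 6 6 = true := by
  decide +kernel

set_option maxRecDepth 100000 in
theorem ch_1_9_10_7_8 : enum 11 ck11 1 5 8890640 1923 6 8 = true := by
  decide +kernel

theorem ch_1_9_10_7 : enum 11 ck11 1 6 502032 1667 5 7 = true := by
  refine enum_intro 11 ck11 1 5 502032 1667 5 7 ?_
  intro v hv hb hd
  interval_cases v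
  · exact absurd hb (by decide)
  · exact absurd hb (by decide)
  · exact ch_1_9_10_7_2
  · exact ch_1_9_10_7_3
  · exact ch_1_9_10_7_4
  · exact ch_1_9_10_7_5
  · exact ch_1_9_10_7_6
  · exact absurd hb (by decide)
  · exact ch_1_9_10_7_8
  · exact absurd hb (by decide)
  · exact absurd hb (by decide)

set_option maxRecDepth 100000 in
theorem ch_1_9_10_8_2 : enum 11 ck11 1 5 2664720 1799 6 2 = true := by
  decide +kernel

set_option maxRecDepth 100000 in
theorem ch_1_9_10_8_3 : enum 11 ck11 1 5 3713296 1803 6 3 = true := by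
  decide +kernel

set_option maxRecDepth 100000 in
theorem ch_1_9_10_8_4 : enum 11 ck11 1 5 4761872 1811 6 4 = true := by
  decide +kernel

set_option maxRecDepth 100000 in
theorem ch_1_9_10_8_5 : enum 11 ck11 1 5 5810448 1827 6 5 = true := by
  decide +kernel

set_option maxRecDepth 100000 in
theorem ch_1_9_10_8_6 : enum 11 ck11 1 5 6859024 1859 6 6 = true := by
  decide +kernel

set_option maxRecDepth 100000 in
theorem ch_1_9_10_8_7 : enum 11 ck11 1 5 7907600 1923 6 7 = true := by
  decide +kernel

theorem ch_1_9_10_8 : enum 11 ck11 1 6 567568 1795 5 8 = true := by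
  refine enum_intro 11 ck11 1 5 567568 1795 5 8 ?_
  intro v hv hb hd
  interval_cases v
  · exact absurd hb (by decide)
  · exact absurd hb (by decide)
  · exact ch_1_9_10_8_2
  · exact ch_1_9_10_8_3
  · exact ch_1_9_10_8_4
  · exact ch_1_9_10_8_5
  · exact ch_1_9_10_8_6
  · exact ch_1_9_10_8_7
  · exact absurd hb (by decide)
  · exact absurd hb (by decide)
  · exact absurd hb (by decide)

theorem ch_1_9_10 : enum 11 ck11 1 7 43280 1539 4 10 = true := by
  refine enum_intro 11 ck11 1 6 43280 1539 4 10 ?_
  intro v hv hb hd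
  interval_cases v
  · exact absurd hb (by decide)
  · exact absurd hb (by decide)
  · exact ch_1_9_10_2
  · exact ch_1_9_10_3
  · exact ch_1_9_10_4
  · exact ch_1_9_10_5
  · exact ch_1_9_10_6
  · exact ch_1_9_10_7
  · exact ch_1_9_10_8
  · exact absurd hb (by decide)
  · exact absurd hb (by decide)

end Cfsg.Agent.Helper9.T11
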