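import Mathlib
import Cfsg.Agent.Helper9.T11.Chk

set_option autoImplicit false
set_option Elab.async false

/-!
A part of the enumeration on 11 points: the test holds at every permutation of the part.
-/

namespace Cfsg.Agent.Helper9.T11

set_option maxRecDepth 100000 in
theorem ch_2_1_3_5_4 : enum 11 ck11 2 5 4534560 63 6 4 = true := by
  decide +kernel

set_option maxRecDepth 100000 in
theorem ch_2_1_3_5_7 : enum 11 ck11 2 5 7680288 175 6 7 = true := by
  decide +kernel

set_option maxRecDepth 100000 in
theorem ch_2_1_3_5_8 : enum 11 ck11 2 5 8728864 303 6 8 = true := by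
  decide +kernel

set_option maxRecDepth 100000 in
theorem ch_2_1_3_5_9 : enum 11 ck11 2 5 9777440 559 6 9 = true := by
  decide +kernel

set_option maxRecDepth 100000 in
theorem ch_2_1_3_5_10 : enum 11 ck11 2 5 10826016 1071 6 10 = true := by
  decide +kernel

theorem ch_2_1_3_5 : enum 11 ck11 2 6 340256 47 5 5 = true := by
  refine enum_intro 11 ck11 2 5 340256 47 5 5 ?_
  intro v hv hb hd
  interval_cases v
  · exact absurd hb (by decide)
  · exact absurd hb (by decide)
  · exact absurd hb (by decide)
  · exact absurd hb (by decide)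
  · exact ch_2_1_3_5_4
  · exact absurd hb (by decide)
  · exact absurd hd (by decide)
  · exact ch_2_1_3_5_7
  · exact ch_2_1_3_5_8
  · exact ch_2_1_3_5_9
  · exact ch_2_1_3_5_10

set_option maxRecDepth 100000 in
theorem ch_2_1_3_6_4 : enum 11 ck11 2 5 4600096 95 6 4 = true := by
  decide +kernel

set_option maxRecDepth 100000 in
theorem ch_2_1_3_6_5 : enum 11 ck11 2 5 5648672 111 6 5 = true := by
  decide +kernel

set_option maxRecDepth 100000 in
theorem ch_2_1_3_6_8 : enum 11 ck11 2 5 8794400 335 6 8 = true := by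
  decide +kernel

set_option maxRecDepth 100000 in
theorem ch_2_1_3_6_9 : enum 11 ck11 2 5 9842976 591 6 9 = true := by
  decide +kernel

set_option maxRecDepth 100000 in
theorem ch_2_1_3_6_10 : enum 11 ck11 2 5 10891552 1103 6 10 = true := by
  decide +kernel

theorem ch_2_1_3_6 : enum 11 ck11 2 6 405792 79 5 6 = true := by
  refine enum_intro 11 ck11 2 5 405792 79 5 6 ?_
  intro v hv hb hd
  interval_cases v
  · exact absurd hb (by decide)
  · exact absurd hb (by decide)
  · exact absurd hb (by decide)
  · exact absurd hb (by decide)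
  · exact ch_2_1_3_6_4
  · exact ch_2_1_3_6_5
  · exact absurd hb (by decide)
  · exact absurd hd (by decide)
  · exact ch_2_1_3_6_8
  · exact ch_2_1_3_6_9
  · exact ch_2_1_3_6_10

set_option maxRecDepth 100000 in
theorem ch_2_1_3_7_4 : enum 11 ck11 2 5 4665632 159 6 4 = true := by
  decide +kernel

set_option maxRecDepth 100000 in
theorem ch_2_1_3_7_5 : enum 11 ck11 2 5 5714208 175 6 5 = true := by
  decide +kernel

set_option maxRecDepth 100000 in
theorem ch_2_1_3_7_6 : enum 11 ck11 2 5 6762784 207 6 6 = true := by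
  decide +kernel

set_option maxRecDepth 100000 in
theorem ch_2_1_3_7_9 : enum 11 ck11 2 5 9908512 655 6 9 = true := by
  decide +kernel

set_option maxRecDepth 100000 in
theorem ch_2_1_3_7_10 : enum 11 ck11 2 5 10957088 1167 6 10 = true := by
  decide +kernel

theorem ch_2_1_3_7 : enum 11 ck11 2 6 471328 143 5 7 = true := by
  refine enum_intro 11 ck11 2 5 471328 143 5 7 ?_
  intro v hv hb hd
  interval_cases v
  · exact absurd hb (by decide)
  · exact absurd hb (by decide)
  · exact absurd hb (by decide)
  · exact absurd hb (by decide)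
  · exact ch_2_1_3_7_4
  · exact ch_2_1_3_7_5
  · exact ch_2_1_3_7_6
  · exact absurd hb (by decide)
  · exact absurd hd (by decide)
  · exact ch_2_1_3_7_9
  · exact ch_2_1_3_7_10

set_option maxRecDepth 100000 in
theorem ch_2_1_3_8_4 : enum 11 ck11 2 5 4731168 287 6 4 = true := by
  decide +kernel

set_option maxRecDepth 100000 in
theorem ch_2_1_3_8_5 : enum 11 ck11 2 5 5779744 303 6 5 = true := by
  decide +kernel

set_option maxRecDepth 100000 in
theorem ch_2_1_3_8_6 : enum 11 ck11 2 5 6828320 335 6 6 = true := by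
  decide +kernel

set_option maxRecDepth 100000 in
theorem ch_2_1_3_8_7 : enum 11 ck11 2 5 7876896 399 6 7 = true := by
  decide +kernel

set_option maxRecDepth 100000 in
theorem ch_2_1_3_8_10 : enum 11 ck11 2 5 11022624 1295 6 10 = true := by
  decide +kernel

theorem ch_2_1_3_8 : enum 11 ck11 2 6 536864 271 5 8 = true := by
  refine enum_intro 11 ck11 2 5 536864 271 5 8 ?_
  intro v hv hb hd
  interval_cases v
  · exact absurd hb (by decide)
  · exact absurd hb (by decide)
  · exact absurd hb (by decide)
  · exact absurd hb (by decide)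
  · exact ch_2_1_3_8_4
  · exact ch_2_1_3_8_5
  · exact ch_2_1_3_8_6
  · exact ch_2_1_3_8_7
  · exact absurd hb (by decide)
  · exact absurd hd (by decide)
  · exact ch_2_1_3_8_10

set_option maxRecDepth 100000 in
theorem ch_2_1_3_9_4 : enum 11 ck11 2 5 4796704 543 6 4 = true := by
  decide +kernel

set_option maxRecDepth 100000 in
theorem ch_2_1_3_9_5 : enum 11 ck11 2 5 5845280 559 6 5 = true := by
  decide +kernel

set_option maxRecDepth 100000 in
theorem ch_2_1_3_9_6 : enum 11 ck11 2 5 6893856 591 6 6 = true := by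
  decide +kernel

set_option maxRecDepth 100000 in
theorem ch_2_1_3_9_7 : enum 11 ck11 2 5 7942432 655 6 7 = true := by
  decide +kernel

set_option maxRecDepth 100000 in
theorem ch_2_1_3_9_8 : enum 11 ck11 2 5 8991008 783 6 8 = true := by
  decide +kernel

theorem ch_2_1_3_9 : enum 11 ck11 2 6 602400 527 5 9 = true := by
  refine enum_intro 11 ck11 2 5 602400 527 5 9 ?_
  intro v hv hb hd
  interval_cases v
  · exact absurd hb (by decide)
  · exact absurd hb (by decide)
  · exact absurd hb (by decide)
  · exact absurd hb (by decide)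
  · exact ch_2_1_3_9_4
  · exact ch_2_1_3_9_5
  · exact ch_2_1_3_9_6
  · exact ch_2_1_3_9_7
  · exact ch_2_1_3_9_8
  · exact absurd hb (by decide)
  · exact absurd hd (by decide)

set_option maxRecDepth 100000 in
theorem ch_2_1_3_10_4 : enum 11 ck11 2 5 4862240 1055 6 4 = true := by
  decide +kernel

set_option maxRecDepth 100000 in
theorem ch_2_1_3_10_5 : enum 11 ck11 2 5 5910816 1071 6 5 = true := by
  decide +kernel

set_option maxRecDepth 100000 in
theorem ch_2_1_3_10_6 : enum 11 ck11 2 5 6959392 1103 6 6 = true := by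
  decide +kernel

set_option maxRecDepth 100000 in
theorem ch_2_1_3_10_7 : enum 11 ck11 2 5 8007968 1167 6 7 = true := by
  decide +kernel

set_option maxRecDepth 100000 in
theorem ch_2_1_3_10_8 : enum 11 ck11 2 5 9056544 1295 6 8 = true := by
  decide +kernel

set_option maxRecDepth 100000 in
theorem ch_2_1_3_10_9 : enum 11 ck11 2 5 10105120 1551 6 9 = true := by
  decide +kernel

theorem ch_2_1_3_10 : enum 11 ck11 2 6 667936 1039 5 10 = true := by
  refine enum_intro 11 ck11 2 5 667936 1039 5 10 ?_
  intro v hv hb hd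
  interval_cases v
  · exact absurd hb (by decide)
  · exact absurd hb (by decide)
  · exact absurd hb (by decide)
  · exact absurd hb (by decide)
  · exact ch_2_1_3_10_4
  · exact ch_2_1_3_10_5
  · exact ch_2_1_3_10_6
  · exact ch_2_1_3_10_7
  · exact ch_2_1_3_10_8
  · exact ch_2_1_3_10_9
  · exact absurd hb (by decide)

theorem ch_2_1_3 : enum 11 ck11 2 7 12576 15 4 3 = true := by
  refine enum_intro 11 ck11 2 6 12576 15 4 3 ?_
  intro v hv hb hd
  interval_cases v
  · exact absurd hb (by decide)
  · exact absurd hb (by decide)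
  · exact absurd hb (by decide)
  · exact absurd hb (by decide)
  · exact absurd hd (by decide)
  · exact ch_2_1_3_5
  · exact ch_2_1_3_6
  · exact ch_2_1_3_7
  · exact ch_2_1_3_8
  · exact ch_2_1_3_9
  · exact ch_2_1_3_10

set_option maxRecDepth 100000 in
theorem ch_2_1_4_3_5 : enum 11 ck11 2 5 5456160 63 6 5 = true := by
  decide +kernel

set_option maxRecDepth 100000 in
theorem ch_2_1_4_3_6 : enum 11 ck11 2 5 6504736 95 6 6 = true := by
  decide +kernel

set_option maxRecDepth 100000 in
theorem ch_2_1_4_3_7 : enum 11 ck11 2 5 7553312 159 6 7 = true := by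
  decide +kernel

set_option maxRecDepth 100000 in
theorem ch_2_1_4_3_8 : enum 11 ck11 2 5 8601888 287 6 8 = true := by
  decide +kernel

set_option maxRecDepth 100000 in
theorem ch_2_1_4_3_9 : enum 11 ck11 2 5 9650464 543 6 9 = true := by
  decide +kernel

set_option maxRecDepth 100000 in
theorem ch_2_1_4_3_10 : enum 11 ck11 2 5 10699040 1055 6 10 = true := by
  decide +kernel

theorem ch_2_1_4_3 : enum 11 ck11 2 6 213280 31 5 3 = true := by
  refine enum_intro 11 ck11 2 5 213280 31 5 3 ?_
  intro v hv hb hd
  interval_cases v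
  · exact absurd hb (by decide)
  · exact absurd hb (by decide)
  · exact absurd hb (by decide)
  · exact absurd hb (by decide)
  · exact absurd hb (by decide)
  · exact ch_2_1_4_3_5
  · exact ch_2_1_4_3_6
  · exact ch_2_1_4_3_7
  · exact ch_2_1_4_3_8
  · exact ch_2_1_4_3_9
  · exact ch_2_1_4_3_10

set_option maxRecDepth 100000 in
theorem ch_2_1_4_6_3 : enum 11 ck11 2 5 3555616 95 6 3 = true := by
  decide +kernel

set_option maxRecDepth 100000 in
theorem ch_2_1_4_6_5 : enum 11 ck11 2 5 5652768 119 6 5 = true := by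
  decide +kernel

set_option maxRecDepth 100000 in
theorem ch_2_1_4_6_8 : enum 11 ck11 2 5 8798496 343 6 8 = true := by
  decide +kernel

set_option maxRecDepth 100000 in
theorem ch_2_1_4_6_9 : enum 11 ck11 2 5 9847072 599 6 9 = true := by
  decide +kernel

set_option maxRecDepth 100000 in
theorem ch_2_1_4_6_10 : enum 11 ck11 2 5 10895648 1111 6 10 = true := by
  decide +kernel

theorem ch_2_1_4_6 : enum 11 ck11 2 6 409888 87 5 6 = true := by
  refine enum_intro 11 ck11 2 5 409888 87 5 6 ?_
  intro v hv hb hd
  interval_cases v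
  · exact absurd hb (by decide)
  · exact absurd hb (by decide)
  · exact absurd hb (by decide)
  · exact ch_2_1_4_6_3
  · exact absurd hb (by decide)
  · exact ch_2_1_4_6_5
  · exact absurd hb (by decide)
  · exact absurd hd (by decide)
  · exact ch_2_1_4_6_8
  · exact ch_2_1_4_6_9
  · exact ch_2_1_4_6_10

set_option maxRecDepth 100000 in
theorem ch_2_1_4_7_3 : enum 11 ck11 2 5 3621152 159 6 3 = true := by
  decide +kernel

set_option maxRecDepth 100000 in
theorem ch_2_1_4_7_5 : enum 11 ck11 2 5 5718304 183 6 5 = true := by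
  decide +kernel

set_option maxRecDepth 100000 in
theorem ch_2_1_4_7_6 : enum 11 ck11 2 5 6766880 215 6 6 = true := by
  decide +kernel

set_option maxRecDepth 100000 in
theorem ch_2_1_4_7_9 : enum 11 ck11 2 5 9912608 663 6 9 = true := by
  decide +kernel

set_option maxRecDepth 100000 in
theorem ch_2_1_4_7_10 : enum 11 ck11 2 5 10961184 1175 6 10 = true := by
  decide +kernel

theorem ch_2_1_4_7 : enum 11 ck11 2 6 475424 151 5 7 = true := by
  refine enum_intro 11 ck11 2 5 475424 151 5 7 ?_
  intro v hv hb hd
  interval_cases v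
  · exact absurd hb (by decide)
  · exact absurd hb (by decide)
  · exact absurd hb (by decide)
  · exact ch_2_1_4_7_3
  · exact absurd hb (by decide)
  · exact ch_2_1_4_7_5
  · exact ch_2_1_4_7_6
  · exact absurd hb (by decide)
  · exact absurd hd (by decide)
  · exact ch_2_1_4_7_9
  · exact ch_2_1_4_7_10

set_option maxRecDepth 100000 in
theorem ch_2_1_4_8_3 : enum 11 ck11 2 5 3686688 287 6 3 = true := by
  decide +kernel

set_option maxRecDepth 100000 in
theorem ch_2_1_4_8_5 : enum 11 ck11 2 5 5783840 311 6 5 = true := by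
  decide +kernel

set_option maxRecDepth 100000 in
theorem ch_2_1_4_8_6 : enum 11 ck11 2 5 6832416 343 6 6 = true := by
  decide +kernel

set_option maxRecDepth 100000 in
theorem ch_2_1_4_8_7 : enum 11 ck11 2 5 7880992 407 6 7 = true := by
  decide +kernel

set_option maxRecDepth 100000 in
theorem ch_2_1_4_8_10 : enum 11 ck11 2 5 11026720 1303 6 10 = true := by
  decide +kernel

theorem ch_2_1_4_8 : enum 11 ck11 2 6 540960 279 5 8 = true := by
  refine enum_intro 11 ck11 2 5 540960 279 5 8 ?_
  intro v hv hb hd
  interval_cases v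
  · exact absurd hb (by decide)
  · exact absurd hb (by decide)
  · exact absurd hb (by decide)
  · exact ch_2_1_4_8_3
  · exact absurd hb (by decide)
  · exact ch_2_1_4_8_5
  · exact ch_2_1_4_8_6
  · exact ch_2_1_4_8_7
  · exact absurd hb (by decide)
  · exact absurd hd (by decide)
  · exact ch_2_1_4_8_10

set_option maxRecDepth 100000 in
theorem ch_2_1_4_9_3 : enum 11 ck11 2 5 3752224 543 6 3 = true := by
  decide +kernel

set_option maxRecDepth 100000 in
theorem ch_2_1_4_9_5 : enum 11 ck11 2 5 5849376 567 6 5 = true := by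
  decide +kernel

set_option maxRecDepth 100000 in
theorem ch_2_1_4_9_6 : enum 11 ck11 2 5 6897952 599 6 6 = true := by
  decide +kernel

set_option maxRecDepth 100000 in
theorem ch_2_1_4_9_7 : enum 11 ck11 2 5 7946528 663 6 7 = true := by
  decide +kernel

set_option maxRecDepth 100000 in
theorem ch_2_1_4_9_8 : enum 11 ck11 2 5 8995104 791 6 8 = true := by
  decide +kernel

theorem ch_2_1_4_9 : enum 11 ck11 2 6 606496 535 5 9 = true := by
  refine enum_intro 11 ck11 2 5 606496 535 5 9 ?_
  intro v hv hb hd
  interval_cases v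
  · exact absurd hb (by decide)
  · exact absurd hb (by decide)
  · exact absurd hb (by decide)
  · exact ch_2_1_4_9_3
  · exact absurd hb (by decide)
  · exact ch_2_1_4_9_5
  · exact ch_2_1_4_9_6
  · exact ch_2_1_4_9_7
  · exact ch_2_1_4_9_8
  · exact absurd hb (by decide)
  · exact absurd hd (by decide)

set_option maxRecDepth 100000 in
theorem ch_2_1_4_10_3 : enum 11 ck11 2 5 3817760 1055 6 3 = true := by
  decide +kernel

set_option maxRecDepth 100000 in
theorem ch_2_1_4_10_5 : enum 11 ck11 2 5 5914912 1079 6 5 = true := by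
  decide +kernel

set_option maxRecDepth 100000 in
theorem ch_2_1_4_10_6 : enum 11 ck11 2 5 6963488 1111 6 6 = true := by
  decide +kernel

set_option maxRecDepth 100000 in
theorem ch_2_1_4_10_7 : enum 11 ck11 2 5 8012064 1175 6 7 = true := by
  decide +kernel

set_option maxRecDepth 100000 in
theorem ch_2_1_4_10_8 : enum 11 ck11 2 5 9060640 1303 6 8 = true := by
  decide +kernel

set_option maxRecDepth 100000 in
theorem ch_2_1_4_10_9 : enum 11 ck11 2 5 10109216 1559 6 9 = true := by
  decide +kernel

theorem ch_2_1_4_10 : enum 11 ck11 2 6 672032 1047 5 10 = true := by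
  refine enum_intro 11 ck11 2 5 672032 1047 5 10 ?_
  intro v hv hb hd
  interval_cases v
  · exact absurd hb (by decide)
  · exact absurd hb (by decide)
  · exact absurd hb (by decide)
  · exact ch_2_1_4_10_3
  · exact absurd hb (by decide)
  · exact ch_2_1_4_10_5
  · exact ch_2_1_4_10_6
  · exact ch_2_1_4_10_7
  · exact ch_2_1_4_10_8
  · exact ch_2_1_4_10_9
  · exact absurd hb (by decide)

theorem ch_2_1_4 : enum 11 ck11 2 7 16672 23 4 4 = true := by
  refine enum_intro 11 ck11 2 6 16672 23 4 4 ?_
  intro v hv hb hd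
  interval_cases v
  · exact absurd hb (by decide)
  · exact absurd hb (by decide)
  · exact absurd hb (by decide)
  · exact ch_2_1_4_3
  · exact absurd hb (by decide)
  · exact absurd hd (by decide)
  · exact ch_2_1_4_6
  · exact ch_2_1_4_7
  · exact ch_2_1_4_8
  · exact ch_2_1_4_9
  · exact ch_2_1_4_10

set_option maxRecDepth 100000 in
theorem ch_2_1_5_3_6 : enum 11 ck11 2 5 6508832 111 6 6 = true := by
  decide +kernel

set_option maxRecDepth 100000 in
theorem ch_2_1_5_3_7 : enum 11 ck11 2 5 7557408 175 6 7 = true := by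
  decide +kernel

set_option maxRecDepth 100000 in
theorem ch_2_1_5_3_8 : enum 11 ck11 2 5 8605984 303 6 8 = true := by
  decide +kernel

set_option maxRecDepth 100000 in
theorem ch_2_1_5_3_9 : enum 11 ck11 2 5 9654560 559 6 9 = true := by
  decide +kernel

set_option maxRecDepth 100000 in
theorem ch_2_1_5_3_10 : enum 11 ck11 2 5 10703136 1071 6 10 = true := by
  decide +kernel

theorem ch_2_1_5_3 : enum 11 ck11 2 6 217376 47 5 3 = true := by
  refine enum_intro 11 ck11 2 5 217376 47 5 3 ?_
  intro v hv hb hd
  interval_cases v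
  · exact absurd hb (by decide)
  · exact absurd hb (by decide)
  · exact absurd hb (by decide)
  · exact absurd hb (by decide)
  · exact absurd hd (by decide)
  · exact absurd hb (by decide)
  · exact ch_2_1_5_3_6
  · exact ch_2_1_5_3_7
  · exact ch_2_1_5_3_8
  · exact ch_2_1_5_3_9
  · exact ch_2_1_5_3_10

set_option maxRecDepth 100000 in
theorem ch_2_1_5_4_3 : enum 11 ck11 2 5 3428640 63 6 3 = true := by
  decide +kernel

set_option maxRecDepth 100000 in
theorem ch_2_1_5_4_6 : enum 11 ck11 2 5 6574368 119 6 6 = true := by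
  decide +kernel

set_option maxRecDepth 100000 in
theorem ch_2_1_5_4_7 : enum 11 ck11 2 5 7622944 183 6 7 = true := by
  decide +kernel

set_option maxRecDepth 100000 in
theorem ch_2_1_5_4_8 : enum 11 ck11 2 5 8671520 311 6 8 = true := by
  decide +kernel

set_option maxRecDepth 100000 in
theorem ch_2_1_5_4_9 : enum 11 ck11 2 5 9720096 567 6 9 = true := by
  decide +kernel

set_option maxRecDepth 100000 in
theorem ch_2_1_5_4_10 : enum 11 ck11 2 5 10768672 1079 6 10 = true := by
  decide +kernel

theorem ch_2_1_5_4 : enum 11 ck11 2 6 282912 55 5 4 = true := by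
  refine enum_intro 11 ck11 2 5 282912 55 5 4 ?_
  intro v hv hb hd
  interval_cases v
  · exact absurd hb (by decide)
  · exact absurd hb (by decide)
  · exact absurd hb (by decide)
  · exact ch_2_1_5_4_3
  · exact absurd hb (by decide)
  · exact absurd hb (by decide)
  · exact ch_2_1_5_4_6
  · exact ch_2_1_5_4_7
  · exact ch_2_1_5_4_8
  · exact ch_2_1_5_4_9
  · exact ch_2_1_5_4_10

set_option maxRecDepth 100000 in
theorem ch_2_1_5_7_3 : enum 11 ck11 2 5 3625248 175 6 3 = true := by
  decide +kernel

set_option maxRecDepth 100000 in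
theorem ch_2_1_5_7_4 : enum 11 ck11 2 5 4673824 183 6 4 = true := by
  decide +kernel

set_option maxRecDepth 100000 in
theorem ch_2_1_5_7_6 : enum 11 ck11 2 5 6770976 231 6 6 = true := by
  decide +kernel

set_option maxRecDepth 100000 in
theorem ch_2_1_5_7_9 : enum 11 ck11 2 5 9916704 679 6 9 = true := by
  decide +kernel

set_option maxRecDepth 100000 in
theorem ch_2_1_5_7_10 : enum 11 ck11 2 5 10965280 1191 6 10 = true := by
  decide +kernel

theorem ch_2_1_5_7 : enum 11 ck11 2 6 479520 167 5 7 = true := by
  refine enum_intro 11 ck11 2 5 479520 167 5 7 ?_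
  intro v hv hb hd
  interval_cases v
  · exact absurd hb (by decide)
  · exact absurd hb (by decide)
  · exact absurd hb (by decide)
  · exact ch_2_1_5_7_3
  · exact ch_2_1_5_7_4
  · exact absurd hb (by decide)
  · exact ch_2_1_5_7_6
  · exact absurd hb (by decide)
  · exact absurd hd (by decide)
  · exact ch_2_1_5_7_9
  · exact ch_2_1_5_7_10

set_option maxRecDepth 100000 in
theorem ch_2_1_5_8_3 : enum 11 ck11 2 5 3690784 303 6 3 = true := by
  decide +kernel

set_option maxRecDepth 100000 in
theorem ch_2_1_5_8_4 : enum 11 ck11 2 5 4739360 311 6 4 = true := by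
  decide +kernel

set_option maxRecDepth 100000 in
theorem ch_2_1_5_8_6 : enum 11 ck11 2 5 6836512 359 6 6 = true := by
  decide +kernel

set_option maxRecDepth 100000 in
theorem ch_2_1_5_8_7 : enum 11 ck11 2 5 7885088 423 6 7 = true := by
  decide +kernel

set_option maxRecDepth 100000 in
theorem ch_2_1_5_8_10 : enum 11 ck11 2 5 11030816 1319 6 10 = true := by
  decide +kernel

theorem ch_2_1_5_8 : enum 11 ck11 2 6 545056 295 5 8 = true := by
  refine enum_intro 11 ck11 2 5 545056 295 5 8 ?_
  intro v hv hb hd
  interval_cases v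
  · exact absurd hb (by decide)
  · exact absurd hb (by decide)
  · exact absurd hb (by decide)
  · exact ch_2_1_5_8_3
  · exact ch_2_1_5_8_4
  · exact absurd hb (by decide)
  · exact ch_2_1_5_8_6
  · exact ch_2_1_5_8_7
  · exact absurd hb (by decide)
  · exact absurd hd (by decide)
  · exact ch_2_1_5_8_10

set_option maxRecDepth 100000 in
theorem ch_2_1_5_9_3 : enum 11 ck11 2 5 3756320 559 6 3 = true := by
  decide +kernel

set_option maxRecDepth 100000 in
theorem ch_2_1_5_9_4 : enum 11 ck11 2 5 4804896 567 6 4 = true := by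
  decide +kernel

set_option maxRecDepth 100000 in
theorem ch_2_1_5_9_6 : enum 11 ck11 2 5 6902048 615 6 6 = true := by
  decide +kernel

set_option maxRecDepth 100000 in
theorem ch_2_1_5_9_7 : enum 11 ck11 2 5 7950624 679 6 7 = true := by
  decide +kernel

set_option maxRecDepth 100000 in
theorem ch_2_1_5_9_8 : enum 11 ck11 2 5 8999200 807 6 8 = true := by
  decide +kernel

theorem ch_2_1_5_9 : enum 11 ck11 2 6 610592 551 5 9 = true := by
  refine enum_intro 11 ck11 2 5 610592 551 5 9 ?_
  intro v hv hb hd
  interval_cases v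
  · exact absurd hb (by decide)
  · exact absurd hb (by decide)
  · exact absurd hb (by decide)
  · exact ch_2_1_5_9_3
  · exact ch_2_1_5_9_4
  · exact absurd hb (by decide)
  · exact ch_2_1_5_9_6
  · exact ch_2_1_5_9_7
  · exact ch_2_1_5_9_8
  · exact absurd hb (by decide)
  · exact absurd hd (by decide)

set_option maxRecDepth 100000 in
theorem ch_2_1_5_10_3 : enum 11 ck11 2 5 3821856 1071 6 3 = true := by
  decide +kernel

set_option maxRecDepth 100000 in
theorem ch_2_1_5_10_4 : enum 11 ck11 2 5 4870432 1079 6 4 = true := by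
  decide +kernel

set_option maxRecDepth 100000 in
theorem ch_2_1_5_10_6 : enum 11 ck11 2 5 6967584 1127 6 6 = true := by
  decide +kernel

set_option maxRecDepth 100000 in
theorem ch_2_1_5_10_7 : enum 11 ck11 2 5 8016160 1191 6 7 = true := by
  decide +kernel

set_option maxRecDepth 100000 in
theorem ch_2_1_5_10_8 : enum 11 ck11 2 5 9064736 1319 6 8 = true := by
  decide +kernel

set_option maxRecDepth 100000 in
theorem ch_2_1_5_10_9 : enum 11 ck11 2 5 10113312 1575 6 9 = true := by
  decide +kernel

theorem ch_2_1_5_10 : enum 11 ck11 2 6 676128 1063 5 10 = true := by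
  refine enum_intro 11 ck11 2 5 676128 1063 5 10 ?_
  intro v hv hb hd
  interval_cases v
  · exact absurd hb (by decide)
  · exact absurd hb (by decide)
  · exact absurd hb (by decide)
  · exact ch_2_1_5_10_3
  · exact ch_2_1_5_10_4
  · exact absurd hb (by decide)
  · exact ch_2_1_5_10_6
  · exact ch_2_1_5_10_7
  · exact ch_2_1_5_10_8
  · exact ch_2_1_5_10_9
  · exact absurd hb (by decide)

theorem ch_2_1_5 : enum 11 ck11 2 7 20768 39 4 5 = true := by
  refine enum_intro 11 ck11 2 6 20768 39 4 5 ?_
  intro v hv hb hd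
  interval_cases v
  · exact absurd hb (by decide)
  · exact absurd hb (by decide)
  · exact absurd hb (by decide)
  · exact ch_2_1_5_3
  · exact ch_2_1_5_4
  · exact absurd hb (by decide)
  · exact absurd hd (by decide)
  · exact ch_2_1_5_7
  · exact ch_2_1_5_8
  · exact ch_2_1_5_9
  · exact ch_2_1_5_10

set_option maxRecDepth 100000 in
theorem ch_2_1_6_3_5 : enum 11 ck11 2 5 5464352 111 6 5 = true := by
  decide +kernel

set_option maxRecDepth 100000 in
theorem ch_2_1_6_3_7 : enum 11 ck11 2 5 7561504 207 6 7 = true := by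
  decide +kernel

set_option maxRecDepth 100000 in
theorem ch_2_1_6_3_8 : enum 11 ck11 2 5 8610080 335 6 8 = true := by
  decide +kernel

set_option maxRecDepth 100000 in
theorem ch_2_1_6_3_9 : enum 11 ck11 2 5 9658656 591 6 9 = true := by
  decide +kernel

set_option maxRecDepth 100000 in
theorem ch_2_1_6_3_10 : enum 11 ck11 2 5 10707232 1103 6 10 = true := by
  decide +kernel

theorem ch_2_1_6_3 : enum 11 ck11 2 6 221472 79 5 3 = true := by
  refine enum_intro 11 ck11 2 5 221472 79 5 3 ?_
  intro v hv hb hd
  interval_cases v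
  · exact absurd hb (by decide)
  · exact absurd hb (by decide)
  · exact absurd hb (by decide)
  · exact absurd hb (by decide)
  · exact absurd hd (by decide)
  · exact ch_2_1_6_3_5
  · exact absurd hb (by decide)
  · exact ch_2_1_6_3_7
  · exact ch_2_1_6_3_8
  · exact ch_2_1_6_3_9
  · exact ch_2_1_6_3_10

set_option maxRecDepth 100000 in
theorem ch_2_1_6_4_3 : enum 11 ck11 2 5 3432736 95 6 3 = true := by
  decide +kernel

set_option maxRecDepth 100000 in
theorem ch_2_1_6_4_7 : enum 11 ck11 2 5 7627040 215 6 7 = true := by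
  decide +kernel

set_option maxRecDepth 100000 in
theorem ch_2_1_6_4_8 : enum 11 ck11 2 5 8675616 343 6 8 = true := by
  decide +kernel

set_option maxRecDepth 100000 in
theorem ch_2_1_6_4_9 : enum 11 ck11 2 5 9724192 599 6 9 = true := by
  decide +kernel

set_option maxRecDepth 100000 in
theorem ch_2_1_6_4_10 : enum 11 ck11 2 5 10772768 1111 6 10 = true := by
  decide +kernel

theorem ch_2_1_6_4 : enum 11 ck11 2 6 287008 87 5 4 = true := by
  refine enum_intro 11 ck11 2 5 287008 87 5 4 ?_
  intro v hv hb hd
  interval_cases v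
  · exact absurd hb (by decide)
  · exact absurd hb (by decide)
  · exact absurd hb (by decide)
  · exact ch_2_1_6_4_3
  · exact absurd hb (by decide)
  · exact absurd hd (by decide)
  · exact absurd hb (by decide)
  · exact ch_2_1_6_4_7
  · exact ch_2_1_6_4_8
  · exact ch_2_1_6_4_9
  · exact ch_2_1_6_4_10

set_option maxRecDepth 100000 in
theorem ch_2_1_6_5_3 : enum 11 ck11 2 5 3498272 111 6 3 = true := by
  decide +kernel

set_option maxRecDepth 100000 in
theorem ch_2_1_6_5_4 : enum 11 ck11 2 5 4546848 119 6 4 = true := by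
  decide +kernel

set_option maxRecDepth 100000 in
theorem ch_2_1_6_5_7 : enum 11 ck11 2 5 7692576 231 6 7 = true := by
  decide +kernel

set_option maxRecDepth 100000 in
theorem ch_2_1_6_5_8 : enum 11 ck11 2 5 8741152 359 6 8 = true := by
  decide +kernel

set_option maxRecDepth 100000 in
theorem ch_2_1_6_5_9 : enum 11 ck11 2 5 9789728 615 6 9 = true := by
  decide +kernel

set_option maxRecDepth 100000 in
theorem ch_2_1_6_5_10 : enum 11 ck11 2 5 10838304 1127 6 10 = true := by
  decide +kernel

theorem ch_2_1_6_5 : enum 11 ck11 2 6 352544 103 5 5 = true := by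
  refine enum_intro 11 ck11 2 5 352544 103 5 5 ?_
  intro v hv hb hd
  interval_cases v
  · exact absurd hb (by decide)
  · exact absurd hb (by decide)
  · exact absurd hb (by decide)
  · exact ch_2_1_6_5_3
  · exact ch_2_1_6_5_4
  · exact absurd hb (by decide)
  · exact absurd hb (by decide)
  · exact ch_2_1_6_5_7
  · exact ch_2_1_6_5_8
  · exact ch_2_1_6_5_9
  · exact ch_2_1_6_5_10

set_option maxRecDepth 100000 in
theorem ch_2_1_6_8_3 : enum 11 ck11 2 5 3694880 335 6 3 = true := by
  decide +kernel

set_option maxRecDepth 100000 in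
theorem ch_2_1_6_8_4 : enum 11 ck11 2 5 4743456 343 6 4 = true := by
  decide +kernel

set_option maxRecDepth 100000 in
theorem ch_2_1_6_8_5 : enum 11 ck11 2 5 5792032 359 6 5 = true := by
  decide +kernel

set_option maxRecDepth 100000 in
theorem ch_2_1_6_8_7 : enum 11 ck11 2 5 7889184 455 6 7 = true := by
  decide +kernel

set_option maxRecDepth 100000 in
theorem ch_2_1_6_8_10 : enum 11 ck11 2 5 11034912 1351 6 10 = true := by
  decide +kernel

theorem ch_2_1_6_8 : enum 11 ck11 2 6 549152 327 5 8 = true := by
  refine enum_intro 11 ck11 2 5 549152 327 5 8 ?_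
  intro v hv hb hd
  interval_cases v
  · exact absurd hb (by decide)
  · exact absurd hb (by decide)
  · exact absurd hb (by decide)
  · exact ch_2_1_6_8_3
  · exact ch_2_1_6_8_4
  · exact ch_2_1_6_8_5
  · exact absurd hb (by decide)
  · exact ch_2_1_6_8_7
  · exact absurd hb (by decide)
  · exact absurd hd (by decide)
  · exact ch_2_1_6_8_10

set_option maxRecDepth 100000 in
theorem ch_2_1_6_9_3 : enum 11 ck11 2 5 3760416 591 6 3 = true := by
  decide +kernel

set_option maxRecDepth 100000 in
theorem ch_2_1_6_9_4 : enum 11 ck11 2 5 4808992 599 6 4 = true := by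
  decide +kernel

set_option maxRecDepth 100000 in
theorem ch_2_1_6_9_5 : enum 11 ck11 2 5 5857568 615 6 5 = true := by
  decide +kernel

set_option maxRecDepth 100000 in
theorem ch_2_1_6_9_7 : enum 11 ck11 2 5 7954720 711 6 7 = true := by
  decide +kernel

set_option maxRecDepth 100000 in
theorem ch_2_1_6_9_8 : enum 11 ck11 2 5 9003296 839 6 8 = true := by
  decide +kernel

theorem ch_2_1_6_9 : enum 11 ck11 2 6 614688 583 5 9 = true := by
  refine enum_intro 11 ck11 2 5 614688 583 5 9 ?_
  intro v hv hb hd
  interval_cases v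
  · exact absurd hb (by decide)
  · exact absurd hb (by decide)
  · exact absurd hb (by decide)
  · exact ch_2_1_6_9_3
  · exact ch_2_1_6_9_4
  · exact ch_2_1_6_9_5
  · exact absurd hb (by decide)
  · exact ch_2_1_6_9_7
  · exact ch_2_1_6_9_8
  · exact absurd hb (by decide)
  · exact absurd hd (by decide)

set_option maxRecDepth 100000 in
theorem ch_2_1_6_10_3 : enum 11 ck11 2 5 3825952 1103 6 3 = true := by
  decide +kernel

set_option maxRecDepth 100000 in
theorem ch_2_1_6_10_4 : enum 11 ck11 2 5 4874528 1111 6 4 = true := by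
  decide +kernel

set_option maxRecDepth 100000 in
theorem ch_2_1_6_10_5 : enum 11 ck11 2 5 5923104 1127 6 5 = true := by
  decide +kernel

set_option maxRecDepth 100000 in
theorem ch_2_1_6_10_7 : enum 11 ck11 2 5 8020256 1223 6 7 = true := by
  decide +kernel

set_option maxRecDepth 100000 in
theorem ch_2_1_6_10_8 : enum 11 ck11 2 5 9068832 1351 6 8 = true := by
  decide +kernel

set_option maxRecDepth 100000 in
theorem ch_2_1_6_10_9 : enum 11 ck11 2 5 10117408 1607 6 9 = true := by
  decide +kernel

theorem ch_2_1_6_10 : enum 11 ck11 2 6 680224 1095 5 10 = true := by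
  refine enum_intro 11 ck11 2 5 680224 1095 5 10 ?_
  intro v hv hb hd
  interval_cases v
  · exact absurd hb (by decide)
  · exact absurd hb (by decide)
  · exact absurd hb (by decide)
  · exact ch_2_1_6_10_3
  · exact ch_2_1_6_10_4
  · exact ch_2_1_6_10_5
  · exact absurd hb (by decide)
  · exact ch_2_1_6_10_7
  · exact ch_2_1_6_10_8
  · exact ch_2_1_6_10_9
  · exact absurd hb (by decide)

theorem ch_2_1_6 : enum 11 ck11 2 7 24864 71 4 6 = true := by
  refine enum_intro 11 ck11 2 6 24864 71 4 6 ?_
  intro v hv hb hd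
  interval_cases v
  · exact absurd hb (by decide)
  · exact absurd hb (by decide)
  · exact absurd hb (by decide)
  · exact ch_2_1_6_3
  · exact ch_2_1_6_4
  · exact ch_2_1_6_5
  · exact absurd hb (by decide)
  · exact absurd hd (by decide)
  · exact ch_2_1_6_8
  · exact ch_2_1_6_9
  · exact ch_2_1_6_10

set_option maxRecDepth 100000 in
theorem ch_2_1_7_3_5 : enum 11 ck11 2 5 5468448 175 6 5 = true := by
  decide +kernel

set_option maxRecDepth 100000 in
theorem ch_2_1_7_3_6 : enum 11 ck11 2 5 6517024 207 6 6 = true := by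
  decide +kernel

set_option maxRecDepth 100000 in
theorem ch_2_1_7_3_8 : enum 11 ck11 2 5 8614176 399 6 8 = true := by
  decide +kernel

set_option maxRecDepth 100000 in
theorem ch_2_1_7_3_9 : enum 11 ck11 2 5 9662752 655 6 9 = true := by
  decide +kernel

set_option maxRecDepth 100000 in
theorem ch_2_1_7_3_10 : enum 11 ck11 2 5 10711328 1167 6 10 = true := by
  decide +kernel

theorem ch_2_1_7_3 : enum 11 ck11 2 6 225568 143 5 3 = true := by
  refine enum_intro 11 ck11 2 5 225568 143 5 3 ?_
  intro v hv hb hd
  interval_cases v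
  · exact absurd hb (by decide)
  · exact absurd hb (by decide)
  · exact absurd hb (by decide)
  · exact absurd hb (by decide)
  · exact absurd hd (by decide)
  · exact ch_2_1_7_3_5
  · exact ch_2_1_7_3_6
  · exact absurd hb (by decide)
  · exact ch_2_1_7_3_8
  · exact ch_2_1_7_3_9
  · exact ch_2_1_7_3_10

set_option maxRecDepth 100000 in
theorem ch_2_1_7_4_3 : enum 11 ck11 2 5 3436832 159 6 3 = true := by
  decide +kernel

set_option maxRecDepth 100000 in
theorem ch_2_1_7_4_6 : enum 11 ck11 2 5 6582560 215 6 6 = true := by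
  decide +kernel

set_option maxRecDepth 100000 in
theorem ch_2_1_7_4_8 : enum 11 ck11 2 5 8679712 407 6 8 = true := by
  decide +kernel

set_option maxRecDepth 100000 in
theorem ch_2_1_7_4_9 : enum 11 ck11 2 5 9728288 663 6 9 = true := by
  decide +kernel

set_option maxRecDepth 100000 in
theorem ch_2_1_7_4_10 : enum 11 ck11 2 5 10776864 1175 6 10 = true := by
  decide +kernel

theorem ch_2_1_7_4 : enum 11 ck11 2 6 291104 151 5 4 = true := by
  refine enum_intro 11 ck11 2 5 291104 151 5 4 ?_
  intro v hv hb hd
  interval_cases v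
  · exact absurd hb (by decide)
  · exact absurd hb (by decide)
  · exact absurd hb (by decide)
  · exact ch_2_1_7_4_3
  · exact absurd hb (by decide)
  · exact absurd hd (by decide)
  · exact ch_2_1_7_4_6
  · exact absurd hb (by decide)
  · exact ch_2_1_7_4_8
  · exact ch_2_1_7_4_9
  · exact ch_2_1_7_4_10

set_option maxRecDepth 100000 in
theorem ch_2_1_7_5_3 : enum 11 ck11 2 5 3502368 175 6 3 = true := by
  decide +kernel

set_option maxRecDepth 100000 in
theorem ch_2_1_7_5_4 : enum 11 ck11 2 5 4550944 183 6 4 = true := by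
  decide +kernel

set_option maxRecDepth 100000 in
theorem ch_2_1_7_5_8 : enum 11 ck11 2 5 8745248 423 6 8 = true := by
  decide +kernel

set_option maxRecDepth 100000 in
theorem ch_2_1_7_5_9 : enum 11 ck11 2 5 9793824 679 6 9 = true := by
  decide +kernel

set_option maxRecDepth 100000 in
theorem ch_2_1_7_5_10 : enum 11 ck11 2 5 10842400 1191 6 10 = true := by
  decide +kernel

theorem ch_2_1_7_5 : enum 11 ck11 2 6 356640 167 5 5 = true := by
  refine enum_intro 11 ck11 2 5 356640 167 5 5 ?_
  intro v hv hb hd
  interval_cases v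
  · exact absurd hb (by decide)
  · exact absurd hb (by decide)
  · exact absurd hb (by decide)
  · exact ch_2_1_7_5_3
  · exact ch_2_1_7_5_4
  · exact absurd hb (by decide)
  · exact absurd hd (by decide)
  · exact absurd hb (by decide)
  · exact ch_2_1_7_5_8
  · exact ch_2_1_7_5_9
  · exact ch_2_1_7_5_10

set_option maxRecDepth 100000 in
theorem ch_2_1_7_6_3 : enum 11 ck11 2 5 3567904 207 6 3 = true := by
  decide +kernel

set_option maxRecDepth 100000 in
theorem ch_2_1_7_6_4 : enum 11 ck11 2 5 4616480 215 6 4 = true := by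
  decide +kernel

set_option maxRecDepth 100000 in
theorem ch_2_1_7_6_5 : enum 11 ck11 2 5 5665056 231 6 5 = true := by
  decide +kernel

set_option maxRecDepth 100000 in
theorem ch_2_1_7_6_8 : enum 11 ck11 2 5 8810784 455 6 8 = true := by
  decide +kernel

set_option maxRecDepth 100000 in
theorem ch_2_1_7_6_9 : enum 11 ck11 2 5 9859360 711 6 9 = true := by
  decide +kernel

set_option maxRecDepth 100000 in
theorem ch_2_1_7_6_10 : enum 11 ck11 2 5 10907936 1223 6 10 = true := by
  decide +kernel

theorem ch_2_1_7_6 : enum 11 ck11 2 6 422176 199 5 6 = true := by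
  refine enum_intro 11 ck11 2 5 422176 199 5 6 ?_
  intro v hv hb hd
  interval_cases v
  · exact absurd hb (by decide)
  · exact absurd hb (by decide)
  · exact absurd hb (by decide)
  · exact ch_2_1_7_6_3
  · exact ch_2_1_7_6_4
  · exact ch_2_1_7_6_5
  · exact absurd hb (by decide)
  · exact absurd hb (by decide)
  · exact ch_2_1_7_6_8
  · exact ch_2_1_7_6_9
  · exact ch_2_1_7_6_10

set_option maxRecDepth 100000 in
theorem ch_2_1_7_9_3 : enum 11 ck11 2 5 3764512 655 6 3 = true := by
  decide +kernel

set_option maxRecDepth 100000 in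
theorem ch_2_1_7_9_4 : enum 11 ck11 2 5 4813088 663 6 4 = true := by
  decide +kernel

set_option maxRecDepth 100000 in
theorem ch_2_1_7_9_5 : enum 11 ck11 2 5 5861664 679 6 5 = true := by
  decide +kernel

set_option maxRecDepth 100000 in
theorem ch_2_1_7_9_6 : enum 11 ck11 2 5 6910240 711 6 6 = true := by
  decide +kernel

set_option maxRecDepth 100000 in
theorem ch_2_1_7_9_8 : enum 11 ck11 2 5 9007392 903 6 8 = true := by
  decide +kernel

theorem ch_2_1_7_9 : enum 11 ck11 2 6 618784 647 5 9 = true := by
  refine enum_intro 11 ck11 2 5 618784 647 5 9 ?_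
  intro v hv hb hd
  interval_cases v
  · exact absurd hb (by decide)
  · exact absurd hb (by decide)
  · exact absurd hb (by decide)
  · exact ch_2_1_7_9_3
  · exact ch_2_1_7_9_4
  · exact ch_2_1_7_9_5
  · exact ch_2_1_7_9_6
  · exact absurd hb (by decide)
  · exact ch_2_1_7_9_8
  · exact absurd hb (by decide)
  · exact absurd hd (by decide)

set_option maxRecDepth 100000 in
theorem ch_2_1_7_10_3 : enum 11 ck11 2 5 3830048 1167 6 3 = true := by
  decide +kernel

set_option maxRecDepth 100000 in
theorem ch_2_1_7_10_4 : enum 11 ck11 2 5 4878624 1175 6 4 = true := by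
  decide +kernel

set_option maxRecDepth 100000 in
theorem ch_2_1_7_10_5 : enum 11 ck11 2 5 5927200 1191 6 5 = true := by
  decide +kernel

set_option maxRecDepth 100000 in
theorem ch_2_1_7_10_6 : enum 11 ck11 2 5 6975776 1223 6 6 = true := by
  decide +kernel

set_option maxRecDepth 100000 in
theorem ch_2_1_7_10_8 : enum 11 ck11 2 5 9072928 1415 6 8 = true := by
  decide +kernel

set_option maxRecDepth 100000 in
theorem ch_2_1_7_10_9 : enum 11 ck11 2 5 10121504 1671 6 9 = true := by
  decide +kernel

theorem ch_2_1_7_10 : enum 11 ck11 2 6 684320 1159 5 10 = true := by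
  refine enum_intro 11 ck11 2 5 684320 1159 5 10 ?_
  intro v hv hb hd
  interval_cases v
  · exact absurd hb (by decide)
  · exact absurd hb (by decide)
  · exact absurd hb (by decide)
  · exact ch_2_1_7_10_3
  · exact ch_2_1_7_10_4
  · exact ch_2_1_7_10_5
  · exact ch_2_1_7_10_6
  · exact absurd hb (by decide)
  · exact ch_2_1_7_10_8
  · exact ch_2_1_7_10_9
  · exact absurd hb (by decide)

theorem ch_2_1_7 : enum 11 ck11 2 7 28960 135 4 7 = true := by
  refine enum_intro 11 ck11 2 6 28960 135 4 7 ?_
  intro v hv hb hd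
  interval_cases v
  · exact absurd hb (by decide)
  · exact absurd hb (by decide)
  · exact absurd hb (by decide)
  · exact ch_2_1_7_3
  · exact ch_2_1_7_4
  · exact ch_2_1_7_5
  · exact ch_2_1_7_6
  · exact absurd hb (by decide)
  · exact absurd hd (by decide)
  · exact ch_2_1_7_9
  · exact ch_2_1_7_10

set_option maxRecDepth 100000 in
theorem ch_2_1_8_3_5 : enum 11 ck11 2 5 5472544 303 6 5 = true := by
  decide +kernel

set_option maxRecDepth 100000 in
theorem ch_2_1_8_3_6 : enum 11 ck11 2 5 6521120 335 6 6 = true := by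
  decide +kernel

set_option maxRecDepth 100000 in
theorem ch_2_1_8_3_7 : enum 11 ck11 2 5 7569696 399 6 7 = true := by
  decide +kernel

set_option maxRecDepth 100000 in
theorem ch_2_1_8_3_9 : enum 11 ck11 2 5 9666848 783 6 9 = true := by
  decide +kernel

set_option maxRecDepth 100000 in
theorem ch_2_1_8_3_10 : enum 11 ck11 2 5 10715424 1295 6 10 = true := by
  decide +kernel

theorem ch_2_1_8_3 : enum 11 ck11 2 6 229664 271 5 3 = true := by
  refine enum_intro 11 ck11 2 5 229664 271 5 3 ?_
  intro v hv hb hd
  interval_cases v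
  · exact absurd hb (by decide)
  · exact absurd hb (by decide)
  · exact absurd hb (by decide)
  · exact absurd hb (by decide)
  · exact absurd hd (by decide)
  · exact ch_2_1_8_3_5
  · exact ch_2_1_8_3_6
  · exact ch_2_1_8_3_7
  · exact absurd hb (by decide)
  · exact ch_2_1_8_3_9
  · exact ch_2_1_8_3_10

set_option maxRecDepth 100000 in
theorem ch_2_1_8_4_3 : enum 11 ck11 2 5 3440928 287 6 3 = true := by
  decide +kernel

set_option maxRecDepth 100000 in
theorem ch_2_1_8_4_6 : enum 11 ck11 2 5 6586656 343 6 6 = true := by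
  decide +kernel

set_option maxRecDepth 100000 in
theorem ch_2_1_8_4_7 : enum 11 ck11 2 5 7635232 407 6 7 = true := by
  decide +kernel

set_option maxRecDepth 100000 in
theorem ch_2_1_8_4_9 : enum 11 ck11 2 5 9732384 791 6 9 = true := by
  decide +kernel

set_option maxRecDepth 100000 in
theorem ch_2_1_8_4_10 : enum 11 ck11 2 5 10780960 1303 6 10 = true := by
  decide +kernel

theorem ch_2_1_8_4 : enum 11 ck11 2 6 295200 279 5 4 = true := by
  refine enum_intro 11 ck11 2 5 295200 279 5 4 ?_
  intro v hv hb hd
  interval_cases v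
  · exact absurd hb (by decide)
  · exact absurd hb (by decide)
  · exact absurd hb (by decide)
  · exact ch_2_1_8_4_3
  · exact absurd hb (by decide)
  · exact absurd hd (by decide)
  · exact ch_2_1_8_4_6
  · exact ch_2_1_8_4_7
  · exact absurd hb (by decide)
  · exact ch_2_1_8_4_9
  · exact ch_2_1_8_4_10

set_option maxRecDepth 100000 in
theorem ch_2_1_8_5_3 : enum 11 ck11 2 5 3506464 303 6 3 = true := by
  decide +kernel

set_option maxRecDepth 100000 in
theorem ch_2_1_8_5_4 : enum 11 ck11 2 5 4555040 311 6 4 = true := by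
  decide +kernel

set_option maxRecDepth 100000 in
theorem ch_2_1_8_5_7 : enum 11 ck11 2 5 7700768 423 6 7 = true := by
  decide +kernel

set_option maxRecDepth 100000 in
theorem ch_2_1_8_5_9 : enum 11 ck11 2 5 9797920 807 6 9 = true := by
  decide +kernel

set_option maxRecDepth 100000 in
theorem ch_2_1_8_5_10 : enum 11 ck11 2 5 10846496 1319 6 10 = true := by
  decide +kernel

theorem ch_2_1_8_5 : enum 11 ck11 2 6 360736 295 5 5 = true := by
  refine enum_intro 11 ck11 2 5 360736 295 5 5 ?_
  intro v hv hb hd
  interval_cases v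
  · exact absurd hb (by decide)
  · exact absurd hb (by decide)
  · exact absurd hb (by decide)
  · exact ch_2_1_8_5_3
  · exact ch_2_1_8_5_4
  · exact absurd hb (by decide)
  · exact absurd hd (by decide)
  · exact ch_2_1_8_5_7
  · exact absurd hb (by decide)
  · exact ch_2_1_8_5_9
  · exact ch_2_1_8_5_10

set_option maxRecDepth 100000 in
theorem ch_2_1_8_6_3 : enum 11 ck11 2 5 3572000 335 6 3 = true := by
  decide +kernel

set_option maxRecDepth 100000 in
theorem ch_2_1_8_6_4 : enum 11 ck11 2 5 4620576 343 6 4 = true := by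
  decide +kernel

set_option maxRecDepth 100000 in
theorem ch_2_1_8_6_5 : enum 11 ck11 2 5 5669152 359 6 5 = true := by
  decide +kernel

set_option maxRecDepth 100000 in
theorem ch_2_1_8_6_9 : enum 11 ck11 2 5 9863456 839 6 9 = true := by
  decide +kernel

set_option maxRecDepth 100000 in
theorem ch_2_1_8_6_10 : enum 11 ck11 2 5 10912032 1351 6 10 = true := by
  decide +kernel

theorem ch_2_1_8_6 : enum 11 ck11 2 6 426272 327 5 6 = true := by
  refine enum_intro 11 ck11 2 5 426272 327 5 6 ?_
  intro v hv hb hd
  interval_cases v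
  · exact absurd hb (by decide)
  · exact absurd hb (by decide)
  · exact absurd hb (by decide)
  · exact ch_2_1_8_6_3
  · exact ch_2_1_8_6_4
  · exact ch_2_1_8_6_5
  · exact absurd hb (by decide)
  · exact absurd hd (by decide)
  · exact absurd hb (by decide)
  · exact ch_2_1_8_6_9
  · exact ch_2_1_8_6_10

set_option maxRecDepth 100000 in
theorem ch_2_1_8_7_3 : enum 11 ck11 2 5 3637536 399 6 3 = true := by
  decide +kernel

set_option maxRecDepth 100000 in
theorem ch_2_1_8_7_4 : enum 11 ck11 2 5 4686112 407 6 4 = true := by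
  decide +kernel

set_option maxRecDepth 100000 in
theorem ch_2_1_8_7_5 : enum 11 ck11 2 5 5734688 423 6 5 = true := by
  decide +kernel

set_option maxRecDepth 100000 in
theorem ch_2_1_8_7_6 : enum 11 ck11 2 5 6783264 455 6 6 = true := by
  decide +kernel

set_option maxRecDepth 100000 in
theorem ch_2_1_8_7_9 : enum 11 ck11 2 5 9928992 903 6 9 = true := by
  decide +kernel

set_option maxRecDepth 100000 in
theorem ch_2_1_8_7_10 : enum 11 ck11 2 5 10977568 1415 6 10 = true := by
  decide +kernel

theorem ch_2_1_8_7 : enum 11 ck11 2 6 491808 391 5 7 = true := by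
  refine enum_intro 11 ck11 2 5 491808 391 5 7 ?_
  intro v hv hb hd
  interval_cases v
  · exact absurd hb (by decide)
  · exact absurd hb (by decide)
  · exact absurd hb (by decide)
  · exact ch_2_1_8_7_3
  · exact ch_2_1_8_7_4
  · exact ch_2_1_8_7_5
  · exact ch_2_1_8_7_6
  · exact absurd hb (by decide)
  · exact absurd hb (by decide)
  · exact ch_2_1_8_7_9
  · exact ch_2_1_8_7_10

set_option maxRecDepth 100000 in
theorem ch_2_1_8_10_3 : enum 11 ck11 2 5 3834144 1295 6 3 = true := by
  decide +kernel

set_option maxRecDepth 100000 in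
theorem ch_2_1_8_10_4 : enum 11 ck11 2 5 4882720 1303 6 4 = true := by
  decide +kernel

set_option maxRecDepth 100000 in
theorem ch_2_1_8_10_5 : enum 11 ck11 2 5 5931296 1319 6 5 = true := by
  decide +kernel

set_option maxRecDepth 100000 in
theorem ch_2_1_8_10_6 : enum 11 ck11 2 5 6979872 1351 6 6 = true := by
  decide +kernel

set_option maxRecDepth 100000 in
theorem ch_2_1_8_10_7 : enum 11 ck11 2 5 8028448 1415 6 7 = true := by
  decide +kernel

set_option maxRecDepth 100000 in
theorem ch_2_1_8_10_9 : enum 11 ck11 2 5 10125600 1799 6 9 = true := by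
  decide +kernel

theorem ch_2_1_8_10 : enum 11 ck11 2 6 688416 1287 5 10 = true := by
  refine enum_intro 11 ck11 2 5 688416 1287 5 10 ?_
  intro v hv hb hd
  interval_cases v
  · exact absurd hb (by decide)
  · exact absurd hb (by decide)
  · exact absurd hb (by decide)
  · exact ch_2_1_8_10_3
  · exact ch_2_1_8_10_4
  · exact ch_2_1_8_10_5
  · exact ch_2_1_8_10_6
  · exact ch_2_1_8_10_7
  · exact absurd hb (by decide)
  · exact ch_2_1_8_10_9
  · exact absurd hb (by decide)

theorem ch_2_1_8 : enum 11 ck11 2 7 33056 263 4 8 = true := by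
  refine enum_intro 11 ck11 2 6 33056 263 4 8 ?_
  intro v hv hb hd
  interval_cases v
  · exact absurd hb (by decide)
  · exact absurd hb (by decide)
  · exact absurd hb (by decide)
  · exact ch_2_1_8_3
  · exact ch_2_1_8_4
  · exact ch_2_1_8_5
  · exact ch_2_1_8_6
  · exact ch_2_1_8_7
  · exact absurd hb (by decide)
  · exact absurd hd (by decide)
  · exact ch_2_1_8_10

set_option maxRecDepth 100000 in
theorem ch_2_1_9_3_5 : enum 11 ck11 2 5 5476640 559 6 5 = true := by
  decide +kernel

set_option maxRecDepth 100000 in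
theorem ch_2_1_9_3_6 : enum 11 ck11 2 5 6525216 591 6 6 = true := by
  decide +kernel

set_option maxRecDepth 100000 in
theorem ch_2_1_9_3_7 : enum 11 ck11 2 5 7573792 655 6 7 = true := by
  decide +kernel

set_option maxRecDepth 100000 in
theorem ch_2_1_9_3_8 : enum 11 ck11 2 5 8622368 783 6 8 = true := by
  decide +kernel

set_option maxRecDepth 100000 in
theorem ch_2_1_9_3_10 : enum 11 ck11 2 5 10719520 1551 6 10 = true := by
  decide +kernel

theorem ch_2_1_9_3 : enum 11 ck11 2 6 233760 527 5 3 = true := by
  refine enum_intro 11 ck11 2 5 233760 527 5 3 ?_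
  intro v hv hb hd
  interval_cases v
  · exact absurd hb (by decide)
  · exact absurd hb (by decide)
  · exact absurd hb (by decide)
  · exact absurd hb (by decide)
  · exact absurd hd (by decide)
  · exact ch_2_1_9_3_5
  · exact ch_2_1_9_3_6
  · exact ch_2_1_9_3_7
  · exact ch_2_1_9_3_8
  · exact absurd hb (by decide)
  · exact ch_2_1_9_3_10

set_option maxRecDepth 100000 in
theorem ch_2_1_9_4_3 : enum 11 ck11 2 5 3445024 543 6 3 = true := by
  decide +kernel

set_option maxRecDepth 100000 in
theorem ch_2_1_9_4_6 : enum 11 ck11 2 5 6590752 599 6 6 = true := by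
  decide +kernel

set_option maxRecDepth 100000 in
theorem ch_2_1_9_4_7 : enum 11 ck11 2 5 7639328 663 6 7 = true := by
  decide +kernel

set_option maxRecDepth 100000 in
theorem ch_2_1_9_4_8 : enum 11 ck11 2 5 8687904 791 6 8 = true := by
  decide +kernel

set_option maxRecDepth 100000 in
theorem ch_2_1_9_4_10 : enum 11 ck11 2 5 10785056 1559 6 10 = true := by
  decide +kernel

theorem ch_2_1_9_4 : enum 11 ck11 2 6 299296 535 5 4 = true := by
  refine enum_intro 11 ck11 2 5 299296 535 5 4 ?_
  intro v hv hb hd
  interval_cases v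
  · exact absurd hb (by decide)
  · exact absurd hb (by decide)
  · exact absurd hb (by decide)
  · exact ch_2_1_9_4_3
  · exact absurd hb (by decide)
  · exact absurd hd (by decide)
  · exact ch_2_1_9_4_6
  · exact ch_2_1_9_4_7
  · exact ch_2_1_9_4_8
  · exact absurd hb (by decide)
  · exact ch_2_1_9_4_10

set_option maxRecDepth 100000 in
theorem ch_2_1_9_5_3 : enum 11 ck11 2 5 3510560 559 6 3 = true := by
  decide +kernel

set_option maxRecDepth 100000 in
theorem ch_2_1_9_5_4 : enum 11 ck11 2 5 4559136 567 6 4 = true := by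
  decide +kernel

set_option maxRecDepth 100000 in
theorem ch_2_1_9_5_7 : enum 11 ck11 2 5 7704864 679 6 7 = true := by
  decide +kernel

set_option maxRecDepth 100000 in
theorem ch_2_1_9_5_8 : enum 11 ck11 2 5 8753440 807 6 8 = true := by
  decide +kernel

set_option maxRecDepth 100000 in
theorem ch_2_1_9_5_10 : enum 11 ck11 2 5 10850592 1575 6 10 = true := by
  decide +kernel

theorem ch_2_1_9_5 : enum 11 ck11 2 6 364832 551 5 5 = true := by
  refine enum_intro 11 ck11 2 5 364832 551 5 5 ?_
  intro v hv hb hd
  interval_cases v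
  · exact absurd hb (by decide)
  · exact absurd hb (by decide)
  · exact absurd hb (by decide)
  · exact ch_2_1_9_5_3
  · exact ch_2_1_9_5_4
  · exact absurd hb (by decide)
  · exact absurd hd (by decide)
  · exact ch_2_1_9_5_7
  · exact ch_2_1_9_5_8
  · exact absurd hb (by decide)
  · exact ch_2_1_9_5_10

set_option maxRecDepth 100000 in
theorem ch_2_1_9_6_3 : enum 11 ck11 2 5 3576096 591 6 3 = true := by
  decide +kernel

set_option maxRecDepth 100000 in
theorem ch_2_1_9_6_4 : enum 11 ck11 2 5 4624672 599 6 4 = true := by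
  decide +kernel

set_option maxRecDepth 100000 in
theorem ch_2_1_9_6_5 : enum 11 ck11 2 5 5673248 615 6 5 = true := by
  decide +kernel

set_option maxRecDepth 100000 in
theorem ch_2_1_9_6_8 : enum 11 ck11 2 5 8818976 839 6 8 = true := by
  decide +kernel

set_option maxRecDepth 100000 in
theorem ch_2_1_9_6_10 : enum 11 ck11 2 5 10916128 1607 6 10 = true := by
  decide +kernel

theorem ch_2_1_9_6 : enum 11 ck11 2 6 430368 583 5 6 = true := by
  refine enum_intro 11 ck11 2 5 430368 583 5 6 ?_
  intro v hv hb hd
  interval_cases v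
  · exact absurd hb (by decide)
  · exact absurd hb (by decide)
  · exact absurd hb (by decide)
  · exact ch_2_1_9_6_3
  · exact ch_2_1_9_6_4
  · exact ch_2_1_9_6_5
  · exact absurd hb (by decide)
  · exact absurd hd (by decide)
  · exact ch_2_1_9_6_8
  · exact absurd hb (by decide)
  · exact ch_2_1_9_6_10

set_option maxRecDepth 100000 in
theorem ch_2_1_9_7_3 : enum 11 ck11 2 5 3641632 655 6 3 = true := by
  decide +kernel

set_option maxRecDepth 100000 in
theorem ch_2_1_9_7_4 : enum 11 ck11 2 5 4690208 663 6 4 = true := by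
  decide +kernel

set_option maxRecDepth 100000 in
theorem ch_2_1_9_7_5 : enum 11 ck11 2 5 5738784 679 6 5 = true := by
  decide +kernel

set_option maxRecDepth 100000 in
theorem ch_2_1_9_7_6 : enum 11 ck11 2 5 6787360 711 6 6 = true := by
  decide +kernel

set_option maxRecDepth 100000 in
theorem ch_2_1_9_7_10 : enum 11 ck11 2 5 10981664 1671 6 10 = true := by
  decide +kernel

theorem ch_2_1_9_7 : enum 11 ck11 2 6 495904 647 5 7 = true := by
  refine enum_intro 11 ck11 2 5 495904 647 5 7 ?_
  intro v hv hb hd
  interval_cases v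
  · exact absurd hb (by decide)
  · exact absurd hb (by decide)
  · exact absurd hb (by decide)
  · exact ch_2_1_9_7_3
  · exact ch_2_1_9_7_4
  · exact ch_2_1_9_7_5
  · exact ch_2_1_9_7_6
  · exact absurd hb (by decide)
  · exact absurd hd (by decide)
  · exact absurd hb (by decide)
  · exact ch_2_1_9_7_10

set_option maxRecDepth 100000 in
theorem ch_2_1_9_8_3 : enum 11 ck11 2 5 3707168 783 6 3 = true := by
  decide +kernel

set_option maxRecDepth 100000 in
theorem ch_2_1_9_8_4 : enum 11 ck11 2 5 4755744 791 6 4 = true := by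
  decide +kernel

set_option maxRecDepth 100000 in
theorem ch_2_1_9_8_5 : enum 11 ck11 2 5 5804320 807 6 5 = true := by
  decide +kernel

set_option maxRecDepth 100000 in
theorem ch_2_1_9_8_6 : enum 11 ck11 2 5 6852896 839 6 6 = true := by
  decide +kernel

set_option maxRecDepth 100000 in
theorem ch_2_1_9_8_7 : enum 11 ck11 2 5 7901472 903 6 7 = true := by
  decide +kernel

set_option maxRecDepth 100000 in
theorem ch_2_1_9_8_10 : enum 11 ck11 2 5 11047200 1799 6 10 = true := by
  decide +kernel

theorem ch_2_1_9_8 : enum 11 ck11 2 6 561440 775 5 8 = true := by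
  refine enum_intro 11 ck11 2 5 561440 775 5 8 ?_
  intro v hv hb hd
  interval_cases v
  · exact absurd hb (by decide)
  · exact absurd hb (by decide)
  · exact absurd hb (by decide)
  · exact ch_2_1_9_8_3
  · exact ch_2_1_9_8_4
  · exact ch_2_1_9_8_5
  · exact ch_2_1_9_8_6
  · exact ch_2_1_9_8_7
  · exact absurd hb (by decide)
  · exact absurd hb (by decide)
  · exact ch_2_1_9_8_10

theorem ch_2_1_9 : enum 11 ck11 2 7 37152 519 4 9 = true := by
  refine enum_intro 11 ck11 2 6 37152 519 4 9 ?_
  intro v hv hb hd
  interval_cases v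
  · exact absurd hb (by decide)
  · exact absurd hb (by decide)
  · exact absurd hb (by decide)
  · exact ch_2_1_9_3
  · exact ch_2_1_9_4
  · exact ch_2_1_9_5
  · exact ch_2_1_9_6
  · exact ch_2_1_9_7
  · exact ch_2_1_9_8
  · exact absurd hb (by decide)
  · exact absurd hd (by decide)

set_option maxRecDepth 100000 in
theorem ch_2_1_10_3_5 : enum 11 ck11 2 5 5480736 1071 6 5 = true := by
  decide +kernel

set_option maxRecDepth 100000 in
theorem ch_2_1_10_3_6 : enum 11 ck11 2 5 6529312 1103 6 6 = true := by
  decide +kernel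

set_option maxRecDepth 100000 in
theorem ch_2_1_10_3_7 : enum 11 ck11 2 5 7577888 1167 6 7 = true := by
  decide +kernel

set_option maxRecDepth 100000 in
theorem ch_2_1_10_3_8 : enum 11 ck11 2 5 8626464 1295 6 8 = true := by
  decide +kernel

set_option maxRecDepth 100000 in
theorem ch_2_1_10_3_9 : enum 11 ck11 2 5 9675040 1551 6 9 = true := by
  decide +kernel

theorem ch_2_1_10_3 : enum 11 ck11 2 6 237856 1039 5 3 = true := by
  refine enum_intro 11 ck11 2 5 237856 1039 5 3 ?_
  intro v hv hb hd
  interval_cases v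
  · exact absurd hb (by decide)
  · exact absurd hb (by decide)
  · exact absurd hb (by decide)
  · exact absurd hb (by decide)
  · exact absurd hd (by decide)
  · exact ch_2_1_10_3_5
  · exact ch_2_1_10_3_6
  · exact ch_2_1_10_3_7
  · exact ch_2_1_10_3_8
  · exact ch_2_1_10_3_9
  · exact absurd hb (by decide)

set_option maxRecDepth 100000 in
theorem ch_2_1_10_4_3 : enum 11 ck11 2 5 3449120 1055 6 3 = true := by
  decide +kernel

set_option maxRecDepth 100000 in
theorem ch_2_1_10_4_6 : enum 11 ck11 2 5 6594848 1111 6 6 = true := by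
  decide +kernel

set_option maxRecDepth 100000 in
theorem ch_2_1_10_4_7 : enum 11 ck11 2 5 7643424 1175 6 7 = true := by
  decide +kernel

set_option maxRecDepth 100000 in
theorem ch_2_1_10_4_8 : enum 11 ck11 2 5 8692000 1303 6 8 = true := by
  decide +kernel

set_option maxRecDepth 100000 in
theorem ch_2_1_10_4_9 : enum 11 ck11 2 5 9740576 1559 6 9 = true := by
  decide +kernel

theorem ch_2_1_10_4 : enum 11 ck11 2 6 303392 1047 5 4 = true := by
  refine enum_intro 11 ck11 2 5 303392 1047 5 4 ?_
  intro v hv hb hd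
  interval_cases v
  · exact absurd hb (by decide)
  · exact absurd hb (by decide)
  · exact absurd hb (by decide)
  · exact ch_2_1_10_4_3
  · exact absurd hb (by decide)
  · exact absurd hd (by decide)
  · exact ch_2_1_10_4_6
  · exact ch_2_1_10_4_7
  · exact ch_2_1_10_4_8
  · exact ch_2_1_10_4_9
  · exact absurd hb (by decide)

set_option maxRecDepth 100000 in
theorem ch_2_1_10_5_3 : enum 11 ck11 2 5 3514656 1071 6 3 = true := by
  decide +kernel

set_option maxRecDepth 100000 in
theorem ch_2_1_10_5_4 : enum 11 ck11 2 5 4563232 1079 6 4 = true := by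
  decide +kernel

set_option maxRecDepth 100000 in
theorem ch_2_1_10_5_7 : enum 11 ck11 2 5 7708960 1191 6 7 = true := by
  decide +kernel

set_option maxRecDepth 100000 in
theorem ch_2_1_10_5_8 : enum 11 ck11 2 5 8757536 1319 6 8 = true := by
  decide +kernel

set_option maxRecDepth 100000 in
theorem ch_2_1_10_5_9 : enum 11 ck11 2 5 9806112 1575 6 9 = true := by
  decide +kernel

theorem ch_2_1_10_5 : enum 11 ck11 2 6 368928 1063 5 5 = true := by
  refine enum_intro 11 ck11 2 5 368928 1063 5 5 ?_
  intro v hv hb hd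
  interval_cases v
  · exact absurd hb (by decide)
  · exact absurd hb (by decide)
  · exact absurd hb (by decide)
  · exact ch_2_1_10_5_3
  · exact ch_2_1_10_5_4
  · exact absurd hb (by decide)
  · exact absurd hd (by decide)
  · exact ch_2_1_10_5_7
  · exact ch_2_1_10_5_8
  · exact ch_2_1_10_5_9
  · exact absurd hb (by decide)

set_option maxRecDepth 100000 in
theorem ch_2_1_10_6_3 : enum 11 ck11 2 5 3580192 1103 6 3 = true := by
  decide +kernel

set_option maxRecDepth 100000 in
theorem ch_2_1_10_6_4 : enum 11 ck11 2 5 4628768 1111 6 4 = true := by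
  decide +kernel

set_option maxRecDepth 100000 in
theorem ch_2_1_10_6_5 : enum 11 ck11 2 5 5677344 1127 6 5 = true := by
  decide +kernel

set_option maxRecDepth 100000 in
theorem ch_2_1_10_6_8 : enum 11 ck11 2 5 8823072 1351 6 8 = true := by
  decide +kernel

set_option maxRecDepth 100000 in
theorem ch_2_1_10_6_9 : enum 11 ck11 2 5 9871648 1607 6 9 = true := by
  decide +kernel

theorem ch_2_1_10_6 : enum 11 ck11 2 6 434464 1095 5 6 = true := by
  refine enum_intro 11 ck11 2 5 434464 1095 5 6 ?_
  intro v hv hb hd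
  interval_cases v
  · exact absurd hb (by decide)
  · exact absurd hb (by decide)
  · exact absurd hb (by decide)
  · exact ch_2_1_10_6_3
  · exact ch_2_1_10_6_4
  · exact ch_2_1_10_6_5
  · exact absurd hb (by decide)
  · exact absurd hd (by decide)
  · exact ch_2_1_10_6_8
  · exact ch_2_1_10_6_9
  · exact absurd hb (by decide)

set_option maxRecDepth 100000 in
theorem ch_2_1_10_7_3 : enum 11 ck11 2 5 3645728 1167 6 3 = true := by
  decide +kernel

set_option maxRecDepth 100000 in
theorem ch_2_1_10_7_4 : enum 11 ck11 2 5 4694304 1175 6 4 = true := by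
  decide +kernel

set_option maxRecDepth 100000 in
theorem ch_2_1_10_7_5 : enum 11 ck11 2 5 5742880 1191 6 5 = true := by
  decide +kernel

set_option maxRecDepth 100000 in
theorem ch_2_1_10_7_6 : enum 11 ck11 2 5 6791456 1223 6 6 = true := by
  decide +kernel

set_option maxRecDepth 100000 in
theorem ch_2_1_10_7_9 : enum 11 ck11 2 5 9937184 1671 6 9 = true := by
  decide +kernel

theorem ch_2_1_10_7 : enum 11 ck11 2 6 500000 1159 5 7 = true := by
  refine enum_intro 11 ck11 2 5 500000 1159 5 7 ?_
  intro v hv hb hd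
  interval_cases v
  · exact absurd hb (by decide)
  · exact absurd hb (by decide)
  · exact absurd hb (by decide)
  · exact ch_2_1_10_7_3
  · exact ch_2_1_10_7_4
  · exact ch_2_1_10_7_5
  · exact ch_2_1_10_7_6
  · exact absurd hb (by decide)
  · exact absurd hd (by decide)
  · exact ch_2_1_10_7_9
  · exact absurd hb (by decide)

set_option maxRecDepth 100000 in
theorem ch_2_1_10_8_3 : enum 11 ck11 2 5 3711264 1295 6 3 = true := by
  decide +kernel

set_option maxRecDepth 100000 in
theorem ch_2_1_10_8_4 : enum 11 ck11 2 5 4759840 1303 6 4 = true := by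
  decide +kernel

set_option maxRecDepth 100000 in
theorem ch_2_1_10_8_5 : enum 11 ck11 2 5 5808416 1319 6 5 = true := by
  decide +kernel

set_option maxRecDepth 100000 in
theorem ch_2_1_10_8_6 : enum 11 ck11 2 5 6856992 1351 6 6 = true := by
  decide +kernel

set_option maxRecDepth 100000 in
theorem ch_2_1_10_8_7 : enum 11 ck11 2 5 7905568 1415 6 7 = true := by
  decide +kernel

theorem ch_2_1_10_8 : enum 11 ck11 2 6 565536 1287 5 8 = true := by
  refine enum_intro 11 ck11 2 5 565536 1287 5 8 ?_
  intro v hv hb hd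
  interval_cases v
  · exact absurd hb (by decide)
  · exact absurd hb (by decide)
  · exact absurd hb (by decide)
  · exact ch_2_1_10_8_3
  · exact ch_2_1_10_8_4
  · exact ch_2_1_10_8_5
  · exact ch_2_1_10_8_6
  · exact ch_2_1_10_8_7
  · exact absurd hb (by decide)
  · exact absurd hd (by decide)
  · exact absurd hb (by decide)

set_option maxRecDepth 100000 in
theorem ch_2_1_10_9_3 : enum 11 ck11 2 5 3776800 1551 6 3 = true := by
  decide +kernel

set_option maxRecDepth 100000 in
theorem ch_2_1_10_9_4 : enum 11 ck11 2 5 4825376 1559 6 4 = true := by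
  decide +kernel

set_option maxRecDepth 100000 in
theorem ch_2_1_10_9_5 : enum 11 ck11 2 5 5873952 1575 6 5 = true := by
  decide +kernel

set_option maxRecDepth 100000 in
theorem ch_2_1_10_9_6 : enum 11 ck11 2 5 6922528 1607 6 6 = true := by
  decide +kernel

set_option maxRecDepth 100000 in
theorem ch_2_1_10_9_7 : enum 11 ck11 2 5 7971104 1671 6 7 = true := by
  decide +kernel

set_option maxRecDepth 100000 in
theorem ch_2_1_10_9_8 : enum 11 ck11 2 5 9019680 1799 6 8 = true := by
  decide +kernel

theorem ch_2_1_10_9 : enum 11 ck11 2 6 631072 1543 5 9 = true := by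
  refine enum_intro 11 ck11 2 5 631072 1543 5 9 ?_
  intro v hv hb hd
  interval_cases v
  · exact absurd hb (by decide)
  · exact absurd hb (by decide)
  · exact absurd hb (by decide)
  · exact ch_2_1_10_9_3
  · exact ch_2_1_10_9_4
  · exact ch_2_1_10_9_5
  · exact ch_2_1_10_9_6
  · exact ch_2_1_10_9_7
  · exact ch_2_1_10_9_8
  · exact absurd hb (by decide)
  · exact absurd hb (by decide)

theorem ch_2_1_10 : enum 11 ck11 2 7 41248 1031 4 10 = true := by
  refine enum_intro 11 ck11 2 6 41248 1031 4 10 ?_
  intro v hv hb hd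
  interval_cases v
  · exact absurd hb (by decide)
  · exact absurd hb (by decide)
  · exact absurd hb (by decide)
  · exact ch_2_1_10_3
  · exact ch_2_1_10_4
  · exact ch_2_1_10_5
  · exact ch_2_1_10_6
  · exact ch_2_1_10_7
  · exact ch_2_1_10_8
  · exact ch_2_1_10_9
  · exact absurd hb (by decide)

end Cfsg.Agent.Helper9.T11
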