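import Mathlib
import Cfsg.Agent.Helper9.T11.Chk

set_option autoImplicit false
set_option Elab.async false

/-!
A part of the enumeration on 11 points: the test holds at every permutation of the part.
-/

namespace Cfsg.Agent.Helper9.T11

set_option maxRecDepth 100000 in
theorem ch_2_10_1_3_5 : enum 11 ck11 2 5 5446176 1071 6 5 = true := by
  decide +kernel

set_option maxRecDepth 100000 in
theorem ch_2_10_1_3_6 : enum 11 ck11 2 5 6494752 1103 6 6 = true := by
  decide +kernel

set_option maxRecDepth 100000 in
theorem ch_2_10_1_3_7 : enum 11 ck11 2 5 7543328 1167 6 7 = true := by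
  decide +kernel

set_option maxRecDepth 100000 in
theorem ch_2_10_1_3_8 : enum 11 ck11 2 5 8591904 1295 6 8 = true := by
  decide +kernel

set_option maxRecDepth 100000 in
theorem ch_2_10_1_3_9 : enum 11 ck11 2 5 9640480 1551 6 9 = true := by
  decide +kernel

theorem ch_2_10_1_3 : enum 11 ck11 2 6 203296 1039 5 3 = true := by
  refine enum_intro 11 ck11 2 5 203296 1039 5 3 ?_
  intro v hv hb hd
  interval_cases v
  · exact absurd hb (by decide)
  · exact absurd hb (by decide)
  · exact absurd hb (by decide)
  · exact absurd hb (by decide)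
  · exact absurd hd (by decide)
  · exact ch_2_10_1_3_5
  · exact ch_2_10_1_3_6
  · exact ch_2_10_1_3_7
  · exact ch_2_10_1_3_8
  · exact ch_2_10_1_3_9
  · exact absurd hb (by decide)

set_option maxRecDepth 100000 in
theorem ch_2_10_1_4_3 : enum 11 ck11 2 5 3414560 1055 6 3 = true := by
  decide +kernel

set_option maxRecDepth 100000 in
theorem ch_2_10_1_4_6 : enum 11 ck11 2 5 6560288 1111 6 6 = true := by
  decide +kernel

set_option maxRecDepth 100000 in
theorem ch_2_10_1_4_7 : enum 11 ck11 2 5 7608864 1175 6 7 = true := by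
  decide +kernel

set_option maxRecDepth 100000 in
theorem ch_2_10_1_4_8 : enum 11 ck11 2 5 8657440 1303 6 8 = true := by
  decide +kernel

set_option maxRecDepth 100000 in
theorem ch_2_10_1_4_9 : enum 11 ck11 2 5 9706016 1559 6 9 = true := by
  decide +kernel

theorem ch_2_10_1_4 : enum 11 ck11 2 6 268832 1047 5 4 = true := by
  refine enum_intro 11 ck11 2 5 268832 1047 5 4 ?_
  intro v hv hb hd
  interval_cases v
  · exact absurd hb (by decide)
  · exact absurd hb (by decide)
  · exact absurd hb (by decide)
  · exact ch_2_10_1_4_3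
  · exact absurd hb (by decide)
  · exact absurd hd (by decide)
  · exact ch_2_10_1_4_6
  · exact ch_2_10_1_4_7
  · exact ch_2_10_1_4_8
  · exact ch_2_10_1_4_9
  · exact absurd hb (by decide)

set_option maxRecDepth 100000 in
theorem ch_2_10_1_5_3 : enum 11 ck11 2 5 3480096 1071 6 3 = true := by
  decide +kernel

set_option maxRecDepth 100000 in
theorem ch_2_10_1_5_4 : enum 11 ck11 2 5 4528672 1079 6 4 = true := by
  decide +kernel

set_option maxRecDepth 100000 in
theorem ch_2_10_1_5_7 : enum 11 ck11 2 5 7674400 1191 6 7 = true := by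
  decide +kernel

set_option maxRecDepth 100000 in
theorem ch_2_10_1_5_8 : enum 11 ck11 2 5 8722976 1319 6 8 = true := by
  decide +kernel

set_option maxRecDepth 100000 in
theorem ch_2_10_1_5_9 : enum 11 ck11 2 5 9771552 1575 6 9 = true := by
  decide +kernel

theorem ch_2_10_1_5 : enum 11 ck11 2 6 334368 1063 5 5 = true := by
  refine enum_intro 11 ck11 2 5 334368 1063 5 5 ?_
  intro v hv hb hd
  interval_cases v
  · exact absurd hb (by decide)
  · exact absurd hb (by decide)
  · exact absurd hb (by decide)
  · exact ch_2_10_1_5_3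
  · exact ch_2_10_1_5_4
  · exact absurd hb (by decide)
  · exact absurd hd (by decide)
  · exact ch_2_10_1_5_7
  · exact ch_2_10_1_5_8
  · exact ch_2_10_1_5_9
  · exact absurd hb (by decide)

set_option maxRecDepth 100000 in
theorem ch_2_10_1_6_3 : enum 11 ck11 2 5 3545632 1103 6 3 = true := by
  decide +kernel

set_option maxRecDepth 100000 in
theorem ch_2_10_1_6_4 : enum 11 ck11 2 5 4594208 1111 6 4 = true := by
  decide +kernel

set_option maxRecDepth 100000 in
theorem ch_2_10_1_6_5 : enum 11 ck11 2 5 5642784 1127 6 5 = true := by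
  decide +kernel

set_option maxRecDepth 100000 in
theorem ch_2_10_1_6_8 : enum 11 ck11 2 5 8788512 1351 6 8 = true := by
  decide +kernel

set_option maxRecDepth 100000 in
theorem ch_2_10_1_6_9 : enum 11 ck11 2 5 9837088 1607 6 9 = true := by
  decide +kernel

theorem ch_2_10_1_6 : enum 11 ck11 2 6 399904 1095 5 6 = true := by
  refine enum_intro 11 ck11 2 5 399904 1095 5 6 ?_
  intro v hv hb hd
  interval_cases v
  · exact absurd hb (by decide)
  · exact absurd hb (by decide)
  · exact absurd hb (by decide)
  · exact ch_2_10_1_6_3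
  · exact ch_2_10_1_6_4
  · exact ch_2_10_1_6_5
  · exact absurd hb (by decide)
  · exact absurd hd (by decide)
  · exact ch_2_10_1_6_8
  · exact ch_2_10_1_6_9
  · exact absurd hb (by decide)

set_option maxRecDepth 100000 in
theorem ch_2_10_1_7_3 : enum 11 ck11 2 5 3611168 1167 6 3 = true := by
  decide +kernel

set_option maxRecDepth 100000 in
theorem ch_2_10_1_7_4 : enum 11 ck11 2 5 4659744 1175 6 4 = true := by
  decide +kernel

set_option maxRecDepth 100000 in
theorem ch_2_10_1_7_5 : enum 11 ck11 2 5 5708320 1191 6 5 = true := by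
  decide +kernel

set_option maxRecDepth 100000 in
theorem ch_2_10_1_7_6 : enum 11 ck11 2 5 6756896 1223 6 6 = true := by
  decide +kernel

set_option maxRecDepth 100000 in
theorem ch_2_10_1_7_9 : enum 11 ck11 2 5 9902624 1671 6 9 = true := by
  decide +kernel

theorem ch_2_10_1_7 : enum 11 ck11 2 6 465440 1159 5 7 = true := by
  refine enum_intro 11 ck11 2 5 465440 1159 5 7 ?_
  intro v hv hb hd
  interval_cases v
  · exact absurd hb (by decide)
  · exact absurd hb (by decide)
  · exact absurd hb (by decide)
  · exact ch_2_10_1_7_3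
  · exact ch_2_10_1_7_4
  · exact ch_2_10_1_7_5
  · exact ch_2_10_1_7_6
  · exact absurd hb (by decide)
  · exact absurd hd (by decide)
  · exact ch_2_10_1_7_9
  · exact absurd hb (by decide)

set_option maxRecDepth 100000 in
theorem ch_2_10_1_8_3 : enum 11 ck11 2 5 3676704 1295 6 3 = true := by
  decide +kernel

set_option maxRecDepth 100000 in
theorem ch_2_10_1_8_4 : enum 11 ck11 2 5 4725280 1303 6 4 = true := by
  decide +kernel

set_option maxRecDepth 100000 in
theorem ch_2_10_1_8_5 : enum 11 ck11 2 5 5773856 1319 6 5 = true := by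
  decide +kernel

set_option maxRecDepth 100000 in
theorem ch_2_10_1_8_6 : enum 11 ck11 2 5 6822432 1351 6 6 = true := by
  decide +kernel

set_option maxRecDepth 100000 in
theorem ch_2_10_1_8_7 : enum 11 ck11 2 5 7871008 1415 6 7 = true := by
  decide +kernel

theorem ch_2_10_1_8 : enum 11 ck11 2 6 530976 1287 5 8 = true := by
  refine enum_intro 11 ck11 2 5 530976 1287 5 8 ?_
  intro v hv hb hd
  interval_cases v
  · exact absurd hb (by decide)
  · exact absurd hb (by decide)
  · exact absurd hb (by decide)
  · exact ch_2_10_1_8_3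
  · exact ch_2_10_1_8_4
  · exact ch_2_10_1_8_5
  · exact ch_2_10_1_8_6
  · exact ch_2_10_1_8_7
  · exact absurd hb (by decide)
  · exact absurd hd (by decide)
  · exact absurd hb (by decide)

set_option maxRecDepth 100000 in
theorem ch_2_10_1_9_3 : enum 11 ck11 2 5 3742240 1551 6 3 = true := by
  decide +kernel

set_option maxRecDepth 100000 in
theorem ch_2_10_1_9_4 : enum 11 ck11 2 5 4790816 1559 6 4 = true := by
  decide +kernel

set_option maxRecDepth 100000 in
theorem ch_2_10_1_9_5 : enum 11 ck11 2 5 5839392 1575 6 5 = true := by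
  decide +kernel

set_option maxRecDepth 100000 in
theorem ch_2_10_1_9_6 : enum 11 ck11 2 5 6887968 1607 6 6 = true := by
  decide +kernel

set_option maxRecDepth 100000 in
theorem ch_2_10_1_9_7 : enum 11 ck11 2 5 7936544 1671 6 7 = true := by
  decide +kernel

set_option maxRecDepth 100000 in
theorem ch_2_10_1_9_8 : enum 11 ck11 2 5 8985120 1799 6 8 = true := by
  decide +kernel

theorem ch_2_10_1_9 : enum 11 ck11 2 6 596512 1543 5 9 = true := by
  refine enum_intro 11 ck11 2 5 596512 1543 5 9 ?_
  intro v hv hb hd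
  interval_cases v
  · exact absurd hb (by decide)
  · exact absurd hb (by decide)
  · exact absurd hb (by decide)
  · exact ch_2_10_1_9_3
  · exact ch_2_10_1_9_4
  · exact ch_2_10_1_9_5
  · exact ch_2_10_1_9_6
  · exact ch_2_10_1_9_7
  · exact ch_2_10_1_9_8
  · exact absurd hb (by decide)
  · exact absurd hb (by decide)

theorem ch_2_10_1 : enum 11 ck11 2 7 6688 1031 4 1 = true := by
  refine enum_intro 11 ck11 2 6 6688 1031 4 1 ?_
  intro v hv hb hd
  interval_cases v
  · exact absurd hb (by decide)
  · exact absurd hb (by decide)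
  · exact absurd hb (by decide)
  · exact ch_2_10_1_3
  · exact ch_2_10_1_4
  · exact ch_2_10_1_5
  · exact ch_2_10_1_6
  · exact ch_2_10_1_7
  · exact ch_2_10_1_8
  · exact ch_2_10_1_9
  · exact absurd hb (by decide)

set_option maxRecDepth 100000 in
theorem ch_2_10_3_1_4 : enum 11 ck11 2 5 4274720 1055 6 4 = true := by
  decide +kernel

set_option maxRecDepth 100000 in
theorem ch_2_10_3_1_5 : enum 11 ck11 2 5 5323296 1071 6 5 = true := by
  decide +kernel

set_option maxRecDepth 100000 in
theorem ch_2_10_3_1_6 : enum 11 ck11 2 5 6371872 1103 6 6 = true := by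
  decide +kernel

set_option maxRecDepth 100000 in
theorem ch_2_10_3_1_7 : enum 11 ck11 2 5 7420448 1167 6 7 = true := by
  decide +kernel

set_option maxRecDepth 100000 in
theorem ch_2_10_3_1_8 : enum 11 ck11 2 5 8469024 1295 6 8 = true := by
  decide +kernel

set_option maxRecDepth 100000 in
theorem ch_2_10_3_1_9 : enum 11 ck11 2 5 9517600 1551 6 9 = true := by
  decide +kernel

theorem ch_2_10_3_1 : enum 11 ck11 2 6 80416 1039 5 1 = true := by
  refine enum_intro 11 ck11 2 5 80416 1039 5 1 ?_
  intro v hv hb hd
  interval_cases v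
  · exact absurd hb (by decide)
  · exact absurd hb (by decide)
  · exact absurd hb (by decide)
  · exact absurd hb (by decide)
  · exact ch_2_10_3_1_4
  · exact ch_2_10_3_1_5
  · exact ch_2_10_3_1_6
  · exact ch_2_10_3_1_7
  · exact ch_2_10_3_1_8
  · exact ch_2_10_3_1_9
  · exact absurd hb (by decide)

set_option maxRecDepth 100000 in
theorem ch_2_10_3_5_1 : enum 11 ck11 2 5 1391136 1071 6 1 = true := by
  decide +kernel

set_option maxRecDepth 100000 in
theorem ch_2_10_3_5_4 : enum 11 ck11 2 5 4536864 1085 6 4 = true := by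
  decide +kernel

set_option maxRecDepth 100000 in
theorem ch_2_10_3_5_7 : enum 11 ck11 2 5 7682592 1197 6 7 = true := by
  decide +kernel

set_option maxRecDepth 100000 in
theorem ch_2_10_3_5_8 : enum 11 ck11 2 5 8731168 1325 6 8 = true := by
  decide +kernel

set_option maxRecDepth 100000 in
theorem ch_2_10_3_5_9 : enum 11 ck11 2 5 9779744 1581 6 9 = true := by
  decide +kernel

theorem ch_2_10_3_5 : enum 11 ck11 2 6 342560 1069 5 5 = true := by
  refine enum_intro 11 ck11 2 5 342560 1069 5 5 ?_
  intro v hv hb hd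
  interval_cases v
  · exact absurd hb (by decide)
  · exact ch_2_10_3_5_1
  · exact absurd hb (by decide)
  · exact absurd hb (by decide)
  · exact ch_2_10_3_5_4
  · exact absurd hb (by decide)
  · exact absurd hd (by decide)
  · exact ch_2_10_3_5_7
  · exact ch_2_10_3_5_8
  · exact ch_2_10_3_5_9
  · exact absurd hb (by decide)

set_option maxRecDepth 100000 in
theorem ch_2_10_3_6_1 : enum 11 ck11 2 5 1456672 1103 6 1 = true := by
  decide +kernel

set_option maxRecDepth 100000 in
theorem ch_2_10_3_6_4 : enum 11 ck11 2 5 4602400 1117 6 4 = true := by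
  decide +kernel

set_option maxRecDepth 100000 in
theorem ch_2_10_3_6_5 : enum 11 ck11 2 5 5650976 1133 6 5 = true := by
  decide +kernel

set_option maxRecDepth 100000 in
theorem ch_2_10_3_6_8 : enum 11 ck11 2 5 8796704 1357 6 8 = true := by
  decide +kernel

set_option maxRecDepth 100000 in
theorem ch_2_10_3_6_9 : enum 11 ck11 2 5 9845280 1613 6 9 = true := by
  decide +kernel

theorem ch_2_10_3_6 : enum 11 ck11 2 6 408096 1101 5 6 = true := by
  refine enum_intro 11 ck11 2 5 408096 1101 5 6 ?_
  intro v hv hb hd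
  interval_cases v
  · exact absurd hb (by decide)
  · exact ch_2_10_3_6_1
  · exact absurd hb (by decide)
  · exact absurd hb (by decide)
  · exact ch_2_10_3_6_4
  · exact ch_2_10_3_6_5
  · exact absurd hb (by decide)
  · exact absurd hd (by decide)
  · exact ch_2_10_3_6_8
  · exact ch_2_10_3_6_9
  · exact absurd hb (by decide)

set_option maxRecDepth 100000 in
theorem ch_2_10_3_7_1 : enum 11 ck11 2 5 1522208 1167 6 1 = true := by
  decide +kernel

set_option maxRecDepth 100000 in
theorem ch_2_10_3_7_4 : enum 11 ck11 2 5 4667936 1181 6 4 = true := by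
  decide +kernel

set_option maxRecDepth 100000 in
theorem ch_2_10_3_7_5 : enum 11 ck11 2 5 5716512 1197 6 5 = true := by
  decide +kernel

set_option maxRecDepth 100000 in
theorem ch_2_10_3_7_6 : enum 11 ck11 2 5 6765088 1229 6 6 = true := by
  decide +kernel

set_option maxRecDepth 100000 in
theorem ch_2_10_3_7_9 : enum 11 ck11 2 5 9910816 1677 6 9 = true := by
  decide +kernel

theorem ch_2_10_3_7 : enum 11 ck11 2 6 473632 1165 5 7 = true := by
  refine enum_intro 11 ck11 2 5 473632 1165 5 7 ?_
  intro v hv hb hd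
  interval_cases v
  · exact absurd hb (by decide)
  · exact ch_2_10_3_7_1
  · exact absurd hb (by decide)
  · exact absurd hb (by decide)
  · exact ch_2_10_3_7_4
  · exact ch_2_10_3_7_5
  · exact ch_2_10_3_7_6
  · exact absurd hb (by decide)
  · exact absurd hd (by decide)
  · exact ch_2_10_3_7_9
  · exact absurd hb (by decide)

set_option maxRecDepth 100000 in
theorem ch_2_10_3_8_1 : enum 11 ck11 2 5 1587744 1295 6 1 = true := by
  decide +kernel

set_option maxRecDepth 100000 in
theorem ch_2_10_3_8_4 : enum 11 ck11 2 5 4733472 1309 6 4 = true := by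
  decide +kernel

set_option maxRecDepth 100000 in
theorem ch_2_10_3_8_5 : enum 11 ck11 2 5 5782048 1325 6 5 = true := by
  decide +kernel

set_option maxRecDepth 100000 in
theorem ch_2_10_3_8_6 : enum 11 ck11 2 5 6830624 1357 6 6 = true := by
  decide +kernel

set_option maxRecDepth 100000 in
theorem ch_2_10_3_8_7 : enum 11 ck11 2 5 7879200 1421 6 7 = true := by
  decide +kernel

theorem ch_2_10_3_8 : enum 11 ck11 2 6 539168 1293 5 8 = true := by
  refine enum_intro 11 ck11 2 5 539168 1293 5 8 ?_
  intro v hv hb hd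
  interval_cases v
  · exact absurd hb (by decide)
  · exact ch_2_10_3_8_1
  · exact absurd hb (by decide)
  · exact absurd hb (by decide)
  · exact ch_2_10_3_8_4
  · exact ch_2_10_3_8_5
  · exact ch_2_10_3_8_6
  · exact ch_2_10_3_8_7
  · exact absurd hb (by decide)
  · exact absurd hd (by decide)
  · exact absurd hb (by decide)

set_option maxRecDepth 100000 in
theorem ch_2_10_3_9_1 : enum 11 ck11 2 5 1653280 1551 6 1 = true := by
  decide +kernel

set_option maxRecDepth 100000 in
theorem ch_2_10_3_9_4 : enum 11 ck11 2 5 4799008 1565 6 4 = true := by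
  decide +kernel

set_option maxRecDepth 100000 in
theorem ch_2_10_3_9_5 : enum 11 ck11 2 5 5847584 1581 6 5 = true := by
  decide +kernel

set_option maxRecDepth 100000 in
theorem ch_2_10_3_9_6 : enum 11 ck11 2 5 6896160 1613 6 6 = true := by
  decide +kernel

set_option maxRecDepth 100000 in
theorem ch_2_10_3_9_7 : enum 11 ck11 2 5 7944736 1677 6 7 = true := by
  decide +kernel

set_option maxRecDepth 100000 in
theorem ch_2_10_3_9_8 : enum 11 ck11 2 5 8993312 1805 6 8 = true := by
  decide +kernel

theorem ch_2_10_3_9 : enum 11 ck11 2 6 604704 1549 5 9 = true := by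
  refine enum_intro 11 ck11 2 5 604704 1549 5 9 ?_
  intro v hv hb hd
  interval_cases v
  · exact absurd hb (by decide)
  · exact ch_2_10_3_9_1
  · exact absurd hb (by decide)
  · exact absurd hb (by decide)
  · exact ch_2_10_3_9_4
  · exact ch_2_10_3_9_5
  · exact ch_2_10_3_9_6
  · exact ch_2_10_3_9_7
  · exact ch_2_10_3_9_8
  · exact absurd hb (by decide)
  · exact absurd hb (by decide)

theorem ch_2_10_3 : enum 11 ck11 2 7 14880 1037 4 3 = true := by
  refine enum_intro 11 ck11 2 6 14880 1037 4 3 ?_
  intro v hv hb hd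
  interval_cases v
  · exact absurd hb (by decide)
  · exact ch_2_10_3_1
  · exact absurd hb (by decide)
  · exact absurd hb (by decide)
  · exact absurd hd (by decide)
  · exact ch_2_10_3_5
  · exact ch_2_10_3_6
  · exact ch_2_10_3_7
  · exact ch_2_10_3_8
  · exact ch_2_10_3_9
  · exact absurd hb (by decide)

set_option maxRecDepth 100000 in
theorem ch_2_10_4_1_3 : enum 11 ck11 2 5 3230240 1055 6 3 = true := by
  decide +kernel

set_option maxRecDepth 100000 in
theorem ch_2_10_4_1_5 : enum 11 ck11 2 5 5327392 1079 6 5 = true := by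
  decide +kernel

set_option maxRecDepth 100000 in
theorem ch_2_10_4_1_6 : enum 11 ck11 2 5 6375968 1111 6 6 = true := by
  decide +kernel

set_option maxRecDepth 100000 in
theorem ch_2_10_4_1_7 : enum 11 ck11 2 5 7424544 1175 6 7 = true := by
  decide +kernel

set_option maxRecDepth 100000 in
theorem ch_2_10_4_1_8 : enum 11 ck11 2 5 8473120 1303 6 8 = true := by
  decide +kernel

set_option maxRecDepth 100000 in
theorem ch_2_10_4_1_9 : enum 11 ck11 2 5 9521696 1559 6 9 = true := by
  decide +kernel

theorem ch_2_10_4_1 : enum 11 ck11 2 6 84512 1047 5 1 = true := by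
  refine enum_intro 11 ck11 2 5 84512 1047 5 1 ?_
  intro v hv hb hd
  interval_cases v
  · exact absurd hb (by decide)
  · exact absurd hb (by decide)
  · exact absurd hb (by decide)
  · exact ch_2_10_4_1_3
  · exact absurd hb (by decide)
  · exact ch_2_10_4_1_5
  · exact ch_2_10_4_1_6
  · exact ch_2_10_4_1_7
  · exact ch_2_10_4_1_8
  · exact ch_2_10_4_1_9
  · exact absurd hb (by decide)

set_option maxRecDepth 100000 in
theorem ch_2_10_4_3_1 : enum 11 ck11 2 5 1264160 1055 6 1 = true := by
  decide +kernel

set_option maxRecDepth 100000 in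
theorem ch_2_10_4_3_5 : enum 11 ck11 2 5 5458464 1085 6 5 = true := by
  decide +kernel

set_option maxRecDepth 100000 in
theorem ch_2_10_4_3_6 : enum 11 ck11 2 5 6507040 1117 6 6 = true := by
  decide +kernel

set_option maxRecDepth 100000 in
theorem ch_2_10_4_3_7 : enum 11 ck11 2 5 7555616 1181 6 7 = true := by
  decide +kernel

set_option maxRecDepth 100000 in
theorem ch_2_10_4_3_8 : enum 11 ck11 2 5 8604192 1309 6 8 = true := by
  decide +kernel

set_option maxRecDepth 100000 in
theorem ch_2_10_4_3_9 : enum 11 ck11 2 5 9652768 1565 6 9 = true := by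
  decide +kernel

theorem ch_2_10_4_3 : enum 11 ck11 2 6 215584 1053 5 3 = true := by
  refine enum_intro 11 ck11 2 5 215584 1053 5 3 ?_
  intro v hv hb hd
  interval_cases v
  · exact absurd hb (by decide)
  · exact ch_2_10_4_3_1
  · exact absurd hb (by decide)
  · exact absurd hb (by decide)
  · exact absurd hb (by decide)
  · exact ch_2_10_4_3_5
  · exact ch_2_10_4_3_6
  · exact ch_2_10_4_3_7
  · exact ch_2_10_4_3_8
  · exact ch_2_10_4_3_9
  · exact absurd hb (by decide)

set_option maxRecDepth 100000 in
theorem ch_2_10_4_6_1 : enum 11 ck11 2 5 1460768 1111 6 1 = true := by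
  decide +kernel

set_option maxRecDepth 100000 in
theorem ch_2_10_4_6_3 : enum 11 ck11 2 5 3557920 1117 6 3 = true := by
  decide +kernel

set_option maxRecDepth 100000 in
theorem ch_2_10_4_6_5 : enum 11 ck11 2 5 5655072 1141 6 5 = true := by
  decide +kernel

set_option maxRecDepth 100000 in
theorem ch_2_10_4_6_8 : enum 11 ck11 2 5 8800800 1365 6 8 = true := by
  decide +kernel

set_option maxRecDepth 100000 in
theorem ch_2_10_4_6_9 : enum 11 ck11 2 5 9849376 1621 6 9 = true := by
  decide +kernel

theorem ch_2_10_4_6 : enum 11 ck11 2 6 412192 1109 5 6 = true := by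
  refine enum_intro 11 ck11 2 5 412192 1109 5 6 ?_
  intro v hv hb hd
  interval_cases v
  · exact absurd hb (by decide)
  · exact ch_2_10_4_6_1
  · exact absurd hb (by decide)
  · exact ch_2_10_4_6_3
  · exact absurd hb (by decide)
  · exact ch_2_10_4_6_5
  · exact absurd hb (by decide)
  · exact absurd hd (by decide)
  · exact ch_2_10_4_6_8
  · exact ch_2_10_4_6_9
  · exact absurd hb (by decide)

set_option maxRecDepth 100000 in
theorem ch_2_10_4_7_1 : enum 11 ck11 2 5 1526304 1175 6 1 = true := by
  decide +kernel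

set_option maxRecDepth 100000 in
theorem ch_2_10_4_7_3 : enum 11 ck11 2 5 3623456 1181 6 3 = true := by
  decide +kernel

set_option maxRecDepth 100000 in
theorem ch_2_10_4_7_5 : enum 11 ck11 2 5 5720608 1205 6 5 = true := by
  decide +kernel

set_option maxRecDepth 100000 in
theorem ch_2_10_4_7_6 : enum 11 ck11 2 5 6769184 1237 6 6 = true := by
  decide +kernel

set_option maxRecDepth 100000 in
theorem ch_2_10_4_7_9 : enum 11 ck11 2 5 9914912 1685 6 9 = true := by
  decide +kernel

theorem ch_2_10_4_7 : enum 11 ck11 2 6 477728 1173 5 7 = true := by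
  refine enum_intro 11 ck11 2 5 477728 1173 5 7 ?_
  intro v hv hb hd
  interval_cases v
  · exact absurd hb (by decide)
  · exact ch_2_10_4_7_1
  · exact absurd hb (by decide)
  · exact ch_2_10_4_7_3
  · exact absurd hb (by decide)
  · exact ch_2_10_4_7_5
  · exact ch_2_10_4_7_6
  · exact absurd hb (by decide)
  · exact absurd hd (by decide)
  · exact ch_2_10_4_7_9
  · exact absurd hb (by decide)

set_option maxRecDepth 100000 in
theorem ch_2_10_4_8_1 : enum 11 ck11 2 5 1591840 1303 6 1 = true := by
  decide +kernel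

set_option maxRecDepth 100000 in
theorem ch_2_10_4_8_3 : enum 11 ck11 2 5 3688992 1309 6 3 = true := by
  decide +kernel

set_option maxRecDepth 100000 in
theorem ch_2_10_4_8_5 : enum 11 ck11 2 5 5786144 1333 6 5 = true := by
  decide +kernel

set_option maxRecDepth 100000 in
theorem ch_2_10_4_8_6 : enum 11 ck11 2 5 6834720 1365 6 6 = true := by
  decide +kernel

set_option maxRecDepth 100000 in
theorem ch_2_10_4_8_7 : enum 11 ck11 2 5 7883296 1429 6 7 = true := by
  decide +kernel

theorem ch_2_10_4_8 : enum 11 ck11 2 6 543264 1301 5 8 = true := by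
  refine enum_intro 11 ck11 2 5 543264 1301 5 8 ?_
  intro v hv hb hd
  interval_cases v
  · exact absurd hb (by decide)
  · exact ch_2_10_4_8_1
  · exact absurd hb (by decide)
  · exact ch_2_10_4_8_3
  · exact absurd hb (by decide)
  · exact ch_2_10_4_8_5
  · exact ch_2_10_4_8_6
  · exact ch_2_10_4_8_7
  · exact absurd hb (by decide)
  · exact absurd hd (by decide)
  · exact absurd hb (by decide)

set_option maxRecDepth 100000 in
theorem ch_2_10_4_9_1 : enum 11 ck11 2 5 1657376 1559 6 1 = true := by
  decide +kernel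

set_option maxRecDepth 100000 in
theorem ch_2_10_4_9_3 : enum 11 ck11 2 5 3754528 1565 6 3 = true := by
  decide +kernel

set_option maxRecDepth 100000 in
theorem ch_2_10_4_9_5 : enum 11 ck11 2 5 5851680 1589 6 5 = true := by
  decide +kernel

set_option maxRecDepth 100000 in
theorem ch_2_10_4_9_6 : enum 11 ck11 2 5 6900256 1621 6 6 = true := by
  decide +kernel

set_option maxRecDepth 100000 in
theorem ch_2_10_4_9_7 : enum 11 ck11 2 5 7948832 1685 6 7 = true := by
  decide +kernel

set_option maxRecDepth 100000 in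
theorem ch_2_10_4_9_8 : enum 11 ck11 2 5 8997408 1813 6 8 = true := by
  decide +kernel

theorem ch_2_10_4_9 : enum 11 ck11 2 6 608800 1557 5 9 = true := by
  refine enum_intro 11 ck11 2 5 608800 1557 5 9 ?_
  intro v hv hb hd
  interval_cases v
  · exact absurd hb (by decide)
  · exact ch_2_10_4_9_1
  · exact absurd hb (by decide)
  · exact ch_2_10_4_9_3
  · exact absurd hb (by decide)
  · exact ch_2_10_4_9_5
  · exact ch_2_10_4_9_6
  · exact ch_2_10_4_9_7
  · exact ch_2_10_4_9_8
  · exact absurd hb (by decide)
  · exact absurd hb (by decide)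

theorem ch_2_10_4 : enum 11 ck11 2 7 18976 1045 4 4 = true := by
  refine enum_intro 11 ck11 2 6 18976 1045 4 4 ?_
  intro v hv hb hd
  interval_cases v
  · exact absurd hb (by decide)
  · exact ch_2_10_4_1
  · exact absurd hb (by decide)
  · exact ch_2_10_4_3
  · exact absurd hb (by decide)
  · exact absurd hd (by decide)
  · exact ch_2_10_4_6
  · exact ch_2_10_4_7
  · exact ch_2_10_4_8
  · exact ch_2_10_4_9
  · exact absurd hb (by decide)

set_option maxRecDepth 100000 in
theorem ch_2_10_5_1_3 : enum 11 ck11 2 5 3234336 1071 6 3 = true := by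
  decide +kernel

set_option maxRecDepth 100000 in
theorem ch_2_10_5_1_4 : enum 11 ck11 2 5 4282912 1079 6 4 = true := by
  decide +kernel

set_option maxRecDepth 100000 in
theorem ch_2_10_5_1_6 : enum 11 ck11 2 5 6380064 1127 6 6 = true := by
  decide +kernel

set_option maxRecDepth 100000 in
theorem ch_2_10_5_1_7 : enum 11 ck11 2 5 7428640 1191 6 7 = true := by
  decide +kernel

set_option maxRecDepth 100000 in
theorem ch_2_10_5_1_8 : enum 11 ck11 2 5 8477216 1319 6 8 = true := by
  decide +kernel

set_option maxRecDepth 100000 in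
theorem ch_2_10_5_1_9 : enum 11 ck11 2 5 9525792 1575 6 9 = true := by
  decide +kernel

theorem ch_2_10_5_1 : enum 11 ck11 2 6 88608 1063 5 1 = true := by
  refine enum_intro 11 ck11 2 5 88608 1063 5 1 ?_
  intro v hv hb hd
  interval_cases v
  · exact absurd hb (by decide)
  · exact absurd hb (by decide)
  · exact absurd hb (by decide)
  · exact ch_2_10_5_1_3
  · exact ch_2_10_5_1_4
  · exact absurd hb (by decide)
  · exact ch_2_10_5_1_6
  · exact ch_2_10_5_1_7
  · exact ch_2_10_5_1_8
  · exact ch_2_10_5_1_9
  · exact absurd hb (by decide)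

set_option maxRecDepth 100000 in
theorem ch_2_10_5_3_1 : enum 11 ck11 2 5 1268256 1071 6 1 = true := by
  decide +kernel

set_option maxRecDepth 100000 in
theorem ch_2_10_5_3_6 : enum 11 ck11 2 5 6511136 1133 6 6 = true := by
  decide +kernel

set_option maxRecDepth 100000 in
theorem ch_2_10_5_3_7 : enum 11 ck11 2 5 7559712 1197 6 7 = true := by
  decide +kernel

set_option maxRecDepth 100000 in
theorem ch_2_10_5_3_8 : enum 11 ck11 2 5 8608288 1325 6 8 = true := by
  decide +kernel

set_option maxRecDepth 100000 in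
theorem ch_2_10_5_3_9 : enum 11 ck11 2 5 9656864 1581 6 9 = true := by
  decide +kernel

theorem ch_2_10_5_3 : enum 11 ck11 2 6 219680 1069 5 3 = true := by
  refine enum_intro 11 ck11 2 5 219680 1069 5 3 ?_
  intro v hv hb hd
  interval_cases v
  · exact absurd hb (by decide)
  · exact ch_2_10_5_3_1
  · exact absurd hb (by decide)
  · exact absurd hb (by decide)
  · exact absurd hd (by decide)
  · exact absurd hb (by decide)
  · exact ch_2_10_5_3_6
  · exact ch_2_10_5_3_7
  · exact ch_2_10_5_3_8
  · exact ch_2_10_5_3_9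
  · exact absurd hb (by decide)

set_option maxRecDepth 100000 in
theorem ch_2_10_5_4_1 : enum 11 ck11 2 5 1333792 1079 6 1 = true := by
  decide +kernel

set_option maxRecDepth 100000 in
theorem ch_2_10_5_4_3 : enum 11 ck11 2 5 3430944 1085 6 3 = true := by
  decide +kernel

set_option maxRecDepth 100000 in
theorem ch_2_10_5_4_6 : enum 11 ck11 2 5 6576672 1141 6 6 = true := by
  decide +kernel

set_option maxRecDepth 100000 in
theorem ch_2_10_5_4_7 : enum 11 ck11 2 5 7625248 1205 6 7 = true := by
  decide +kernel

set_option maxRecDepth 100000 in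
theorem ch_2_10_5_4_8 : enum 11 ck11 2 5 8673824 1333 6 8 = true := by
  decide +kernel

set_option maxRecDepth 100000 in
theorem ch_2_10_5_4_9 : enum 11 ck11 2 5 9722400 1589 6 9 = true := by
  decide +kernel

theorem ch_2_10_5_4 : enum 11 ck11 2 6 285216 1077 5 4 = true := by
  refine enum_intro 11 ck11 2 5 285216 1077 5 4 ?_
  intro v hv hb hd
  interval_cases v
  · exact absurd hb (by decide)
  · exact ch_2_10_5_4_1
  · exact absurd hb (by decide)
  · exact ch_2_10_5_4_3
  · exact absurd hb (by decide)
  · exact absurd hb (by decide)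
  · exact ch_2_10_5_4_6
  · exact ch_2_10_5_4_7
  · exact ch_2_10_5_4_8
  · exact ch_2_10_5_4_9
  · exact absurd hb (by decide)

set_option maxRecDepth 100000 in
theorem ch_2_10_5_7_1 : enum 11 ck11 2 5 1530400 1191 6 1 = true := by
  decide +kernel

set_option maxRecDepth 100000 in
theorem ch_2_10_5_7_3 : enum 11 ck11 2 5 3627552 1197 6 3 = true := by
  decide +kernel

set_option maxRecDepth 100000 in
theorem ch_2_10_5_7_4 : enum 11 ck11 2 5 4676128 1205 6 4 = true := by
  decide +kernel

set_option maxRecDepth 100000 in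
theorem ch_2_10_5_7_6 : enum 11 ck11 2 5 6773280 1253 6 6 = true := by
  decide +kernel

set_option maxRecDepth 100000 in
theorem ch_2_10_5_7_9 : enum 11 ck11 2 5 9919008 1701 6 9 = true := by
  decide +kernel

theorem ch_2_10_5_7 : enum 11 ck11 2 6 481824 1189 5 7 = true := by
  refine enum_intro 11 ck11 2 5 481824 1189 5 7 ?_
  intro v hv hb hd
  interval_cases v
  · exact absurd hb (by decide)
  · exact ch_2_10_5_7_1
  · exact absurd hb (by decide)
  · exact ch_2_10_5_7_3
  · exact ch_2_10_5_7_4
  · exact absurd hb (by decide)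
  · exact ch_2_10_5_7_6
  · exact absurd hb (by decide)
  · exact absurd hd (by decide)
  · exact ch_2_10_5_7_9
  · exact absurd hb (by decide)

set_option maxRecDepth 100000 in
theorem ch_2_10_5_8_1 : enum 11 ck11 2 5 1595936 1319 6 1 = true := by
  decide +kernel

set_option maxRecDepth 100000 in
theorem ch_2_10_5_8_3 : enum 11 ck11 2 5 3693088 1325 6 3 = true := by
  decide +kernel

set_option maxRecDepth 100000 in
theorem ch_2_10_5_8_4 : enum 11 ck11 2 5 4741664 1333 6 4 = true := by
  decide +kernel

set_option maxRecDepth 100000 in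
theorem ch_2_10_5_8_6 : enum 11 ck11 2 5 6838816 1381 6 6 = true := by
  decide +kernel

set_option maxRecDepth 100000 in
theorem ch_2_10_5_8_7 : enum 11 ck11 2 5 7887392 1445 6 7 = true := by
  decide +kernel

theorem ch_2_10_5_8 : enum 11 ck11 2 6 547360 1317 5 8 = true := by
  refine enum_intro 11 ck11 2 5 547360 1317 5 8 ?_
  intro v hv hb hd
  interval_cases v
  · exact absurd hb (by decide)
  · exact ch_2_10_5_8_1
  · exact absurd hb (by decide)
  · exact ch_2_10_5_8_3
  · exact ch_2_10_5_8_4
  · exact absurd hb (by decide)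
  · exact ch_2_10_5_8_6
  · exact ch_2_10_5_8_7
  · exact absurd hb (by decide)
  · exact absurd hd (by decide)
  · exact absurd hb (by decide)

set_option maxRecDepth 100000 in
theorem ch_2_10_5_9_1 : enum 11 ck11 2 5 1661472 1575 6 1 = true := by
  decide +kernel

set_option maxRecDepth 100000 in
theorem ch_2_10_5_9_3 : enum 11 ck11 2 5 3758624 1581 6 3 = true := by
  decide +kernel

set_option maxRecDepth 100000 in
theorem ch_2_10_5_9_4 : enum 11 ck11 2 5 4807200 1589 6 4 = true := by
  decide +kernel

set_option maxRecDepth 100000 in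
theorem ch_2_10_5_9_6 : enum 11 ck11 2 5 6904352 1637 6 6 = true := by
  decide +kernel

set_option maxRecDepth 100000 in
theorem ch_2_10_5_9_7 : enum 11 ck11 2 5 7952928 1701 6 7 = true := by
  decide +kernel

set_option maxRecDepth 100000 in
theorem ch_2_10_5_9_8 : enum 11 ck11 2 5 9001504 1829 6 8 = true := by
  decide +kernel

theorem ch_2_10_5_9 : enum 11 ck11 2 6 612896 1573 5 9 = true := by
  refine enum_intro 11 ck11 2 5 612896 1573 5 9 ?_
  intro v hv hb hd
  interval_cases v
  · exact absurd hb (by decide)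
  · exact ch_2_10_5_9_1
  · exact absurd hb (by decide)
  · exact ch_2_10_5_9_3
  · exact ch_2_10_5_9_4
  · exact absurd hb (by decide)
  · exact ch_2_10_5_9_6
  · exact ch_2_10_5_9_7
  · exact ch_2_10_5_9_8
  · exact absurd hb (by decide)
  · exact absurd hb (by decide)

theorem ch_2_10_5 : enum 11 ck11 2 7 23072 1061 4 5 = true := by
  refine enum_intro 11 ck11 2 6 23072 1061 4 5 ?_
  intro v hv hb hd
  interval_cases v
  · exact absurd hb (by decide)
  · exact ch_2_10_5_1
  · exact absurd hb (by decide)
  · exact ch_2_10_5_3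
  · exact ch_2_10_5_4
  · exact absurd hb (by decide)
  · exact absurd hd (by decide)
  · exact ch_2_10_5_7
  · exact ch_2_10_5_8
  · exact ch_2_10_5_9
  · exact absurd hb (by decide)

set_option maxRecDepth 100000 in
theorem ch_2_10_6_1_3 : enum 11 ck11 2 5 3238432 1103 6 3 = true := by
  decide +kernel

set_option maxRecDepth 100000 in
theorem ch_2_10_6_1_4 : enum 11 ck11 2 5 4287008 1111 6 4 = true := by
  decide +kernel

set_option maxRecDepth 100000 in
theorem ch_2_10_6_1_5 : enum 11 ck11 2 5 5335584 1127 6 5 = true := by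
  decide +kernel

set_option maxRecDepth 100000 in
theorem ch_2_10_6_1_7 : enum 11 ck11 2 5 7432736 1223 6 7 = true := by
  decide +kernel

set_option maxRecDepth 100000 in
theorem ch_2_10_6_1_8 : enum 11 ck11 2 5 8481312 1351 6 8 = true := by
  decide +kernel

set_option maxRecDepth 100000 in
theorem ch_2_10_6_1_9 : enum 11 ck11 2 5 9529888 1607 6 9 = true := by
  decide +kernel

theorem ch_2_10_6_1 : enum 11 ck11 2 6 92704 1095 5 1 = true := by
  refine enum_intro 11 ck11 2 5 92704 1095 5 1 ?_
  intro v hv hb hd
  interval_cases v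
  · exact absurd hb (by decide)
  · exact absurd hb (by decide)
  · exact absurd hb (by decide)
  · exact ch_2_10_6_1_3
  · exact ch_2_10_6_1_4
  · exact ch_2_10_6_1_5
  · exact absurd hb (by decide)
  · exact ch_2_10_6_1_7
  · exact ch_2_10_6_1_8
  · exact ch_2_10_6_1_9
  · exact absurd hb (by decide)

set_option maxRecDepth 100000 in
theorem ch_2_10_6_3_1 : enum 11 ck11 2 5 1272352 1103 6 1 = true := by
  decide +kernel

set_option maxRecDepth 100000 in
theorem ch_2_10_6_3_5 : enum 11 ck11 2 5 5466656 1133 6 5 = true := by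
  decide +kernel

set_option maxRecDepth 100000 in
theorem ch_2_10_6_3_7 : enum 11 ck11 2 5 7563808 1229 6 7 = true := by
  decide +kernel

set_option maxRecDepth 100000 in
theorem ch_2_10_6_3_8 : enum 11 ck11 2 5 8612384 1357 6 8 = true := by
  decide +kernel

set_option maxRecDepth 100000 in
theorem ch_2_10_6_3_9 : enum 11 ck11 2 5 9660960 1613 6 9 = true := by
  decide +kernel

theorem ch_2_10_6_3 : enum 11 ck11 2 6 223776 1101 5 3 = true := by
  refine enum_intro 11 ck11 2 5 223776 1101 5 3 ?_
  intro v hv hb hd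
  interval_cases v
  · exact absurd hb (by decide)
  · exact ch_2_10_6_3_1
  · exact absurd hb (by decide)
  · exact absurd hb (by decide)
  · exact absurd hd (by decide)
  · exact ch_2_10_6_3_5
  · exact absurd hb (by decide)
  · exact ch_2_10_6_3_7
  · exact ch_2_10_6_3_8
  · exact ch_2_10_6_3_9
  · exact absurd hb (by decide)

set_option maxRecDepth 100000 in
theorem ch_2_10_6_4_1 : enum 11 ck11 2 5 1337888 1111 6 1 = true := by
  decide +kernel

set_option maxRecDepth 100000 in
theorem ch_2_10_6_4_3 : enum 11 ck11 2 5 3435040 1117 6 3 = true := by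
  decide +kernel

set_option maxRecDepth 100000 in
theorem ch_2_10_6_4_7 : enum 11 ck11 2 5 7629344 1237 6 7 = true := by
  decide +kernel

set_option maxRecDepth 100000 in
theorem ch_2_10_6_4_8 : enum 11 ck11 2 5 8677920 1365 6 8 = true := by
  decide +kernel

set_option maxRecDepth 100000 in
theorem ch_2_10_6_4_9 : enum 11 ck11 2 5 9726496 1621 6 9 = true := by
  decide +kernel

theorem ch_2_10_6_4 : enum 11 ck11 2 6 289312 1109 5 4 = true := by
  refine enum_intro 11 ck11 2 5 289312 1109 5 4 ?_
  intro v hv hb hd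
  interval_cases v
  · exact absurd hb (by decide)
  · exact ch_2_10_6_4_1
  · exact absurd hb (by decide)
  · exact ch_2_10_6_4_3
  · exact absurd hb (by decide)
  · exact absurd hd (by decide)
  · exact absurd hb (by decide)
  · exact ch_2_10_6_4_7
  · exact ch_2_10_6_4_8
  · exact ch_2_10_6_4_9
  · exact absurd hb (by decide)

set_option maxRecDepth 100000 in
theorem ch_2_10_6_5_1 : enum 11 ck11 2 5 1403424 1127 6 1 = true := by
  decide +kernel

set_option maxRecDepth 100000 in
theorem ch_2_10_6_5_3 : enum 11 ck11 2 5 3500576 1133 6 3 = true := by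
  decide +kernel

set_option maxRecDepth 100000 in
theorem ch_2_10_6_5_4 : enum 11 ck11 2 5 4549152 1141 6 4 = true := by
  decide +kernel

set_option maxRecDepth 100000 in
theorem ch_2_10_6_5_7 : enum 11 ck11 2 5 7694880 1253 6 7 = true := by
  decide +kernel

set_option maxRecDepth 100000 in
theorem ch_2_10_6_5_8 : enum 11 ck11 2 5 8743456 1381 6 8 = true := by
  decide +kernel

set_option maxRecDepth 100000 in
theorem ch_2_10_6_5_9 : enum 11 ck11 2 5 9792032 1637 6 9 = true := by
  decide +kernel

theorem ch_2_10_6_5 : enum 11 ck11 2 6 354848 1125 5 5 = true := by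
  refine enum_intro 11 ck11 2 5 354848 1125 5 5 ?_
  intro v hv hb hd
  interval_cases v
  · exact absurd hb (by decide)
  · exact ch_2_10_6_5_1
  · exact absurd hb (by decide)
  · exact ch_2_10_6_5_3
  · exact ch_2_10_6_5_4
  · exact absurd hb (by decide)
  · exact absurd hb (by decide)
  · exact ch_2_10_6_5_7
  · exact ch_2_10_6_5_8
  · exact ch_2_10_6_5_9
  · exact absurd hb (by decide)

set_option maxRecDepth 100000 in
theorem ch_2_10_6_8_1 : enum 11 ck11 2 5 1600032 1351 6 1 = true := by
  decide +kernel

set_option maxRecDepth 100000 in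
theorem ch_2_10_6_8_3 : enum 11 ck11 2 5 3697184 1357 6 3 = true := by
  decide +kernel

set_option maxRecDepth 100000 in
theorem ch_2_10_6_8_4 : enum 11 ck11 2 5 4745760 1365 6 4 = true := by
  decide +kernel

set_option maxRecDepth 100000 in
theorem ch_2_10_6_8_5 : enum 11 ck11 2 5 5794336 1381 6 5 = true := by
  decide +kernel

set_option maxRecDepth 100000 in
theorem ch_2_10_6_8_7 : enum 11 ck11 2 5 7891488 1477 6 7 = true := by
  decide +kernel

theorem ch_2_10_6_8 : enum 11 ck11 2 6 551456 1349 5 8 = true := by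
  refine enum_intro 11 ck11 2 5 551456 1349 5 8 ?_
  intro v hv hb hd
  interval_cases v
  · exact absurd hb (by decide)
  · exact ch_2_10_6_8_1
  · exact absurd hb (by decide)
  · exact ch_2_10_6_8_3
  · exact ch_2_10_6_8_4
  · exact ch_2_10_6_8_5
  · exact absurd hb (by decide)
  · exact ch_2_10_6_8_7
  · exact absurd hb (by decide)
  · exact absurd hd (by decide)
  · exact absurd hb (by decide)

set_option maxRecDepth 100000 in
theorem ch_2_10_6_9_1 : enum 11 ck11 2 5 1665568 1607 6 1 = true := by
  decide +kernel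

set_option maxRecDepth 100000 in
theorem ch_2_10_6_9_3 : enum 11 ck11 2 5 3762720 1613 6 3 = true := by
  decide +kernel

set_option maxRecDepth 100000 in
theorem ch_2_10_6_9_4 : enum 11 ck11 2 5 4811296 1621 6 4 = true := by
  decide +kernel

set_option maxRecDepth 100000 in
theorem ch_2_10_6_9_5 : enum 11 ck11 2 5 5859872 1637 6 5 = true := by
  decide +kernel

set_option maxRecDepth 100000 in
theorem ch_2_10_6_9_7 : enum 11 ck11 2 5 7957024 1733 6 7 = true := by
  decide +kernel

set_option maxRecDepth 100000 in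
theorem ch_2_10_6_9_8 : enum 11 ck11 2 5 9005600 1861 6 8 = true := by
  decide +kernel

theorem ch_2_10_6_9 : enum 11 ck11 2 6 616992 1605 5 9 = true := by
  refine enum_intro 11 ck11 2 5 616992 1605 5 9 ?_
  intro v hv hb hd
  interval_cases v
  · exact absurd hb (by decide)
  · exact ch_2_10_6_9_1
  · exact absurd hb (by decide)
  · exact ch_2_10_6_9_3
  · exact ch_2_10_6_9_4
  · exact ch_2_10_6_9_5
  · exact absurd hb (by decide)
  · exact ch_2_10_6_9_7
  · exact ch_2_10_6_9_8
  · exact absurd hb (by decide)
  · exact absurd hb (by decide)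

theorem ch_2_10_6 : enum 11 ck11 2 7 27168 1093 4 6 = true := by
  refine enum_intro 11 ck11 2 6 27168 1093 4 6 ?_
  intro v hv hb hd
  interval_cases v
  · exact absurd hb (by decide)
  · exact ch_2_10_6_1
  · exact absurd hb (by decide)
  · exact ch_2_10_6_3
  · exact ch_2_10_6_4
  · exact ch_2_10_6_5
  · exact absurd hb (by decide)
  · exact absurd hd (by decide)
  · exact ch_2_10_6_8
  · exact ch_2_10_6_9
  · exact absurd hb (by decide)

set_option maxRecDepth 100000 in
theorem ch_2_10_7_1_3 : enum 11 ck11 2 5 3242528 1167 6 3 = true := by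
  decide +kernel

set_option maxRecDepth 100000 in
theorem ch_2_10_7_1_4 : enum 11 ck11 2 5 4291104 1175 6 4 = true := by
  decide +kernel

set_option maxRecDepth 100000 in
theorem ch_2_10_7_1_5 : enum 11 ck11 2 5 5339680 1191 6 5 = true := by
  decide +kernel

set_option maxRecDepth 100000 in
theorem ch_2_10_7_1_6 : enum 11 ck11 2 5 6388256 1223 6 6 = true := by
  decide +kernel

set_option maxRecDepth 100000 in
theorem ch_2_10_7_1_8 : enum 11 ck11 2 5 8485408 1415 6 8 = true := by
  decide +kernel

set_option maxRecDepth 100000 in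
theorem ch_2_10_7_1_9 : enum 11 ck11 2 5 9533984 1671 6 9 = true := by
  decide +kernel

theorem ch_2_10_7_1 : enum 11 ck11 2 6 96800 1159 5 1 = true := by
  refine enum_intro 11 ck11 2 5 96800 1159 5 1 ?_
  intro v hv hb hd
  interval_cases v
  · exact absurd hb (by decide)
  · exact absurd hb (by decide)
  · exact absurd hb (by decide)
  · exact ch_2_10_7_1_3
  · exact ch_2_10_7_1_4
  · exact ch_2_10_7_1_5
  · exact ch_2_10_7_1_6
  · exact absurd hb (by decide)
  · exact ch_2_10_7_1_8
  · exact ch_2_10_7_1_9
  · exact absurd hb (by decide)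

set_option maxRecDepth 100000 in
theorem ch_2_10_7_3_1 : enum 11 ck11 2 5 1276448 1167 6 1 = true := by
  decide +kernel

set_option maxRecDepth 100000 in
theorem ch_2_10_7_3_5 : enum 11 ck11 2 5 5470752 1197 6 5 = true := by
  decide +kernel

set_option maxRecDepth 100000 in
theorem ch_2_10_7_3_6 : enum 11 ck11 2 5 6519328 1229 6 6 = true := by
  decide +kernel

set_option maxRecDepth 100000 in
theorem ch_2_10_7_3_8 : enum 11 ck11 2 5 8616480 1421 6 8 = true := by
  decide +kernel

set_option maxRecDepth 100000 in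
theorem ch_2_10_7_3_9 : enum 11 ck11 2 5 9665056 1677 6 9 = true := by
  decide +kernel

theorem ch_2_10_7_3 : enum 11 ck11 2 6 227872 1165 5 3 = true := by
  refine enum_intro 11 ck11 2 5 227872 1165 5 3 ?_
  intro v hv hb hd
  interval_cases v
  · exact absurd hb (by decide)
  · exact ch_2_10_7_3_1
  · exact absurd hb (by decide)
  · exact absurd hb (by decide)
  · exact absurd hd (by decide)
  · exact ch_2_10_7_3_5
  · exact ch_2_10_7_3_6
  · exact absurd hb (by decide)
  · exact ch_2_10_7_3_8
  · exact ch_2_10_7_3_9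
  · exact absurd hb (by decide)

set_option maxRecDepth 100000 in
theorem ch_2_10_7_4_1 : enum 11 ck11 2 5 1341984 1175 6 1 = true := by
  decide +kernel

set_option maxRecDepth 100000 in
theorem ch_2_10_7_4_3 : enum 11 ck11 2 5 3439136 1181 6 3 = true := by
  decide +kernel

set_option maxRecDepth 100000 in
theorem ch_2_10_7_4_6 : enum 11 ck11 2 5 6584864 1237 6 6 = true := by
  decide +kernel

set_option maxRecDepth 100000 in
theorem ch_2_10_7_4_8 : enum 11 ck11 2 5 8682016 1429 6 8 = true := by
  decide +kernel

set_option maxRecDepth 100000 in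
theorem ch_2_10_7_4_9 : enum 11 ck11 2 5 9730592 1685 6 9 = true := by
  decide +kernel

theorem ch_2_10_7_4 : enum 11 ck11 2 6 293408 1173 5 4 = true := by
  refine enum_intro 11 ck11 2 5 293408 1173 5 4 ?_
  intro v hv hb hd
  interval_cases v
  · exact absurd hb (by decide)
  · exact ch_2_10_7_4_1
  · exact absurd hb (by decide)
  · exact ch_2_10_7_4_3
  · exact absurd hb (by decide)
  · exact absurd hd (by decide)
  · exact ch_2_10_7_4_6
  · exact absurd hb (by decide)
  · exact ch_2_10_7_4_8
  · exact ch_2_10_7_4_9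
  · exact absurd hb (by decide)

set_option maxRecDepth 100000 in
theorem ch_2_10_7_5_1 : enum 11 ck11 2 5 1407520 1191 6 1 = true := by
  decide +kernel

set_option maxRecDepth 100000 in
theorem ch_2_10_7_5_3 : enum 11 ck11 2 5 3504672 1197 6 3 = true := by
  decide +kernel

set_option maxRecDepth 100000 in
theorem ch_2_10_7_5_4 : enum 11 ck11 2 5 4553248 1205 6 4 = true := by
  decide +kernel

set_option maxRecDepth 100000 in
theorem ch_2_10_7_5_8 : enum 11 ck11 2 5 8747552 1445 6 8 = true := by
  decide +kernel

set_option maxRecDepth 100000 in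
theorem ch_2_10_7_5_9 : enum 11 ck11 2 5 9796128 1701 6 9 = true := by
  decide +kernel

theorem ch_2_10_7_5 : enum 11 ck11 2 6 358944 1189 5 5 = true := by
  refine enum_intro 11 ck11 2 5 358944 1189 5 5 ?_
  intro v hv hb hd
  interval_cases v
  · exact absurd hb (by decide)
  · exact ch_2_10_7_5_1
  · exact absurd hb (by decide)
  · exact ch_2_10_7_5_3
  · exact ch_2_10_7_5_4
  · exact absurd hb (by decide)
  · exact absurd hd (by decide)
  · exact absurd hb (by decide)
  · exact ch_2_10_7_5_8
  · exact ch_2_10_7_5_9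
  · exact absurd hb (by decide)

set_option maxRecDepth 100000 in
theorem ch_2_10_7_6_1 : enum 11 ck11 2 5 1473056 1223 6 1 = true := by
  decide +kernel

set_option maxRecDepth 100000 in
theorem ch_2_10_7_6_3 : enum 11 ck11 2 5 3570208 1229 6 3 = true := by
  decide +kernel

set_option maxRecDepth 100000 in
theorem ch_2_10_7_6_4 : enum 11 ck11 2 5 4618784 1237 6 4 = true := by
  decide +kernel

set_option maxRecDepth 100000 in
theorem ch_2_10_7_6_5 : enum 11 ck11 2 5 5667360 1253 6 5 = true := by
  decide +kernel

set_option maxRecDepth 100000 in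
theorem ch_2_10_7_6_8 : enum 11 ck11 2 5 8813088 1477 6 8 = true := by
  decide +kernel

set_option maxRecDepth 100000 in
theorem ch_2_10_7_6_9 : enum 11 ck11 2 5 9861664 1733 6 9 = true := by
  decide +kernel

theorem ch_2_10_7_6 : enum 11 ck11 2 6 424480 1221 5 6 = true := by
  refine enum_intro 11 ck11 2 5 424480 1221 5 6 ?_
  intro v hv hb hd
  interval_cases v
  · exact absurd hb (by decide)
  · exact ch_2_10_7_6_1
  · exact absurd hb (by decide)
  · exact ch_2_10_7_6_3
  · exact ch_2_10_7_6_4
  · exact ch_2_10_7_6_5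
  · exact absurd hb (by decide)
  · exact absurd hb (by decide)
  · exact ch_2_10_7_6_8
  · exact ch_2_10_7_6_9
  · exact absurd hb (by decide)

set_option maxRecDepth 100000 in
theorem ch_2_10_7_9_1 : enum 11 ck11 2 5 1669664 1671 6 1 = true := by
  decide +kernel

set_option maxRecDepth 100000 in
theorem ch_2_10_7_9_3 : enum 11 ck11 2 5 3766816 1677 6 3 = true := by
  decide +kernel

set_option maxRecDepth 100000 in
theorem ch_2_10_7_9_4 : enum 11 ck11 2 5 4815392 1685 6 4 = true := by
  decide +kernel

set_option maxRecDepth 100000 in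
theorem ch_2_10_7_9_5 : enum 11 ck11 2 5 5863968 1701 6 5 = true := by
  decide +kernel

set_option maxRecDepth 100000 in
theorem ch_2_10_7_9_6 : enum 11 ck11 2 5 6912544 1733 6 6 = true := by
  decide +kernel

set_option maxRecDepth 100000 in
theorem ch_2_10_7_9_8 : enum 11 ck11 2 5 9009696 1925 6 8 = true := by
  decide +kernel

theorem ch_2_10_7_9 : enum 11 ck11 2 6 621088 1669 5 9 = true := by
  refine enum_intro 11 ck11 2 5 621088 1669 5 9 ?_
  intro v hv hb hd
  interval_cases v
  · exact absurd hb (by decide)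
  · exact ch_2_10_7_9_1
  · exact absurd hb (by decide)
  · exact ch_2_10_7_9_3
  · exact ch_2_10_7_9_4
  · exact ch_2_10_7_9_5
  · exact ch_2_10_7_9_6
  · exact absurd hb (by decide)
  · exact ch_2_10_7_9_8
  · exact absurd hb (by decide)
  · exact absurd hb (by decide)

theorem ch_2_10_7 : enum 11 ck11 2 7 31264 1157 4 7 = true := by
  refine enum_intro 11 ck11 2 6 31264 1157 4 7 ?_
  intro v hv hb hd
  interval_cases v
  · exact absurd hb (by decide)
  · exact ch_2_10_7_1
  · exact absurd hb (by decide)
  · exact ch_2_10_7_3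
  · exact ch_2_10_7_4
  · exact ch_2_10_7_5
  · exact ch_2_10_7_6
  · exact absurd hb (by decide)
  · exact absurd hd (by decide)
  · exact ch_2_10_7_9
  · exact absurd hb (by decide)

set_option maxRecDepth 100000 in
theorem ch_2_10_8_1_3 : enum 11 ck11 2 5 3246624 1295 6 3 = true := by
  decide +kernel

set_option maxRecDepth 100000 in
theorem ch_2_10_8_1_4 : enum 11 ck11 2 5 4295200 1303 6 4 = true := by
  decide +kernel

set_option maxRecDepth 100000 in
theorem ch_2_10_8_1_5 : enum 11 ck11 2 5 5343776 1319 6 5 = true := by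
  decide +kernel

set_option maxRecDepth 100000 in
theorem ch_2_10_8_1_6 : enum 11 ck11 2 5 6392352 1351 6 6 = true := by
  decide +kernel

set_option maxRecDepth 100000 in
theorem ch_2_10_8_1_7 : enum 11 ck11 2 5 7440928 1415 6 7 = true := by
  decide +kernel

set_option maxRecDepth 100000 in
theorem ch_2_10_8_1_9 : enum 11 ck11 2 5 9538080 1799 6 9 = true := by
  decide +kernel

theorem ch_2_10_8_1 : enum 11 ck11 2 6 100896 1287 5 1 = true := by
  refine enum_intro 11 ck11 2 5 100896 1287 5 1 ?_
  intro v hv hb hd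
  interval_cases v
  · exact absurd hb (by decide)
  · exact absurd hb (by decide)
  · exact absurd hb (by decide)
  · exact ch_2_10_8_1_3
  · exact ch_2_10_8_1_4
  · exact ch_2_10_8_1_5
  · exact ch_2_10_8_1_6
  · exact ch_2_10_8_1_7
  · exact absurd hb (by decide)
  · exact ch_2_10_8_1_9
  · exact absurd hb (by decide)

set_option maxRecDepth 100000 in
theorem ch_2_10_8_3_1 : enum 11 ck11 2 5 1280544 1295 6 1 = true := by
  decide +kernel

set_option maxRecDepth 100000 in
theorem ch_2_10_8_3_5 : enum 11 ck11 2 5 5474848 1325 6 5 = true := by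
  decide +kernel

set_option maxRecDepth 100000 in
theorem ch_2_10_8_3_6 : enum 11 ck11 2 5 6523424 1357 6 6 = true := by
  decide +kernel

set_option maxRecDepth 100000 in
theorem ch_2_10_8_3_7 : enum 11 ck11 2 5 7572000 1421 6 7 = true := by
  decide +kernel

set_option maxRecDepth 100000 in
theorem ch_2_10_8_3_9 : enum 11 ck11 2 5 9669152 1805 6 9 = true := by
  decide +kernel

theorem ch_2_10_8_3 : enum 11 ck11 2 6 231968 1293 5 3 = true := by
  refine enum_intro 11 ck11 2 5 231968 1293 5 3 ?_
  intro v hv hb hd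
  interval_cases v
  · exact absurd hb (by decide)
  · exact ch_2_10_8_3_1
  · exact absurd hb (by decide)
  · exact absurd hb (by decide)
  · exact absurd hd (by decide)
  · exact ch_2_10_8_3_5
  · exact ch_2_10_8_3_6
  · exact ch_2_10_8_3_7
  · exact absurd hb (by decide)
  · exact ch_2_10_8_3_9
  · exact absurd hb (by decide)

set_option maxRecDepth 100000 in
theorem ch_2_10_8_4_1 : enum 11 ck11 2 5 1346080 1303 6 1 = true := by
  decide +kernel

set_option maxRecDepth 100000 in
theorem ch_2_10_8_4_3 : enum 11 ck11 2 5 3443232 1309 6 3 = true := by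
  decide +kernel

set_option maxRecDepth 100000 in
theorem ch_2_10_8_4_6 : enum 11 ck11 2 5 6588960 1365 6 6 = true := by
  decide +kernel

set_option maxRecDepth 100000 in
theorem ch_2_10_8_4_7 : enum 11 ck11 2 5 7637536 1429 6 7 = true := by
  decide +kernel

set_option maxRecDepth 100000 in
theorem ch_2_10_8_4_9 : enum 11 ck11 2 5 9734688 1813 6 9 = true := by
  decide +kernel

theorem ch_2_10_8_4 : enum 11 ck11 2 6 297504 1301 5 4 = true := by
  refine enum_intro 11 ck11 2 5 297504 1301 5 4 ?_
  intro v hv hb hd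
  interval_cases v
  · exact absurd hb (by decide)
  · exact ch_2_10_8_4_1
  · exact absurd hb (by decide)
  · exact ch_2_10_8_4_3
  · exact absurd hb (by decide)
  · exact absurd hd (by decide)
  · exact ch_2_10_8_4_6
  · exact ch_2_10_8_4_7
  · exact absurd hb (by decide)
  · exact ch_2_10_8_4_9
  · exact absurd hb (by decide)

set_option maxRecDepth 100000 in
theorem ch_2_10_8_5_1 : enum 11 ck11 2 5 1411616 1319 6 1 = true := by
  decide +kernel

set_option maxRecDepth 100000 in
theorem ch_2_10_8_5_3 : enum 11 ck11 2 5 3508768 1325 6 3 = true := by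
  decide +kernel

set_option maxRecDepth 100000 in
theorem ch_2_10_8_5_4 : enum 11 ck11 2 5 4557344 1333 6 4 = true := by
  decide +kernel

set_option maxRecDepth 100000 in
theorem ch_2_10_8_5_7 : enum 11 ck11 2 5 7703072 1445 6 7 = true := by
  decide +kernel

set_option maxRecDepth 100000 in
theorem ch_2_10_8_5_9 : enum 11 ck11 2 5 9800224 1829 6 9 = true := by
  decide +kernel

theorem ch_2_10_8_5 : enum 11 ck11 2 6 363040 1317 5 5 = true := by
  refine enum_intro 11 ck11 2 5 363040 1317 5 5 ?_
  intro v hv hb hd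
  interval_cases v
  · exact absurd hb (by decide)
  · exact ch_2_10_8_5_1
  · exact absurd hb (by decide)
  · exact ch_2_10_8_5_3
  · exact ch_2_10_8_5_4
  · exact absurd hb (by decide)
  · exact absurd hd (by decide)
  · exact ch_2_10_8_5_7
  · exact absurd hb (by decide)
  · exact ch_2_10_8_5_9
  · exact absurd hb (by decide)

set_option maxRecDepth 100000 in
theorem ch_2_10_8_6_1 : enum 11 ck11 2 5 1477152 1351 6 1 = true := by
  decide +kernel

set_option maxRecDepth 100000 in
theorem ch_2_10_8_6_3 : enum 11 ck11 2 5 3574304 1357 6 3 = true := by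
  decide +kernel

set_option maxRecDepth 100000 in
theorem ch_2_10_8_6_4 : enum 11 ck11 2 5 4622880 1365 6 4 = true := by
  decide +kernel

set_option maxRecDepth 100000 in
theorem ch_2_10_8_6_5 : enum 11 ck11 2 5 5671456 1381 6 5 = true := by
  decide +kernel

set_option maxRecDepth 100000 in
theorem ch_2_10_8_6_9 : enum 11 ck11 2 5 9865760 1861 6 9 = true := by
  decide +kernel

theorem ch_2_10_8_6 : enum 11 ck11 2 6 428576 1349 5 6 = true := by
  refine enum_intro 11 ck11 2 5 428576 1349 5 6 ?_
  intro v hv hb hd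
  interval_cases v
  · exact absurd hb (by decide)
  · exact ch_2_10_8_6_1
  · exact absurd hb (by decide)
  · exact ch_2_10_8_6_3
  · exact ch_2_10_8_6_4
  · exact ch_2_10_8_6_5
  · exact absurd hb (by decide)
  · exact absurd hd (by decide)
  · exact absurd hb (by decide)
  · exact ch_2_10_8_6_9
  · exact absurd hb (by decide)

set_option maxRecDepth 100000 in
theorem ch_2_10_8_7_1 : enum 11 ck11 2 5 1542688 1415 6 1 = true := by
  decide +kernel

set_option maxRecDepth 100000 in
theorem ch_2_10_8_7_3 : enum 11 ck11 2 5 3639840 1421 6 3 = true := by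
  decide +kernel

set_option maxRecDepth 100000 in
theorem ch_2_10_8_7_4 : enum 11 ck11 2 5 4688416 1429 6 4 = true := by
  decide +kernel

set_option maxRecDepth 100000 in
theorem ch_2_10_8_7_5 : enum 11 ck11 2 5 5736992 1445 6 5 = true := by
  decide +kernel

set_option maxRecDepth 100000 in
theorem ch_2_10_8_7_6 : enum 11 ck11 2 5 6785568 1477 6 6 = true := by
  decide +kernel

set_option maxRecDepth 100000 in
theorem ch_2_10_8_7_9 : enum 11 ck11 2 5 9931296 1925 6 9 = true := by
  decide +kernel

theorem ch_2_10_8_7 : enum 11 ck11 2 6 494112 1413 5 7 = true := by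
  refine enum_intro 11 ck11 2 5 494112 1413 5 7 ?_
  intro v hv hb hd
  interval_cases v
  · exact absurd hb (by decide)
  · exact ch_2_10_8_7_1
  · exact absurd hb (by decide)
  · exact ch_2_10_8_7_3
  · exact ch_2_10_8_7_4
  · exact ch_2_10_8_7_5
  · exact ch_2_10_8_7_6
  · exact absurd hb (by decide)
  · exact absurd hb (by decide)
  · exact ch_2_10_8_7_9
  · exact absurd hb (by decide)

theorem ch_2_10_8 : enum 11 ck11 2 7 35360 1285 4 8 = true := by
  refine enum_intro 11 ck11 2 6 35360 1285 4 8 ?_
  intro v hv hb hd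
  interval_cases v
  · exact absurd hb (by decide)
  · exact ch_2_10_8_1
  · exact absurd hb (by decide)
  · exact ch_2_10_8_3
  · exact ch_2_10_8_4
  · exact ch_2_10_8_5
  · exact ch_2_10_8_6
  · exact ch_2_10_8_7
  · exact absurd hb (by decide)
  · exact absurd hd (by decide)
  · exact absurd hb (by decide)

end Cfsg.Agent.Helper9.T11
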