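import Mathlib
import Cfsg.Agent.Helper9.T11.Chk

set_option autoImplicit false
set_option Elab.async false

/-!
A part of the enumeration on 11 points: the test holds at every permutation of the part.
-/

namespace Cfsg.Agent.Helper9.T11

set_option maxRecDepth 100000 in
theorem ch_2_10_9_1_3 : enum 11 ck11 2 5 3250720 1551 6 3 = true := by
  decide +kernel

set_option maxRecDepth 100000 in
theorem ch_2_10_9_1_4 : enum 11 ck11 2 5 4299296 1559 6 4 = true := by
  decide +kernel

set_option maxRecDepth 100000 in
theorem ch_2_10_9_1_5 : enum 11 ck11 2 5 5347872 1575 6 5 = true := by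
  decide +kernel

set_option maxRecDepth 100000 in
theorem ch_2_10_9_1_6 : enum 11 ck11 2 5 6396448 1607 6 6 = true := by
  decide +kernel

set_option maxRecDepth 100000 in
theorem ch_2_10_9_1_7 : enum 11 ck11 2 5 7445024 1671 6 7 = true := by
  decide +kernel

set_option maxRecDepth 100000 in
theorem ch_2_10_9_1_8 : enum 11 ck11 2 5 8493600 1799 6 8 = true := by
  decide +kernel

theorem ch_2_10_9_1 : enum 11 ck11 2 6 104992 1543 5 1 = true := by
  refine enum_intro 11 ck11 2 5 104992 1543 5 1 ?_
  intro v hv hb hd
  interval_cases v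
  · exact absurd hb (by decide)
  · exact absurd hb (by decide)
  · exact absurd hb (by decide)
  · exact ch_2_10_9_1_3
  · exact ch_2_10_9_1_4
  · exact ch_2_10_9_1_5
  · exact ch_2_10_9_1_6
  · exact ch_2_10_9_1_7
  · exact ch_2_10_9_1_8
  · exact absurd hb (by decide)
  · exact absurd hb (by decide)

set_option maxRecDepth 100000 in
theorem ch_2_10_9_3_1 : enum 11 ck11 2 5 1284640 1551 6 1 = true := by
  decide +kernel

set_option maxRecDepth 100000 in
theorem ch_2_10_9_3_5 : enum 11 ck11 2 5 5478944 1581 6 5 = true := by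
  decide +kernel

set_option maxRecDepth 100000 in
theorem ch_2_10_9_3_6 : enum 11 ck11 2 5 6527520 1613 6 6 = true := by
  decide +kernel

set_option maxRecDepth 100000 in
theorem ch_2_10_9_3_7 : enum 11 ck11 2 5 7576096 1677 6 7 = true := by
  decide +kernel

set_option maxRecDepth 100000 in
theorem ch_2_10_9_3_8 : enum 11 ck11 2 5 8624672 1805 6 8 = true := by
  decide +kernel

theorem ch_2_10_9_3 : enum 11 ck11 2 6 236064 1549 5 3 = true := by
  refine enum_intro 11 ck11 2 5 236064 1549 5 3 ?_
  intro v hv hb hd
  interval_cases v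
  · exact absurd hb (by decide)
  · exact ch_2_10_9_3_1
  · exact absurd hb (by decide)
  · exact absurd hb (by decide)
  · exact absurd hd (by decide)
  · exact ch_2_10_9_3_5
  · exact ch_2_10_9_3_6
  · exact ch_2_10_9_3_7
  · exact ch_2_10_9_3_8
  · exact absurd hb (by decide)
  · exact absurd hb (by decide)

set_option maxRecDepth 100000 in
theorem ch_2_10_9_4_1 : enum 11 ck11 2 5 1350176 1559 6 1 = true := by
  decide +kernel

set_option maxRecDepth 100000 in
theorem ch_2_10_9_4_3 : enum 11 ck11 2 5 3447328 1565 6 3 = true := by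
  decide +kernel

set_option maxRecDepth 100000 in
theorem ch_2_10_9_4_6 : enum 11 ck11 2 5 6593056 1621 6 6 = true := by
  decide +kernel

set_option maxRecDepth 100000 in
theorem ch_2_10_9_4_7 : enum 11 ck11 2 5 7641632 1685 6 7 = true := by
  decide +kernel

set_option maxRecDepth 100000 in
theorem ch_2_10_9_4_8 : enum 11 ck11 2 5 8690208 1813 6 8 = true := by
  decide +kernel

theorem ch_2_10_9_4 : enum 11 ck11 2 6 301600 1557 5 4 = true := by
  refine enum_intro 11 ck11 2 5 301600 1557 5 4 ?_
  intro v hv hb hd
  interval_cases v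
  · exact absurd hb (by decide)
  · exact ch_2_10_9_4_1
  · exact absurd hb (by decide)
  · exact ch_2_10_9_4_3
  · exact absurd hb (by decide)
  · exact absurd hd (by decide)
  · exact ch_2_10_9_4_6
  · exact ch_2_10_9_4_7
  · exact ch_2_10_9_4_8
  · exact absurd hb (by decide)
  · exact absurd hb (by decide)

set_option maxRecDepth 100000 in
theorem ch_2_10_9_5_1 : enum 11 ck11 2 5 1415712 1575 6 1 = true := by
  decide +kernel

set_option maxRecDepth 100000 in
theorem ch_2_10_9_5_3 : enum 11 ck11 2 5 3512864 1581 6 3 = true := by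
  decide +kernel

set_option maxRecDepth 100000 in
theorem ch_2_10_9_5_4 : enum 11 ck11 2 5 4561440 1589 6 4 = true := by
  decide +kernel

set_option maxRecDepth 100000 in
theorem ch_2_10_9_5_7 : enum 11 ck11 2 5 7707168 1701 6 7 = true := by
  decide +kernel

set_option maxRecDepth 100000 in
theorem ch_2_10_9_5_8 : enum 11 ck11 2 5 8755744 1829 6 8 = true := by
  decide +kernel

theorem ch_2_10_9_5 : enum 11 ck11 2 6 367136 1573 5 5 = true := by
  refine enum_intro 11 ck11 2 5 367136 1573 5 5 ?_
  intro v hv hb hd
  interval_cases v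
  · exact absurd hb (by decide)
  · exact ch_2_10_9_5_1
  · exact absurd hb (by decide)
  · exact ch_2_10_9_5_3
  · exact ch_2_10_9_5_4
  · exact absurd hb (by decide)
  · exact absurd hd (by decide)
  · exact ch_2_10_9_5_7
  · exact ch_2_10_9_5_8
  · exact absurd hb (by decide)
  · exact absurd hb (by decide)

set_option maxRecDepth 100000 in
theorem ch_2_10_9_6_1 : enum 11 ck11 2 5 1481248 1607 6 1 = true := by
  decide +kernel

set_option maxRecDepth 100000 in
theorem ch_2_10_9_6_3 : enum 11 ck11 2 5 3578400 1613 6 3 = true := by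
  decide +kernel

set_option maxRecDepth 100000 in
theorem ch_2_10_9_6_4 : enum 11 ck11 2 5 4626976 1621 6 4 = true := by
  decide +kernel

set_option maxRecDepth 100000 in
theorem ch_2_10_9_6_5 : enum 11 ck11 2 5 5675552 1637 6 5 = true := by
  decide +kernel

set_option maxRecDepth 100000 in
theorem ch_2_10_9_6_8 : enum 11 ck11 2 5 8821280 1861 6 8 = true := by
  decide +kernel

theorem ch_2_10_9_6 : enum 11 ck11 2 6 432672 1605 5 6 = true := by
  refine enum_intro 11 ck11 2 5 432672 1605 5 6 ?_
  intro v hv hb hd
  interval_cases v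
  · exact absurd hb (by decide)
  · exact ch_2_10_9_6_1
  · exact absurd hb (by decide)
  · exact ch_2_10_9_6_3
  · exact ch_2_10_9_6_4
  · exact ch_2_10_9_6_5
  · exact absurd hb (by decide)
  · exact absurd hd (by decide)
  · exact ch_2_10_9_6_8
  · exact absurd hb (by decide)
  · exact absurd hb (by decide)

set_option maxRecDepth 100000 in
theorem ch_2_10_9_7_1 : enum 11 ck11 2 5 1546784 1671 6 1 = true := by
  decide +kernel

set_option maxRecDepth 100000 in
theorem ch_2_10_9_7_3 : enum 11 ck11 2 5 3643936 1677 6 3 = true := by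
  decide +kernel

set_option maxRecDepth 100000 in
theorem ch_2_10_9_7_4 : enum 11 ck11 2 5 4692512 1685 6 4 = true := by
  decide +kernel

set_option maxRecDepth 100000 in
theorem ch_2_10_9_7_5 : enum 11 ck11 2 5 5741088 1701 6 5 = true := by
  decide +kernel

set_option maxRecDepth 100000 in
theorem ch_2_10_9_7_6 : enum 11 ck11 2 5 6789664 1733 6 6 = true := by
  decide +kernel

theorem ch_2_10_9_7 : enum 11 ck11 2 6 498208 1669 5 7 = true := by
  refine enum_intro 11 ck11 2 5 498208 1669 5 7 ?_
  intro v hv hb hd
  interval_cases v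
  · exact absurd hb (by decide)
  · exact ch_2_10_9_7_1
  · exact absurd hb (by decide)
  · exact ch_2_10_9_7_3
  · exact ch_2_10_9_7_4
  · exact ch_2_10_9_7_5
  · exact ch_2_10_9_7_6
  · exact absurd hb (by decide)
  · exact absurd hd (by decide)
  · exact absurd hb (by decide)
  · exact absurd hb (by decide)

set_option maxRecDepth 100000 in
theorem ch_2_10_9_8_1 : enum 11 ck11 2 5 1612320 1799 6 1 = true := by
  decide +kernel

set_option maxRecDepth 100000 in
theorem ch_2_10_9_8_3 : enum 11 ck11 2 5 3709472 1805 6 3 = true := by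
  decide +kernel

set_option maxRecDepth 100000 in
theorem ch_2_10_9_8_4 : enum 11 ck11 2 5 4758048 1813 6 4 = true := by
  decide +kernel

set_option maxRecDepth 100000 in
theorem ch_2_10_9_8_5 : enum 11 ck11 2 5 5806624 1829 6 5 = true := by
  decide +kernel

set_option maxRecDepth 100000 in
theorem ch_2_10_9_8_6 : enum 11 ck11 2 5 6855200 1861 6 6 = true := by
  decide +kernel

set_option maxRecDepth 100000 in
theorem ch_2_10_9_8_7 : enum 11 ck11 2 5 7903776 1925 6 7 = true := by
  decide +kernel

theorem ch_2_10_9_8 : enum 11 ck11 2 6 563744 1797 5 8 = true := by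
  refine enum_intro 11 ck11 2 5 563744 1797 5 8 ?_
  intro v hv hb hd
  interval_cases v
  · exact absurd hb (by decide)
  · exact ch_2_10_9_8_1
  · exact absurd hb (by decide)
  · exact ch_2_10_9_8_3
  · exact ch_2_10_9_8_4
  · exact ch_2_10_9_8_5
  · exact ch_2_10_9_8_6
  · exact ch_2_10_9_8_7
  · exact absurd hb (by decide)
  · exact absurd hb (by decide)
  · exact absurd hb (by decide)

theorem ch_2_10_9 : enum 11 ck11 2 7 39456 1541 4 9 = true := by
  refine enum_intro 11 ck11 2 6 39456 1541 4 9 ?_
  intro v hv hb hd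
  interval_cases v
  · exact absurd hb (by decide)
  · exact ch_2_10_9_1
  · exact absurd hb (by decide)
  · exact ch_2_10_9_3
  · exact ch_2_10_9_4
  · exact ch_2_10_9_5
  · exact ch_2_10_9_6
  · exact ch_2_10_9_7
  · exact ch_2_10_9_8
  · exact absurd hb (by decide)
  · exact absurd hb (by decide)

end Cfsg.Agent.Helper9.T11
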