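import Mathlib
import Cfsg.Agent.Helper9.T11.Chk

set_option autoImplicit false
set_option Elab.async false

/-!
A part of the enumeration on 11 points: the test holds at every permutation of the part.
-/

namespace Cfsg.Agent.Helper9.T11

set_option maxRecDepth 100000 in
theorem ch_2_4_1_3_5 : enum 11 ck11 2 5 5444640 63 6 5 = true := by
  decide +kernel

set_option maxRecDepth 100000 in
theorem ch_2_4_1_3_6 : enum 11 ck11 2 5 6493216 95 6 6 = true := by
  decide +kernel

set_option maxRecDepth 100000 in
theorem ch_2_4_1_3_7 : enum 11 ck11 2 5 7541792 159 6 7 = true := by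
  decide +kernel

set_option maxRecDepth 100000 in
theorem ch_2_4_1_3_8 : enum 11 ck11 2 5 8590368 287 6 8 = true := by
  decide +kernel

set_option maxRecDepth 100000 in
theorem ch_2_4_1_3_9 : enum 11 ck11 2 5 9638944 543 6 9 = true := by
  decide +kernel

set_option maxRecDepth 100000 in
theorem ch_2_4_1_3_10 : enum 11 ck11 2 5 10687520 1055 6 10 = true := by
  decide +kernel

theorem ch_2_4_1_3 : enum 11 ck11 2 6 201760 31 5 3 = true := by
  refine enum_intro 11 ck11 2 5 201760 31 5 3 ?_
  intro v hv hb hd
  interval_cases v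
  · exact absurd hb (by decide)
  · exact absurd hb (by decide)
  · exact absurd hb (by decide)
  · exact absurd hb (by decide)
  · exact absurd hb (by decide)
  · exact ch_2_4_1_3_5
  · exact ch_2_4_1_3_6
  · exact ch_2_4_1_3_7
  · exact ch_2_4_1_3_8
  · exact ch_2_4_1_3_9
  · exact ch_2_4_1_3_10

set_option maxRecDepth 100000 in
theorem ch_2_4_1_5_3 : enum 11 ck11 2 5 3478560 63 6 3 = true := by
  decide +kernel

set_option maxRecDepth 100000 in
theorem ch_2_4_1_5_7 : enum 11 ck11 2 5 7672864 183 6 7 = true := by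
  decide +kernel

set_option maxRecDepth 100000 in
theorem ch_2_4_1_5_8 : enum 11 ck11 2 5 8721440 311 6 8 = true := by
  decide +kernel

set_option maxRecDepth 100000 in
theorem ch_2_4_1_5_9 : enum 11 ck11 2 5 9770016 567 6 9 = true := by
  decide +kernel

set_option maxRecDepth 100000 in
theorem ch_2_4_1_5_10 : enum 11 ck11 2 5 10818592 1079 6 10 = true := by
  decide +kernel

theorem ch_2_4_1_5 : enum 11 ck11 2 6 332832 55 5 5 = true := by
  refine enum_intro 11 ck11 2 5 332832 55 5 5 ?_
  intro v hv hb hd
  interval_cases v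
  · exact absurd hb (by decide)
  · exact absurd hb (by decide)
  · exact absurd hb (by decide)
  · exact ch_2_4_1_5_3
  · exact absurd hb (by decide)
  · exact absurd hb (by decide)
  · exact absurd hd (by decide)
  · exact ch_2_4_1_5_7
  · exact ch_2_4_1_5_8
  · exact ch_2_4_1_5_9
  · exact ch_2_4_1_5_10

set_option maxRecDepth 100000 in
theorem ch_2_4_1_6_3 : enum 11 ck11 2 5 3544096 95 6 3 = true := by
  decide +kernel

set_option maxRecDepth 100000 in
theorem ch_2_4_1_6_5 : enum 11 ck11 2 5 5641248 119 6 5 = true := by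
  decide +kernel

set_option maxRecDepth 100000 in
theorem ch_2_4_1_6_8 : enum 11 ck11 2 5 8786976 343 6 8 = true := by
  decide +kernel

set_option maxRecDepth 100000 in
theorem ch_2_4_1_6_9 : enum 11 ck11 2 5 9835552 599 6 9 = true := by
  decide +kernel

set_option maxRecDepth 100000 in
theorem ch_2_4_1_6_10 : enum 11 ck11 2 5 10884128 1111 6 10 = true := by
  decide +kernel

theorem ch_2_4_1_6 : enum 11 ck11 2 6 398368 87 5 6 = true := by
  refine enum_intro 11 ck11 2 5 398368 87 5 6 ?_
  intro v hv hb hd
  interval_cases v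
  · exact absurd hb (by decide)
  · exact absurd hb (by decide)
  · exact absurd hb (by decide)
  · exact ch_2_4_1_6_3
  · exact absurd hb (by decide)
  · exact ch_2_4_1_6_5
  · exact absurd hb (by decide)
  · exact absurd hd (by decide)
  · exact ch_2_4_1_6_8
  · exact ch_2_4_1_6_9
  · exact ch_2_4_1_6_10

set_option maxRecDepth 100000 in
theorem ch_2_4_1_7_3 : enum 11 ck11 2 5 3609632 159 6 3 = true := by
  decide +kernel

set_option maxRecDepth 100000 in
theorem ch_2_4_1_7_5 : enum 11 ck11 2 5 5706784 183 6 5 = true := by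
  decide +kernel

set_option maxRecDepth 100000 in
theorem ch_2_4_1_7_6 : enum 11 ck11 2 5 6755360 215 6 6 = true := by
  decide +kernel

set_option maxRecDepth 100000 in
theorem ch_2_4_1_7_9 : enum 11 ck11 2 5 9901088 663 6 9 = true := by
  decide +kernel

set_option maxRecDepth 100000 in
theorem ch_2_4_1_7_10 : enum 11 ck11 2 5 10949664 1175 6 10 = true := by
  decide +kernel

theorem ch_2_4_1_7 : enum 11 ck11 2 6 463904 151 5 7 = true := by
  refine enum_intro 11 ck11 2 5 463904 151 5 7 ?_
  intro v hv hb hd
  interval_cases v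
  · exact absurd hb (by decide)
  · exact absurd hb (by decide)
  · exact absurd hb (by decide)
  · exact ch_2_4_1_7_3
  · exact absurd hb (by decide)
  · exact ch_2_4_1_7_5
  · exact ch_2_4_1_7_6
  · exact absurd hb (by decide)
  · exact absurd hd (by decide)
  · exact ch_2_4_1_7_9
  · exact ch_2_4_1_7_10

set_option maxRecDepth 100000 in
theorem ch_2_4_1_8_3 : enum 11 ck11 2 5 3675168 287 6 3 = true := by
  decide +kernel

set_option maxRecDepth 100000 in
theorem ch_2_4_1_8_5 : enum 11 ck11 2 5 5772320 311 6 5 = true := by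
  decide +kernel

set_option maxRecDepth 100000 in
theorem ch_2_4_1_8_6 : enum 11 ck11 2 5 6820896 343 6 6 = true := by
  decide +kernel

set_option maxRecDepth 100000 in
theorem ch_2_4_1_8_7 : enum 11 ck11 2 5 7869472 407 6 7 = true := by
  decide +kernel

set_option maxRecDepth 100000 in
theorem ch_2_4_1_8_10 : enum 11 ck11 2 5 11015200 1303 6 10 = true := by
  decide +kernel

theorem ch_2_4_1_8 : enum 11 ck11 2 6 529440 279 5 8 = true := by
  refine enum_intro 11 ck11 2 5 529440 279 5 8 ?_
  intro v hv hb hd
  interval_cases v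
  · exact absurd hb (by decide)
  · exact absurd hb (by decide)
  · exact absurd hb (by decide)
  · exact ch_2_4_1_8_3
  · exact absurd hb (by decide)
  · exact ch_2_4_1_8_5
  · exact ch_2_4_1_8_6
  · exact ch_2_4_1_8_7
  · exact absurd hb (by decide)
  · exact absurd hd (by decide)
  · exact ch_2_4_1_8_10

set_option maxRecDepth 100000 in
theorem ch_2_4_1_9_3 : enum 11 ck11 2 5 3740704 543 6 3 = true := by
  decide +kernel

set_option maxRecDepth 100000 in
theorem ch_2_4_1_9_5 : enum 11 ck11 2 5 5837856 567 6 5 = true := by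
  decide +kernel

set_option maxRecDepth 100000 in
theorem ch_2_4_1_9_6 : enum 11 ck11 2 5 6886432 599 6 6 = true := by
  decide +kernel

set_option maxRecDepth 100000 in
theorem ch_2_4_1_9_7 : enum 11 ck11 2 5 7935008 663 6 7 = true := by
  decide +kernel

set_option maxRecDepth 100000 in
theorem ch_2_4_1_9_8 : enum 11 ck11 2 5 8983584 791 6 8 = true := by
  decide +kernel

theorem ch_2_4_1_9 : enum 11 ck11 2 6 594976 535 5 9 = true := by
  refine enum_intro 11 ck11 2 5 594976 535 5 9 ?_
  intro v hv hb hd
  interval_cases v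
  · exact absurd hb (by decide)
  · exact absurd hb (by decide)
  · exact absurd hb (by decide)
  · exact ch_2_4_1_9_3
  · exact absurd hb (by decide)
  · exact ch_2_4_1_9_5
  · exact ch_2_4_1_9_6
  · exact ch_2_4_1_9_7
  · exact ch_2_4_1_9_8
  · exact absurd hb (by decide)
  · exact absurd hd (by decide)

set_option maxRecDepth 100000 in
theorem ch_2_4_1_10_3 : enum 11 ck11 2 5 3806240 1055 6 3 = true := by
  decide +kernel

set_option maxRecDepth 100000 in
theorem ch_2_4_1_10_5 : enum 11 ck11 2 5 5903392 1079 6 5 = true := by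
  decide +kernel

set_option maxRecDepth 100000 in
theorem ch_2_4_1_10_6 : enum 11 ck11 2 5 6951968 1111 6 6 = true := by
  decide +kernel

set_option maxRecDepth 100000 in
theorem ch_2_4_1_10_7 : enum 11 ck11 2 5 8000544 1175 6 7 = true := by
  decide +kernel

set_option maxRecDepth 100000 in
theorem ch_2_4_1_10_8 : enum 11 ck11 2 5 9049120 1303 6 8 = true := by
  decide +kernel

set_option maxRecDepth 100000 in
theorem ch_2_4_1_10_9 : enum 11 ck11 2 5 10097696 1559 6 9 = true := by
  decide +kernel

theorem ch_2_4_1_10 : enum 11 ck11 2 6 660512 1047 5 10 = true := by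
  refine enum_intro 11 ck11 2 5 660512 1047 5 10 ?_
  intro v hv hb hd
  interval_cases v
  · exact absurd hb (by decide)
  · exact absurd hb (by decide)
  · exact absurd hb (by decide)
  · exact ch_2_4_1_10_3
  · exact absurd hb (by decide)
  · exact ch_2_4_1_10_5
  · exact ch_2_4_1_10_6
  · exact ch_2_4_1_10_7
  · exact ch_2_4_1_10_8
  · exact ch_2_4_1_10_9
  · exact absurd hb (by decide)

theorem ch_2_4_1 : enum 11 ck11 2 7 5152 23 4 1 = true := by
  refine enum_intro 11 ck11 2 6 5152 23 4 1 ?_
  intro v hv hb hd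
  interval_cases v
  · exact absurd hb (by decide)
  · exact absurd hb (by decide)
  · exact absurd hb (by decide)
  · exact ch_2_4_1_3
  · exact absurd hb (by decide)
  · exact ch_2_4_1_5
  · exact ch_2_4_1_6
  · exact ch_2_4_1_7
  · exact ch_2_4_1_8
  · exact ch_2_4_1_9
  · exact ch_2_4_1_10

set_option maxRecDepth 100000 in
theorem ch_2_4_3_1_5 : enum 11 ck11 2 5 5321760 63 6 5 = true := by
  decide +kernel

set_option maxRecDepth 100000 in
theorem ch_2_4_3_1_6 : enum 11 ck11 2 5 6370336 95 6 6 = true := by
  decide +kernel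

set_option maxRecDepth 100000 in
theorem ch_2_4_3_1_7 : enum 11 ck11 2 5 7418912 159 6 7 = true := by
  decide +kernel

set_option maxRecDepth 100000 in
theorem ch_2_4_3_1_8 : enum 11 ck11 2 5 8467488 287 6 8 = true := by
  decide +kernel

set_option maxRecDepth 100000 in
theorem ch_2_4_3_1_9 : enum 11 ck11 2 5 9516064 543 6 9 = true := by
  decide +kernel

set_option maxRecDepth 100000 in
theorem ch_2_4_3_1_10 : enum 11 ck11 2 5 10564640 1055 6 10 = true := by
  decide +kernel

theorem ch_2_4_3_1 : enum 11 ck11 2 6 78880 31 5 1 = true := by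
  refine enum_intro 11 ck11 2 5 78880 31 5 1 ?_
  intro v hv hb hd
  interval_cases v
  · exact absurd hb (by decide)
  · exact absurd hb (by decide)
  · exact absurd hb (by decide)
  · exact absurd hb (by decide)
  · exact absurd hb (by decide)
  · exact ch_2_4_3_1_5
  · exact ch_2_4_3_1_6
  · exact ch_2_4_3_1_7
  · exact ch_2_4_3_1_8
  · exact ch_2_4_3_1_9
  · exact ch_2_4_3_1_10

set_option maxRecDepth 100000 in
theorem ch_2_4_3_5_1 : enum 11 ck11 2 5 1389600 63 6 1 = true := by
  decide +kernel

set_option maxRecDepth 100000 in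
theorem ch_2_4_3_5_7 : enum 11 ck11 2 5 7681056 189 6 7 = true := by
  decide +kernel

set_option maxRecDepth 100000 in
theorem ch_2_4_3_5_8 : enum 11 ck11 2 5 8729632 317 6 8 = true := by
  decide +kernel

set_option maxRecDepth 100000 in
theorem ch_2_4_3_5_9 : enum 11 ck11 2 5 9778208 573 6 9 = true := by
  decide +kernel

set_option maxRecDepth 100000 in
theorem ch_2_4_3_5_10 : enum 11 ck11 2 5 10826784 1085 6 10 = true := by
  decide +kernel

theorem ch_2_4_3_5 : enum 11 ck11 2 6 341024 61 5 5 = true := by
  refine enum_intro 11 ck11 2 5 341024 61 5 5 ?_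
  intro v hv hb hd
  interval_cases v
  · exact absurd hb (by decide)
  · exact ch_2_4_3_5_1
  · exact absurd hb (by decide)
  · exact absurd hb (by decide)
  · exact absurd hb (by decide)
  · exact absurd hb (by decide)
  · exact absurd hd (by decide)
  · exact ch_2_4_3_5_7
  · exact ch_2_4_3_5_8
  · exact ch_2_4_3_5_9
  · exact ch_2_4_3_5_10

set_option maxRecDepth 100000 in
theorem ch_2_4_3_6_1 : enum 11 ck11 2 5 1455136 95 6 1 = true := by
  decide +kernel

set_option maxRecDepth 100000 in
theorem ch_2_4_3_6_5 : enum 11 ck11 2 5 5649440 125 6 5 = true := by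
  decide +kernel

set_option maxRecDepth 100000 in
theorem ch_2_4_3_6_8 : enum 11 ck11 2 5 8795168 349 6 8 = true := by
  decide +kernel

set_option maxRecDepth 100000 in
theorem ch_2_4_3_6_9 : enum 11 ck11 2 5 9843744 605 6 9 = true := by
  decide +kernel

set_option maxRecDepth 100000 in
theorem ch_2_4_3_6_10 : enum 11 ck11 2 5 10892320 1117 6 10 = true := by
  decide +kernel

theorem ch_2_4_3_6 : enum 11 ck11 2 6 406560 93 5 6 = true := by
  refine enum_intro 11 ck11 2 5 406560 93 5 6 ?_
  intro v hv hb hd
  interval_cases v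
  · exact absurd hb (by decide)
  · exact ch_2_4_3_6_1
  · exact absurd hb (by decide)
  · exact absurd hb (by decide)
  · exact absurd hb (by decide)
  · exact ch_2_4_3_6_5
  · exact absurd hb (by decide)
  · exact absurd hd (by decide)
  · exact ch_2_4_3_6_8
  · exact ch_2_4_3_6_9
  · exact ch_2_4_3_6_10

set_option maxRecDepth 100000 in
theorem ch_2_4_3_7_1 : enum 11 ck11 2 5 1520672 159 6 1 = true := by
  decide +kernel

set_option maxRecDepth 100000 in
theorem ch_2_4_3_7_5 : enum 11 ck11 2 5 5714976 189 6 5 = true := by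
  decide +kernel

set_option maxRecDepth 100000 in
theorem ch_2_4_3_7_6 : enum 11 ck11 2 5 6763552 221 6 6 = true := by
  decide +kernel

set_option maxRecDepth 100000 in
theorem ch_2_4_3_7_9 : enum 11 ck11 2 5 9909280 669 6 9 = true := by
  decide +kernel

set_option maxRecDepth 100000 in
theorem ch_2_4_3_7_10 : enum 11 ck11 2 5 10957856 1181 6 10 = true := by
  decide +kernel

theorem ch_2_4_3_7 : enum 11 ck11 2 6 472096 157 5 7 = true := by
  refine enum_intro 11 ck11 2 5 472096 157 5 7 ?_
  intro v hv hb hd
  interval_cases v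
  · exact absurd hb (by decide)
  · exact ch_2_4_3_7_1
  · exact absurd hb (by decide)
  · exact absurd hb (by decide)
  · exact absurd hb (by decide)
  · exact ch_2_4_3_7_5
  · exact ch_2_4_3_7_6
  · exact absurd hb (by decide)
  · exact absurd hd (by decide)
  · exact ch_2_4_3_7_9
  · exact ch_2_4_3_7_10

set_option maxRecDepth 100000 in
theorem ch_2_4_3_8_1 : enum 11 ck11 2 5 1586208 287 6 1 = true := by
  decide +kernel

set_option maxRecDepth 100000 in
theorem ch_2_4_3_8_5 : enum 11 ck11 2 5 5780512 317 6 5 = true := by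
  decide +kernel

set_option maxRecDepth 100000 in
theorem ch_2_4_3_8_6 : enum 11 ck11 2 5 6829088 349 6 6 = true := by
  decide +kernel

set_option maxRecDepth 100000 in
theorem ch_2_4_3_8_7 : enum 11 ck11 2 5 7877664 413 6 7 = true := by
  decide +kernel

set_option maxRecDepth 100000 in
theorem ch_2_4_3_8_10 : enum 11 ck11 2 5 11023392 1309 6 10 = true := by
  decide +kernel

theorem ch_2_4_3_8 : enum 11 ck11 2 6 537632 285 5 8 = true := by
  refine enum_intro 11 ck11 2 5 537632 285 5 8 ?_
  intro v hv hb hd
  interval_cases v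
  · exact absurd hb (by decide)
  · exact ch_2_4_3_8_1
  · exact absurd hb (by decide)
  · exact absurd hb (by decide)
  · exact absurd hb (by decide)
  · exact ch_2_4_3_8_5
  · exact ch_2_4_3_8_6
  · exact ch_2_4_3_8_7
  · exact absurd hb (by decide)
  · exact absurd hd (by decide)
  · exact ch_2_4_3_8_10

set_option maxRecDepth 100000 in
theorem ch_2_4_3_9_1 : enum 11 ck11 2 5 1651744 543 6 1 = true := by
  decide +kernel

set_option maxRecDepth 100000 in
theorem ch_2_4_3_9_5 : enum 11 ck11 2 5 5846048 573 6 5 = true := by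
  decide +kernel

set_option maxRecDepth 100000 in
theorem ch_2_4_3_9_6 : enum 11 ck11 2 5 6894624 605 6 6 = true := by
  decide +kernel

set_option maxRecDepth 100000 in
theorem ch_2_4_3_9_7 : enum 11 ck11 2 5 7943200 669 6 7 = true := by
  decide +kernel

set_option maxRecDepth 100000 in
theorem ch_2_4_3_9_8 : enum 11 ck11 2 5 8991776 797 6 8 = true := by
  decide +kernel

theorem ch_2_4_3_9 : enum 11 ck11 2 6 603168 541 5 9 = true := by
  refine enum_intro 11 ck11 2 5 603168 541 5 9 ?_
  intro v hv hb hd
  interval_cases v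
  · exact absurd hb (by decide)
  · exact ch_2_4_3_9_1
  · exact absurd hb (by decide)
  · exact absurd hb (by decide)
  · exact absurd hb (by decide)
  · exact ch_2_4_3_9_5
  · exact ch_2_4_3_9_6
  · exact ch_2_4_3_9_7
  · exact ch_2_4_3_9_8
  · exact absurd hb (by decide)
  · exact absurd hd (by decide)

set_option maxRecDepth 100000 in
theorem ch_2_4_3_10_1 : enum 11 ck11 2 5 1717280 1055 6 1 = true := by
  decide +kernel

set_option maxRecDepth 100000 in
theorem ch_2_4_3_10_5 : enum 11 ck11 2 5 5911584 1085 6 5 = true := by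
  decide +kernel

set_option maxRecDepth 100000 in
theorem ch_2_4_3_10_6 : enum 11 ck11 2 5 6960160 1117 6 6 = true := by
  decide +kernel

set_option maxRecDepth 100000 in
theorem ch_2_4_3_10_7 : enum 11 ck11 2 5 8008736 1181 6 7 = true := by
  decide +kernel

set_option maxRecDepth 100000 in
theorem ch_2_4_3_10_8 : enum 11 ck11 2 5 9057312 1309 6 8 = true := by
  decide +kernel

set_option maxRecDepth 100000 in
theorem ch_2_4_3_10_9 : enum 11 ck11 2 5 10105888 1565 6 9 = true := by
  decide +kernel

theorem ch_2_4_3_10 : enum 11 ck11 2 6 668704 1053 5 10 = true := by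
  refine enum_intro 11 ck11 2 5 668704 1053 5 10 ?_
  intro v hv hb hd
  interval_cases v
  · exact absurd hb (by decide)
  · exact ch_2_4_3_10_1
  · exact absurd hb (by decide)
  · exact absurd hb (by decide)
  · exact absurd hb (by decide)
  · exact ch_2_4_3_10_5
  · exact ch_2_4_3_10_6
  · exact ch_2_4_3_10_7
  · exact ch_2_4_3_10_8
  · exact ch_2_4_3_10_9
  · exact absurd hb (by decide)

theorem ch_2_4_3 : enum 11 ck11 2 7 13344 29 4 3 = true := by
  refine enum_intro 11 ck11 2 6 13344 29 4 3 ?_
  intro v hv hb hd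
  interval_cases v
  · exact absurd hb (by decide)
  · exact ch_2_4_3_1
  · exact absurd hb (by decide)
  · exact absurd hb (by decide)
  · exact absurd hb (by decide)
  · exact ch_2_4_3_5
  · exact ch_2_4_3_6
  · exact ch_2_4_3_7
  · exact ch_2_4_3_8
  · exact ch_2_4_3_9
  · exact ch_2_4_3_10

set_option maxRecDepth 100000 in
theorem ch_2_4_6_1_3 : enum 11 ck11 2 5 3236896 95 6 3 = true := by
  decide +kernel

set_option maxRecDepth 100000 in
theorem ch_2_4_6_1_5 : enum 11 ck11 2 5 5334048 119 6 5 = true := by
  decide +kernel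

set_option maxRecDepth 100000 in
theorem ch_2_4_6_1_7 : enum 11 ck11 2 5 7431200 215 6 7 = true := by
  decide +kernel

set_option maxRecDepth 100000 in
theorem ch_2_4_6_1_8 : enum 11 ck11 2 5 8479776 343 6 8 = true := by
  decide +kernel

set_option maxRecDepth 100000 in
theorem ch_2_4_6_1_9 : enum 11 ck11 2 5 9528352 599 6 9 = true := by
  decide +kernel

set_option maxRecDepth 100000 in
theorem ch_2_4_6_1_10 : enum 11 ck11 2 5 10576928 1111 6 10 = true := by
  decide +kernel

theorem ch_2_4_6_1 : enum 11 ck11 2 6 91168 87 5 1 = true := by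
  refine enum_intro 11 ck11 2 5 91168 87 5 1 ?_
  intro v hv hb hd
  interval_cases v
  · exact absurd hb (by decide)
  · exact absurd hb (by decide)
  · exact absurd hb (by decide)
  · exact ch_2_4_6_1_3
  · exact absurd hb (by decide)
  · exact ch_2_4_6_1_5
  · exact absurd hb (by decide)
  · exact ch_2_4_6_1_7
  · exact ch_2_4_6_1_8
  · exact ch_2_4_6_1_9
  · exact ch_2_4_6_1_10

set_option maxRecDepth 100000 in
theorem ch_2_4_6_3_1 : enum 11 ck11 2 5 1270816 95 6 1 = true := by
  decide +kernel

set_option maxRecDepth 100000 in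
theorem ch_2_4_6_3_5 : enum 11 ck11 2 5 5465120 125 6 5 = true := by
  decide +kernel

set_option maxRecDepth 100000 in
theorem ch_2_4_6_3_7 : enum 11 ck11 2 5 7562272 221 6 7 = true := by
  decide +kernel

set_option maxRecDepth 100000 in
theorem ch_2_4_6_3_8 : enum 11 ck11 2 5 8610848 349 6 8 = true := by
  decide +kernel

set_option maxRecDepth 100000 in
theorem ch_2_4_6_3_9 : enum 11 ck11 2 5 9659424 605 6 9 = true := by
  decide +kernel

set_option maxRecDepth 100000 in
theorem ch_2_4_6_3_10 : enum 11 ck11 2 5 10708000 1117 6 10 = true := by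
  decide +kernel

theorem ch_2_4_6_3 : enum 11 ck11 2 6 222240 93 5 3 = true := by
  refine enum_intro 11 ck11 2 5 222240 93 5 3 ?_
  intro v hv hb hd
  interval_cases v
  · exact absurd hb (by decide)
  · exact ch_2_4_6_3_1
  · exact absurd hb (by decide)
  · exact absurd hb (by decide)
  · exact absurd hb (by decide)
  · exact ch_2_4_6_3_5
  · exact absurd hb (by decide)
  · exact ch_2_4_6_3_7
  · exact ch_2_4_6_3_8
  · exact ch_2_4_6_3_9
  · exact ch_2_4_6_3_10

set_option maxRecDepth 100000 in
theorem ch_2_4_6_5_1 : enum 11 ck11 2 5 1401888 119 6 1 = true := by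
  decide +kernel

set_option maxRecDepth 100000 in
theorem ch_2_4_6_5_3 : enum 11 ck11 2 5 3499040 125 6 3 = true := by
  decide +kernel

set_option maxRecDepth 100000 in
theorem ch_2_4_6_5_7 : enum 11 ck11 2 5 7693344 245 6 7 = true := by
  decide +kernel

set_option maxRecDepth 100000 in
theorem ch_2_4_6_5_8 : enum 11 ck11 2 5 8741920 373 6 8 = true := by
  decide +kernel

set_option maxRecDepth 100000 in
theorem ch_2_4_6_5_9 : enum 11 ck11 2 5 9790496 629 6 9 = true := by
  decide +kernel

set_option maxRecDepth 100000 in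
theorem ch_2_4_6_5_10 : enum 11 ck11 2 5 10839072 1141 6 10 = true := by
  decide +kernel

theorem ch_2_4_6_5 : enum 11 ck11 2 6 353312 117 5 5 = true := by
  refine enum_intro 11 ck11 2 5 353312 117 5 5 ?_
  intro v hv hb hd
  interval_cases v
  · exact absurd hb (by decide)
  · exact ch_2_4_6_5_1
  · exact absurd hb (by decide)
  · exact ch_2_4_6_5_3
  · exact absurd hb (by decide)
  · exact absurd hb (by decide)
  · exact absurd hb (by decide)
  · exact ch_2_4_6_5_7
  · exact ch_2_4_6_5_8
  · exact ch_2_4_6_5_9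
  · exact ch_2_4_6_5_10

set_option maxRecDepth 100000 in
theorem ch_2_4_6_8_1 : enum 11 ck11 2 5 1598496 343 6 1 = true := by
  decide +kernel

set_option maxRecDepth 100000 in
theorem ch_2_4_6_8_3 : enum 11 ck11 2 5 3695648 349 6 3 = true := by
  decide +kernel

set_option maxRecDepth 100000 in
theorem ch_2_4_6_8_5 : enum 11 ck11 2 5 5792800 373 6 5 = true := by
  decide +kernel

set_option maxRecDepth 100000 in
theorem ch_2_4_6_8_7 : enum 11 ck11 2 5 7889952 469 6 7 = true := by
  decide +kernel

set_option maxRecDepth 100000 in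
theorem ch_2_4_6_8_10 : enum 11 ck11 2 5 11035680 1365 6 10 = true := by
  decide +kernel

theorem ch_2_4_6_8 : enum 11 ck11 2 6 549920 341 5 8 = true := by
  refine enum_intro 11 ck11 2 5 549920 341 5 8 ?_
  intro v hv hb hd
  interval_cases v
  · exact absurd hb (by decide)
  · exact ch_2_4_6_8_1
  · exact absurd hb (by decide)
  · exact ch_2_4_6_8_3
  · exact absurd hb (by decide)
  · exact ch_2_4_6_8_5
  · exact absurd hb (by decide)
  · exact ch_2_4_6_8_7
  · exact absurd hb (by decide)
  · exact absurd hd (by decide)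
  · exact ch_2_4_6_8_10

set_option maxRecDepth 100000 in
theorem ch_2_4_6_9_1 : enum 11 ck11 2 5 1664032 599 6 1 = true := by
  decide +kernel

set_option maxRecDepth 100000 in
theorem ch_2_4_6_9_3 : enum 11 ck11 2 5 3761184 605 6 3 = true := by
  decide +kernel

set_option maxRecDepth 100000 in
theorem ch_2_4_6_9_5 : enum 11 ck11 2 5 5858336 629 6 5 = true := by
  decide +kernel

set_option maxRecDepth 100000 in
theorem ch_2_4_6_9_7 : enum 11 ck11 2 5 7955488 725 6 7 = true := by
  decide +kernel

set_option maxRecDepth 100000 in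
theorem ch_2_4_6_9_8 : enum 11 ck11 2 5 9004064 853 6 8 = true := by
  decide +kernel

theorem ch_2_4_6_9 : enum 11 ck11 2 6 615456 597 5 9 = true := by
  refine enum_intro 11 ck11 2 5 615456 597 5 9 ?_
  intro v hv hb hd
  interval_cases v
  · exact absurd hb (by decide)
  · exact ch_2_4_6_9_1
  · exact absurd hb (by decide)
  · exact ch_2_4_6_9_3
  · exact absurd hb (by decide)
  · exact ch_2_4_6_9_5
  · exact absurd hb (by decide)
  · exact ch_2_4_6_9_7
  · exact ch_2_4_6_9_8
  · exact absurd hb (by decide)
  · exact absurd hd (by decide)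

set_option maxRecDepth 100000 in
theorem ch_2_4_6_10_1 : enum 11 ck11 2 5 1729568 1111 6 1 = true := by
  decide +kernel

set_option maxRecDepth 100000 in
theorem ch_2_4_6_10_3 : enum 11 ck11 2 5 3826720 1117 6 3 = true := by
  decide +kernel

set_option maxRecDepth 100000 in
theorem ch_2_4_6_10_5 : enum 11 ck11 2 5 5923872 1141 6 5 = true := by
  decide +kernel

set_option maxRecDepth 100000 in
theorem ch_2_4_6_10_7 : enum 11 ck11 2 5 8021024 1237 6 7 = true := by
  decide +kernel

set_option maxRecDepth 100000 in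
theorem ch_2_4_6_10_8 : enum 11 ck11 2 5 9069600 1365 6 8 = true := by
  decide +kernel

set_option maxRecDepth 100000 in
theorem ch_2_4_6_10_9 : enum 11 ck11 2 5 10118176 1621 6 9 = true := by
  decide +kernel

theorem ch_2_4_6_10 : enum 11 ck11 2 6 680992 1109 5 10 = true := by
  refine enum_intro 11 ck11 2 5 680992 1109 5 10 ?_
  intro v hv hb hd
  interval_cases v
  · exact absurd hb (by decide)
  · exact ch_2_4_6_10_1
  · exact absurd hb (by decide)
  · exact ch_2_4_6_10_3
  · exact absurd hb (by decide)
  · exact ch_2_4_6_10_5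
  · exact absurd hb (by decide)
  · exact ch_2_4_6_10_7
  · exact ch_2_4_6_10_8
  · exact ch_2_4_6_10_9
  · exact absurd hb (by decide)

theorem ch_2_4_6 : enum 11 ck11 2 7 25632 85 4 6 = true := by
  refine enum_intro 11 ck11 2 6 25632 85 4 6 ?_
  intro v hv hb hd
  interval_cases v
  · exact absurd hb (by decide)
  · exact ch_2_4_6_1
  · exact absurd hb (by decide)
  · exact ch_2_4_6_3
  · exact absurd hb (by decide)
  · exact ch_2_4_6_5
  · exact absurd hb (by decide)
  · exact absurd hd (by decide)
  · exact ch_2_4_6_8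
  · exact ch_2_4_6_9
  · exact ch_2_4_6_10

set_option maxRecDepth 100000 in
theorem ch_2_4_7_1_3 : enum 11 ck11 2 5 3240992 159 6 3 = true := by
  decide +kernel

set_option maxRecDepth 100000 in
theorem ch_2_4_7_1_5 : enum 11 ck11 2 5 5338144 183 6 5 = true := by
  decide +kernel

set_option maxRecDepth 100000 in
theorem ch_2_4_7_1_6 : enum 11 ck11 2 5 6386720 215 6 6 = true := by
  decide +kernel

set_option maxRecDepth 100000 in
theorem ch_2_4_7_1_8 : enum 11 ck11 2 5 8483872 407 6 8 = true := by
  decide +kernel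

set_option maxRecDepth 100000 in
theorem ch_2_4_7_1_9 : enum 11 ck11 2 5 9532448 663 6 9 = true := by
  decide +kernel

set_option maxRecDepth 100000 in
theorem ch_2_4_7_1_10 : enum 11 ck11 2 5 10581024 1175 6 10 = true := by
  decide +kernel

theorem ch_2_4_7_1 : enum 11 ck11 2 6 95264 151 5 1 = true := by
  refine enum_intro 11 ck11 2 5 95264 151 5 1 ?_
  intro v hv hb hd
  interval_cases v
  · exact absurd hb (by decide)
  · exact absurd hb (by decide)
  · exact absurd hb (by decide)
  · exact ch_2_4_7_1_3
  · exact absurd hb (by decide)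
  · exact ch_2_4_7_1_5
  · exact ch_2_4_7_1_6
  · exact absurd hb (by decide)
  · exact ch_2_4_7_1_8
  · exact ch_2_4_7_1_9
  · exact ch_2_4_7_1_10

set_option maxRecDepth 100000 in
theorem ch_2_4_7_3_1 : enum 11 ck11 2 5 1274912 159 6 1 = true := by
  decide +kernel

set_option maxRecDepth 100000 in
theorem ch_2_4_7_3_5 : enum 11 ck11 2 5 5469216 189 6 5 = true := by
  decide +kernel

set_option maxRecDepth 100000 in
theorem ch_2_4_7_3_6 : enum 11 ck11 2 5 6517792 221 6 6 = true := by
  decide +kernel

set_option maxRecDepth 100000 in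
theorem ch_2_4_7_3_8 : enum 11 ck11 2 5 8614944 413 6 8 = true := by
  decide +kernel

set_option maxRecDepth 100000 in
theorem ch_2_4_7_3_9 : enum 11 ck11 2 5 9663520 669 6 9 = true := by
  decide +kernel

set_option maxRecDepth 100000 in
theorem ch_2_4_7_3_10 : enum 11 ck11 2 5 10712096 1181 6 10 = true := by
  decide +kernel

theorem ch_2_4_7_3 : enum 11 ck11 2 6 226336 157 5 3 = true := by
  refine enum_intro 11 ck11 2 5 226336 157 5 3 ?_
  intro v hv hb hd
  interval_cases v
  · exact absurd hb (by decide)
  · exact ch_2_4_7_3_1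
  · exact absurd hb (by decide)
  · exact absurd hb (by decide)
  · exact absurd hb (by decide)
  · exact ch_2_4_7_3_5
  · exact ch_2_4_7_3_6
  · exact absurd hb (by decide)
  · exact ch_2_4_7_3_8
  · exact ch_2_4_7_3_9
  · exact ch_2_4_7_3_10

set_option maxRecDepth 100000 in
theorem ch_2_4_7_5_1 : enum 11 ck11 2 5 1405984 183 6 1 = true := by
  decide +kernel

set_option maxRecDepth 100000 in
theorem ch_2_4_7_5_3 : enum 11 ck11 2 5 3503136 189 6 3 = true := by
  decide +kernel

set_option maxRecDepth 100000 in
theorem ch_2_4_7_5_8 : enum 11 ck11 2 5 8746016 437 6 8 = true := by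
  decide +kernel

set_option maxRecDepth 100000 in
theorem ch_2_4_7_5_9 : enum 11 ck11 2 5 9794592 693 6 9 = true := by
  decide +kernel

set_option maxRecDepth 100000 in
theorem ch_2_4_7_5_10 : enum 11 ck11 2 5 10843168 1205 6 10 = true := by
  decide +kernel

theorem ch_2_4_7_5 : enum 11 ck11 2 6 357408 181 5 5 = true := by
  refine enum_intro 11 ck11 2 5 357408 181 5 5 ?_
  intro v hv hb hd
  interval_cases v
  · exact absurd hb (by decide)
  · exact ch_2_4_7_5_1
  · exact absurd hb (by decide)
  · exact ch_2_4_7_5_3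
  · exact absurd hb (by decide)
  · exact absurd hb (by decide)
  · exact absurd hd (by decide)
  · exact absurd hb (by decide)
  · exact ch_2_4_7_5_8
  · exact ch_2_4_7_5_9
  · exact ch_2_4_7_5_10

set_option maxRecDepth 100000 in
theorem ch_2_4_7_6_1 : enum 11 ck11 2 5 1471520 215 6 1 = true := by
  decide +kernel

set_option maxRecDepth 100000 in
theorem ch_2_4_7_6_3 : enum 11 ck11 2 5 3568672 221 6 3 = true := by
  decide +kernel

set_option maxRecDepth 100000 in
theorem ch_2_4_7_6_5 : enum 11 ck11 2 5 5665824 245 6 5 = true := by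
  decide +kernel

set_option maxRecDepth 100000 in
theorem ch_2_4_7_6_8 : enum 11 ck11 2 5 8811552 469 6 8 = true := by
  decide +kernel

set_option maxRecDepth 100000 in
theorem ch_2_4_7_6_9 : enum 11 ck11 2 5 9860128 725 6 9 = true := by
  decide +kernel

set_option maxRecDepth 100000 in
theorem ch_2_4_7_6_10 : enum 11 ck11 2 5 10908704 1237 6 10 = true := by
  decide +kernel

theorem ch_2_4_7_6 : enum 11 ck11 2 6 422944 213 5 6 = true := by
  refine enum_intro 11 ck11 2 5 422944 213 5 6 ?_
  intro v hv hb hd
  interval_cases v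
  · exact absurd hb (by decide)
  · exact ch_2_4_7_6_1
  · exact absurd hb (by decide)
  · exact ch_2_4_7_6_3
  · exact absurd hb (by decide)
  · exact ch_2_4_7_6_5
  · exact absurd hb (by decide)
  · exact absurd hb (by decide)
  · exact ch_2_4_7_6_8
  · exact ch_2_4_7_6_9
  · exact ch_2_4_7_6_10

set_option maxRecDepth 100000 in
theorem ch_2_4_7_9_1 : enum 11 ck11 2 5 1668128 663 6 1 = true := by
  decide +kernel

set_option maxRecDepth 100000 in
theorem ch_2_4_7_9_3 : enum 11 ck11 2 5 3765280 669 6 3 = true := by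
  decide +kernel

set_option maxRecDepth 100000 in
theorem ch_2_4_7_9_5 : enum 11 ck11 2 5 5862432 693 6 5 = true := by
  decide +kernel

set_option maxRecDepth 100000 in
theorem ch_2_4_7_9_6 : enum 11 ck11 2 5 6911008 725 6 6 = true := by
  decide +kernel

set_option maxRecDepth 100000 in
theorem ch_2_4_7_9_8 : enum 11 ck11 2 5 9008160 917 6 8 = true := by
  decide +kernel

theorem ch_2_4_7_9 : enum 11 ck11 2 6 619552 661 5 9 = true := by
  refine enum_intro 11 ck11 2 5 619552 661 5 9 ?_
  intro v hv hb hd
  interval_cases v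
  · exact absurd hb (by decide)
  · exact ch_2_4_7_9_1
  · exact absurd hb (by decide)
  · exact ch_2_4_7_9_3
  · exact absurd hb (by decide)
  · exact ch_2_4_7_9_5
  · exact ch_2_4_7_9_6
  · exact absurd hb (by decide)
  · exact ch_2_4_7_9_8
  · exact absurd hb (by decide)
  · exact absurd hd (by decide)

set_option maxRecDepth 100000 in
theorem ch_2_4_7_10_1 : enum 11 ck11 2 5 1733664 1175 6 1 = true := by
  decide +kernel

set_option maxRecDepth 100000 in
theorem ch_2_4_7_10_3 : enum 11 ck11 2 5 3830816 1181 6 3 = true := by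
  decide +kernel

set_option maxRecDepth 100000 in
theorem ch_2_4_7_10_5 : enum 11 ck11 2 5 5927968 1205 6 5 = true := by
  decide +kernel

set_option maxRecDepth 100000 in
theorem ch_2_4_7_10_6 : enum 11 ck11 2 5 6976544 1237 6 6 = true := by
  decide +kernel

set_option maxRecDepth 100000 in
theorem ch_2_4_7_10_8 : enum 11 ck11 2 5 9073696 1429 6 8 = true := by
  decide +kernel

set_option maxRecDepth 100000 in
theorem ch_2_4_7_10_9 : enum 11 ck11 2 5 10122272 1685 6 9 = true := by
  decide +kernel

theorem ch_2_4_7_10 : enum 11 ck11 2 6 685088 1173 5 10 = true := by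
  refine enum_intro 11 ck11 2 5 685088 1173 5 10 ?_
  intro v hv hb hd
  interval_cases v
  · exact absurd hb (by decide)
  · exact ch_2_4_7_10_1
  · exact absurd hb (by decide)
  · exact ch_2_4_7_10_3
  · exact absurd hb (by decide)
  · exact ch_2_4_7_10_5
  · exact ch_2_4_7_10_6
  · exact absurd hb (by decide)
  · exact ch_2_4_7_10_8
  · exact ch_2_4_7_10_9
  · exact absurd hb (by decide)

theorem ch_2_4_7 : enum 11 ck11 2 7 29728 149 4 7 = true := by
  refine enum_intro 11 ck11 2 6 29728 149 4 7 ?_
  intro v hv hb hd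
  interval_cases v
  · exact absurd hb (by decide)
  · exact ch_2_4_7_1
  · exact absurd hb (by decide)
  · exact ch_2_4_7_3
  · exact absurd hb (by decide)
  · exact ch_2_4_7_5
  · exact ch_2_4_7_6
  · exact absurd hb (by decide)
  · exact absurd hd (by decide)
  · exact ch_2_4_7_9
  · exact ch_2_4_7_10

set_option maxRecDepth 100000 in
theorem ch_2_4_8_1_3 : enum 11 ck11 2 5 3245088 287 6 3 = true := by
  decide +kernel

set_option maxRecDepth 100000 in
theorem ch_2_4_8_1_5 : enum 11 ck11 2 5 5342240 311 6 5 = true := by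
  decide +kernel

set_option maxRecDepth 100000 in
theorem ch_2_4_8_1_6 : enum 11 ck11 2 5 6390816 343 6 6 = true := by
  decide +kernel

set_option maxRecDepth 100000 in
theorem ch_2_4_8_1_7 : enum 11 ck11 2 5 7439392 407 6 7 = true := by
  decide +kernel

set_option maxRecDepth 100000 in
theorem ch_2_4_8_1_9 : enum 11 ck11 2 5 9536544 791 6 9 = true := by
  decide +kernel

set_option maxRecDepth 100000 in
theorem ch_2_4_8_1_10 : enum 11 ck11 2 5 10585120 1303 6 10 = true := by
  decide +kernel

theorem ch_2_4_8_1 : enum 11 ck11 2 6 99360 279 5 1 = true := by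
  refine enum_intro 11 ck11 2 5 99360 279 5 1 ?_
  intro v hv hb hd
  interval_cases v
  · exact absurd hb (by decide)
  · exact absurd hb (by decide)
  · exact absurd hb (by decide)
  · exact ch_2_4_8_1_3
  · exact absurd hb (by decide)
  · exact ch_2_4_8_1_5
  · exact ch_2_4_8_1_6
  · exact ch_2_4_8_1_7
  · exact absurd hb (by decide)
  · exact ch_2_4_8_1_9
  · exact ch_2_4_8_1_10

set_option maxRecDepth 100000 in
theorem ch_2_4_8_3_1 : enum 11 ck11 2 5 1279008 287 6 1 = true := by
  decide +kernel

set_option maxRecDepth 100000 in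
theorem ch_2_4_8_3_5 : enum 11 ck11 2 5 5473312 317 6 5 = true := by
  decide +kernel

set_option maxRecDepth 100000 in
theorem ch_2_4_8_3_6 : enum 11 ck11 2 5 6521888 349 6 6 = true := by
  decide +kernel

set_option maxRecDepth 100000 in
theorem ch_2_4_8_3_7 : enum 11 ck11 2 5 7570464 413 6 7 = true := by
  decide +kernel

set_option maxRecDepth 100000 in
theorem ch_2_4_8_3_9 : enum 11 ck11 2 5 9667616 797 6 9 = true := by
  decide +kernel

set_option maxRecDepth 100000 in
theorem ch_2_4_8_3_10 : enum 11 ck11 2 5 10716192 1309 6 10 = true := by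
  decide +kernel

theorem ch_2_4_8_3 : enum 11 ck11 2 6 230432 285 5 3 = true := by
  refine enum_intro 11 ck11 2 5 230432 285 5 3 ?_
  intro v hv hb hd
  interval_cases v
  · exact absurd hb (by decide)
  · exact ch_2_4_8_3_1
  · exact absurd hb (by decide)
  · exact absurd hb (by decide)
  · exact absurd hb (by decide)
  · exact ch_2_4_8_3_5
  · exact ch_2_4_8_3_6
  · exact ch_2_4_8_3_7
  · exact absurd hb (by decide)
  · exact ch_2_4_8_3_9
  · exact ch_2_4_8_3_10

set_option maxRecDepth 100000 in
theorem ch_2_4_8_5_1 : enum 11 ck11 2 5 1410080 311 6 1 = true := by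
  decide +kernel

set_option maxRecDepth 100000 in
theorem ch_2_4_8_5_3 : enum 11 ck11 2 5 3507232 317 6 3 = true := by
  decide +kernel

set_option maxRecDepth 100000 in
theorem ch_2_4_8_5_7 : enum 11 ck11 2 5 7701536 437 6 7 = true := by
  decide +kernel

set_option maxRecDepth 100000 in
theorem ch_2_4_8_5_9 : enum 11 ck11 2 5 9798688 821 6 9 = true := by
  decide +kernel

set_option maxRecDepth 100000 in
theorem ch_2_4_8_5_10 : enum 11 ck11 2 5 10847264 1333 6 10 = true := by
  decide +kernel

theorem ch_2_4_8_5 : enum 11 ck11 2 6 361504 309 5 5 = true := by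
  refine enum_intro 11 ck11 2 5 361504 309 5 5 ?_
  intro v hv hb hd
  interval_cases v
  · exact absurd hb (by decide)
  · exact ch_2_4_8_5_1
  · exact absurd hb (by decide)
  · exact ch_2_4_8_5_3
  · exact absurd hb (by decide)
  · exact absurd hb (by decide)
  · exact absurd hd (by decide)
  · exact ch_2_4_8_5_7
  · exact absurd hb (by decide)
  · exact ch_2_4_8_5_9
  · exact ch_2_4_8_5_10

set_option maxRecDepth 100000 in
theorem ch_2_4_8_6_1 : enum 11 ck11 2 5 1475616 343 6 1 = true := by
  decide +kernel

set_option maxRecDepth 100000 in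
theorem ch_2_4_8_6_3 : enum 11 ck11 2 5 3572768 349 6 3 = true := by
  decide +kernel

set_option maxRecDepth 100000 in
theorem ch_2_4_8_6_5 : enum 11 ck11 2 5 5669920 373 6 5 = true := by
  decide +kernel

set_option maxRecDepth 100000 in
theorem ch_2_4_8_6_9 : enum 11 ck11 2 5 9864224 853 6 9 = true := by
  decide +kernel

set_option maxRecDepth 100000 in
theorem ch_2_4_8_6_10 : enum 11 ck11 2 5 10912800 1365 6 10 = true := by
  decide +kernel

theorem ch_2_4_8_6 : enum 11 ck11 2 6 427040 341 5 6 = true := by
  refine enum_intro 11 ck11 2 5 427040 341 5 6 ?_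
  intro v hv hb hd
  interval_cases v
  · exact absurd hb (by decide)
  · exact ch_2_4_8_6_1
  · exact absurd hb (by decide)
  · exact ch_2_4_8_6_3
  · exact absurd hb (by decide)
  · exact ch_2_4_8_6_5
  · exact absurd hb (by decide)
  · exact absurd hd (by decide)
  · exact absurd hb (by decide)
  · exact ch_2_4_8_6_9
  · exact ch_2_4_8_6_10

set_option maxRecDepth 100000 in
theorem ch_2_4_8_7_1 : enum 11 ck11 2 5 1541152 407 6 1 = true := by
  decide +kernel

set_option maxRecDepth 100000 in
theorem ch_2_4_8_7_3 : enum 11 ck11 2 5 3638304 413 6 3 = true := by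
  decide +kernel

set_option maxRecDepth 100000 in
theorem ch_2_4_8_7_5 : enum 11 ck11 2 5 5735456 437 6 5 = true := by
  decide +kernel

set_option maxRecDepth 100000 in
theorem ch_2_4_8_7_6 : enum 11 ck11 2 5 6784032 469 6 6 = true := by
  decide +kernel

set_option maxRecDepth 100000 in
theorem ch_2_4_8_7_9 : enum 11 ck11 2 5 9929760 917 6 9 = true := by
  decide +kernel

set_option maxRecDepth 100000 in
theorem ch_2_4_8_7_10 : enum 11 ck11 2 5 10978336 1429 6 10 = true := by
  decide +kernel

theorem ch_2_4_8_7 : enum 11 ck11 2 6 492576 405 5 7 = true := by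
  refine enum_intro 11 ck11 2 5 492576 405 5 7 ?_
  intro v hv hb hd
  interval_cases v
  · exact absurd hb (by decide)
  · exact ch_2_4_8_7_1
  · exact absurd hb (by decide)
  · exact ch_2_4_8_7_3
  · exact absurd hb (by decide)
  · exact ch_2_4_8_7_5
  · exact ch_2_4_8_7_6
  · exact absurd hb (by decide)
  · exact absurd hb (by decide)
  · exact ch_2_4_8_7_9
  · exact ch_2_4_8_7_10

set_option maxRecDepth 100000 in
theorem ch_2_4_8_10_1 : enum 11 ck11 2 5 1737760 1303 6 1 = true := by
  decide +kernel

set_option maxRecDepth 100000 in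
theorem ch_2_4_8_10_3 : enum 11 ck11 2 5 3834912 1309 6 3 = true := by
  decide +kernel

set_option maxRecDepth 100000 in
theorem ch_2_4_8_10_5 : enum 11 ck11 2 5 5932064 1333 6 5 = true := by
  decide +kernel

set_option maxRecDepth 100000 in
theorem ch_2_4_8_10_6 : enum 11 ck11 2 5 6980640 1365 6 6 = true := by
  decide +kernel

set_option maxRecDepth 100000 in
theorem ch_2_4_8_10_7 : enum 11 ck11 2 5 8029216 1429 6 7 = true := by
  decide +kernel

set_option maxRecDepth 100000 in
theorem ch_2_4_8_10_9 : enum 11 ck11 2 5 10126368 1813 6 9 = true := by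
  decide +kernel

theorem ch_2_4_8_10 : enum 11 ck11 2 6 689184 1301 5 10 = true := by
  refine enum_intro 11 ck11 2 5 689184 1301 5 10 ?_
  intro v hv hb hd
  interval_cases v
  · exact absurd hb (by decide)
  · exact ch_2_4_8_10_1
  · exact absurd hb (by decide)
  · exact ch_2_4_8_10_3
  · exact absurd hb (by decide)
  · exact ch_2_4_8_10_5
  · exact ch_2_4_8_10_6
  · exact ch_2_4_8_10_7
  · exact absurd hb (by decide)
  · exact ch_2_4_8_10_9
  · exact absurd hb (by decide)

theorem ch_2_4_8 : enum 11 ck11 2 7 33824 277 4 8 = true := by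
  refine enum_intro 11 ck11 2 6 33824 277 4 8 ?_
  intro v hv hb hd
  interval_cases v
  · exact absurd hb (by decide)
  · exact ch_2_4_8_1
  · exact absurd hb (by decide)
  · exact ch_2_4_8_3
  · exact absurd hb (by decide)
  · exact ch_2_4_8_5
  · exact ch_2_4_8_6
  · exact ch_2_4_8_7
  · exact absurd hb (by decide)
  · exact absurd hd (by decide)
  · exact ch_2_4_8_10

set_option maxRecDepth 100000 in
theorem ch_2_4_9_1_3 : enum 11 ck11 2 5 3249184 543 6 3 = true := by
  decide +kernel

set_option maxRecDepth 100000 in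
theorem ch_2_4_9_1_5 : enum 11 ck11 2 5 5346336 567 6 5 = true := by
  decide +kernel

set_option maxRecDepth 100000 in
theorem ch_2_4_9_1_6 : enum 11 ck11 2 5 6394912 599 6 6 = true := by
  decide +kernel

set_option maxRecDepth 100000 in
theorem ch_2_4_9_1_7 : enum 11 ck11 2 5 7443488 663 6 7 = true := by
  decide +kernel

set_option maxRecDepth 100000 in
theorem ch_2_4_9_1_8 : enum 11 ck11 2 5 8492064 791 6 8 = true := by
  decide +kernel

set_option maxRecDepth 100000 in
theorem ch_2_4_9_1_10 : enum 11 ck11 2 5 10589216 1559 6 10 = true := by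
  decide +kernel

theorem ch_2_4_9_1 : enum 11 ck11 2 6 103456 535 5 1 = true := by
  refine enum_intro 11 ck11 2 5 103456 535 5 1 ?_
  intro v hv hb hd
  interval_cases v
  · exact absurd hb (by decide)
  · exact absurd hb (by decide)
  · exact absurd hb (by decide)
  · exact ch_2_4_9_1_3
  · exact absurd hb (by decide)
  · exact ch_2_4_9_1_5
  · exact ch_2_4_9_1_6
  · exact ch_2_4_9_1_7
  · exact ch_2_4_9_1_8
  · exact absurd hb (by decide)
  · exact ch_2_4_9_1_10

set_option maxRecDepth 100000 in
theorem ch_2_4_9_3_1 : enum 11 ck11 2 5 1283104 543 6 1 = true := by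
  decide +kernel

set_option maxRecDepth 100000 in
theorem ch_2_4_9_3_5 : enum 11 ck11 2 5 5477408 573 6 5 = true := by
  decide +kernel

set_option maxRecDepth 100000 in
theorem ch_2_4_9_3_6 : enum 11 ck11 2 5 6525984 605 6 6 = true := by
  decide +kernel

set_option maxRecDepth 100000 in
theorem ch_2_4_9_3_7 : enum 11 ck11 2 5 7574560 669 6 7 = true := by
  decide +kernel

set_option maxRecDepth 100000 in
theorem ch_2_4_9_3_8 : enum 11 ck11 2 5 8623136 797 6 8 = true := by
  decide +kernel

set_option maxRecDepth 100000 in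
theorem ch_2_4_9_3_10 : enum 11 ck11 2 5 10720288 1565 6 10 = true := by
  decide +kernel

theorem ch_2_4_9_3 : enum 11 ck11 2 6 234528 541 5 3 = true := by
  refine enum_intro 11 ck11 2 5 234528 541 5 3 ?_
  intro v hv hb hd
  interval_cases v
  · exact absurd hb (by decide)
  · exact ch_2_4_9_3_1
  · exact absurd hb (by decide)
  · exact absurd hb (by decide)
  · exact absurd hb (by decide)
  · exact ch_2_4_9_3_5
  · exact ch_2_4_9_3_6
  · exact ch_2_4_9_3_7
  · exact ch_2_4_9_3_8
  · exact absurd hb (by decide)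
  · exact ch_2_4_9_3_10

set_option maxRecDepth 100000 in
theorem ch_2_4_9_5_1 : enum 11 ck11 2 5 1414176 567 6 1 = true := by
  decide +kernel

set_option maxRecDepth 100000 in
theorem ch_2_4_9_5_3 : enum 11 ck11 2 5 3511328 573 6 3 = true := by
  decide +kernel

set_option maxRecDepth 100000 in
theorem ch_2_4_9_5_7 : enum 11 ck11 2 5 7705632 693 6 7 = true := by
  decide +kernel

set_option maxRecDepth 100000 in
theorem ch_2_4_9_5_8 : enum 11 ck11 2 5 8754208 821 6 8 = true := by
  decide +kernel

set_option maxRecDepth 100000 in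
theorem ch_2_4_9_5_10 : enum 11 ck11 2 5 10851360 1589 6 10 = true := by
  decide +kernel

theorem ch_2_4_9_5 : enum 11 ck11 2 6 365600 565 5 5 = true := by
  refine enum_intro 11 ck11 2 5 365600 565 5 5 ?_
  intro v hv hb hd
  interval_cases v
  · exact absurd hb (by decide)
  · exact ch_2_4_9_5_1
  · exact absurd hb (by decide)
  · exact ch_2_4_9_5_3
  · exact absurd hb (by decide)
  · exact absurd hb (by decide)
  · exact absurd hd (by decide)
  · exact ch_2_4_9_5_7
  · exact ch_2_4_9_5_8
  · exact absurd hb (by decide)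
  · exact ch_2_4_9_5_10

set_option maxRecDepth 100000 in
theorem ch_2_4_9_6_1 : enum 11 ck11 2 5 1479712 599 6 1 = true := by
  decide +kernel

set_option maxRecDepth 100000 in
theorem ch_2_4_9_6_3 : enum 11 ck11 2 5 3576864 605 6 3 = true := by
  decide +kernel

set_option maxRecDepth 100000 in
theorem ch_2_4_9_6_5 : enum 11 ck11 2 5 5674016 629 6 5 = true := by
  decide +kernel

set_option maxRecDepth 100000 in
theorem ch_2_4_9_6_8 : enum 11 ck11 2 5 8819744 853 6 8 = true := by
  decide +kernel

set_option maxRecDepth 100000 in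
theorem ch_2_4_9_6_10 : enum 11 ck11 2 5 10916896 1621 6 10 = true := by
  decide +kernel

theorem ch_2_4_9_6 : enum 11 ck11 2 6 431136 597 5 6 = true := by
  refine enum_intro 11 ck11 2 5 431136 597 5 6 ?_
  intro v hv hb hd
  interval_cases v
  · exact absurd hb (by decide)
  · exact ch_2_4_9_6_1
  · exact absurd hb (by decide)
  · exact ch_2_4_9_6_3
  · exact absurd hb (by decide)
  · exact ch_2_4_9_6_5
  · exact absurd hb (by decide)
  · exact absurd hd (by decide)
  · exact ch_2_4_9_6_8
  · exact absurd hb (by decide)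
  · exact ch_2_4_9_6_10

set_option maxRecDepth 100000 in
theorem ch_2_4_9_7_1 : enum 11 ck11 2 5 1545248 663 6 1 = true := by
  decide +kernel

set_option maxRecDepth 100000 in
theorem ch_2_4_9_7_3 : enum 11 ck11 2 5 3642400 669 6 3 = true := by
  decide +kernel

set_option maxRecDepth 100000 in
theorem ch_2_4_9_7_5 : enum 11 ck11 2 5 5739552 693 6 5 = true := by
  decide +kernel

set_option maxRecDepth 100000 in
theorem ch_2_4_9_7_6 : enum 11 ck11 2 5 6788128 725 6 6 = true := by
  decide +kernel

set_option maxRecDepth 100000 in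
theorem ch_2_4_9_7_10 : enum 11 ck11 2 5 10982432 1685 6 10 = true := by
  decide +kernel

theorem ch_2_4_9_7 : enum 11 ck11 2 6 496672 661 5 7 = true := by
  refine enum_intro 11 ck11 2 5 496672 661 5 7 ?_
  intro v hv hb hd
  interval_cases v
  · exact absurd hb (by decide)
  · exact ch_2_4_9_7_1
  · exact absurd hb (by decide)
  · exact ch_2_4_9_7_3
  · exact absurd hb (by decide)
  · exact ch_2_4_9_7_5
  · exact ch_2_4_9_7_6
  · exact absurd hb (by decide)
  · exact absurd hd (by decide)
  · exact absurd hb (by decide)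
  · exact ch_2_4_9_7_10

set_option maxRecDepth 100000 in
theorem ch_2_4_9_8_1 : enum 11 ck11 2 5 1610784 791 6 1 = true := by
  decide +kernel

set_option maxRecDepth 100000 in
theorem ch_2_4_9_8_3 : enum 11 ck11 2 5 3707936 797 6 3 = true := by
  decide +kernel

set_option maxRecDepth 100000 in
theorem ch_2_4_9_8_5 : enum 11 ck11 2 5 5805088 821 6 5 = true := by
  decide +kernel

set_option maxRecDepth 100000 in
theorem ch_2_4_9_8_6 : enum 11 ck11 2 5 6853664 853 6 6 = true := by
  decide +kernel

set_option maxRecDepth 100000 in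
theorem ch_2_4_9_8_7 : enum 11 ck11 2 5 7902240 917 6 7 = true := by
  decide +kernel

set_option maxRecDepth 100000 in
theorem ch_2_4_9_8_10 : enum 11 ck11 2 5 11047968 1813 6 10 = true := by
  decide +kernel

theorem ch_2_4_9_8 : enum 11 ck11 2 6 562208 789 5 8 = true := by
  refine enum_intro 11 ck11 2 5 562208 789 5 8 ?_
  intro v hv hb hd
  interval_cases v
  · exact absurd hb (by decide)
  · exact ch_2_4_9_8_1
  · exact absurd hb (by decide)
  · exact ch_2_4_9_8_3
  · exact absurd hb (by decide)
  · exact ch_2_4_9_8_5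
  · exact ch_2_4_9_8_6
  · exact ch_2_4_9_8_7
  · exact absurd hb (by decide)
  · exact absurd hb (by decide)
  · exact ch_2_4_9_8_10

theorem ch_2_4_9 : enum 11 ck11 2 7 37920 533 4 9 = true := by
  refine enum_intro 11 ck11 2 6 37920 533 4 9 ?_
  intro v hv hb hd
  interval_cases v
  · exact absurd hb (by decide)
  · exact ch_2_4_9_1
  · exact absurd hb (by decide)
  · exact ch_2_4_9_3
  · exact absurd hb (by decide)
  · exact ch_2_4_9_5
  · exact ch_2_4_9_6
  · exact ch_2_4_9_7
  · exact ch_2_4_9_8
  · exact absurd hb (by decide)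
  · exact absurd hd (by decide)

end Cfsg.Agent.Helper9.T11
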