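import Mathlib
import Cfsg.Agent.Helper9.T11.Chk

set_option autoImplicit false
set_option Elab.async false

/-!
A part of the enumeration on 11 points: the test holds at every permutation of the part.
-/

namespace Cfsg.Agent.Helper9.T11

set_option maxRecDepth 100000 in
theorem ch_2_4_10_1_3 : enum 11 ck11 2 5 3253280 1055 6 3 = true := by
  decide +kernel

set_option maxRecDepth 100000 in
theorem ch_2_4_10_1_5 : enum 11 ck11 2 5 5350432 1079 6 5 = true := by
  decide +kernel

set_option maxRecDepth 100000 in
theorem ch_2_4_10_1_6 : enum 11 ck11 2 5 6399008 1111 6 6 = true := by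
  decide +kernel

set_option maxRecDepth 100000 in
theorem ch_2_4_10_1_7 : enum 11 ck11 2 5 7447584 1175 6 7 = true := by
  decide +kernel

set_option maxRecDepth 100000 in
theorem ch_2_4_10_1_8 : enum 11 ck11 2 5 8496160 1303 6 8 = true := by
  decide +kernel

set_option maxRecDepth 100000 in
theorem ch_2_4_10_1_9 : enum 11 ck11 2 5 9544736 1559 6 9 = true := by
  decide +kernel

theorem ch_2_4_10_1 : enum 11 ck11 2 6 107552 1047 5 1 = true := by
  refine enum_intro 11 ck11 2 5 107552 1047 5 1 ?_
  intro v hv hb hd
  interval_cases v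
  · exact absurd hb (by decide)
  · exact absurd hb (by decide)
  · exact absurd hb (by decide)
  · exact ch_2_4_10_1_3
  · exact absurd hb (by decide)
  · exact ch_2_4_10_1_5
  · exact ch_2_4_10_1_6
  · exact ch_2_4_10_1_7
  · exact ch_2_4_10_1_8
  · exact ch_2_4_10_1_9
  · exact absurd hb (by decide)

set_option maxRecDepth 100000 in
theorem ch_2_4_10_3_1 : enum 11 ck11 2 5 1287200 1055 6 1 = true := by
  decide +kernel

set_option maxRecDepth 100000 in
theorem ch_2_4_10_3_5 : enum 11 ck11 2 5 5481504 1085 6 5 = true := by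
  decide +kernel

set_option maxRecDepth 100000 in
theorem ch_2_4_10_3_6 : enum 11 ck11 2 5 6530080 1117 6 6 = true := by
  decide +kernel

set_option maxRecDepth 100000 in
theorem ch_2_4_10_3_7 : enum 11 ck11 2 5 7578656 1181 6 7 = true := by
  decide +kernel

set_option maxRecDepth 100000 in
theorem ch_2_4_10_3_8 : enum 11 ck11 2 5 8627232 1309 6 8 = true := by
  decide +kernel

set_option maxRecDepth 100000 in
theorem ch_2_4_10_3_9 : enum 11 ck11 2 5 9675808 1565 6 9 = true := by
  decide +kernel

theorem ch_2_4_10_3 : enum 11 ck11 2 6 238624 1053 5 3 = true := by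
  refine enum_intro 11 ck11 2 5 238624 1053 5 3 ?_
  intro v hv hb hd
  interval_cases v
  · exact absurd hb (by decide)
  · exact ch_2_4_10_3_1
  · exact absurd hb (by decide)
  · exact absurd hb (by decide)
  · exact absurd hb (by decide)
  · exact ch_2_4_10_3_5
  · exact ch_2_4_10_3_6
  · exact ch_2_4_10_3_7
  · exact ch_2_4_10_3_8
  · exact ch_2_4_10_3_9
  · exact absurd hb (by decide)

set_option maxRecDepth 100000 in
theorem ch_2_4_10_5_1 : enum 11 ck11 2 5 1418272 1079 6 1 = true := by
  decide +kernel

set_option maxRecDepth 100000 in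
theorem ch_2_4_10_5_3 : enum 11 ck11 2 5 3515424 1085 6 3 = true := by
  decide +kernel

set_option maxRecDepth 100000 in
theorem ch_2_4_10_5_7 : enum 11 ck11 2 5 7709728 1205 6 7 = true := by
  decide +kernel

set_option maxRecDepth 100000 in
theorem ch_2_4_10_5_8 : enum 11 ck11 2 5 8758304 1333 6 8 = true := by
  decide +kernel

set_option maxRecDepth 100000 in
theorem ch_2_4_10_5_9 : enum 11 ck11 2 5 9806880 1589 6 9 = true := by
  decide +kernel

theorem ch_2_4_10_5 : enum 11 ck11 2 6 369696 1077 5 5 = true := by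
  refine enum_intro 11 ck11 2 5 369696 1077 5 5 ?_
  intro v hv hb hd
  interval_cases v
  · exact absurd hb (by decide)
  · exact ch_2_4_10_5_1
  · exact absurd hb (by decide)
  · exact ch_2_4_10_5_3
  · exact absurd hb (by decide)
  · exact absurd hb (by decide)
  · exact absurd hd (by decide)
  · exact ch_2_4_10_5_7
  · exact ch_2_4_10_5_8
  · exact ch_2_4_10_5_9
  · exact absurd hb (by decide)

set_option maxRecDepth 100000 in
theorem ch_2_4_10_6_1 : enum 11 ck11 2 5 1483808 1111 6 1 = true := by
  decide +kernel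

set_option maxRecDepth 100000 in
theorem ch_2_4_10_6_3 : enum 11 ck11 2 5 3580960 1117 6 3 = true := by
  decide +kernel

set_option maxRecDepth 100000 in
theorem ch_2_4_10_6_5 : enum 11 ck11 2 5 5678112 1141 6 5 = true := by
  decide +kernel

set_option maxRecDepth 100000 in
theorem ch_2_4_10_6_8 : enum 11 ck11 2 5 8823840 1365 6 8 = true := by
  decide +kernel

set_option maxRecDepth 100000 in
theorem ch_2_4_10_6_9 : enum 11 ck11 2 5 9872416 1621 6 9 = true := by
  decide +kernel

theorem ch_2_4_10_6 : enum 11 ck11 2 6 435232 1109 5 6 = true := by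
  refine enum_intro 11 ck11 2 5 435232 1109 5 6 ?_
  intro v hv hb hd
  interval_cases v
  · exact absurd hb (by decide)
  · exact ch_2_4_10_6_1
  · exact absurd hb (by decide)
  · exact ch_2_4_10_6_3
  · exact absurd hb (by decide)
  · exact ch_2_4_10_6_5
  · exact absurd hb (by decide)
  · exact absurd hd (by decide)
  · exact ch_2_4_10_6_8
  · exact ch_2_4_10_6_9
  · exact absurd hb (by decide)

set_option maxRecDepth 100000 in
theorem ch_2_4_10_7_1 : enum 11 ck11 2 5 1549344 1175 6 1 = true := by
  decide +kernel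

set_option maxRecDepth 100000 in
theorem ch_2_4_10_7_3 : enum 11 ck11 2 5 3646496 1181 6 3 = true := by
  decide +kernel

set_option maxRecDepth 100000 in
theorem ch_2_4_10_7_5 : enum 11 ck11 2 5 5743648 1205 6 5 = true := by
  decide +kernel

set_option maxRecDepth 100000 in
theorem ch_2_4_10_7_6 : enum 11 ck11 2 5 6792224 1237 6 6 = true := by
  decide +kernel

set_option maxRecDepth 100000 in
theorem ch_2_4_10_7_9 : enum 11 ck11 2 5 9937952 1685 6 9 = true := by
  decide +kernel

theorem ch_2_4_10_7 : enum 11 ck11 2 6 500768 1173 5 7 = true := by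
  refine enum_intro 11 ck11 2 5 500768 1173 5 7 ?_
  intro v hv hb hd
  interval_cases v
  · exact absurd hb (by decide)
  · exact ch_2_4_10_7_1
  · exact absurd hb (by decide)
  · exact ch_2_4_10_7_3
  · exact absurd hb (by decide)
  · exact ch_2_4_10_7_5
  · exact ch_2_4_10_7_6
  · exact absurd hb (by decide)
  · exact absurd hd (by decide)
  · exact ch_2_4_10_7_9
  · exact absurd hb (by decide)

set_option maxRecDepth 100000 in
theorem ch_2_4_10_8_1 : enum 11 ck11 2 5 1614880 1303 6 1 = true := by
  decide +kernel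

set_option maxRecDepth 100000 in
theorem ch_2_4_10_8_3 : enum 11 ck11 2 5 3712032 1309 6 3 = true := by
  decide +kernel

set_option maxRecDepth 100000 in
theorem ch_2_4_10_8_5 : enum 11 ck11 2 5 5809184 1333 6 5 = true := by
  decide +kernel

set_option maxRecDepth 100000 in
theorem ch_2_4_10_8_6 : enum 11 ck11 2 5 6857760 1365 6 6 = true := by
  decide +kernel

set_option maxRecDepth 100000 in
theorem ch_2_4_10_8_7 : enum 11 ck11 2 5 7906336 1429 6 7 = true := by
  decide +kernel

theorem ch_2_4_10_8 : enum 11 ck11 2 6 566304 1301 5 8 = true := by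
  refine enum_intro 11 ck11 2 5 566304 1301 5 8 ?_
  intro v hv hb hd
  interval_cases v
  · exact absurd hb (by decide)
  · exact ch_2_4_10_8_1
  · exact absurd hb (by decide)
  · exact ch_2_4_10_8_3
  · exact absurd hb (by decide)
  · exact ch_2_4_10_8_5
  · exact ch_2_4_10_8_6
  · exact ch_2_4_10_8_7
  · exact absurd hb (by decide)
  · exact absurd hd (by decide)
  · exact absurd hb (by decide)

set_option maxRecDepth 100000 in
theorem ch_2_4_10_9_1 : enum 11 ck11 2 5 1680416 1559 6 1 = true := by
  decide +kernel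

set_option maxRecDepth 100000 in
theorem ch_2_4_10_9_3 : enum 11 ck11 2 5 3777568 1565 6 3 = true := by
  decide +kernel

set_option maxRecDepth 100000 in
theorem ch_2_4_10_9_5 : enum 11 ck11 2 5 5874720 1589 6 5 = true := by
  decide +kernel

set_option maxRecDepth 100000 in
theorem ch_2_4_10_9_6 : enum 11 ck11 2 5 6923296 1621 6 6 = true := by
  decide +kernel

set_option maxRecDepth 100000 in
theorem ch_2_4_10_9_7 : enum 11 ck11 2 5 7971872 1685 6 7 = true := by
  decide +kernel

set_option maxRecDepth 100000 in
theorem ch_2_4_10_9_8 : enum 11 ck11 2 5 9020448 1813 6 8 = true := by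
  decide +kernel

theorem ch_2_4_10_9 : enum 11 ck11 2 6 631840 1557 5 9 = true := by
  refine enum_intro 11 ck11 2 5 631840 1557 5 9 ?_
  intro v hv hb hd
  interval_cases v
  · exact absurd hb (by decide)
  · exact ch_2_4_10_9_1
  · exact absurd hb (by decide)
  · exact ch_2_4_10_9_3
  · exact absurd hb (by decide)
  · exact ch_2_4_10_9_5
  · exact ch_2_4_10_9_6
  · exact ch_2_4_10_9_7
  · exact ch_2_4_10_9_8
  · exact absurd hb (by decide)
  · exact absurd hb (by decide)

theorem ch_2_4_10 : enum 11 ck11 2 7 42016 1045 4 10 = true := by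
  refine enum_intro 11 ck11 2 6 42016 1045 4 10 ?_
  intro v hv hb hd
  interval_cases v
  · exact absurd hb (by decide)
  · exact ch_2_4_10_1
  · exact absurd hb (by decide)
  · exact ch_2_4_10_3
  · exact absurd hb (by decide)
  · exact ch_2_4_10_5
  · exact ch_2_4_10_6
  · exact ch_2_4_10_7
  · exact ch_2_4_10_8
  · exact ch_2_4_10_9
  · exact absurd hb (by decide)

end Cfsg.Agent.Helper9.T11
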