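import Mathlib
import Cfsg.Agent.Helper9.T11.Chk

set_option autoImplicit false
set_option Elab.async false

/-!
A part of the enumeration on 11 points: the test holds at every permutation of the part.
-/

namespace Cfsg.Agent.Helper9.T11

set_option maxRecDepth 100000 in
theorem ch_2_5_1_3_6 : enum 11 ck11 2 5 6493472 111 6 6 = true := by
  decide +kernel

set_option maxRecDepth 100000 in
theorem ch_2_5_1_3_7 : enum 11 ck11 2 5 7542048 175 6 7 = true := by
  decide +kernel

set_option maxRecDepth 100000 in
theorem ch_2_5_1_3_8 : enum 11 ck11 2 5 8590624 303 6 8 = true := by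
  decide +kernel

set_option maxRecDepth 100000 in
theorem ch_2_5_1_3_9 : enum 11 ck11 2 5 9639200 559 6 9 = true := by
  decide +kernel

set_option maxRecDepth 100000 in
theorem ch_2_5_1_3_10 : enum 11 ck11 2 5 10687776 1071 6 10 = true := by
  decide +kernel

theorem ch_2_5_1_3 : enum 11 ck11 2 6 202016 47 5 3 = true := by
  refine enum_intro 11 ck11 2 5 202016 47 5 3 ?_
  intro v hv hb hd
  interval_cases v
  · exact absurd hb (by decide)
  · exact absurd hb (by decide)
  · exact absurd hb (by decide)
  · exact absurd hb (by decide)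
  · exact absurd hd (by decide)
  · exact absurd hb (by decide)
  · exact ch_2_5_1_3_6
  · exact ch_2_5_1_3_7
  · exact ch_2_5_1_3_8
  · exact ch_2_5_1_3_9
  · exact ch_2_5_1_3_10

set_option maxRecDepth 100000 in
theorem ch_2_5_1_4_3 : enum 11 ck11 2 5 3413280 63 6 3 = true := by
  decide +kernel

set_option maxRecDepth 100000 in
theorem ch_2_5_1_4_6 : enum 11 ck11 2 5 6559008 119 6 6 = true := by
  decide +kernel

set_option maxRecDepth 100000 in
theorem ch_2_5_1_4_7 : enum 11 ck11 2 5 7607584 183 6 7 = true := by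
  decide +kernel

set_option maxRecDepth 100000 in
theorem ch_2_5_1_4_8 : enum 11 ck11 2 5 8656160 311 6 8 = true := by
  decide +kernel

set_option maxRecDepth 100000 in
theorem ch_2_5_1_4_9 : enum 11 ck11 2 5 9704736 567 6 9 = true := by
  decide +kernel

set_option maxRecDepth 100000 in
theorem ch_2_5_1_4_10 : enum 11 ck11 2 5 10753312 1079 6 10 = true := by
  decide +kernel

theorem ch_2_5_1_4 : enum 11 ck11 2 6 267552 55 5 4 = true := by
  refine enum_intro 11 ck11 2 5 267552 55 5 4 ?_
  intro v hv hb hd
  interval_cases v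
  · exact absurd hb (by decide)
  · exact absurd hb (by decide)
  · exact absurd hb (by decide)
  · exact ch_2_5_1_4_3
  · exact absurd hb (by decide)
  · exact absurd hb (by decide)
  · exact ch_2_5_1_4_6
  · exact ch_2_5_1_4_7
  · exact ch_2_5_1_4_8
  · exact ch_2_5_1_4_9
  · exact ch_2_5_1_4_10

set_option maxRecDepth 100000 in
theorem ch_2_5_1_6_3 : enum 11 ck11 2 5 3544352 111 6 3 = true := by
  decide +kernel

set_option maxRecDepth 100000 in
theorem ch_2_5_1_6_4 : enum 11 ck11 2 5 4592928 119 6 4 = true := by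
  decide +kernel

set_option maxRecDepth 100000 in
theorem ch_2_5_1_6_8 : enum 11 ck11 2 5 8787232 359 6 8 = true := by
  decide +kernel

set_option maxRecDepth 100000 in
theorem ch_2_5_1_6_9 : enum 11 ck11 2 5 9835808 615 6 9 = true := by
  decide +kernel

set_option maxRecDepth 100000 in
theorem ch_2_5_1_6_10 : enum 11 ck11 2 5 10884384 1127 6 10 = true := by
  decide +kernel

theorem ch_2_5_1_6 : enum 11 ck11 2 6 398624 103 5 6 = true := by
  refine enum_intro 11 ck11 2 5 398624 103 5 6 ?_
  intro v hv hb hd
  interval_cases v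
  · exact absurd hb (by decide)
  · exact absurd hb (by decide)
  · exact absurd hb (by decide)
  · exact ch_2_5_1_6_3
  · exact ch_2_5_1_6_4
  · exact absurd hb (by decide)
  · exact absurd hb (by decide)
  · exact absurd hd (by decide)
  · exact ch_2_5_1_6_8
  · exact ch_2_5_1_6_9
  · exact ch_2_5_1_6_10

set_option maxRecDepth 100000 in
theorem ch_2_5_1_7_3 : enum 11 ck11 2 5 3609888 175 6 3 = true := by
  decide +kernel

set_option maxRecDepth 100000 in
theorem ch_2_5_1_7_4 : enum 11 ck11 2 5 4658464 183 6 4 = true := by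
  decide +kernel

set_option maxRecDepth 100000 in
theorem ch_2_5_1_7_6 : enum 11 ck11 2 5 6755616 231 6 6 = true := by
  decide +kernel

set_option maxRecDepth 100000 in
theorem ch_2_5_1_7_9 : enum 11 ck11 2 5 9901344 679 6 9 = true := by
  decide +kernel

set_option maxRecDepth 100000 in
theorem ch_2_5_1_7_10 : enum 11 ck11 2 5 10949920 1191 6 10 = true := by
  decide +kernel

theorem ch_2_5_1_7 : enum 11 ck11 2 6 464160 167 5 7 = true := by
  refine enum_intro 11 ck11 2 5 464160 167 5 7 ?_
  intro v hv hb hd
  interval_cases v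
  · exact absurd hb (by decide)
  · exact absurd hb (by decide)
  · exact absurd hb (by decide)
  · exact ch_2_5_1_7_3
  · exact ch_2_5_1_7_4
  · exact absurd hb (by decide)
  · exact ch_2_5_1_7_6
  · exact absurd hb (by decide)
  · exact absurd hd (by decide)
  · exact ch_2_5_1_7_9
  · exact ch_2_5_1_7_10

set_option maxRecDepth 100000 in
theorem ch_2_5_1_8_3 : enum 11 ck11 2 5 3675424 303 6 3 = true := by
  decide +kernel

set_option maxRecDepth 100000 in
theorem ch_2_5_1_8_4 : enum 11 ck11 2 5 4724000 311 6 4 = true := by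
  decide +kernel

set_option maxRecDepth 100000 in
theorem ch_2_5_1_8_6 : enum 11 ck11 2 5 6821152 359 6 6 = true := by
  decide +kernel

set_option maxRecDepth 100000 in
theorem ch_2_5_1_8_7 : enum 11 ck11 2 5 7869728 423 6 7 = true := by
  decide +kernel

set_option maxRecDepth 100000 in
theorem ch_2_5_1_8_10 : enum 11 ck11 2 5 11015456 1319 6 10 = true := by
  decide +kernel

theorem ch_2_5_1_8 : enum 11 ck11 2 6 529696 295 5 8 = true := by
  refine enum_intro 11 ck11 2 5 529696 295 5 8 ?_
  intro v hv hb hd
  interval_cases v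
  · exact absurd hb (by decide)
  · exact absurd hb (by decide)
  · exact absurd hb (by decide)
  · exact ch_2_5_1_8_3
  · exact ch_2_5_1_8_4
  · exact absurd hb (by decide)
  · exact ch_2_5_1_8_6
  · exact ch_2_5_1_8_7
  · exact absurd hb (by decide)
  · exact absurd hd (by decide)
  · exact ch_2_5_1_8_10

set_option maxRecDepth 100000 in
theorem ch_2_5_1_9_3 : enum 11 ck11 2 5 3740960 559 6 3 = true := by
  decide +kernel

set_option maxRecDepth 100000 in
theorem ch_2_5_1_9_4 : enum 11 ck11 2 5 4789536 567 6 4 = true := by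
  decide +kernel

set_option maxRecDepth 100000 in
theorem ch_2_5_1_9_6 : enum 11 ck11 2 5 6886688 615 6 6 = true := by
  decide +kernel

set_option maxRecDepth 100000 in
theorem ch_2_5_1_9_7 : enum 11 ck11 2 5 7935264 679 6 7 = true := by
  decide +kernel

set_option maxRecDepth 100000 in
theorem ch_2_5_1_9_8 : enum 11 ck11 2 5 8983840 807 6 8 = true := by
  decide +kernel

theorem ch_2_5_1_9 : enum 11 ck11 2 6 595232 551 5 9 = true := by
  refine enum_intro 11 ck11 2 5 595232 551 5 9 ?_
  intro v hv hb hd
  interval_cases v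
  · exact absurd hb (by decide)
  · exact absurd hb (by decide)
  · exact absurd hb (by decide)
  · exact ch_2_5_1_9_3
  · exact ch_2_5_1_9_4
  · exact absurd hb (by decide)
  · exact ch_2_5_1_9_6
  · exact ch_2_5_1_9_7
  · exact ch_2_5_1_9_8
  · exact absurd hb (by decide)
  · exact absurd hd (by decide)

set_option maxRecDepth 100000 in
theorem ch_2_5_1_10_3 : enum 11 ck11 2 5 3806496 1071 6 3 = true := by
  decide +kernel

set_option maxRecDepth 100000 in
theorem ch_2_5_1_10_4 : enum 11 ck11 2 5 4855072 1079 6 4 = true := by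
  decide +kernel

set_option maxRecDepth 100000 in
theorem ch_2_5_1_10_6 : enum 11 ck11 2 5 6952224 1127 6 6 = true := by
  decide +kernel

set_option maxRecDepth 100000 in
theorem ch_2_5_1_10_7 : enum 11 ck11 2 5 8000800 1191 6 7 = true := by
  decide +kernel

set_option maxRecDepth 100000 in
theorem ch_2_5_1_10_8 : enum 11 ck11 2 5 9049376 1319 6 8 = true := by
  decide +kernel

set_option maxRecDepth 100000 in
theorem ch_2_5_1_10_9 : enum 11 ck11 2 5 10097952 1575 6 9 = true := by
  decide +kernel

theorem ch_2_5_1_10 : enum 11 ck11 2 6 660768 1063 5 10 = true := by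
  refine enum_intro 11 ck11 2 5 660768 1063 5 10 ?_
  intro v hv hb hd
  interval_cases v
  · exact absurd hb (by decide)
  · exact absurd hb (by decide)
  · exact absurd hb (by decide)
  · exact ch_2_5_1_10_3
  · exact ch_2_5_1_10_4
  · exact absurd hb (by decide)
  · exact ch_2_5_1_10_6
  · exact ch_2_5_1_10_7
  · exact ch_2_5_1_10_8
  · exact ch_2_5_1_10_9
  · exact absurd hb (by decide)

theorem ch_2_5_1 : enum 11 ck11 2 7 5408 39 4 1 = true := by
  refine enum_intro 11 ck11 2 6 5408 39 4 1 ?_
  intro v hv hb hd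
  interval_cases v
  · exact absurd hb (by decide)
  · exact absurd hb (by decide)
  · exact absurd hb (by decide)
  · exact ch_2_5_1_3
  · exact ch_2_5_1_4
  · exact absurd hb (by decide)
  · exact ch_2_5_1_6
  · exact ch_2_5_1_7
  · exact ch_2_5_1_8
  · exact ch_2_5_1_9
  · exact ch_2_5_1_10

set_option maxRecDepth 100000 in
theorem ch_2_5_3_1_4 : enum 11 ck11 2 5 4273440 63 6 4 = true := by
  decide +kernel

set_option maxRecDepth 100000 in
theorem ch_2_5_3_1_6 : enum 11 ck11 2 5 6370592 111 6 6 = true := by
  decide +kernel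

set_option maxRecDepth 100000 in
theorem ch_2_5_3_1_7 : enum 11 ck11 2 5 7419168 175 6 7 = true := by
  decide +kernel

set_option maxRecDepth 100000 in
theorem ch_2_5_3_1_8 : enum 11 ck11 2 5 8467744 303 6 8 = true := by
  decide +kernel

set_option maxRecDepth 100000 in
theorem ch_2_5_3_1_9 : enum 11 ck11 2 5 9516320 559 6 9 = true := by
  decide +kernel

set_option maxRecDepth 100000 in
theorem ch_2_5_3_1_10 : enum 11 ck11 2 5 10564896 1071 6 10 = true := by
  decide +kernel

theorem ch_2_5_3_1 : enum 11 ck11 2 6 79136 47 5 1 = true := by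
  refine enum_intro 11 ck11 2 5 79136 47 5 1 ?_
  intro v hv hb hd
  interval_cases v
  · exact absurd hb (by decide)
  · exact absurd hb (by decide)
  · exact absurd hb (by decide)
  · exact absurd hb (by decide)
  · exact ch_2_5_3_1_4
  · exact absurd hb (by decide)
  · exact ch_2_5_3_1_6
  · exact ch_2_5_3_1_7
  · exact ch_2_5_3_1_8
  · exact ch_2_5_3_1_9
  · exact ch_2_5_3_1_10

set_option maxRecDepth 100000 in
theorem ch_2_5_3_6_1 : enum 11 ck11 2 5 1455392 111 6 1 = true := by
  decide +kernel

set_option maxRecDepth 100000 in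
theorem ch_2_5_3_6_4 : enum 11 ck11 2 5 4601120 125 6 4 = true := by
  decide +kernel

set_option maxRecDepth 100000 in
theorem ch_2_5_3_6_8 : enum 11 ck11 2 5 8795424 365 6 8 = true := by
  decide +kernel

set_option maxRecDepth 100000 in
theorem ch_2_5_3_6_9 : enum 11 ck11 2 5 9844000 621 6 9 = true := by
  decide +kernel

set_option maxRecDepth 100000 in
theorem ch_2_5_3_6_10 : enum 11 ck11 2 5 10892576 1133 6 10 = true := by
  decide +kernel

theorem ch_2_5_3_6 : enum 11 ck11 2 6 406816 109 5 6 = true := by
  refine enum_intro 11 ck11 2 5 406816 109 5 6 ?_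
  intro v hv hb hd
  interval_cases v
  · exact absurd hb (by decide)
  · exact ch_2_5_3_6_1
  · exact absurd hb (by decide)
  · exact absurd hb (by decide)
  · exact ch_2_5_3_6_4
  · exact absurd hb (by decide)
  · exact absurd hb (by decide)
  · exact absurd hd (by decide)
  · exact ch_2_5_3_6_8
  · exact ch_2_5_3_6_9
  · exact ch_2_5_3_6_10

set_option maxRecDepth 100000 in
theorem ch_2_5_3_7_1 : enum 11 ck11 2 5 1520928 175 6 1 = true := by
  decide +kernel

set_option maxRecDepth 100000 in
theorem ch_2_5_3_7_4 : enum 11 ck11 2 5 4666656 189 6 4 = true := by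
  decide +kernel

set_option maxRecDepth 100000 in
theorem ch_2_5_3_7_6 : enum 11 ck11 2 5 6763808 237 6 6 = true := by
  decide +kernel

set_option maxRecDepth 100000 in
theorem ch_2_5_3_7_9 : enum 11 ck11 2 5 9909536 685 6 9 = true := by
  decide +kernel

set_option maxRecDepth 100000 in
theorem ch_2_5_3_7_10 : enum 11 ck11 2 5 10958112 1197 6 10 = true := by
  decide +kernel

theorem ch_2_5_3_7 : enum 11 ck11 2 6 472352 173 5 7 = true := by
  refine enum_intro 11 ck11 2 5 472352 173 5 7 ?_
  intro v hv hb hd
  interval_cases v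
  · exact absurd hb (by decide)
  · exact ch_2_5_3_7_1
  · exact absurd hb (by decide)
  · exact absurd hb (by decide)
  · exact ch_2_5_3_7_4
  · exact absurd hb (by decide)
  · exact ch_2_5_3_7_6
  · exact absurd hb (by decide)
  · exact absurd hd (by decide)
  · exact ch_2_5_3_7_9
  · exact ch_2_5_3_7_10

set_option maxRecDepth 100000 in
theorem ch_2_5_3_8_1 : enum 11 ck11 2 5 1586464 303 6 1 = true := by
  decide +kernel

set_option maxRecDepth 100000 in
theorem ch_2_5_3_8_4 : enum 11 ck11 2 5 4732192 317 6 4 = true := by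
  decide +kernel

set_option maxRecDepth 100000 in
theorem ch_2_5_3_8_6 : enum 11 ck11 2 5 6829344 365 6 6 = true := by
  decide +kernel

set_option maxRecDepth 100000 in
theorem ch_2_5_3_8_7 : enum 11 ck11 2 5 7877920 429 6 7 = true := by
  decide +kernel

set_option maxRecDepth 100000 in
theorem ch_2_5_3_8_10 : enum 11 ck11 2 5 11023648 1325 6 10 = true := by
  decide +kernel

theorem ch_2_5_3_8 : enum 11 ck11 2 6 537888 301 5 8 = true := by
  refine enum_intro 11 ck11 2 5 537888 301 5 8 ?_
  intro v hv hb hd
  interval_cases v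
  · exact absurd hb (by decide)
  · exact ch_2_5_3_8_1
  · exact absurd hb (by decide)
  · exact absurd hb (by decide)
  · exact ch_2_5_3_8_4
  · exact absurd hb (by decide)
  · exact ch_2_5_3_8_6
  · exact ch_2_5_3_8_7
  · exact absurd hb (by decide)
  · exact absurd hd (by decide)
  · exact ch_2_5_3_8_10

set_option maxRecDepth 100000 in
theorem ch_2_5_3_9_1 : enum 11 ck11 2 5 1652000 559 6 1 = true := by
  decide +kernel

set_option maxRecDepth 100000 in
theorem ch_2_5_3_9_4 : enum 11 ck11 2 5 4797728 573 6 4 = true := by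
  decide +kernel

set_option maxRecDepth 100000 in
theorem ch_2_5_3_9_6 : enum 11 ck11 2 5 6894880 621 6 6 = true := by
  decide +kernel

set_option maxRecDepth 100000 in
theorem ch_2_5_3_9_7 : enum 11 ck11 2 5 7943456 685 6 7 = true := by
  decide +kernel

set_option maxRecDepth 100000 in
theorem ch_2_5_3_9_8 : enum 11 ck11 2 5 8992032 813 6 8 = true := by
  decide +kernel

theorem ch_2_5_3_9 : enum 11 ck11 2 6 603424 557 5 9 = true := by
  refine enum_intro 11 ck11 2 5 603424 557 5 9 ?_
  intro v hv hb hd
  interval_cases v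
  · exact absurd hb (by decide)
  · exact ch_2_5_3_9_1
  · exact absurd hb (by decide)
  · exact absurd hb (by decide)
  · exact ch_2_5_3_9_4
  · exact absurd hb (by decide)
  · exact ch_2_5_3_9_6
  · exact ch_2_5_3_9_7
  · exact ch_2_5_3_9_8
  · exact absurd hb (by decide)
  · exact absurd hd (by decide)

set_option maxRecDepth 100000 in
theorem ch_2_5_3_10_1 : enum 11 ck11 2 5 1717536 1071 6 1 = true := by
  decide +kernel

set_option maxRecDepth 100000 in
theorem ch_2_5_3_10_4 : enum 11 ck11 2 5 4863264 1085 6 4 = true := by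
  decide +kernel

set_option maxRecDepth 100000 in
theorem ch_2_5_3_10_6 : enum 11 ck11 2 5 6960416 1133 6 6 = true := by
  decide +kernel

set_option maxRecDepth 100000 in
theorem ch_2_5_3_10_7 : enum 11 ck11 2 5 8008992 1197 6 7 = true := by
  decide +kernel

set_option maxRecDepth 100000 in
theorem ch_2_5_3_10_8 : enum 11 ck11 2 5 9057568 1325 6 8 = true := by
  decide +kernel

set_option maxRecDepth 100000 in
theorem ch_2_5_3_10_9 : enum 11 ck11 2 5 10106144 1581 6 9 = true := by
  decide +kernel

theorem ch_2_5_3_10 : enum 11 ck11 2 6 668960 1069 5 10 = true := by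
  refine enum_intro 11 ck11 2 5 668960 1069 5 10 ?_
  intro v hv hb hd
  interval_cases v
  · exact absurd hb (by decide)
  · exact ch_2_5_3_10_1
  · exact absurd hb (by decide)
  · exact absurd hb (by decide)
  · exact ch_2_5_3_10_4
  · exact absurd hb (by decide)
  · exact ch_2_5_3_10_6
  · exact ch_2_5_3_10_7
  · exact ch_2_5_3_10_8
  · exact ch_2_5_3_10_9
  · exact absurd hb (by decide)

theorem ch_2_5_3 : enum 11 ck11 2 7 13600 45 4 3 = true := by
  refine enum_intro 11 ck11 2 6 13600 45 4 3 ?_
  intro v hv hb hd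
  interval_cases v
  · exact absurd hb (by decide)
  · exact ch_2_5_3_1
  · exact absurd hb (by decide)
  · exact absurd hb (by decide)
  · exact absurd hd (by decide)
  · exact absurd hb (by decide)
  · exact ch_2_5_3_6
  · exact ch_2_5_3_7
  · exact ch_2_5_3_8
  · exact ch_2_5_3_9
  · exact ch_2_5_3_10

set_option maxRecDepth 100000 in
theorem ch_2_5_4_1_3 : enum 11 ck11 2 5 3228960 63 6 3 = true := by
  decide +kernel

set_option maxRecDepth 100000 in
theorem ch_2_5_4_1_6 : enum 11 ck11 2 5 6374688 119 6 6 = true := by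
  decide +kernel

set_option maxRecDepth 100000 in
theorem ch_2_5_4_1_7 : enum 11 ck11 2 5 7423264 183 6 7 = true := by
  decide +kernel

set_option maxRecDepth 100000 in
theorem ch_2_5_4_1_8 : enum 11 ck11 2 5 8471840 311 6 8 = true := by
  decide +kernel

set_option maxRecDepth 100000 in
theorem ch_2_5_4_1_9 : enum 11 ck11 2 5 9520416 567 6 9 = true := by
  decide +kernel

set_option maxRecDepth 100000 in
theorem ch_2_5_4_1_10 : enum 11 ck11 2 5 10568992 1079 6 10 = true := by
  decide +kernel

theorem ch_2_5_4_1 : enum 11 ck11 2 6 83232 55 5 1 = true := by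
  refine enum_intro 11 ck11 2 5 83232 55 5 1 ?_
  intro v hv hb hd
  interval_cases v
  · exact absurd hb (by decide)
  · exact absurd hb (by decide)
  · exact absurd hb (by decide)
  · exact ch_2_5_4_1_3
  · exact absurd hb (by decide)
  · exact absurd hb (by decide)
  · exact ch_2_5_4_1_6
  · exact ch_2_5_4_1_7
  · exact ch_2_5_4_1_8
  · exact ch_2_5_4_1_9
  · exact ch_2_5_4_1_10

set_option maxRecDepth 100000 in
theorem ch_2_5_4_3_1 : enum 11 ck11 2 5 1262880 63 6 1 = true := by
  decide +kernel

set_option maxRecDepth 100000 in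
theorem ch_2_5_4_3_6 : enum 11 ck11 2 5 6505760 125 6 6 = true := by
  decide +kernel

set_option maxRecDepth 100000 in
theorem ch_2_5_4_3_7 : enum 11 ck11 2 5 7554336 189 6 7 = true := by
  decide +kernel

set_option maxRecDepth 100000 in
theorem ch_2_5_4_3_8 : enum 11 ck11 2 5 8602912 317 6 8 = true := by
  decide +kernel

set_option maxRecDepth 100000 in
theorem ch_2_5_4_3_9 : enum 11 ck11 2 5 9651488 573 6 9 = true := by
  decide +kernel

set_option maxRecDepth 100000 in
theorem ch_2_5_4_3_10 : enum 11 ck11 2 5 10700064 1085 6 10 = true := by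
  decide +kernel

theorem ch_2_5_4_3 : enum 11 ck11 2 6 214304 61 5 3 = true := by
  refine enum_intro 11 ck11 2 5 214304 61 5 3 ?_
  intro v hv hb hd
  interval_cases v
  · exact absurd hb (by decide)
  · exact ch_2_5_4_3_1
  · exact absurd hb (by decide)
  · exact absurd hb (by decide)
  · exact absurd hb (by decide)
  · exact absurd hb (by decide)
  · exact ch_2_5_4_3_6
  · exact ch_2_5_4_3_7
  · exact ch_2_5_4_3_8
  · exact ch_2_5_4_3_9
  · exact ch_2_5_4_3_10

set_option maxRecDepth 100000 in
theorem ch_2_5_4_6_1 : enum 11 ck11 2 5 1459488 119 6 1 = true := by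
  decide +kernel

set_option maxRecDepth 100000 in
theorem ch_2_5_4_6_3 : enum 11 ck11 2 5 3556640 125 6 3 = true := by
  decide +kernel

set_option maxRecDepth 100000 in
theorem ch_2_5_4_6_8 : enum 11 ck11 2 5 8799520 373 6 8 = true := by
  decide +kernel

set_option maxRecDepth 100000 in
theorem ch_2_5_4_6_9 : enum 11 ck11 2 5 9848096 629 6 9 = true := by
  decide +kernel

set_option maxRecDepth 100000 in
theorem ch_2_5_4_6_10 : enum 11 ck11 2 5 10896672 1141 6 10 = true := by
  decide +kernel

theorem ch_2_5_4_6 : enum 11 ck11 2 6 410912 117 5 6 = true := by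
  refine enum_intro 11 ck11 2 5 410912 117 5 6 ?_
  intro v hv hb hd
  interval_cases v
  · exact absurd hb (by decide)
  · exact ch_2_5_4_6_1
  · exact absurd hb (by decide)
  · exact ch_2_5_4_6_3
  · exact absurd hb (by decide)
  · exact absurd hb (by decide)
  · exact absurd hb (by decide)
  · exact absurd hd (by decide)
  · exact ch_2_5_4_6_8
  · exact ch_2_5_4_6_9
  · exact ch_2_5_4_6_10

set_option maxRecDepth 100000 in
theorem ch_2_5_4_7_1 : enum 11 ck11 2 5 1525024 183 6 1 = true := by
  decide +kernel

set_option maxRecDepth 100000 in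
theorem ch_2_5_4_7_3 : enum 11 ck11 2 5 3622176 189 6 3 = true := by
  decide +kernel

set_option maxRecDepth 100000 in
theorem ch_2_5_4_7_6 : enum 11 ck11 2 5 6767904 245 6 6 = true := by
  decide +kernel

set_option maxRecDepth 100000 in
theorem ch_2_5_4_7_9 : enum 11 ck11 2 5 9913632 693 6 9 = true := by
  decide +kernel

set_option maxRecDepth 100000 in
theorem ch_2_5_4_7_10 : enum 11 ck11 2 5 10962208 1205 6 10 = true := by
  decide +kernel

theorem ch_2_5_4_7 : enum 11 ck11 2 6 476448 181 5 7 = true := by
  refine enum_intro 11 ck11 2 5 476448 181 5 7 ?_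
  intro v hv hb hd
  interval_cases v
  · exact absurd hb (by decide)
  · exact ch_2_5_4_7_1
  · exact absurd hb (by decide)
  · exact ch_2_5_4_7_3
  · exact absurd hb (by decide)
  · exact absurd hb (by decide)
  · exact ch_2_5_4_7_6
  · exact absurd hb (by decide)
  · exact absurd hd (by decide)
  · exact ch_2_5_4_7_9
  · exact ch_2_5_4_7_10

set_option maxRecDepth 100000 in
theorem ch_2_5_4_8_1 : enum 11 ck11 2 5 1590560 311 6 1 = true := by
  decide +kernel

set_option maxRecDepth 100000 in
theorem ch_2_5_4_8_3 : enum 11 ck11 2 5 3687712 317 6 3 = true := by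
  decide +kernel

set_option maxRecDepth 100000 in
theorem ch_2_5_4_8_6 : enum 11 ck11 2 5 6833440 373 6 6 = true := by
  decide +kernel

set_option maxRecDepth 100000 in
theorem ch_2_5_4_8_7 : enum 11 ck11 2 5 7882016 437 6 7 = true := by
  decide +kernel

set_option maxRecDepth 100000 in
theorem ch_2_5_4_8_10 : enum 11 ck11 2 5 11027744 1333 6 10 = true := by
  decide +kernel

theorem ch_2_5_4_8 : enum 11 ck11 2 6 541984 309 5 8 = true := by
  refine enum_intro 11 ck11 2 5 541984 309 5 8 ?_
  intro v hv hb hd
  interval_cases v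
  · exact absurd hb (by decide)
  · exact ch_2_5_4_8_1
  · exact absurd hb (by decide)
  · exact ch_2_5_4_8_3
  · exact absurd hb (by decide)
  · exact absurd hb (by decide)
  · exact ch_2_5_4_8_6
  · exact ch_2_5_4_8_7
  · exact absurd hb (by decide)
  · exact absurd hd (by decide)
  · exact ch_2_5_4_8_10

set_option maxRecDepth 100000 in
theorem ch_2_5_4_9_1 : enum 11 ck11 2 5 1656096 567 6 1 = true := by
  decide +kernel

set_option maxRecDepth 100000 in
theorem ch_2_5_4_9_3 : enum 11 ck11 2 5 3753248 573 6 3 = true := by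
  decide +kernel

set_option maxRecDepth 100000 in
theorem ch_2_5_4_9_6 : enum 11 ck11 2 5 6898976 629 6 6 = true := by
  decide +kernel

set_option maxRecDepth 100000 in
theorem ch_2_5_4_9_7 : enum 11 ck11 2 5 7947552 693 6 7 = true := by
  decide +kernel

set_option maxRecDepth 100000 in
theorem ch_2_5_4_9_8 : enum 11 ck11 2 5 8996128 821 6 8 = true := by
  decide +kernel

theorem ch_2_5_4_9 : enum 11 ck11 2 6 607520 565 5 9 = true := by
  refine enum_intro 11 ck11 2 5 607520 565 5 9 ?_
  intro v hv hb hd
  interval_cases v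
  · exact absurd hb (by decide)
  · exact ch_2_5_4_9_1
  · exact absurd hb (by decide)
  · exact ch_2_5_4_9_3
  · exact absurd hb (by decide)
  · exact absurd hb (by decide)
  · exact ch_2_5_4_9_6
  · exact ch_2_5_4_9_7
  · exact ch_2_5_4_9_8
  · exact absurd hb (by decide)
  · exact absurd hd (by decide)

set_option maxRecDepth 100000 in
theorem ch_2_5_4_10_1 : enum 11 ck11 2 5 1721632 1079 6 1 = true := by
  decide +kernel

set_option maxRecDepth 100000 in
theorem ch_2_5_4_10_3 : enum 11 ck11 2 5 3818784 1085 6 3 = true := by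
  decide +kernel

set_option maxRecDepth 100000 in
theorem ch_2_5_4_10_6 : enum 11 ck11 2 5 6964512 1141 6 6 = true := by
  decide +kernel

set_option maxRecDepth 100000 in
theorem ch_2_5_4_10_7 : enum 11 ck11 2 5 8013088 1205 6 7 = true := by
  decide +kernel

set_option maxRecDepth 100000 in
theorem ch_2_5_4_10_8 : enum 11 ck11 2 5 9061664 1333 6 8 = true := by
  decide +kernel

set_option maxRecDepth 100000 in
theorem ch_2_5_4_10_9 : enum 11 ck11 2 5 10110240 1589 6 9 = true := by
  decide +kernel

theorem ch_2_5_4_10 : enum 11 ck11 2 6 673056 1077 5 10 = true := by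
  refine enum_intro 11 ck11 2 5 673056 1077 5 10 ?_
  intro v hv hb hd
  interval_cases v
  · exact absurd hb (by decide)
  · exact ch_2_5_4_10_1
  · exact absurd hb (by decide)
  · exact ch_2_5_4_10_3
  · exact absurd hb (by decide)
  · exact absurd hb (by decide)
  · exact ch_2_5_4_10_6
  · exact ch_2_5_4_10_7
  · exact ch_2_5_4_10_8
  · exact ch_2_5_4_10_9
  · exact absurd hb (by decide)

theorem ch_2_5_4 : enum 11 ck11 2 7 17696 53 4 4 = true := by
  refine enum_intro 11 ck11 2 6 17696 53 4 4 ?_
  intro v hv hb hd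
  interval_cases v
  · exact absurd hb (by decide)
  · exact ch_2_5_4_1
  · exact absurd hb (by decide)
  · exact ch_2_5_4_3
  · exact absurd hb (by decide)
  · exact absurd hb (by decide)
  · exact ch_2_5_4_6
  · exact ch_2_5_4_7
  · exact ch_2_5_4_8
  · exact ch_2_5_4_9
  · exact ch_2_5_4_10

set_option maxRecDepth 100000 in
theorem ch_2_5_7_1_3 : enum 11 ck11 2 5 3241248 175 6 3 = true := by
  decide +kernel

set_option maxRecDepth 100000 in
theorem ch_2_5_7_1_4 : enum 11 ck11 2 5 4289824 183 6 4 = true := by
  decide +kernel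

set_option maxRecDepth 100000 in
theorem ch_2_5_7_1_6 : enum 11 ck11 2 5 6386976 231 6 6 = true := by
  decide +kernel

set_option maxRecDepth 100000 in
theorem ch_2_5_7_1_8 : enum 11 ck11 2 5 8484128 423 6 8 = true := by
  decide +kernel

set_option maxRecDepth 100000 in
theorem ch_2_5_7_1_9 : enum 11 ck11 2 5 9532704 679 6 9 = true := by
  decide +kernel

set_option maxRecDepth 100000 in
theorem ch_2_5_7_1_10 : enum 11 ck11 2 5 10581280 1191 6 10 = true := by
  decide +kernel

theorem ch_2_5_7_1 : enum 11 ck11 2 6 95520 167 5 1 = true := by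
  refine enum_intro 11 ck11 2 5 95520 167 5 1 ?_
  intro v hv hb hd
  interval_cases v
  · exact absurd hb (by decide)
  · exact absurd hb (by decide)
  · exact absurd hb (by decide)
  · exact ch_2_5_7_1_3
  · exact ch_2_5_7_1_4
  · exact absurd hb (by decide)
  · exact ch_2_5_7_1_6
  · exact absurd hb (by decide)
  · exact ch_2_5_7_1_8
  · exact ch_2_5_7_1_9
  · exact ch_2_5_7_1_10

set_option maxRecDepth 100000 in
theorem ch_2_5_7_3_1 : enum 11 ck11 2 5 1275168 175 6 1 = true := by
  decide +kernel

set_option maxRecDepth 100000 in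
theorem ch_2_5_7_3_6 : enum 11 ck11 2 5 6518048 237 6 6 = true := by
  decide +kernel

set_option maxRecDepth 100000 in
theorem ch_2_5_7_3_8 : enum 11 ck11 2 5 8615200 429 6 8 = true := by
  decide +kernel

set_option maxRecDepth 100000 in
theorem ch_2_5_7_3_9 : enum 11 ck11 2 5 9663776 685 6 9 = true := by
  decide +kernel

set_option maxRecDepth 100000 in
theorem ch_2_5_7_3_10 : enum 11 ck11 2 5 10712352 1197 6 10 = true := by
  decide +kernel

theorem ch_2_5_7_3 : enum 11 ck11 2 6 226592 173 5 3 = true := by
  refine enum_intro 11 ck11 2 5 226592 173 5 3 ?_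
  intro v hv hb hd
  interval_cases v
  · exact absurd hb (by decide)
  · exact ch_2_5_7_3_1
  · exact absurd hb (by decide)
  · exact absurd hb (by decide)
  · exact absurd hd (by decide)
  · exact absurd hb (by decide)
  · exact ch_2_5_7_3_6
  · exact absurd hb (by decide)
  · exact ch_2_5_7_3_8
  · exact ch_2_5_7_3_9
  · exact ch_2_5_7_3_10

set_option maxRecDepth 100000 in
theorem ch_2_5_7_4_1 : enum 11 ck11 2 5 1340704 183 6 1 = true := by
  decide +kernel

set_option maxRecDepth 100000 in
theorem ch_2_5_7_4_3 : enum 11 ck11 2 5 3437856 189 6 3 = true := by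
  decide +kernel

set_option maxRecDepth 100000 in
theorem ch_2_5_7_4_6 : enum 11 ck11 2 5 6583584 245 6 6 = true := by
  decide +kernel

set_option maxRecDepth 100000 in
theorem ch_2_5_7_4_8 : enum 11 ck11 2 5 8680736 437 6 8 = true := by
  decide +kernel

set_option maxRecDepth 100000 in
theorem ch_2_5_7_4_9 : enum 11 ck11 2 5 9729312 693 6 9 = true := by
  decide +kernel

set_option maxRecDepth 100000 in
theorem ch_2_5_7_4_10 : enum 11 ck11 2 5 10777888 1205 6 10 = true := by
  decide +kernel

theorem ch_2_5_7_4 : enum 11 ck11 2 6 292128 181 5 4 = true := by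
  refine enum_intro 11 ck11 2 5 292128 181 5 4 ?_
  intro v hv hb hd
  interval_cases v
  · exact absurd hb (by decide)
  · exact ch_2_5_7_4_1
  · exact absurd hb (by decide)
  · exact ch_2_5_7_4_3
  · exact absurd hb (by decide)
  · exact absurd hb (by decide)
  · exact ch_2_5_7_4_6
  · exact absurd hb (by decide)
  · exact ch_2_5_7_4_8
  · exact ch_2_5_7_4_9
  · exact ch_2_5_7_4_10

set_option maxRecDepth 100000 in
theorem ch_2_5_7_6_1 : enum 11 ck11 2 5 1471776 231 6 1 = true := by
  decide +kernel

set_option maxRecDepth 100000 in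
theorem ch_2_5_7_6_3 : enum 11 ck11 2 5 3568928 237 6 3 = true := by
  decide +kernel

set_option maxRecDepth 100000 in
theorem ch_2_5_7_6_4 : enum 11 ck11 2 5 4617504 245 6 4 = true := by
  decide +kernel

set_option maxRecDepth 100000 in
theorem ch_2_5_7_6_8 : enum 11 ck11 2 5 8811808 485 6 8 = true := by
  decide +kernel

set_option maxRecDepth 100000 in
theorem ch_2_5_7_6_9 : enum 11 ck11 2 5 9860384 741 6 9 = true := by
  decide +kernel

set_option maxRecDepth 100000 in
theorem ch_2_5_7_6_10 : enum 11 ck11 2 5 10908960 1253 6 10 = true := by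
  decide +kernel

theorem ch_2_5_7_6 : enum 11 ck11 2 6 423200 229 5 6 = true := by
  refine enum_intro 11 ck11 2 5 423200 229 5 6 ?_
  intro v hv hb hd
  interval_cases v
  · exact absurd hb (by decide)
  · exact ch_2_5_7_6_1
  · exact absurd hb (by decide)
  · exact ch_2_5_7_6_3
  · exact ch_2_5_7_6_4
  · exact absurd hb (by decide)
  · exact absurd hb (by decide)
  · exact absurd hb (by decide)
  · exact ch_2_5_7_6_8
  · exact ch_2_5_7_6_9
  · exact ch_2_5_7_6_10

set_option maxRecDepth 100000 in
theorem ch_2_5_7_9_1 : enum 11 ck11 2 5 1668384 679 6 1 = true := by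
  decide +kernel

set_option maxRecDepth 100000 in
theorem ch_2_5_7_9_3 : enum 11 ck11 2 5 3765536 685 6 3 = true := by
  decide +kernel

set_option maxRecDepth 100000 in
theorem ch_2_5_7_9_4 : enum 11 ck11 2 5 4814112 693 6 4 = true := by
  decide +kernel

set_option maxRecDepth 100000 in
theorem ch_2_5_7_9_6 : enum 11 ck11 2 5 6911264 741 6 6 = true := by
  decide +kernel

set_option maxRecDepth 100000 in
theorem ch_2_5_7_9_8 : enum 11 ck11 2 5 9008416 933 6 8 = true := by
  decide +kernel

theorem ch_2_5_7_9 : enum 11 ck11 2 6 619808 677 5 9 = true := by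
  refine enum_intro 11 ck11 2 5 619808 677 5 9 ?_
  intro v hv hb hd
  interval_cases v
  · exact absurd hb (by decide)
  · exact ch_2_5_7_9_1
  · exact absurd hb (by decide)
  · exact ch_2_5_7_9_3
  · exact ch_2_5_7_9_4
  · exact absurd hb (by decide)
  · exact ch_2_5_7_9_6
  · exact absurd hb (by decide)
  · exact ch_2_5_7_9_8
  · exact absurd hb (by decide)
  · exact absurd hd (by decide)

set_option maxRecDepth 100000 in
theorem ch_2_5_7_10_1 : enum 11 ck11 2 5 1733920 1191 6 1 = true := by
  decide +kernel

set_option maxRecDepth 100000 in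
theorem ch_2_5_7_10_3 : enum 11 ck11 2 5 3831072 1197 6 3 = true := by
  decide +kernel

set_option maxRecDepth 100000 in
theorem ch_2_5_7_10_4 : enum 11 ck11 2 5 4879648 1205 6 4 = true := by
  decide +kernel

set_option maxRecDepth 100000 in
theorem ch_2_5_7_10_6 : enum 11 ck11 2 5 6976800 1253 6 6 = true := by
  decide +kernel

set_option maxRecDepth 100000 in
theorem ch_2_5_7_10_8 : enum 11 ck11 2 5 9073952 1445 6 8 = true := by
  decide +kernel

set_option maxRecDepth 100000 in
theorem ch_2_5_7_10_9 : enum 11 ck11 2 5 10122528 1701 6 9 = true := by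
  decide +kernel

theorem ch_2_5_7_10 : enum 11 ck11 2 6 685344 1189 5 10 = true := by
  refine enum_intro 11 ck11 2 5 685344 1189 5 10 ?_
  intro v hv hb hd
  interval_cases v
  · exact absurd hb (by decide)
  · exact ch_2_5_7_10_1
  · exact absurd hb (by decide)
  · exact ch_2_5_7_10_3
  · exact ch_2_5_7_10_4
  · exact absurd hb (by decide)
  · exact ch_2_5_7_10_6
  · exact absurd hb (by decide)
  · exact ch_2_5_7_10_8
  · exact ch_2_5_7_10_9
  · exact absurd hb (by decide)

theorem ch_2_5_7 : enum 11 ck11 2 7 29984 165 4 7 = true := by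
  refine enum_intro 11 ck11 2 6 29984 165 4 7 ?_
  intro v hv hb hd
  interval_cases v
  · exact absurd hb (by decide)
  · exact ch_2_5_7_1
  · exact absurd hb (by decide)
  · exact ch_2_5_7_3
  · exact ch_2_5_7_4
  · exact absurd hb (by decide)
  · exact ch_2_5_7_6
  · exact absurd hb (by decide)
  · exact absurd hd (by decide)
  · exact ch_2_5_7_9
  · exact ch_2_5_7_10

set_option maxRecDepth 100000 in
theorem ch_2_5_8_1_3 : enum 11 ck11 2 5 3245344 303 6 3 = true := by
  decide +kernel

set_option maxRecDepth 100000 in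
theorem ch_2_5_8_1_4 : enum 11 ck11 2 5 4293920 311 6 4 = true := by
  decide +kernel

set_option maxRecDepth 100000 in
theorem ch_2_5_8_1_6 : enum 11 ck11 2 5 6391072 359 6 6 = true := by
  decide +kernel

set_option maxRecDepth 100000 in
theorem ch_2_5_8_1_7 : enum 11 ck11 2 5 7439648 423 6 7 = true := by
  decide +kernel

set_option maxRecDepth 100000 in
theorem ch_2_5_8_1_9 : enum 11 ck11 2 5 9536800 807 6 9 = true := by
  decide +kernel

set_option maxRecDepth 100000 in
theorem ch_2_5_8_1_10 : enum 11 ck11 2 5 10585376 1319 6 10 = true := by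
  decide +kernel

theorem ch_2_5_8_1 : enum 11 ck11 2 6 99616 295 5 1 = true := by
  refine enum_intro 11 ck11 2 5 99616 295 5 1 ?_
  intro v hv hb hd
  interval_cases v
  · exact absurd hb (by decide)
  · exact absurd hb (by decide)
  · exact absurd hb (by decide)
  · exact ch_2_5_8_1_3
  · exact ch_2_5_8_1_4
  · exact absurd hb (by decide)
  · exact ch_2_5_8_1_6
  · exact ch_2_5_8_1_7
  · exact absurd hb (by decide)
  · exact ch_2_5_8_1_9
  · exact ch_2_5_8_1_10

set_option maxRecDepth 100000 in
theorem ch_2_5_8_3_1 : enum 11 ck11 2 5 1279264 303 6 1 = true := by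
  decide +kernel

set_option maxRecDepth 100000 in
theorem ch_2_5_8_3_6 : enum 11 ck11 2 5 6522144 365 6 6 = true := by
  decide +kernel

set_option maxRecDepth 100000 in
theorem ch_2_5_8_3_7 : enum 11 ck11 2 5 7570720 429 6 7 = true := by
  decide +kernel

set_option maxRecDepth 100000 in
theorem ch_2_5_8_3_9 : enum 11 ck11 2 5 9667872 813 6 9 = true := by
  decide +kernel

set_option maxRecDepth 100000 in
theorem ch_2_5_8_3_10 : enum 11 ck11 2 5 10716448 1325 6 10 = true := by
  decide +kernel

theorem ch_2_5_8_3 : enum 11 ck11 2 6 230688 301 5 3 = true := by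
  refine enum_intro 11 ck11 2 5 230688 301 5 3 ?_
  intro v hv hb hd
  interval_cases v
  · exact absurd hb (by decide)
  · exact ch_2_5_8_3_1
  · exact absurd hb (by decide)
  · exact absurd hb (by decide)
  · exact absurd hd (by decide)
  · exact absurd hb (by decide)
  · exact ch_2_5_8_3_6
  · exact ch_2_5_8_3_7
  · exact absurd hb (by decide)
  · exact ch_2_5_8_3_9
  · exact ch_2_5_8_3_10

set_option maxRecDepth 100000 in
theorem ch_2_5_8_4_1 : enum 11 ck11 2 5 1344800 311 6 1 = true := by
  decide +kernel

set_option maxRecDepth 100000 in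
theorem ch_2_5_8_4_3 : enum 11 ck11 2 5 3441952 317 6 3 = true := by
  decide +kernel

set_option maxRecDepth 100000 in
theorem ch_2_5_8_4_6 : enum 11 ck11 2 5 6587680 373 6 6 = true := by
  decide +kernel

set_option maxRecDepth 100000 in
theorem ch_2_5_8_4_7 : enum 11 ck11 2 5 7636256 437 6 7 = true := by
  decide +kernel

set_option maxRecDepth 100000 in
theorem ch_2_5_8_4_9 : enum 11 ck11 2 5 9733408 821 6 9 = true := by
  decide +kernel

set_option maxRecDepth 100000 in
theorem ch_2_5_8_4_10 : enum 11 ck11 2 5 10781984 1333 6 10 = true := by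
  decide +kernel

theorem ch_2_5_8_4 : enum 11 ck11 2 6 296224 309 5 4 = true := by
  refine enum_intro 11 ck11 2 5 296224 309 5 4 ?_
  intro v hv hb hd
  interval_cases v
  · exact absurd hb (by decide)
  · exact ch_2_5_8_4_1
  · exact absurd hb (by decide)
  · exact ch_2_5_8_4_3
  · exact absurd hb (by decide)
  · exact absurd hb (by decide)
  · exact ch_2_5_8_4_6
  · exact ch_2_5_8_4_7
  · exact absurd hb (by decide)
  · exact ch_2_5_8_4_9
  · exact ch_2_5_8_4_10

set_option maxRecDepth 100000 in
theorem ch_2_5_8_6_1 : enum 11 ck11 2 5 1475872 359 6 1 = true := by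
  decide +kernel

set_option maxRecDepth 100000 in
theorem ch_2_5_8_6_3 : enum 11 ck11 2 5 3573024 365 6 3 = true := by
  decide +kernel

set_option maxRecDepth 100000 in
theorem ch_2_5_8_6_4 : enum 11 ck11 2 5 4621600 373 6 4 = true := by
  decide +kernel

set_option maxRecDepth 100000 in
theorem ch_2_5_8_6_9 : enum 11 ck11 2 5 9864480 869 6 9 = true := by
  decide +kernel

set_option maxRecDepth 100000 in
theorem ch_2_5_8_6_10 : enum 11 ck11 2 5 10913056 1381 6 10 = true := by
  decide +kernel

theorem ch_2_5_8_6 : enum 11 ck11 2 6 427296 357 5 6 = true := by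
  refine enum_intro 11 ck11 2 5 427296 357 5 6 ?_
  intro v hv hb hd
  interval_cases v
  · exact absurd hb (by decide)
  · exact ch_2_5_8_6_1
  · exact absurd hb (by decide)
  · exact ch_2_5_8_6_3
  · exact ch_2_5_8_6_4
  · exact absurd hb (by decide)
  · exact absurd hb (by decide)
  · exact absurd hd (by decide)
  · exact absurd hb (by decide)
  · exact ch_2_5_8_6_9
  · exact ch_2_5_8_6_10

set_option maxRecDepth 100000 in
theorem ch_2_5_8_7_1 : enum 11 ck11 2 5 1541408 423 6 1 = true := by
  decide +kernel

set_option maxRecDepth 100000 in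
theorem ch_2_5_8_7_3 : enum 11 ck11 2 5 3638560 429 6 3 = true := by
  decide +kernel

set_option maxRecDepth 100000 in
theorem ch_2_5_8_7_4 : enum 11 ck11 2 5 4687136 437 6 4 = true := by
  decide +kernel

set_option maxRecDepth 100000 in
theorem ch_2_5_8_7_6 : enum 11 ck11 2 5 6784288 485 6 6 = true := by
  decide +kernel

set_option maxRecDepth 100000 in
theorem ch_2_5_8_7_9 : enum 11 ck11 2 5 9930016 933 6 9 = true := by
  decide +kernel

set_option maxRecDepth 100000 in
theorem ch_2_5_8_7_10 : enum 11 ck11 2 5 10978592 1445 6 10 = true := by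
  decide +kernel

theorem ch_2_5_8_7 : enum 11 ck11 2 6 492832 421 5 7 = true := by
  refine enum_intro 11 ck11 2 5 492832 421 5 7 ?_
  intro v hv hb hd
  interval_cases v
  · exact absurd hb (by decide)
  · exact ch_2_5_8_7_1
  · exact absurd hb (by decide)
  · exact ch_2_5_8_7_3
  · exact ch_2_5_8_7_4
  · exact absurd hb (by decide)
  · exact ch_2_5_8_7_6
  · exact absurd hb (by decide)
  · exact absurd hb (by decide)
  · exact ch_2_5_8_7_9
  · exact ch_2_5_8_7_10

set_option maxRecDepth 100000 in
theorem ch_2_5_8_10_1 : enum 11 ck11 2 5 1738016 1319 6 1 = true := by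
  decide +kernel

set_option maxRecDepth 100000 in
theorem ch_2_5_8_10_3 : enum 11 ck11 2 5 3835168 1325 6 3 = true := by
  decide +kernel

set_option maxRecDepth 100000 in
theorem ch_2_5_8_10_4 : enum 11 ck11 2 5 4883744 1333 6 4 = true := by
  decide +kernel

set_option maxRecDepth 100000 in
theorem ch_2_5_8_10_6 : enum 11 ck11 2 5 6980896 1381 6 6 = true := by
  decide +kernel

set_option maxRecDepth 100000 in
theorem ch_2_5_8_10_7 : enum 11 ck11 2 5 8029472 1445 6 7 = true := by
  decide +kernel

set_option maxRecDepth 100000 in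
theorem ch_2_5_8_10_9 : enum 11 ck11 2 5 10126624 1829 6 9 = true := by
  decide +kernel

theorem ch_2_5_8_10 : enum 11 ck11 2 6 689440 1317 5 10 = true := by
  refine enum_intro 11 ck11 2 5 689440 1317 5 10 ?_
  intro v hv hb hd
  interval_cases v
  · exact absurd hb (by decide)
  · exact ch_2_5_8_10_1
  · exact absurd hb (by decide)
  · exact ch_2_5_8_10_3
  · exact ch_2_5_8_10_4
  · exact absurd hb (by decide)
  · exact ch_2_5_8_10_6
  · exact ch_2_5_8_10_7
  · exact absurd hb (by decide)
  · exact ch_2_5_8_10_9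
  · exact absurd hb (by decide)

theorem ch_2_5_8 : enum 11 ck11 2 7 34080 293 4 8 = true := by
  refine enum_intro 11 ck11 2 6 34080 293 4 8 ?_
  intro v hv hb hd
  interval_cases v
  · exact absurd hb (by decide)
  · exact ch_2_5_8_1
  · exact absurd hb (by decide)
  · exact ch_2_5_8_3
  · exact ch_2_5_8_4
  · exact absurd hb (by decide)
  · exact ch_2_5_8_6
  · exact ch_2_5_8_7
  · exact absurd hb (by decide)
  · exact absurd hd (by decide)
  · exact ch_2_5_8_10

set_option maxRecDepth 100000 in
theorem ch_2_5_9_1_3 : enum 11 ck11 2 5 3249440 559 6 3 = true := by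
  decide +kernel

set_option maxRecDepth 100000 in
theorem ch_2_5_9_1_4 : enum 11 ck11 2 5 4298016 567 6 4 = true := by
  decide +kernel

set_option maxRecDepth 100000 in
theorem ch_2_5_9_1_6 : enum 11 ck11 2 5 6395168 615 6 6 = true := by
  decide +kernel

set_option maxRecDepth 100000 in
theorem ch_2_5_9_1_7 : enum 11 ck11 2 5 7443744 679 6 7 = true := by
  decide +kernel

set_option maxRecDepth 100000 in
theorem ch_2_5_9_1_8 : enum 11 ck11 2 5 8492320 807 6 8 = true := by
  decide +kernel

set_option maxRecDepth 100000 in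
theorem ch_2_5_9_1_10 : enum 11 ck11 2 5 10589472 1575 6 10 = true := by
  decide +kernel

theorem ch_2_5_9_1 : enum 11 ck11 2 6 103712 551 5 1 = true := by
  refine enum_intro 11 ck11 2 5 103712 551 5 1 ?_
  intro v hv hb hd
  interval_cases v
  · exact absurd hb (by decide)
  · exact absurd hb (by decide)
  · exact absurd hb (by decide)
  · exact ch_2_5_9_1_3
  · exact ch_2_5_9_1_4
  · exact absurd hb (by decide)
  · exact ch_2_5_9_1_6
  · exact ch_2_5_9_1_7
  · exact ch_2_5_9_1_8
  · exact absurd hb (by decide)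
  · exact ch_2_5_9_1_10

set_option maxRecDepth 100000 in
theorem ch_2_5_9_3_1 : enum 11 ck11 2 5 1283360 559 6 1 = true := by
  decide +kernel

set_option maxRecDepth 100000 in
theorem ch_2_5_9_3_6 : enum 11 ck11 2 5 6526240 621 6 6 = true := by
  decide +kernel

set_option maxRecDepth 100000 in
theorem ch_2_5_9_3_7 : enum 11 ck11 2 5 7574816 685 6 7 = true := by
  decide +kernel

set_option maxRecDepth 100000 in
theorem ch_2_5_9_3_8 : enum 11 ck11 2 5 8623392 813 6 8 = true := by
  decide +kernel

set_option maxRecDepth 100000 in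
theorem ch_2_5_9_3_10 : enum 11 ck11 2 5 10720544 1581 6 10 = true := by
  decide +kernel

theorem ch_2_5_9_3 : enum 11 ck11 2 6 234784 557 5 3 = true := by
  refine enum_intro 11 ck11 2 5 234784 557 5 3 ?_
  intro v hv hb hd
  interval_cases v
  · exact absurd hb (by decide)
  · exact ch_2_5_9_3_1
  · exact absurd hb (by decide)
  · exact absurd hb (by decide)
  · exact absurd hd (by decide)
  · exact absurd hb (by decide)
  · exact ch_2_5_9_3_6
  · exact ch_2_5_9_3_7
  · exact ch_2_5_9_3_8
  · exact absurd hb (by decide)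
  · exact ch_2_5_9_3_10

set_option maxRecDepth 100000 in
theorem ch_2_5_9_4_1 : enum 11 ck11 2 5 1348896 567 6 1 = true := by
  decide +kernel

set_option maxRecDepth 100000 in
theorem ch_2_5_9_4_3 : enum 11 ck11 2 5 3446048 573 6 3 = true := by
  decide +kernel

set_option maxRecDepth 100000 in
theorem ch_2_5_9_4_6 : enum 11 ck11 2 5 6591776 629 6 6 = true := by
  decide +kernel

set_option maxRecDepth 100000 in
theorem ch_2_5_9_4_7 : enum 11 ck11 2 5 7640352 693 6 7 = true := by
  decide +kernel

set_option maxRecDepth 100000 in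
theorem ch_2_5_9_4_8 : enum 11 ck11 2 5 8688928 821 6 8 = true := by
  decide +kernel

set_option maxRecDepth 100000 in
theorem ch_2_5_9_4_10 : enum 11 ck11 2 5 10786080 1589 6 10 = true := by
  decide +kernel

theorem ch_2_5_9_4 : enum 11 ck11 2 6 300320 565 5 4 = true := by
  refine enum_intro 11 ck11 2 5 300320 565 5 4 ?_
  intro v hv hb hd
  interval_cases v
  · exact absurd hb (by decide)
  · exact ch_2_5_9_4_1
  · exact absurd hb (by decide)
  · exact ch_2_5_9_4_3
  · exact absurd hb (by decide)
  · exact absurd hb (by decide)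
  · exact ch_2_5_9_4_6
  · exact ch_2_5_9_4_7
  · exact ch_2_5_9_4_8
  · exact absurd hb (by decide)
  · exact ch_2_5_9_4_10

set_option maxRecDepth 100000 in
theorem ch_2_5_9_6_1 : enum 11 ck11 2 5 1479968 615 6 1 = true := by
  decide +kernel

set_option maxRecDepth 100000 in
theorem ch_2_5_9_6_3 : enum 11 ck11 2 5 3577120 621 6 3 = true := by
  decide +kernel

set_option maxRecDepth 100000 in
theorem ch_2_5_9_6_4 : enum 11 ck11 2 5 4625696 629 6 4 = true := by
  decide +kernel

set_option maxRecDepth 100000 in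
theorem ch_2_5_9_6_8 : enum 11 ck11 2 5 8820000 869 6 8 = true := by
  decide +kernel

set_option maxRecDepth 100000 in
theorem ch_2_5_9_6_10 : enum 11 ck11 2 5 10917152 1637 6 10 = true := by
  decide +kernel

theorem ch_2_5_9_6 : enum 11 ck11 2 6 431392 613 5 6 = true := by
  refine enum_intro 11 ck11 2 5 431392 613 5 6 ?_
  intro v hv hb hd
  interval_cases v
  · exact absurd hb (by decide)
  · exact ch_2_5_9_6_1
  · exact absurd hb (by decide)
  · exact ch_2_5_9_6_3
  · exact ch_2_5_9_6_4
  · exact absurd hb (by decide)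
  · exact absurd hb (by decide)
  · exact absurd hd (by decide)
  · exact ch_2_5_9_6_8
  · exact absurd hb (by decide)
  · exact ch_2_5_9_6_10

set_option maxRecDepth 100000 in
theorem ch_2_5_9_7_1 : enum 11 ck11 2 5 1545504 679 6 1 = true := by
  decide +kernel

set_option maxRecDepth 100000 in
theorem ch_2_5_9_7_3 : enum 11 ck11 2 5 3642656 685 6 3 = true := by
  decide +kernel

set_option maxRecDepth 100000 in
theorem ch_2_5_9_7_4 : enum 11 ck11 2 5 4691232 693 6 4 = true := by
  decide +kernel

set_option maxRecDepth 100000 in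
theorem ch_2_5_9_7_6 : enum 11 ck11 2 5 6788384 741 6 6 = true := by
  decide +kernel

set_option maxRecDepth 100000 in
theorem ch_2_5_9_7_10 : enum 11 ck11 2 5 10982688 1701 6 10 = true := by
  decide +kernel

theorem ch_2_5_9_7 : enum 11 ck11 2 6 496928 677 5 7 = true := by
  refine enum_intro 11 ck11 2 5 496928 677 5 7 ?_
  intro v hv hb hd
  interval_cases v
  · exact absurd hb (by decide)
  · exact ch_2_5_9_7_1
  · exact absurd hb (by decide)
  · exact ch_2_5_9_7_3
  · exact ch_2_5_9_7_4
  · exact absurd hb (by decide)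
  · exact ch_2_5_9_7_6
  · exact absurd hb (by decide)
  · exact absurd hd (by decide)
  · exact absurd hb (by decide)
  · exact ch_2_5_9_7_10

set_option maxRecDepth 100000 in
theorem ch_2_5_9_8_1 : enum 11 ck11 2 5 1611040 807 6 1 = true := by
  decide +kernel

set_option maxRecDepth 100000 in
theorem ch_2_5_9_8_3 : enum 11 ck11 2 5 3708192 813 6 3 = true := by
  decide +kernel

set_option maxRecDepth 100000 in
theorem ch_2_5_9_8_4 : enum 11 ck11 2 5 4756768 821 6 4 = true := by
  decide +kernel

set_option maxRecDepth 100000 in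
theorem ch_2_5_9_8_6 : enum 11 ck11 2 5 6853920 869 6 6 = true := by
  decide +kernel

set_option maxRecDepth 100000 in
theorem ch_2_5_9_8_7 : enum 11 ck11 2 5 7902496 933 6 7 = true := by
  decide +kernel

set_option maxRecDepth 100000 in
theorem ch_2_5_9_8_10 : enum 11 ck11 2 5 11048224 1829 6 10 = true := by
  decide +kernel

theorem ch_2_5_9_8 : enum 11 ck11 2 6 562464 805 5 8 = true := by
  refine enum_intro 11 ck11 2 5 562464 805 5 8 ?_
  intro v hv hb hd
  interval_cases v
  · exact absurd hb (by decide)
  · exact ch_2_5_9_8_1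
  · exact absurd hb (by decide)
  · exact ch_2_5_9_8_3
  · exact ch_2_5_9_8_4
  · exact absurd hb (by decide)
  · exact ch_2_5_9_8_6
  · exact ch_2_5_9_8_7
  · exact absurd hb (by decide)
  · exact absurd hb (by decide)
  · exact ch_2_5_9_8_10

theorem ch_2_5_9 : enum 11 ck11 2 7 38176 549 4 9 = true := by
  refine enum_intro 11 ck11 2 6 38176 549 4 9 ?_
  intro v hv hb hd
  interval_cases v
  · exact absurd hb (by decide)
  · exact ch_2_5_9_1
  · exact absurd hb (by decide)
  · exact ch_2_5_9_3
  · exact ch_2_5_9_4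
  · exact absurd hb (by decide)
  · exact ch_2_5_9_6
  · exact ch_2_5_9_7
  · exact ch_2_5_9_8
  · exact absurd hb (by decide)
  · exact absurd hd (by decide)

end Cfsg.Agent.Helper9.T11
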