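import Mathlib
import Cfsg.Agent.Helper9.T11.Chk

set_option autoImplicit false
set_option Elab.async false

/-!
A part of the enumeration on 11 points: the test holds at every permutation of the part.
-/

namespace Cfsg.Agent.Helper9.T11

set_option maxRecDepth 100000 in
theorem ch_2_5_10_1_3 : enum 11 ck11 2 5 3253536 1071 6 3 = true := by
  decide +kernel

set_option maxRecDepth 100000 in
theorem ch_2_5_10_1_4 : enum 11 ck11 2 5 4302112 1079 6 4 = true := by
  decide +kernel

set_option maxRecDepth 100000 in
theorem ch_2_5_10_1_6 : enum 11 ck11 2 5 6399264 1127 6 6 = true := by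
  decide +kernel

set_option maxRecDepth 100000 in
theorem ch_2_5_10_1_7 : enum 11 ck11 2 5 7447840 1191 6 7 = true := by
  decide +kernel

set_option maxRecDepth 100000 in
theorem ch_2_5_10_1_8 : enum 11 ck11 2 5 8496416 1319 6 8 = true := by
  decide +kernel

set_option maxRecDepth 100000 in
theorem ch_2_5_10_1_9 : enum 11 ck11 2 5 9544992 1575 6 9 = true := by
  decide +kernel

theorem ch_2_5_10_1 : enum 11 ck11 2 6 107808 1063 5 1 = true := by
  refine enum_intro 11 ck11 2 5 107808 1063 5 1 ?_
  intro v hv hb hd
  interval_cases v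
  · exact absurd hb (by decide)
  · exact absurd hb (by decide)
  · exact absurd hb (by decide)
  · exact ch_2_5_10_1_3
  · exact ch_2_5_10_1_4
  · exact absurd hb (by decide)
  · exact ch_2_5_10_1_6
  · exact ch_2_5_10_1_7
  · exact ch_2_5_10_1_8
  · exact ch_2_5_10_1_9
  · exact absurd hb (by decide)

set_option maxRecDepth 100000 in
theorem ch_2_5_10_3_1 : enum 11 ck11 2 5 1287456 1071 6 1 = true := by
  decide +kernel

set_option maxRecDepth 100000 in
theorem ch_2_5_10_3_6 : enum 11 ck11 2 5 6530336 1133 6 6 = true := by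
  decide +kernel

set_option maxRecDepth 100000 in
theorem ch_2_5_10_3_7 : enum 11 ck11 2 5 7578912 1197 6 7 = true := by
  decide +kernel

set_option maxRecDepth 100000 in
theorem ch_2_5_10_3_8 : enum 11 ck11 2 5 8627488 1325 6 8 = true := by
  decide +kernel

set_option maxRecDepth 100000 in
theorem ch_2_5_10_3_9 : enum 11 ck11 2 5 9676064 1581 6 9 = true := by
  decide +kernel

theorem ch_2_5_10_3 : enum 11 ck11 2 6 238880 1069 5 3 = true := by
  refine enum_intro 11 ck11 2 5 238880 1069 5 3 ?_
  intro v hv hb hd
  interval_cases v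
  · exact absurd hb (by decide)
  · exact ch_2_5_10_3_1
  · exact absurd hb (by decide)
  · exact absurd hb (by decide)
  · exact absurd hd (by decide)
  · exact absurd hb (by decide)
  · exact ch_2_5_10_3_6
  · exact ch_2_5_10_3_7
  · exact ch_2_5_10_3_8
  · exact ch_2_5_10_3_9
  · exact absurd hb (by decide)

set_option maxRecDepth 100000 in
theorem ch_2_5_10_4_1 : enum 11 ck11 2 5 1352992 1079 6 1 = true := by
  decide +kernel

set_option maxRecDepth 100000 in
theorem ch_2_5_10_4_3 : enum 11 ck11 2 5 3450144 1085 6 3 = true := by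
  decide +kernel

set_option maxRecDepth 100000 in
theorem ch_2_5_10_4_6 : enum 11 ck11 2 5 6595872 1141 6 6 = true := by
  decide +kernel

set_option maxRecDepth 100000 in
theorem ch_2_5_10_4_7 : enum 11 ck11 2 5 7644448 1205 6 7 = true := by
  decide +kernel

set_option maxRecDepth 100000 in
theorem ch_2_5_10_4_8 : enum 11 ck11 2 5 8693024 1333 6 8 = true := by
  decide +kernel

set_option maxRecDepth 100000 in
theorem ch_2_5_10_4_9 : enum 11 ck11 2 5 9741600 1589 6 9 = true := by
  decide +kernel

theorem ch_2_5_10_4 : enum 11 ck11 2 6 304416 1077 5 4 = true := by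
  refine enum_intro 11 ck11 2 5 304416 1077 5 4 ?_
  intro v hv hb hd
  interval_cases v
  · exact absurd hb (by decide)
  · exact ch_2_5_10_4_1
  · exact absurd hb (by decide)
  · exact ch_2_5_10_4_3
  · exact absurd hb (by decide)
  · exact absurd hb (by decide)
  · exact ch_2_5_10_4_6
  · exact ch_2_5_10_4_7
  · exact ch_2_5_10_4_8
  · exact ch_2_5_10_4_9
  · exact absurd hb (by decide)

set_option maxRecDepth 100000 in
theorem ch_2_5_10_6_1 : enum 11 ck11 2 5 1484064 1127 6 1 = true := by
  decide +kernel

set_option maxRecDepth 100000 in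
theorem ch_2_5_10_6_3 : enum 11 ck11 2 5 3581216 1133 6 3 = true := by
  decide +kernel

set_option maxRecDepth 100000 in
theorem ch_2_5_10_6_4 : enum 11 ck11 2 5 4629792 1141 6 4 = true := by
  decide +kernel

set_option maxRecDepth 100000 in
theorem ch_2_5_10_6_8 : enum 11 ck11 2 5 8824096 1381 6 8 = true := by
  decide +kernel

set_option maxRecDepth 100000 in
theorem ch_2_5_10_6_9 : enum 11 ck11 2 5 9872672 1637 6 9 = true := by
  decide +kernel

theorem ch_2_5_10_6 : enum 11 ck11 2 6 435488 1125 5 6 = true := by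
  refine enum_intro 11 ck11 2 5 435488 1125 5 6 ?_
  intro v hv hb hd
  interval_cases v
  · exact absurd hb (by decide)
  · exact ch_2_5_10_6_1
  · exact absurd hb (by decide)
  · exact ch_2_5_10_6_3
  · exact ch_2_5_10_6_4
  · exact absurd hb (by decide)
  · exact absurd hb (by decide)
  · exact absurd hd (by decide)
  · exact ch_2_5_10_6_8
  · exact ch_2_5_10_6_9
  · exact absurd hb (by decide)

set_option maxRecDepth 100000 in
theorem ch_2_5_10_7_1 : enum 11 ck11 2 5 1549600 1191 6 1 = true := by
  decide +kernel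

set_option maxRecDepth 100000 in
theorem ch_2_5_10_7_3 : enum 11 ck11 2 5 3646752 1197 6 3 = true := by
  decide +kernel

set_option maxRecDepth 100000 in
theorem ch_2_5_10_7_4 : enum 11 ck11 2 5 4695328 1205 6 4 = true := by
  decide +kernel

set_option maxRecDepth 100000 in
theorem ch_2_5_10_7_6 : enum 11 ck11 2 5 6792480 1253 6 6 = true := by
  decide +kernel

set_option maxRecDepth 100000 in
theorem ch_2_5_10_7_9 : enum 11 ck11 2 5 9938208 1701 6 9 = true := by
  decide +kernel

theorem ch_2_5_10_7 : enum 11 ck11 2 6 501024 1189 5 7 = true := by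
  refine enum_intro 11 ck11 2 5 501024 1189 5 7 ?_
  intro v hv hb hd
  interval_cases v
  · exact absurd hb (by decide)
  · exact ch_2_5_10_7_1
  · exact absurd hb (by decide)
  · exact ch_2_5_10_7_3
  · exact ch_2_5_10_7_4
  · exact absurd hb (by decide)
  · exact ch_2_5_10_7_6
  · exact absurd hb (by decide)
  · exact absurd hd (by decide)
  · exact ch_2_5_10_7_9
  · exact absurd hb (by decide)

set_option maxRecDepth 100000 in
theorem ch_2_5_10_8_1 : enum 11 ck11 2 5 1615136 1319 6 1 = true := by
  decide +kernel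

set_option maxRecDepth 100000 in
theorem ch_2_5_10_8_3 : enum 11 ck11 2 5 3712288 1325 6 3 = true := by
  decide +kernel

set_option maxRecDepth 100000 in
theorem ch_2_5_10_8_4 : enum 11 ck11 2 5 4760864 1333 6 4 = true := by
  decide +kernel

set_option maxRecDepth 100000 in
theorem ch_2_5_10_8_6 : enum 11 ck11 2 5 6858016 1381 6 6 = true := by
  decide +kernel

set_option maxRecDepth 100000 in
theorem ch_2_5_10_8_7 : enum 11 ck11 2 5 7906592 1445 6 7 = true := by
  decide +kernel

theorem ch_2_5_10_8 : enum 11 ck11 2 6 566560 1317 5 8 = true := by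
  refine enum_intro 11 ck11 2 5 566560 1317 5 8 ?_
  intro v hv hb hd
  interval_cases v
  · exact absurd hb (by decide)
  · exact ch_2_5_10_8_1
  · exact absurd hb (by decide)
  · exact ch_2_5_10_8_3
  · exact ch_2_5_10_8_4
  · exact absurd hb (by decide)
  · exact ch_2_5_10_8_6
  · exact ch_2_5_10_8_7
  · exact absurd hb (by decide)
  · exact absurd hd (by decide)
  · exact absurd hb (by decide)

set_option maxRecDepth 100000 in
theorem ch_2_5_10_9_1 : enum 11 ck11 2 5 1680672 1575 6 1 = true := by
  decide +kernel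

set_option maxRecDepth 100000 in
theorem ch_2_5_10_9_3 : enum 11 ck11 2 5 3777824 1581 6 3 = true := by
  decide +kernel

set_option maxRecDepth 100000 in
theorem ch_2_5_10_9_4 : enum 11 ck11 2 5 4826400 1589 6 4 = true := by
  decide +kernel

set_option maxRecDepth 100000 in
theorem ch_2_5_10_9_6 : enum 11 ck11 2 5 6923552 1637 6 6 = true := by
  decide +kernel

set_option maxRecDepth 100000 in
theorem ch_2_5_10_9_7 : enum 11 ck11 2 5 7972128 1701 6 7 = true := by
  decide +kernel

set_option maxRecDepth 100000 in
theorem ch_2_5_10_9_8 : enum 11 ck11 2 5 9020704 1829 6 8 = true := by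
  decide +kernel

theorem ch_2_5_10_9 : enum 11 ck11 2 6 632096 1573 5 9 = true := by
  refine enum_intro 11 ck11 2 5 632096 1573 5 9 ?_
  intro v hv hb hd
  interval_cases v
  · exact absurd hb (by decide)
  · exact ch_2_5_10_9_1
  · exact absurd hb (by decide)
  · exact ch_2_5_10_9_3
  · exact ch_2_5_10_9_4
  · exact absurd hb (by decide)
  · exact ch_2_5_10_9_6
  · exact ch_2_5_10_9_7
  · exact ch_2_5_10_9_8
  · exact absurd hb (by decide)
  · exact absurd hb (by decide)

theorem ch_2_5_10 : enum 11 ck11 2 7 42272 1061 4 10 = true := by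
  refine enum_intro 11 ck11 2 6 42272 1061 4 10 ?_
  intro v hv hb hd
  interval_cases v
  · exact absurd hb (by decide)
  · exact ch_2_5_10_1
  · exact absurd hb (by decide)
  · exact ch_2_5_10_3
  · exact ch_2_5_10_4
  · exact absurd hb (by decide)
  · exact ch_2_5_10_6
  · exact ch_2_5_10_7
  · exact ch_2_5_10_8
  · exact ch_2_5_10_9
  · exact absurd hb (by decide)

end Cfsg.Agent.Helper9.T11
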