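import Mathlib
import Cfsg.Agent.Helper9.T11.Chk

set_option autoImplicit false
set_option Elab.async false

/-!
A part of the enumeration on 11 points: the test holds at every permutation of the part.
-/

namespace Cfsg.Agent.Helper9.T11

set_option maxRecDepth 100000 in
theorem ch_2_7_1_3_5 : enum 11 ck11 2 5 5445408 175 6 5 = true := by
  decide +kernel

set_option maxRecDepth 100000 in
theorem ch_2_7_1_3_6 : enum 11 ck11 2 5 6493984 207 6 6 = true := by
  decide +kernel

set_option maxRecDepth 100000 in
theorem ch_2_7_1_3_8 : enum 11 ck11 2 5 8591136 399 6 8 = true := by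
  decide +kernel

set_option maxRecDepth 100000 in
theorem ch_2_7_1_3_9 : enum 11 ck11 2 5 9639712 655 6 9 = true := by
  decide +kernel

set_option maxRecDepth 100000 in
theorem ch_2_7_1_3_10 : enum 11 ck11 2 5 10688288 1167 6 10 = true := by
  decide +kernel

theorem ch_2_7_1_3 : enum 11 ck11 2 6 202528 143 5 3 = true := by
  refine enum_intro 11 ck11 2 5 202528 143 5 3 ?_
  intro v hv hb hd
  interval_cases v
  · exact absurd hb (by decide)
  · exact absurd hb (by decide)
  · exact absurd hb (by decide)
  · exact absurd hb (by decide)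
  · exact absurd hd (by decide)
  · exact ch_2_7_1_3_5
  · exact ch_2_7_1_3_6
  · exact absurd hb (by decide)
  · exact ch_2_7_1_3_8
  · exact ch_2_7_1_3_9
  · exact ch_2_7_1_3_10

set_option maxRecDepth 100000 in
theorem ch_2_7_1_4_3 : enum 11 ck11 2 5 3413792 159 6 3 = true := by
  decide +kernel

set_option maxRecDepth 100000 in
theorem ch_2_7_1_4_6 : enum 11 ck11 2 5 6559520 215 6 6 = true := by
  decide +kernel

set_option maxRecDepth 100000 in
theorem ch_2_7_1_4_8 : enum 11 ck11 2 5 8656672 407 6 8 = true := by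
  decide +kernel

set_option maxRecDepth 100000 in
theorem ch_2_7_1_4_9 : enum 11 ck11 2 5 9705248 663 6 9 = true := by
  decide +kernel

set_option maxRecDepth 100000 in
theorem ch_2_7_1_4_10 : enum 11 ck11 2 5 10753824 1175 6 10 = true := by
  decide +kernel

theorem ch_2_7_1_4 : enum 11 ck11 2 6 268064 151 5 4 = true := by
  refine enum_intro 11 ck11 2 5 268064 151 5 4 ?_
  intro v hv hb hd
  interval_cases v
  · exact absurd hb (by decide)
  · exact absurd hb (by decide)
  · exact absurd hb (by decide)
  · exact ch_2_7_1_4_3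
  · exact absurd hb (by decide)
  · exact absurd hd (by decide)
  · exact ch_2_7_1_4_6
  · exact absurd hb (by decide)
  · exact ch_2_7_1_4_8
  · exact ch_2_7_1_4_9
  · exact ch_2_7_1_4_10

set_option maxRecDepth 100000 in
theorem ch_2_7_1_5_3 : enum 11 ck11 2 5 3479328 175 6 3 = true := by
  decide +kernel

set_option maxRecDepth 100000 in
theorem ch_2_7_1_5_4 : enum 11 ck11 2 5 4527904 183 6 4 = true := by
  decide +kernel

set_option maxRecDepth 100000 in
theorem ch_2_7_1_5_8 : enum 11 ck11 2 5 8722208 423 6 8 = true := by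
  decide +kernel

set_option maxRecDepth 100000 in
theorem ch_2_7_1_5_9 : enum 11 ck11 2 5 9770784 679 6 9 = true := by
  decide +kernel

set_option maxRecDepth 100000 in
theorem ch_2_7_1_5_10 : enum 11 ck11 2 5 10819360 1191 6 10 = true := by
  decide +kernel

theorem ch_2_7_1_5 : enum 11 ck11 2 6 333600 167 5 5 = true := by
  refine enum_intro 11 ck11 2 5 333600 167 5 5 ?_
  intro v hv hb hd
  interval_cases v
  · exact absurd hb (by decide)
  · exact absurd hb (by decide)
  · exact absurd hb (by decide)
  · exact ch_2_7_1_5_3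
  · exact ch_2_7_1_5_4
  · exact absurd hb (by decide)
  · exact absurd hd (by decide)
  · exact absurd hb (by decide)
  · exact ch_2_7_1_5_8
  · exact ch_2_7_1_5_9
  · exact ch_2_7_1_5_10

set_option maxRecDepth 100000 in
theorem ch_2_7_1_6_3 : enum 11 ck11 2 5 3544864 207 6 3 = true := by
  decide +kernel

set_option maxRecDepth 100000 in
theorem ch_2_7_1_6_4 : enum 11 ck11 2 5 4593440 215 6 4 = true := by
  decide +kernel

set_option maxRecDepth 100000 in
theorem ch_2_7_1_6_5 : enum 11 ck11 2 5 5642016 231 6 5 = true := by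
  decide +kernel

set_option maxRecDepth 100000 in
theorem ch_2_7_1_6_8 : enum 11 ck11 2 5 8787744 455 6 8 = true := by
  decide +kernel

set_option maxRecDepth 100000 in
theorem ch_2_7_1_6_9 : enum 11 ck11 2 5 9836320 711 6 9 = true := by
  decide +kernel

set_option maxRecDepth 100000 in
theorem ch_2_7_1_6_10 : enum 11 ck11 2 5 10884896 1223 6 10 = true := by
  decide +kernel

theorem ch_2_7_1_6 : enum 11 ck11 2 6 399136 199 5 6 = true := by
  refine enum_intro 11 ck11 2 5 399136 199 5 6 ?_
  intro v hv hb hd
  interval_cases v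
  · exact absurd hb (by decide)
  · exact absurd hb (by decide)
  · exact absurd hb (by decide)
  · exact ch_2_7_1_6_3
  · exact ch_2_7_1_6_4
  · exact ch_2_7_1_6_5
  · exact absurd hb (by decide)
  · exact absurd hb (by decide)
  · exact ch_2_7_1_6_8
  · exact ch_2_7_1_6_9
  · exact ch_2_7_1_6_10

set_option maxRecDepth 100000 in
theorem ch_2_7_1_8_3 : enum 11 ck11 2 5 3675936 399 6 3 = true := by
  decide +kernel

set_option maxRecDepth 100000 in
theorem ch_2_7_1_8_4 : enum 11 ck11 2 5 4724512 407 6 4 = true := by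
  decide +kernel

set_option maxRecDepth 100000 in
theorem ch_2_7_1_8_5 : enum 11 ck11 2 5 5773088 423 6 5 = true := by
  decide +kernel

set_option maxRecDepth 100000 in
theorem ch_2_7_1_8_6 : enum 11 ck11 2 5 6821664 455 6 6 = true := by
  decide +kernel

set_option maxRecDepth 100000 in
theorem ch_2_7_1_8_10 : enum 11 ck11 2 5 11015968 1415 6 10 = true := by
  decide +kernel

theorem ch_2_7_1_8 : enum 11 ck11 2 6 530208 391 5 8 = true := by
  refine enum_intro 11 ck11 2 5 530208 391 5 8 ?_
  intro v hv hb hd
  interval_cases v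
  · exact absurd hb (by decide)
  · exact absurd hb (by decide)
  · exact absurd hb (by decide)
  · exact ch_2_7_1_8_3
  · exact ch_2_7_1_8_4
  · exact ch_2_7_1_8_5
  · exact ch_2_7_1_8_6
  · exact absurd hb (by decide)
  · exact absurd hb (by decide)
  · exact absurd hd (by decide)
  · exact ch_2_7_1_8_10

set_option maxRecDepth 100000 in
theorem ch_2_7_1_9_3 : enum 11 ck11 2 5 3741472 655 6 3 = true := by
  decide +kernel

set_option maxRecDepth 100000 in
theorem ch_2_7_1_9_4 : enum 11 ck11 2 5 4790048 663 6 4 = true := by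
  decide +kernel

set_option maxRecDepth 100000 in
theorem ch_2_7_1_9_5 : enum 11 ck11 2 5 5838624 679 6 5 = true := by
  decide +kernel

set_option maxRecDepth 100000 in
theorem ch_2_7_1_9_6 : enum 11 ck11 2 5 6887200 711 6 6 = true := by
  decide +kernel

set_option maxRecDepth 100000 in
theorem ch_2_7_1_9_8 : enum 11 ck11 2 5 8984352 903 6 8 = true := by
  decide +kernel

theorem ch_2_7_1_9 : enum 11 ck11 2 6 595744 647 5 9 = true := by
  refine enum_intro 11 ck11 2 5 595744 647 5 9 ?_
  intro v hv hb hd
  interval_cases v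
  · exact absurd hb (by decide)
  · exact absurd hb (by decide)
  · exact absurd hb (by decide)
  · exact ch_2_7_1_9_3
  · exact ch_2_7_1_9_4
  · exact ch_2_7_1_9_5
  · exact ch_2_7_1_9_6
  · exact absurd hb (by decide)
  · exact ch_2_7_1_9_8
  · exact absurd hb (by decide)
  · exact absurd hd (by decide)

set_option maxRecDepth 100000 in
theorem ch_2_7_1_10_3 : enum 11 ck11 2 5 3807008 1167 6 3 = true := by
  decide +kernel

set_option maxRecDepth 100000 in
theorem ch_2_7_1_10_4 : enum 11 ck11 2 5 4855584 1175 6 4 = true := by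
  decide +kernel

set_option maxRecDepth 100000 in
theorem ch_2_7_1_10_5 : enum 11 ck11 2 5 5904160 1191 6 5 = true := by
  decide +kernel

set_option maxRecDepth 100000 in
theorem ch_2_7_1_10_6 : enum 11 ck11 2 5 6952736 1223 6 6 = true := by
  decide +kernel

set_option maxRecDepth 100000 in
theorem ch_2_7_1_10_8 : enum 11 ck11 2 5 9049888 1415 6 8 = true := by
  decide +kernel

set_option maxRecDepth 100000 in
theorem ch_2_7_1_10_9 : enum 11 ck11 2 5 10098464 1671 6 9 = true := by
  decide +kernel

theorem ch_2_7_1_10 : enum 11 ck11 2 6 661280 1159 5 10 = true := by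
  refine enum_intro 11 ck11 2 5 661280 1159 5 10 ?_
  intro v hv hb hd
  interval_cases v
  · exact absurd hb (by decide)
  · exact absurd hb (by decide)
  · exact absurd hb (by decide)
  · exact ch_2_7_1_10_3
  · exact ch_2_7_1_10_4
  · exact ch_2_7_1_10_5
  · exact ch_2_7_1_10_6
  · exact absurd hb (by decide)
  · exact ch_2_7_1_10_8
  · exact ch_2_7_1_10_9
  · exact absurd hb (by decide)

theorem ch_2_7_1 : enum 11 ck11 2 7 5920 135 4 1 = true := by
  refine enum_intro 11 ck11 2 6 5920 135 4 1 ?_
  intro v hv hb hd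
  interval_cases v
  · exact absurd hb (by decide)
  · exact absurd hb (by decide)
  · exact absurd hb (by decide)
  · exact ch_2_7_1_3
  · exact ch_2_7_1_4
  · exact ch_2_7_1_5
  · exact ch_2_7_1_6
  · exact absurd hb (by decide)
  · exact ch_2_7_1_8
  · exact ch_2_7_1_9
  · exact ch_2_7_1_10

set_option maxRecDepth 100000 in
theorem ch_2_7_3_1_4 : enum 11 ck11 2 5 4273952 159 6 4 = true := by
  decide +kernel

set_option maxRecDepth 100000 in
theorem ch_2_7_3_1_5 : enum 11 ck11 2 5 5322528 175 6 5 = true := by
  decide +kernel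

set_option maxRecDepth 100000 in
theorem ch_2_7_3_1_6 : enum 11 ck11 2 5 6371104 207 6 6 = true := by
  decide +kernel

set_option maxRecDepth 100000 in
theorem ch_2_7_3_1_8 : enum 11 ck11 2 5 8468256 399 6 8 = true := by
  decide +kernel

set_option maxRecDepth 100000 in
theorem ch_2_7_3_1_9 : enum 11 ck11 2 5 9516832 655 6 9 = true := by
  decide +kernel

set_option maxRecDepth 100000 in
theorem ch_2_7_3_1_10 : enum 11 ck11 2 5 10565408 1167 6 10 = true := by
  decide +kernel

theorem ch_2_7_3_1 : enum 11 ck11 2 6 79648 143 5 1 = true := by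
  refine enum_intro 11 ck11 2 5 79648 143 5 1 ?_
  intro v hv hb hd
  interval_cases v
  · exact absurd hb (by decide)
  · exact absurd hb (by decide)
  · exact absurd hb (by decide)
  · exact absurd hb (by decide)
  · exact ch_2_7_3_1_4
  · exact ch_2_7_3_1_5
  · exact ch_2_7_3_1_6
  · exact absurd hb (by decide)
  · exact ch_2_7_3_1_8
  · exact ch_2_7_3_1_9
  · exact ch_2_7_3_1_10

set_option maxRecDepth 100000 in
theorem ch_2_7_3_5_1 : enum 11 ck11 2 5 1390368 175 6 1 = true := by
  decide +kernel

set_option maxRecDepth 100000 in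
theorem ch_2_7_3_5_4 : enum 11 ck11 2 5 4536096 189 6 4 = true := by
  decide +kernel

set_option maxRecDepth 100000 in
theorem ch_2_7_3_5_8 : enum 11 ck11 2 5 8730400 429 6 8 = true := by
  decide +kernel

set_option maxRecDepth 100000 in
theorem ch_2_7_3_5_9 : enum 11 ck11 2 5 9778976 685 6 9 = true := by
  decide +kernel

set_option maxRecDepth 100000 in
theorem ch_2_7_3_5_10 : enum 11 ck11 2 5 10827552 1197 6 10 = true := by
  decide +kernel

theorem ch_2_7_3_5 : enum 11 ck11 2 6 341792 173 5 5 = true := by
  refine enum_intro 11 ck11 2 5 341792 173 5 5 ?_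
  intro v hv hb hd
  interval_cases v
  · exact absurd hb (by decide)
  · exact ch_2_7_3_5_1
  · exact absurd hb (by decide)
  · exact absurd hb (by decide)
  · exact ch_2_7_3_5_4
  · exact absurd hb (by decide)
  · exact absurd hd (by decide)
  · exact absurd hb (by decide)
  · exact ch_2_7_3_5_8
  · exact ch_2_7_3_5_9
  · exact ch_2_7_3_5_10

set_option maxRecDepth 100000 in
theorem ch_2_7_3_6_1 : enum 11 ck11 2 5 1455904 207 6 1 = true := by
  decide +kernel

set_option maxRecDepth 100000 in
theorem ch_2_7_3_6_4 : enum 11 ck11 2 5 4601632 221 6 4 = true := by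
  decide +kernel

set_option maxRecDepth 100000 in
theorem ch_2_7_3_6_5 : enum 11 ck11 2 5 5650208 237 6 5 = true := by
  decide +kernel

set_option maxRecDepth 100000 in
theorem ch_2_7_3_6_8 : enum 11 ck11 2 5 8795936 461 6 8 = true := by
  decide +kernel

set_option maxRecDepth 100000 in
theorem ch_2_7_3_6_9 : enum 11 ck11 2 5 9844512 717 6 9 = true := by
  decide +kernel

set_option maxRecDepth 100000 in
theorem ch_2_7_3_6_10 : enum 11 ck11 2 5 10893088 1229 6 10 = true := by
  decide +kernel

theorem ch_2_7_3_6 : enum 11 ck11 2 6 407328 205 5 6 = true := by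
  refine enum_intro 11 ck11 2 5 407328 205 5 6 ?_
  intro v hv hb hd
  interval_cases v
  · exact absurd hb (by decide)
  · exact ch_2_7_3_6_1
  · exact absurd hb (by decide)
  · exact absurd hb (by decide)
  · exact ch_2_7_3_6_4
  · exact ch_2_7_3_6_5
  · exact absurd hb (by decide)
  · exact absurd hb (by decide)
  · exact ch_2_7_3_6_8
  · exact ch_2_7_3_6_9
  · exact ch_2_7_3_6_10

set_option maxRecDepth 100000 in
theorem ch_2_7_3_8_1 : enum 11 ck11 2 5 1586976 399 6 1 = true := by
  decide +kernel

set_option maxRecDepth 100000 in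
theorem ch_2_7_3_8_4 : enum 11 ck11 2 5 4732704 413 6 4 = true := by
  decide +kernel

set_option maxRecDepth 100000 in
theorem ch_2_7_3_8_5 : enum 11 ck11 2 5 5781280 429 6 5 = true := by
  decide +kernel

set_option maxRecDepth 100000 in
theorem ch_2_7_3_8_6 : enum 11 ck11 2 5 6829856 461 6 6 = true := by
  decide +kernel

set_option maxRecDepth 100000 in
theorem ch_2_7_3_8_10 : enum 11 ck11 2 5 11024160 1421 6 10 = true := by
  decide +kernel

theorem ch_2_7_3_8 : enum 11 ck11 2 6 538400 397 5 8 = true := by
  refine enum_intro 11 ck11 2 5 538400 397 5 8 ?_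
  intro v hv hb hd
  interval_cases v
  · exact absurd hb (by decide)
  · exact ch_2_7_3_8_1
  · exact absurd hb (by decide)
  · exact absurd hb (by decide)
  · exact ch_2_7_3_8_4
  · exact ch_2_7_3_8_5
  · exact ch_2_7_3_8_6
  · exact absurd hb (by decide)
  · exact absurd hb (by decide)
  · exact absurd hd (by decide)
  · exact ch_2_7_3_8_10

set_option maxRecDepth 100000 in
theorem ch_2_7_3_9_1 : enum 11 ck11 2 5 1652512 655 6 1 = true := by
  decide +kernel

set_option maxRecDepth 100000 in
theorem ch_2_7_3_9_4 : enum 11 ck11 2 5 4798240 669 6 4 = true := by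
  decide +kernel

set_option maxRecDepth 100000 in
theorem ch_2_7_3_9_5 : enum 11 ck11 2 5 5846816 685 6 5 = true := by
  decide +kernel

set_option maxRecDepth 100000 in
theorem ch_2_7_3_9_6 : enum 11 ck11 2 5 6895392 717 6 6 = true := by
  decide +kernel

set_option maxRecDepth 100000 in
theorem ch_2_7_3_9_8 : enum 11 ck11 2 5 8992544 909 6 8 = true := by
  decide +kernel

theorem ch_2_7_3_9 : enum 11 ck11 2 6 603936 653 5 9 = true := by
  refine enum_intro 11 ck11 2 5 603936 653 5 9 ?_
  intro v hv hb hd
  interval_cases v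
  · exact absurd hb (by decide)
  · exact ch_2_7_3_9_1
  · exact absurd hb (by decide)
  · exact absurd hb (by decide)
  · exact ch_2_7_3_9_4
  · exact ch_2_7_3_9_5
  · exact ch_2_7_3_9_6
  · exact absurd hb (by decide)
  · exact ch_2_7_3_9_8
  · exact absurd hb (by decide)
  · exact absurd hd (by decide)

set_option maxRecDepth 100000 in
theorem ch_2_7_3_10_1 : enum 11 ck11 2 5 1718048 1167 6 1 = true := by
  decide +kernel

set_option maxRecDepth 100000 in
theorem ch_2_7_3_10_4 : enum 11 ck11 2 5 4863776 1181 6 4 = true := by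
  decide +kernel

set_option maxRecDepth 100000 in
theorem ch_2_7_3_10_5 : enum 11 ck11 2 5 5912352 1197 6 5 = true := by
  decide +kernel

set_option maxRecDepth 100000 in
theorem ch_2_7_3_10_6 : enum 11 ck11 2 5 6960928 1229 6 6 = true := by
  decide +kernel

set_option maxRecDepth 100000 in
theorem ch_2_7_3_10_8 : enum 11 ck11 2 5 9058080 1421 6 8 = true := by
  decide +kernel

set_option maxRecDepth 100000 in
theorem ch_2_7_3_10_9 : enum 11 ck11 2 5 10106656 1677 6 9 = true := by
  decide +kernel

theorem ch_2_7_3_10 : enum 11 ck11 2 6 669472 1165 5 10 = true := by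
  refine enum_intro 11 ck11 2 5 669472 1165 5 10 ?_
  intro v hv hb hd
  interval_cases v
  · exact absurd hb (by decide)
  · exact ch_2_7_3_10_1
  · exact absurd hb (by decide)
  · exact absurd hb (by decide)
  · exact ch_2_7_3_10_4
  · exact ch_2_7_3_10_5
  · exact ch_2_7_3_10_6
  · exact absurd hb (by decide)
  · exact ch_2_7_3_10_8
  · exact ch_2_7_3_10_9
  · exact absurd hb (by decide)

theorem ch_2_7_3 : enum 11 ck11 2 7 14112 141 4 3 = true := by
  refine enum_intro 11 ck11 2 6 14112 141 4 3 ?_
  intro v hv hb hd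
  interval_cases v
  · exact absurd hb (by decide)
  · exact ch_2_7_3_1
  · exact absurd hb (by decide)
  · exact absurd hb (by decide)
  · exact absurd hd (by decide)
  · exact ch_2_7_3_5
  · exact ch_2_7_3_6
  · exact absurd hb (by decide)
  · exact ch_2_7_3_8
  · exact ch_2_7_3_9
  · exact ch_2_7_3_10

set_option maxRecDepth 100000 in
theorem ch_2_7_4_1_3 : enum 11 ck11 2 5 3229472 159 6 3 = true := by
  decide +kernel

set_option maxRecDepth 100000 in
theorem ch_2_7_4_1_5 : enum 11 ck11 2 5 5326624 183 6 5 = true := by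
  decide +kernel

set_option maxRecDepth 100000 in
theorem ch_2_7_4_1_6 : enum 11 ck11 2 5 6375200 215 6 6 = true := by
  decide +kernel

set_option maxRecDepth 100000 in
theorem ch_2_7_4_1_8 : enum 11 ck11 2 5 8472352 407 6 8 = true := by
  decide +kernel

set_option maxRecDepth 100000 in
theorem ch_2_7_4_1_9 : enum 11 ck11 2 5 9520928 663 6 9 = true := by
  decide +kernel

set_option maxRecDepth 100000 in
theorem ch_2_7_4_1_10 : enum 11 ck11 2 5 10569504 1175 6 10 = true := by
  decide +kernel

theorem ch_2_7_4_1 : enum 11 ck11 2 6 83744 151 5 1 = true := by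
  refine enum_intro 11 ck11 2 5 83744 151 5 1 ?_
  intro v hv hb hd
  interval_cases v
  · exact absurd hb (by decide)
  · exact absurd hb (by decide)
  · exact absurd hb (by decide)
  · exact ch_2_7_4_1_3
  · exact absurd hb (by decide)
  · exact ch_2_7_4_1_5
  · exact ch_2_7_4_1_6
  · exact absurd hb (by decide)
  · exact ch_2_7_4_1_8
  · exact ch_2_7_4_1_9
  · exact ch_2_7_4_1_10

set_option maxRecDepth 100000 in
theorem ch_2_7_4_3_1 : enum 11 ck11 2 5 1263392 159 6 1 = true := by
  decide +kernel

set_option maxRecDepth 100000 in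
theorem ch_2_7_4_3_5 : enum 11 ck11 2 5 5457696 189 6 5 = true := by
  decide +kernel

set_option maxRecDepth 100000 in
theorem ch_2_7_4_3_6 : enum 11 ck11 2 5 6506272 221 6 6 = true := by
  decide +kernel

set_option maxRecDepth 100000 in
theorem ch_2_7_4_3_8 : enum 11 ck11 2 5 8603424 413 6 8 = true := by
  decide +kernel

set_option maxRecDepth 100000 in
theorem ch_2_7_4_3_9 : enum 11 ck11 2 5 9652000 669 6 9 = true := by
  decide +kernel

set_option maxRecDepth 100000 in
theorem ch_2_7_4_3_10 : enum 11 ck11 2 5 10700576 1181 6 10 = true := by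
  decide +kernel

theorem ch_2_7_4_3 : enum 11 ck11 2 6 214816 157 5 3 = true := by
  refine enum_intro 11 ck11 2 5 214816 157 5 3 ?_
  intro v hv hb hd
  interval_cases v
  · exact absurd hb (by decide)
  · exact ch_2_7_4_3_1
  · exact absurd hb (by decide)
  · exact absurd hb (by decide)
  · exact absurd hb (by decide)
  · exact ch_2_7_4_3_5
  · exact ch_2_7_4_3_6
  · exact absurd hb (by decide)
  · exact ch_2_7_4_3_8
  · exact ch_2_7_4_3_9
  · exact ch_2_7_4_3_10

set_option maxRecDepth 100000 in
theorem ch_2_7_4_6_1 : enum 11 ck11 2 5 1460000 215 6 1 = true := by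
  decide +kernel

set_option maxRecDepth 100000 in
theorem ch_2_7_4_6_3 : enum 11 ck11 2 5 3557152 221 6 3 = true := by
  decide +kernel

set_option maxRecDepth 100000 in
theorem ch_2_7_4_6_5 : enum 11 ck11 2 5 5654304 245 6 5 = true := by
  decide +kernel

set_option maxRecDepth 100000 in
theorem ch_2_7_4_6_8 : enum 11 ck11 2 5 8800032 469 6 8 = true := by
  decide +kernel

set_option maxRecDepth 100000 in
theorem ch_2_7_4_6_9 : enum 11 ck11 2 5 9848608 725 6 9 = true := by
  decide +kernel

set_option maxRecDepth 100000 in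
theorem ch_2_7_4_6_10 : enum 11 ck11 2 5 10897184 1237 6 10 = true := by
  decide +kernel

theorem ch_2_7_4_6 : enum 11 ck11 2 6 411424 213 5 6 = true := by
  refine enum_intro 11 ck11 2 5 411424 213 5 6 ?_
  intro v hv hb hd
  interval_cases v
  · exact absurd hb (by decide)
  · exact ch_2_7_4_6_1
  · exact absurd hb (by decide)
  · exact ch_2_7_4_6_3
  · exact absurd hb (by decide)
  · exact ch_2_7_4_6_5
  · exact absurd hb (by decide)
  · exact absurd hb (by decide)
  · exact ch_2_7_4_6_8
  · exact ch_2_7_4_6_9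
  · exact ch_2_7_4_6_10

set_option maxRecDepth 100000 in
theorem ch_2_7_4_8_1 : enum 11 ck11 2 5 1591072 407 6 1 = true := by
  decide +kernel

set_option maxRecDepth 100000 in
theorem ch_2_7_4_8_3 : enum 11 ck11 2 5 3688224 413 6 3 = true := by
  decide +kernel

set_option maxRecDepth 100000 in
theorem ch_2_7_4_8_5 : enum 11 ck11 2 5 5785376 437 6 5 = true := by
  decide +kernel

set_option maxRecDepth 100000 in
theorem ch_2_7_4_8_6 : enum 11 ck11 2 5 6833952 469 6 6 = true := by
  decide +kernel

set_option maxRecDepth 100000 in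
theorem ch_2_7_4_8_10 : enum 11 ck11 2 5 11028256 1429 6 10 = true := by
  decide +kernel

theorem ch_2_7_4_8 : enum 11 ck11 2 6 542496 405 5 8 = true := by
  refine enum_intro 11 ck11 2 5 542496 405 5 8 ?_
  intro v hv hb hd
  interval_cases v
  · exact absurd hb (by decide)
  · exact ch_2_7_4_8_1
  · exact absurd hb (by decide)
  · exact ch_2_7_4_8_3
  · exact absurd hb (by decide)
  · exact ch_2_7_4_8_5
  · exact ch_2_7_4_8_6
  · exact absurd hb (by decide)
  · exact absurd hb (by decide)
  · exact absurd hd (by decide)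
  · exact ch_2_7_4_8_10

set_option maxRecDepth 100000 in
theorem ch_2_7_4_9_1 : enum 11 ck11 2 5 1656608 663 6 1 = true := by
  decide +kernel

set_option maxRecDepth 100000 in
theorem ch_2_7_4_9_3 : enum 11 ck11 2 5 3753760 669 6 3 = true := by
  decide +kernel

set_option maxRecDepth 100000 in
theorem ch_2_7_4_9_5 : enum 11 ck11 2 5 5850912 693 6 5 = true := by
  decide +kernel

set_option maxRecDepth 100000 in
theorem ch_2_7_4_9_6 : enum 11 ck11 2 5 6899488 725 6 6 = true := by
  decide +kernel

set_option maxRecDepth 100000 in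
theorem ch_2_7_4_9_8 : enum 11 ck11 2 5 8996640 917 6 8 = true := by
  decide +kernel

theorem ch_2_7_4_9 : enum 11 ck11 2 6 608032 661 5 9 = true := by
  refine enum_intro 11 ck11 2 5 608032 661 5 9 ?_
  intro v hv hb hd
  interval_cases v
  · exact absurd hb (by decide)
  · exact ch_2_7_4_9_1
  · exact absurd hb (by decide)
  · exact ch_2_7_4_9_3
  · exact absurd hb (by decide)
  · exact ch_2_7_4_9_5
  · exact ch_2_7_4_9_6
  · exact absurd hb (by decide)
  · exact ch_2_7_4_9_8
  · exact absurd hb (by decide)
  · exact absurd hd (by decide)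

set_option maxRecDepth 100000 in
theorem ch_2_7_4_10_1 : enum 11 ck11 2 5 1722144 1175 6 1 = true := by
  decide +kernel

set_option maxRecDepth 100000 in
theorem ch_2_7_4_10_3 : enum 11 ck11 2 5 3819296 1181 6 3 = true := by
  decide +kernel

set_option maxRecDepth 100000 in
theorem ch_2_7_4_10_5 : enum 11 ck11 2 5 5916448 1205 6 5 = true := by
  decide +kernel

set_option maxRecDepth 100000 in
theorem ch_2_7_4_10_6 : enum 11 ck11 2 5 6965024 1237 6 6 = true := by
  decide +kernel

set_option maxRecDepth 100000 in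
theorem ch_2_7_4_10_8 : enum 11 ck11 2 5 9062176 1429 6 8 = true := by
  decide +kernel

set_option maxRecDepth 100000 in
theorem ch_2_7_4_10_9 : enum 11 ck11 2 5 10110752 1685 6 9 = true := by
  decide +kernel

theorem ch_2_7_4_10 : enum 11 ck11 2 6 673568 1173 5 10 = true := by
  refine enum_intro 11 ck11 2 5 673568 1173 5 10 ?_
  intro v hv hb hd
  interval_cases v
  · exact absurd hb (by decide)
  · exact ch_2_7_4_10_1
  · exact absurd hb (by decide)
  · exact ch_2_7_4_10_3
  · exact absurd hb (by decide)
  · exact ch_2_7_4_10_5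
  · exact ch_2_7_4_10_6
  · exact absurd hb (by decide)
  · exact ch_2_7_4_10_8
  · exact ch_2_7_4_10_9
  · exact absurd hb (by decide)

theorem ch_2_7_4 : enum 11 ck11 2 7 18208 149 4 4 = true := by
  refine enum_intro 11 ck11 2 6 18208 149 4 4 ?_
  intro v hv hb hd
  interval_cases v
  · exact absurd hb (by decide)
  · exact ch_2_7_4_1
  · exact absurd hb (by decide)
  · exact ch_2_7_4_3
  · exact absurd hb (by decide)
  · exact absurd hd (by decide)
  · exact ch_2_7_4_6
  · exact absurd hb (by decide)
  · exact ch_2_7_4_8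
  · exact ch_2_7_4_9
  · exact ch_2_7_4_10

set_option maxRecDepth 100000 in
theorem ch_2_7_5_1_3 : enum 11 ck11 2 5 3233568 175 6 3 = true := by
  decide +kernel

set_option maxRecDepth 100000 in
theorem ch_2_7_5_1_4 : enum 11 ck11 2 5 4282144 183 6 4 = true := by
  decide +kernel

set_option maxRecDepth 100000 in
theorem ch_2_7_5_1_6 : enum 11 ck11 2 5 6379296 231 6 6 = true := by
  decide +kernel

set_option maxRecDepth 100000 in
theorem ch_2_7_5_1_8 : enum 11 ck11 2 5 8476448 423 6 8 = true := by
  decide +kernel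

set_option maxRecDepth 100000 in
theorem ch_2_7_5_1_9 : enum 11 ck11 2 5 9525024 679 6 9 = true := by
  decide +kernel

set_option maxRecDepth 100000 in
theorem ch_2_7_5_1_10 : enum 11 ck11 2 5 10573600 1191 6 10 = true := by
  decide +kernel

theorem ch_2_7_5_1 : enum 11 ck11 2 6 87840 167 5 1 = true := by
  refine enum_intro 11 ck11 2 5 87840 167 5 1 ?_
  intro v hv hb hd
  interval_cases v
  · exact absurd hb (by decide)
  · exact absurd hb (by decide)
  · exact absurd hb (by decide)
  · exact ch_2_7_5_1_3
  · exact ch_2_7_5_1_4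
  · exact absurd hb (by decide)
  · exact ch_2_7_5_1_6
  · exact absurd hb (by decide)
  · exact ch_2_7_5_1_8
  · exact ch_2_7_5_1_9
  · exact ch_2_7_5_1_10

set_option maxRecDepth 100000 in
theorem ch_2_7_5_3_1 : enum 11 ck11 2 5 1267488 175 6 1 = true := by
  decide +kernel

set_option maxRecDepth 100000 in
theorem ch_2_7_5_3_6 : enum 11 ck11 2 5 6510368 237 6 6 = true := by
  decide +kernel

set_option maxRecDepth 100000 in
theorem ch_2_7_5_3_8 : enum 11 ck11 2 5 8607520 429 6 8 = true := by
  decide +kernel

set_option maxRecDepth 100000 in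
theorem ch_2_7_5_3_9 : enum 11 ck11 2 5 9656096 685 6 9 = true := by
  decide +kernel

set_option maxRecDepth 100000 in
theorem ch_2_7_5_3_10 : enum 11 ck11 2 5 10704672 1197 6 10 = true := by
  decide +kernel

theorem ch_2_7_5_3 : enum 11 ck11 2 6 218912 173 5 3 = true := by
  refine enum_intro 11 ck11 2 5 218912 173 5 3 ?_
  intro v hv hb hd
  interval_cases v
  · exact absurd hb (by decide)
  · exact ch_2_7_5_3_1
  · exact absurd hb (by decide)
  · exact absurd hb (by decide)
  · exact absurd hd (by decide)
  · exact absurd hb (by decide)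
  · exact ch_2_7_5_3_6
  · exact absurd hb (by decide)
  · exact ch_2_7_5_3_8
  · exact ch_2_7_5_3_9
  · exact ch_2_7_5_3_10

set_option maxRecDepth 100000 in
theorem ch_2_7_5_4_1 : enum 11 ck11 2 5 1333024 183 6 1 = true := by
  decide +kernel

set_option maxRecDepth 100000 in
theorem ch_2_7_5_4_3 : enum 11 ck11 2 5 3430176 189 6 3 = true := by
  decide +kernel

set_option maxRecDepth 100000 in
theorem ch_2_7_5_4_6 : enum 11 ck11 2 5 6575904 245 6 6 = true := by
  decide +kernel

set_option maxRecDepth 100000 in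
theorem ch_2_7_5_4_8 : enum 11 ck11 2 5 8673056 437 6 8 = true := by
  decide +kernel

set_option maxRecDepth 100000 in
theorem ch_2_7_5_4_9 : enum 11 ck11 2 5 9721632 693 6 9 = true := by
  decide +kernel

set_option maxRecDepth 100000 in
theorem ch_2_7_5_4_10 : enum 11 ck11 2 5 10770208 1205 6 10 = true := by
  decide +kernel

theorem ch_2_7_5_4 : enum 11 ck11 2 6 284448 181 5 4 = true := by
  refine enum_intro 11 ck11 2 5 284448 181 5 4 ?_
  intro v hv hb hd
  interval_cases v
  · exact absurd hb (by decide)
  · exact ch_2_7_5_4_1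
  · exact absurd hb (by decide)
  · exact ch_2_7_5_4_3
  · exact absurd hb (by decide)
  · exact absurd hb (by decide)
  · exact ch_2_7_5_4_6
  · exact absurd hb (by decide)
  · exact ch_2_7_5_4_8
  · exact ch_2_7_5_4_9
  · exact ch_2_7_5_4_10

set_option maxRecDepth 100000 in
theorem ch_2_7_5_8_1 : enum 11 ck11 2 5 1595168 423 6 1 = true := by
  decide +kernel

set_option maxRecDepth 100000 in
theorem ch_2_7_5_8_3 : enum 11 ck11 2 5 3692320 429 6 3 = true := by
  decide +kernel

set_option maxRecDepth 100000 in
theorem ch_2_7_5_8_4 : enum 11 ck11 2 5 4740896 437 6 4 = true := by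
  decide +kernel

set_option maxRecDepth 100000 in
theorem ch_2_7_5_8_6 : enum 11 ck11 2 5 6838048 485 6 6 = true := by
  decide +kernel

set_option maxRecDepth 100000 in
theorem ch_2_7_5_8_10 : enum 11 ck11 2 5 11032352 1445 6 10 = true := by
  decide +kernel

theorem ch_2_7_5_8 : enum 11 ck11 2 6 546592 421 5 8 = true := by
  refine enum_intro 11 ck11 2 5 546592 421 5 8 ?_
  intro v hv hb hd
  interval_cases v
  · exact absurd hb (by decide)
  · exact ch_2_7_5_8_1
  · exact absurd hb (by decide)
  · exact ch_2_7_5_8_3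
  · exact ch_2_7_5_8_4
  · exact absurd hb (by decide)
  · exact ch_2_7_5_8_6
  · exact absurd hb (by decide)
  · exact absurd hb (by decide)
  · exact absurd hd (by decide)
  · exact ch_2_7_5_8_10

set_option maxRecDepth 100000 in
theorem ch_2_7_5_9_1 : enum 11 ck11 2 5 1660704 679 6 1 = true := by
  decide +kernel

set_option maxRecDepth 100000 in
theorem ch_2_7_5_9_3 : enum 11 ck11 2 5 3757856 685 6 3 = true := by
  decide +kernel

set_option maxRecDepth 100000 in
theorem ch_2_7_5_9_4 : enum 11 ck11 2 5 4806432 693 6 4 = true := by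
  decide +kernel

set_option maxRecDepth 100000 in
theorem ch_2_7_5_9_6 : enum 11 ck11 2 5 6903584 741 6 6 = true := by
  decide +kernel

set_option maxRecDepth 100000 in
theorem ch_2_7_5_9_8 : enum 11 ck11 2 5 9000736 933 6 8 = true := by
  decide +kernel

theorem ch_2_7_5_9 : enum 11 ck11 2 6 612128 677 5 9 = true := by
  refine enum_intro 11 ck11 2 5 612128 677 5 9 ?_
  intro v hv hb hd
  interval_cases v
  · exact absurd hb (by decide)
  · exact ch_2_7_5_9_1
  · exact absurd hb (by decide)
  · exact ch_2_7_5_9_3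
  · exact ch_2_7_5_9_4
  · exact absurd hb (by decide)
  · exact ch_2_7_5_9_6
  · exact absurd hb (by decide)
  · exact ch_2_7_5_9_8
  · exact absurd hb (by decide)
  · exact absurd hd (by decide)

set_option maxRecDepth 100000 in
theorem ch_2_7_5_10_1 : enum 11 ck11 2 5 1726240 1191 6 1 = true := by
  decide +kernel

set_option maxRecDepth 100000 in
theorem ch_2_7_5_10_3 : enum 11 ck11 2 5 3823392 1197 6 3 = true := by
  decide +kernel

set_option maxRecDepth 100000 in
theorem ch_2_7_5_10_4 : enum 11 ck11 2 5 4871968 1205 6 4 = true := by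
  decide +kernel

set_option maxRecDepth 100000 in
theorem ch_2_7_5_10_6 : enum 11 ck11 2 5 6969120 1253 6 6 = true := by
  decide +kernel

set_option maxRecDepth 100000 in
theorem ch_2_7_5_10_8 : enum 11 ck11 2 5 9066272 1445 6 8 = true := by
  decide +kernel

set_option maxRecDepth 100000 in
theorem ch_2_7_5_10_9 : enum 11 ck11 2 5 10114848 1701 6 9 = true := by
  decide +kernel

theorem ch_2_7_5_10 : enum 11 ck11 2 6 677664 1189 5 10 = true := by
  refine enum_intro 11 ck11 2 5 677664 1189 5 10 ?_
  intro v hv hb hd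
  interval_cases v
  · exact absurd hb (by decide)
  · exact ch_2_7_5_10_1
  · exact absurd hb (by decide)
  · exact ch_2_7_5_10_3
  · exact ch_2_7_5_10_4
  · exact absurd hb (by decide)
  · exact ch_2_7_5_10_6
  · exact absurd hb (by decide)
  · exact ch_2_7_5_10_8
  · exact ch_2_7_5_10_9
  · exact absurd hb (by decide)

theorem ch_2_7_5 : enum 11 ck11 2 7 22304 165 4 5 = true := by
  refine enum_intro 11 ck11 2 6 22304 165 4 5 ?_
  intro v hv hb hd
  interval_cases v
  · exact absurd hb (by decide)
  · exact ch_2_7_5_1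
  · exact absurd hb (by decide)
  · exact ch_2_7_5_3
  · exact ch_2_7_5_4
  · exact absurd hb (by decide)
  · exact absurd hd (by decide)
  · exact absurd hb (by decide)
  · exact ch_2_7_5_8
  · exact ch_2_7_5_9
  · exact ch_2_7_5_10

set_option maxRecDepth 100000 in
theorem ch_2_7_6_1_3 : enum 11 ck11 2 5 3237664 207 6 3 = true := by
  decide +kernel

set_option maxRecDepth 100000 in
theorem ch_2_7_6_1_4 : enum 11 ck11 2 5 4286240 215 6 4 = true := by
  decide +kernel

set_option maxRecDepth 100000 in
theorem ch_2_7_6_1_5 : enum 11 ck11 2 5 5334816 231 6 5 = true := by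
  decide +kernel

set_option maxRecDepth 100000 in
theorem ch_2_7_6_1_8 : enum 11 ck11 2 5 8480544 455 6 8 = true := by
  decide +kernel

set_option maxRecDepth 100000 in
theorem ch_2_7_6_1_9 : enum 11 ck11 2 5 9529120 711 6 9 = true := by
  decide +kernel

set_option maxRecDepth 100000 in
theorem ch_2_7_6_1_10 : enum 11 ck11 2 5 10577696 1223 6 10 = true := by
  decide +kernel

theorem ch_2_7_6_1 : enum 11 ck11 2 6 91936 199 5 1 = true := by
  refine enum_intro 11 ck11 2 5 91936 199 5 1 ?_
  intro v hv hb hd
  interval_cases v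
  · exact absurd hb (by decide)
  · exact absurd hb (by decide)
  · exact absurd hb (by decide)
  · exact ch_2_7_6_1_3
  · exact ch_2_7_6_1_4
  · exact ch_2_7_6_1_5
  · exact absurd hb (by decide)
  · exact absurd hb (by decide)
  · exact ch_2_7_6_1_8
  · exact ch_2_7_6_1_9
  · exact ch_2_7_6_1_10

set_option maxRecDepth 100000 in
theorem ch_2_7_6_3_1 : enum 11 ck11 2 5 1271584 207 6 1 = true := by
  decide +kernel

set_option maxRecDepth 100000 in
theorem ch_2_7_6_3_5 : enum 11 ck11 2 5 5465888 237 6 5 = true := by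
  decide +kernel

set_option maxRecDepth 100000 in
theorem ch_2_7_6_3_8 : enum 11 ck11 2 5 8611616 461 6 8 = true := by
  decide +kernel

set_option maxRecDepth 100000 in
theorem ch_2_7_6_3_9 : enum 11 ck11 2 5 9660192 717 6 9 = true := by
  decide +kernel

set_option maxRecDepth 100000 in
theorem ch_2_7_6_3_10 : enum 11 ck11 2 5 10708768 1229 6 10 = true := by
  decide +kernel

theorem ch_2_7_6_3 : enum 11 ck11 2 6 223008 205 5 3 = true := by
  refine enum_intro 11 ck11 2 5 223008 205 5 3 ?_
  intro v hv hb hd
  interval_cases v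
  · exact absurd hb (by decide)
  · exact ch_2_7_6_3_1
  · exact absurd hb (by decide)
  · exact absurd hb (by decide)
  · exact absurd hd (by decide)
  · exact ch_2_7_6_3_5
  · exact absurd hb (by decide)
  · exact absurd hb (by decide)
  · exact ch_2_7_6_3_8
  · exact ch_2_7_6_3_9
  · exact ch_2_7_6_3_10

set_option maxRecDepth 100000 in
theorem ch_2_7_6_4_1 : enum 11 ck11 2 5 1337120 215 6 1 = true := by
  decide +kernel

set_option maxRecDepth 100000 in
theorem ch_2_7_6_4_3 : enum 11 ck11 2 5 3434272 221 6 3 = true := by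
  decide +kernel

set_option maxRecDepth 100000 in
theorem ch_2_7_6_4_8 : enum 11 ck11 2 5 8677152 469 6 8 = true := by
  decide +kernel

set_option maxRecDepth 100000 in
theorem ch_2_7_6_4_9 : enum 11 ck11 2 5 9725728 725 6 9 = true := by
  decide +kernel

set_option maxRecDepth 100000 in
theorem ch_2_7_6_4_10 : enum 11 ck11 2 5 10774304 1237 6 10 = true := by
  decide +kernel

theorem ch_2_7_6_4 : enum 11 ck11 2 6 288544 213 5 4 = true := by
  refine enum_intro 11 ck11 2 5 288544 213 5 4 ?_
  intro v hv hb hd
  interval_cases v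
  · exact absurd hb (by decide)
  · exact ch_2_7_6_4_1
  · exact absurd hb (by decide)
  · exact ch_2_7_6_4_3
  · exact absurd hb (by decide)
  · exact absurd hd (by decide)
  · exact absurd hb (by decide)
  · exact absurd hb (by decide)
  · exact ch_2_7_6_4_8
  · exact ch_2_7_6_4_9
  · exact ch_2_7_6_4_10

set_option maxRecDepth 100000 in
theorem ch_2_7_6_5_1 : enum 11 ck11 2 5 1402656 231 6 1 = true := by
  decide +kernel

set_option maxRecDepth 100000 in
theorem ch_2_7_6_5_3 : enum 11 ck11 2 5 3499808 237 6 3 = true := by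
  decide +kernel

set_option maxRecDepth 100000 in
theorem ch_2_7_6_5_4 : enum 11 ck11 2 5 4548384 245 6 4 = true := by
  decide +kernel

set_option maxRecDepth 100000 in
theorem ch_2_7_6_5_8 : enum 11 ck11 2 5 8742688 485 6 8 = true := by
  decide +kernel

set_option maxRecDepth 100000 in
theorem ch_2_7_6_5_9 : enum 11 ck11 2 5 9791264 741 6 9 = true := by
  decide +kernel

set_option maxRecDepth 100000 in
theorem ch_2_7_6_5_10 : enum 11 ck11 2 5 10839840 1253 6 10 = true := by
  decide +kernel

theorem ch_2_7_6_5 : enum 11 ck11 2 6 354080 229 5 5 = true := by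
  refine enum_intro 11 ck11 2 5 354080 229 5 5 ?_
  intro v hv hb hd
  interval_cases v
  · exact absurd hb (by decide)
  · exact ch_2_7_6_5_1
  · exact absurd hb (by decide)
  · exact ch_2_7_6_5_3
  · exact ch_2_7_6_5_4
  · exact absurd hb (by decide)
  · exact absurd hb (by decide)
  · exact absurd hb (by decide)
  · exact ch_2_7_6_5_8
  · exact ch_2_7_6_5_9
  · exact ch_2_7_6_5_10

set_option maxRecDepth 100000 in
theorem ch_2_7_6_8_1 : enum 11 ck11 2 5 1599264 455 6 1 = true := by
  decide +kernel

set_option maxRecDepth 100000 in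
theorem ch_2_7_6_8_3 : enum 11 ck11 2 5 3696416 461 6 3 = true := by
  decide +kernel

set_option maxRecDepth 100000 in
theorem ch_2_7_6_8_4 : enum 11 ck11 2 5 4744992 469 6 4 = true := by
  decide +kernel

set_option maxRecDepth 100000 in
theorem ch_2_7_6_8_5 : enum 11 ck11 2 5 5793568 485 6 5 = true := by
  decide +kernel

set_option maxRecDepth 100000 in
theorem ch_2_7_6_8_10 : enum 11 ck11 2 5 11036448 1477 6 10 = true := by
  decide +kernel

theorem ch_2_7_6_8 : enum 11 ck11 2 6 550688 453 5 8 = true := by
  refine enum_intro 11 ck11 2 5 550688 453 5 8 ?_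
  intro v hv hb hd
  interval_cases v
  · exact absurd hb (by decide)
  · exact ch_2_7_6_8_1
  · exact absurd hb (by decide)
  · exact ch_2_7_6_8_3
  · exact ch_2_7_6_8_4
  · exact ch_2_7_6_8_5
  · exact absurd hb (by decide)
  · exact absurd hb (by decide)
  · exact absurd hb (by decide)
  · exact absurd hd (by decide)
  · exact ch_2_7_6_8_10

set_option maxRecDepth 100000 in
theorem ch_2_7_6_9_1 : enum 11 ck11 2 5 1664800 711 6 1 = true := by
  decide +kernel

set_option maxRecDepth 100000 in
theorem ch_2_7_6_9_3 : enum 11 ck11 2 5 3761952 717 6 3 = true := by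
  decide +kernel

set_option maxRecDepth 100000 in
theorem ch_2_7_6_9_4 : enum 11 ck11 2 5 4810528 725 6 4 = true := by
  decide +kernel

set_option maxRecDepth 100000 in
theorem ch_2_7_6_9_5 : enum 11 ck11 2 5 5859104 741 6 5 = true := by
  decide +kernel

set_option maxRecDepth 100000 in
theorem ch_2_7_6_9_8 : enum 11 ck11 2 5 9004832 965 6 8 = true := by
  decide +kernel

theorem ch_2_7_6_9 : enum 11 ck11 2 6 616224 709 5 9 = true := by
  refine enum_intro 11 ck11 2 5 616224 709 5 9 ?_
  intro v hv hb hd
  interval_cases v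
  · exact absurd hb (by decide)
  · exact ch_2_7_6_9_1
  · exact absurd hb (by decide)
  · exact ch_2_7_6_9_3
  · exact ch_2_7_6_9_4
  · exact ch_2_7_6_9_5
  · exact absurd hb (by decide)
  · exact absurd hb (by decide)
  · exact ch_2_7_6_9_8
  · exact absurd hb (by decide)
  · exact absurd hd (by decide)

set_option maxRecDepth 100000 in
theorem ch_2_7_6_10_1 : enum 11 ck11 2 5 1730336 1223 6 1 = true := by
  decide +kernel

set_option maxRecDepth 100000 in
theorem ch_2_7_6_10_3 : enum 11 ck11 2 5 3827488 1229 6 3 = true := by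
  decide +kernel

set_option maxRecDepth 100000 in
theorem ch_2_7_6_10_4 : enum 11 ck11 2 5 4876064 1237 6 4 = true := by
  decide +kernel

set_option maxRecDepth 100000 in
theorem ch_2_7_6_10_5 : enum 11 ck11 2 5 5924640 1253 6 5 = true := by
  decide +kernel

set_option maxRecDepth 100000 in
theorem ch_2_7_6_10_8 : enum 11 ck11 2 5 9070368 1477 6 8 = true := by
  decide +kernel

set_option maxRecDepth 100000 in
theorem ch_2_7_6_10_9 : enum 11 ck11 2 5 10118944 1733 6 9 = true := by
  decide +kernel

theorem ch_2_7_6_10 : enum 11 ck11 2 6 681760 1221 5 10 = true := by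
  refine enum_intro 11 ck11 2 5 681760 1221 5 10 ?_
  intro v hv hb hd
  interval_cases v
  · exact absurd hb (by decide)
  · exact ch_2_7_6_10_1
  · exact absurd hb (by decide)
  · exact ch_2_7_6_10_3
  · exact ch_2_7_6_10_4
  · exact ch_2_7_6_10_5
  · exact absurd hb (by decide)
  · exact absurd hb (by decide)
  · exact ch_2_7_6_10_8
  · exact ch_2_7_6_10_9
  · exact absurd hb (by decide)

theorem ch_2_7_6 : enum 11 ck11 2 7 26400 197 4 6 = true := by
  refine enum_intro 11 ck11 2 6 26400 197 4 6 ?_
  intro v hv hb hd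
  interval_cases v
  · exact absurd hb (by decide)
  · exact ch_2_7_6_1
  · exact absurd hb (by decide)
  · exact ch_2_7_6_3
  · exact ch_2_7_6_4
  · exact ch_2_7_6_5
  · exact absurd hb (by decide)
  · exact absurd hb (by decide)
  · exact ch_2_7_6_8
  · exact ch_2_7_6_9
  · exact ch_2_7_6_10

set_option maxRecDepth 100000 in
theorem ch_2_7_9_1_3 : enum 11 ck11 2 5 3249952 655 6 3 = true := by
  decide +kernel

set_option maxRecDepth 100000 in
theorem ch_2_7_9_1_4 : enum 11 ck11 2 5 4298528 663 6 4 = true := by
  decide +kernel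

set_option maxRecDepth 100000 in
theorem ch_2_7_9_1_5 : enum 11 ck11 2 5 5347104 679 6 5 = true := by
  decide +kernel

set_option maxRecDepth 100000 in
theorem ch_2_7_9_1_6 : enum 11 ck11 2 5 6395680 711 6 6 = true := by
  decide +kernel

set_option maxRecDepth 100000 in
theorem ch_2_7_9_1_8 : enum 11 ck11 2 5 8492832 903 6 8 = true := by
  decide +kernel

set_option maxRecDepth 100000 in
theorem ch_2_7_9_1_10 : enum 11 ck11 2 5 10589984 1671 6 10 = true := by
  decide +kernel

theorem ch_2_7_9_1 : enum 11 ck11 2 6 104224 647 5 1 = true := by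
  refine enum_intro 11 ck11 2 5 104224 647 5 1 ?_
  intro v hv hb hd
  interval_cases v
  · exact absurd hb (by decide)
  · exact absurd hb (by decide)
  · exact absurd hb (by decide)
  · exact ch_2_7_9_1_3
  · exact ch_2_7_9_1_4
  · exact ch_2_7_9_1_5
  · exact ch_2_7_9_1_6
  · exact absurd hb (by decide)
  · exact ch_2_7_9_1_8
  · exact absurd hb (by decide)
  · exact ch_2_7_9_1_10

set_option maxRecDepth 100000 in
theorem ch_2_7_9_3_1 : enum 11 ck11 2 5 1283872 655 6 1 = true := by
  decide +kernel

set_option maxRecDepth 100000 in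
theorem ch_2_7_9_3_5 : enum 11 ck11 2 5 5478176 685 6 5 = true := by
  decide +kernel

set_option maxRecDepth 100000 in
theorem ch_2_7_9_3_6 : enum 11 ck11 2 5 6526752 717 6 6 = true := by
  decide +kernel

set_option maxRecDepth 100000 in
theorem ch_2_7_9_3_8 : enum 11 ck11 2 5 8623904 909 6 8 = true := by
  decide +kernel

set_option maxRecDepth 100000 in
theorem ch_2_7_9_3_10 : enum 11 ck11 2 5 10721056 1677 6 10 = true := by
  decide +kernel

theorem ch_2_7_9_3 : enum 11 ck11 2 6 235296 653 5 3 = true := by
  refine enum_intro 11 ck11 2 5 235296 653 5 3 ?_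
  intro v hv hb hd
  interval_cases v
  · exact absurd hb (by decide)
  · exact ch_2_7_9_3_1
  · exact absurd hb (by decide)
  · exact absurd hb (by decide)
  · exact absurd hd (by decide)
  · exact ch_2_7_9_3_5
  · exact ch_2_7_9_3_6
  · exact absurd hb (by decide)
  · exact ch_2_7_9_3_8
  · exact absurd hb (by decide)
  · exact ch_2_7_9_3_10

set_option maxRecDepth 100000 in
theorem ch_2_7_9_4_1 : enum 11 ck11 2 5 1349408 663 6 1 = true := by
  decide +kernel

set_option maxRecDepth 100000 in
theorem ch_2_7_9_4_3 : enum 11 ck11 2 5 3446560 669 6 3 = true := by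
  decide +kernel

set_option maxRecDepth 100000 in
theorem ch_2_7_9_4_6 : enum 11 ck11 2 5 6592288 725 6 6 = true := by
  decide +kernel

set_option maxRecDepth 100000 in
theorem ch_2_7_9_4_8 : enum 11 ck11 2 5 8689440 917 6 8 = true := by
  decide +kernel

set_option maxRecDepth 100000 in
theorem ch_2_7_9_4_10 : enum 11 ck11 2 5 10786592 1685 6 10 = true := by
  decide +kernel

theorem ch_2_7_9_4 : enum 11 ck11 2 6 300832 661 5 4 = true := by
  refine enum_intro 11 ck11 2 5 300832 661 5 4 ?_
  intro v hv hb hd
  interval_cases v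
  · exact absurd hb (by decide)
  · exact ch_2_7_9_4_1
  · exact absurd hb (by decide)
  · exact ch_2_7_9_4_3
  · exact absurd hb (by decide)
  · exact absurd hd (by decide)
  · exact ch_2_7_9_4_6
  · exact absurd hb (by decide)
  · exact ch_2_7_9_4_8
  · exact absurd hb (by decide)
  · exact ch_2_7_9_4_10

set_option maxRecDepth 100000 in
theorem ch_2_7_9_5_1 : enum 11 ck11 2 5 1414944 679 6 1 = true := by
  decide +kernel

set_option maxRecDepth 100000 in
theorem ch_2_7_9_5_3 : enum 11 ck11 2 5 3512096 685 6 3 = true := by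
  decide +kernel

set_option maxRecDepth 100000 in
theorem ch_2_7_9_5_4 : enum 11 ck11 2 5 4560672 693 6 4 = true := by
  decide +kernel

set_option maxRecDepth 100000 in
theorem ch_2_7_9_5_8 : enum 11 ck11 2 5 8754976 933 6 8 = true := by
  decide +kernel

set_option maxRecDepth 100000 in
theorem ch_2_7_9_5_10 : enum 11 ck11 2 5 10852128 1701 6 10 = true := by
  decide +kernel

theorem ch_2_7_9_5 : enum 11 ck11 2 6 366368 677 5 5 = true := by
  refine enum_intro 11 ck11 2 5 366368 677 5 5 ?_
  intro v hv hb hd
  interval_cases v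
  · exact absurd hb (by decide)
  · exact ch_2_7_9_5_1
  · exact absurd hb (by decide)
  · exact ch_2_7_9_5_3
  · exact ch_2_7_9_5_4
  · exact absurd hb (by decide)
  · exact absurd hd (by decide)
  · exact absurd hb (by decide)
  · exact ch_2_7_9_5_8
  · exact absurd hb (by decide)
  · exact ch_2_7_9_5_10

set_option maxRecDepth 100000 in
theorem ch_2_7_9_6_1 : enum 11 ck11 2 5 1480480 711 6 1 = true := by
  decide +kernel

set_option maxRecDepth 100000 in
theorem ch_2_7_9_6_3 : enum 11 ck11 2 5 3577632 717 6 3 = true := by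
  decide +kernel

set_option maxRecDepth 100000 in
theorem ch_2_7_9_6_4 : enum 11 ck11 2 5 4626208 725 6 4 = true := by
  decide +kernel

set_option maxRecDepth 100000 in
theorem ch_2_7_9_6_5 : enum 11 ck11 2 5 5674784 741 6 5 = true := by
  decide +kernel

set_option maxRecDepth 100000 in
theorem ch_2_7_9_6_8 : enum 11 ck11 2 5 8820512 965 6 8 = true := by
  decide +kernel

set_option maxRecDepth 100000 in
theorem ch_2_7_9_6_10 : enum 11 ck11 2 5 10917664 1733 6 10 = true := by
  decide +kernel

theorem ch_2_7_9_6 : enum 11 ck11 2 6 431904 709 5 6 = true := by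
  refine enum_intro 11 ck11 2 5 431904 709 5 6 ?_
  intro v hv hb hd
  interval_cases v
  · exact absurd hb (by decide)
  · exact ch_2_7_9_6_1
  · exact absurd hb (by decide)
  · exact ch_2_7_9_6_3
  · exact ch_2_7_9_6_4
  · exact ch_2_7_9_6_5
  · exact absurd hb (by decide)
  · exact absurd hb (by decide)
  · exact ch_2_7_9_6_8
  · exact absurd hb (by decide)
  · exact ch_2_7_9_6_10

set_option maxRecDepth 100000 in
theorem ch_2_7_9_8_1 : enum 11 ck11 2 5 1611552 903 6 1 = true := by
  decide +kernel

set_option maxRecDepth 100000 in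
theorem ch_2_7_9_8_3 : enum 11 ck11 2 5 3708704 909 6 3 = true := by
  decide +kernel

set_option maxRecDepth 100000 in
theorem ch_2_7_9_8_4 : enum 11 ck11 2 5 4757280 917 6 4 = true := by
  decide +kernel

set_option maxRecDepth 100000 in
theorem ch_2_7_9_8_5 : enum 11 ck11 2 5 5805856 933 6 5 = true := by
  decide +kernel

set_option maxRecDepth 100000 in
theorem ch_2_7_9_8_6 : enum 11 ck11 2 5 6854432 965 6 6 = true := by
  decide +kernel

set_option maxRecDepth 100000 in
theorem ch_2_7_9_8_10 : enum 11 ck11 2 5 11048736 1925 6 10 = true := by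
  decide +kernel

theorem ch_2_7_9_8 : enum 11 ck11 2 6 562976 901 5 8 = true := by
  refine enum_intro 11 ck11 2 5 562976 901 5 8 ?_
  intro v hv hb hd
  interval_cases v
  · exact absurd hb (by decide)
  · exact ch_2_7_9_8_1
  · exact absurd hb (by decide)
  · exact ch_2_7_9_8_3
  · exact ch_2_7_9_8_4
  · exact ch_2_7_9_8_5
  · exact ch_2_7_9_8_6
  · exact absurd hb (by decide)
  · exact absurd hb (by decide)
  · exact absurd hb (by decide)
  · exact ch_2_7_9_8_10

theorem ch_2_7_9 : enum 11 ck11 2 7 38688 645 4 9 = true := by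
  refine enum_intro 11 ck11 2 6 38688 645 4 9 ?_
  intro v hv hb hd
  interval_cases v
  · exact absurd hb (by decide)
  · exact ch_2_7_9_1
  · exact absurd hb (by decide)
  · exact ch_2_7_9_3
  · exact ch_2_7_9_4
  · exact ch_2_7_9_5
  · exact ch_2_7_9_6
  · exact absurd hb (by decide)
  · exact ch_2_7_9_8
  · exact absurd hb (by decide)
  · exact absurd hd (by decide)

end Cfsg.Agent.Helper9.T11
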