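import Mathlib
import Cfsg.Agent.Helper9.T11.Chk

set_option autoImplicit false
set_option Elab.async false

/-!
A part of the enumeration on 11 points: the test holds at every permutation of the part.
-/

namespace Cfsg.Agent.Helper9.T11

set_option maxRecDepth 100000 in
theorem ch_2_7_10_1_3 : enum 11 ck11 2 5 3254048 1167 6 3 = true := by
  decide +kernel

set_option maxRecDepth 100000 in
theorem ch_2_7_10_1_4 : enum 11 ck11 2 5 4302624 1175 6 4 = true := by
  decide +kernel

set_option maxRecDepth 100000 in
theorem ch_2_7_10_1_5 : enum 11 ck11 2 5 5351200 1191 6 5 = true := by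
  decide +kernel

set_option maxRecDepth 100000 in
theorem ch_2_7_10_1_6 : enum 11 ck11 2 5 6399776 1223 6 6 = true := by
  decide +kernel

set_option maxRecDepth 100000 in
theorem ch_2_7_10_1_8 : enum 11 ck11 2 5 8496928 1415 6 8 = true := by
  decide +kernel

set_option maxRecDepth 100000 in
theorem ch_2_7_10_1_9 : enum 11 ck11 2 5 9545504 1671 6 9 = true := by
  decide +kernel

theorem ch_2_7_10_1 : enum 11 ck11 2 6 108320 1159 5 1 = true := by
  refine enum_intro 11 ck11 2 5 108320 1159 5 1 ?_
  intro v hv hb hd
  interval_cases v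
  · exact absurd hb (by decide)
  · exact absurd hb (by decide)
  · exact absurd hb (by decide)
  · exact ch_2_7_10_1_3
  · exact ch_2_7_10_1_4
  · exact ch_2_7_10_1_5
  · exact ch_2_7_10_1_6
  · exact absurd hb (by decide)
  · exact ch_2_7_10_1_8
  · exact ch_2_7_10_1_9
  · exact absurd hb (by decide)

set_option maxRecDepth 100000 in
theorem ch_2_7_10_3_1 : enum 11 ck11 2 5 1287968 1167 6 1 = true := by
  decide +kernel

set_option maxRecDepth 100000 in
theorem ch_2_7_10_3_5 : enum 11 ck11 2 5 5482272 1197 6 5 = true := by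
  decide +kernel

set_option maxRecDepth 100000 in
theorem ch_2_7_10_3_6 : enum 11 ck11 2 5 6530848 1229 6 6 = true := by
  decide +kernel

set_option maxRecDepth 100000 in
theorem ch_2_7_10_3_8 : enum 11 ck11 2 5 8628000 1421 6 8 = true := by
  decide +kernel

set_option maxRecDepth 100000 in
theorem ch_2_7_10_3_9 : enum 11 ck11 2 5 9676576 1677 6 9 = true := by
  decide +kernel

theorem ch_2_7_10_3 : enum 11 ck11 2 6 239392 1165 5 3 = true := by
  refine enum_intro 11 ck11 2 5 239392 1165 5 3 ?_
  intro v hv hb hd
  interval_cases v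
  · exact absurd hb (by decide)
  · exact ch_2_7_10_3_1
  · exact absurd hb (by decide)
  · exact absurd hb (by decide)
  · exact absurd hd (by decide)
  · exact ch_2_7_10_3_5
  · exact ch_2_7_10_3_6
  · exact absurd hb (by decide)
  · exact ch_2_7_10_3_8
  · exact ch_2_7_10_3_9
  · exact absurd hb (by decide)

set_option maxRecDepth 100000 in
theorem ch_2_7_10_4_1 : enum 11 ck11 2 5 1353504 1175 6 1 = true := by
  decide +kernel

set_option maxRecDepth 100000 in
theorem ch_2_7_10_4_3 : enum 11 ck11 2 5 3450656 1181 6 3 = true := by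
  decide +kernel

set_option maxRecDepth 100000 in
theorem ch_2_7_10_4_6 : enum 11 ck11 2 5 6596384 1237 6 6 = true := by
  decide +kernel

set_option maxRecDepth 100000 in
theorem ch_2_7_10_4_8 : enum 11 ck11 2 5 8693536 1429 6 8 = true := by
  decide +kernel

set_option maxRecDepth 100000 in
theorem ch_2_7_10_4_9 : enum 11 ck11 2 5 9742112 1685 6 9 = true := by
  decide +kernel

theorem ch_2_7_10_4 : enum 11 ck11 2 6 304928 1173 5 4 = true := by
  refine enum_intro 11 ck11 2 5 304928 1173 5 4 ?_
  intro v hv hb hd
  interval_cases v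
  · exact absurd hb (by decide)
  · exact ch_2_7_10_4_1
  · exact absurd hb (by decide)
  · exact ch_2_7_10_4_3
  · exact absurd hb (by decide)
  · exact absurd hd (by decide)
  · exact ch_2_7_10_4_6
  · exact absurd hb (by decide)
  · exact ch_2_7_10_4_8
  · exact ch_2_7_10_4_9
  · exact absurd hb (by decide)

set_option maxRecDepth 100000 in
theorem ch_2_7_10_5_1 : enum 11 ck11 2 5 1419040 1191 6 1 = true := by
  decide +kernel

set_option maxRecDepth 100000 in
theorem ch_2_7_10_5_3 : enum 11 ck11 2 5 3516192 1197 6 3 = true := by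
  decide +kernel

set_option maxRecDepth 100000 in
theorem ch_2_7_10_5_4 : enum 11 ck11 2 5 4564768 1205 6 4 = true := by
  decide +kernel

set_option maxRecDepth 100000 in
theorem ch_2_7_10_5_8 : enum 11 ck11 2 5 8759072 1445 6 8 = true := by
  decide +kernel

set_option maxRecDepth 100000 in
theorem ch_2_7_10_5_9 : enum 11 ck11 2 5 9807648 1701 6 9 = true := by
  decide +kernel

theorem ch_2_7_10_5 : enum 11 ck11 2 6 370464 1189 5 5 = true := by
  refine enum_intro 11 ck11 2 5 370464 1189 5 5 ?_
  intro v hv hb hd
  interval_cases v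
  · exact absurd hb (by decide)
  · exact ch_2_7_10_5_1
  · exact absurd hb (by decide)
  · exact ch_2_7_10_5_3
  · exact ch_2_7_10_5_4
  · exact absurd hb (by decide)
  · exact absurd hd (by decide)
  · exact absurd hb (by decide)
  · exact ch_2_7_10_5_8
  · exact ch_2_7_10_5_9
  · exact absurd hb (by decide)

set_option maxRecDepth 100000 in
theorem ch_2_7_10_6_1 : enum 11 ck11 2 5 1484576 1223 6 1 = true := by
  decide +kernel

set_option maxRecDepth 100000 in
theorem ch_2_7_10_6_3 : enum 11 ck11 2 5 3581728 1229 6 3 = true := by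
  decide +kernel

set_option maxRecDepth 100000 in
theorem ch_2_7_10_6_4 : enum 11 ck11 2 5 4630304 1237 6 4 = true := by
  decide +kernel

set_option maxRecDepth 100000 in
theorem ch_2_7_10_6_5 : enum 11 ck11 2 5 5678880 1253 6 5 = true := by
  decide +kernel

set_option maxRecDepth 100000 in
theorem ch_2_7_10_6_8 : enum 11 ck11 2 5 8824608 1477 6 8 = true := by
  decide +kernel

set_option maxRecDepth 100000 in
theorem ch_2_7_10_6_9 : enum 11 ck11 2 5 9873184 1733 6 9 = true := by
  decide +kernel

theorem ch_2_7_10_6 : enum 11 ck11 2 6 436000 1221 5 6 = true := by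
  refine enum_intro 11 ck11 2 5 436000 1221 5 6 ?_
  intro v hv hb hd
  interval_cases v
  · exact absurd hb (by decide)
  · exact ch_2_7_10_6_1
  · exact absurd hb (by decide)
  · exact ch_2_7_10_6_3
  · exact ch_2_7_10_6_4
  · exact ch_2_7_10_6_5
  · exact absurd hb (by decide)
  · exact absurd hb (by decide)
  · exact ch_2_7_10_6_8
  · exact ch_2_7_10_6_9
  · exact absurd hb (by decide)

set_option maxRecDepth 100000 in
theorem ch_2_7_10_8_1 : enum 11 ck11 2 5 1615648 1415 6 1 = true := by
  decide +kernel

set_option maxRecDepth 100000 in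
theorem ch_2_7_10_8_3 : enum 11 ck11 2 5 3712800 1421 6 3 = true := by
  decide +kernel

set_option maxRecDepth 100000 in
theorem ch_2_7_10_8_4 : enum 11 ck11 2 5 4761376 1429 6 4 = true := by
  decide +kernel

set_option maxRecDepth 100000 in
theorem ch_2_7_10_8_5 : enum 11 ck11 2 5 5809952 1445 6 5 = true := by
  decide +kernel

set_option maxRecDepth 100000 in
theorem ch_2_7_10_8_6 : enum 11 ck11 2 5 6858528 1477 6 6 = true := by
  decide +kernel

theorem ch_2_7_10_8 : enum 11 ck11 2 6 567072 1413 5 8 = true := by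
  refine enum_intro 11 ck11 2 5 567072 1413 5 8 ?_
  intro v hv hb hd
  interval_cases v
  · exact absurd hb (by decide)
  · exact ch_2_7_10_8_1
  · exact absurd hb (by decide)
  · exact ch_2_7_10_8_3
  · exact ch_2_7_10_8_4
  · exact ch_2_7_10_8_5
  · exact ch_2_7_10_8_6
  · exact absurd hb (by decide)
  · exact absurd hb (by decide)
  · exact absurd hd (by decide)
  · exact absurd hb (by decide)

set_option maxRecDepth 100000 in
theorem ch_2_7_10_9_1 : enum 11 ck11 2 5 1681184 1671 6 1 = true := by
  decide +kernel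

set_option maxRecDepth 100000 in
theorem ch_2_7_10_9_3 : enum 11 ck11 2 5 3778336 1677 6 3 = true := by
  decide +kernel

set_option maxRecDepth 100000 in
theorem ch_2_7_10_9_4 : enum 11 ck11 2 5 4826912 1685 6 4 = true := by
  decide +kernel

set_option maxRecDepth 100000 in
theorem ch_2_7_10_9_5 : enum 11 ck11 2 5 5875488 1701 6 5 = true := by
  decide +kernel

set_option maxRecDepth 100000 in
theorem ch_2_7_10_9_6 : enum 11 ck11 2 5 6924064 1733 6 6 = true := by
  decide +kernel

set_option maxRecDepth 100000 in
theorem ch_2_7_10_9_8 : enum 11 ck11 2 5 9021216 1925 6 8 = true := by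
  decide +kernel

theorem ch_2_7_10_9 : enum 11 ck11 2 6 632608 1669 5 9 = true := by
  refine enum_intro 11 ck11 2 5 632608 1669 5 9 ?_
  intro v hv hb hd
  interval_cases v
  · exact absurd hb (by decide)
  · exact ch_2_7_10_9_1
  · exact absurd hb (by decide)
  · exact ch_2_7_10_9_3
  · exact ch_2_7_10_9_4
  · exact ch_2_7_10_9_5
  · exact ch_2_7_10_9_6
  · exact absurd hb (by decide)
  · exact ch_2_7_10_9_8
  · exact absurd hb (by decide)
  · exact absurd hb (by decide)

theorem ch_2_7_10 : enum 11 ck11 2 7 42784 1157 4 10 = true := by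
  refine enum_intro 11 ck11 2 6 42784 1157 4 10 ?_
  intro v hv hb hd
  interval_cases v
  · exact absurd hb (by decide)
  · exact ch_2_7_10_1
  · exact absurd hb (by decide)
  · exact ch_2_7_10_3
  · exact ch_2_7_10_4
  · exact ch_2_7_10_5
  · exact ch_2_7_10_6
  · exact absurd hb (by decide)
  · exact ch_2_7_10_8
  · exact ch_2_7_10_9
  · exact absurd hb (by decide)

end Cfsg.Agent.Helper9.T11
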