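import Mathlib
import Cfsg.Agent.Helper9.T11.Chk

set_option autoImplicit false
set_option Elab.async false

/-!
A part of the enumeration on 11 points: the test holds at every permutation of the part.
-/

namespace Cfsg.Agent.Helper9.T11

set_option maxRecDepth 100000 in
theorem ch_2_8_1_3_5 : enum 11 ck11 2 5 5445664 303 6 5 = true := by
  decide +kernel

set_option maxRecDepth 100000 in
theorem ch_2_8_1_3_6 : enum 11 ck11 2 5 6494240 335 6 6 = true := by
  decide +kernel

set_option maxRecDepth 100000 in
theorem ch_2_8_1_3_7 : enum 11 ck11 2 5 7542816 399 6 7 = true := by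
  decide +kernel

set_option maxRecDepth 100000 in
theorem ch_2_8_1_3_9 : enum 11 ck11 2 5 9639968 783 6 9 = true := by
  decide +kernel

set_option maxRecDepth 100000 in
theorem ch_2_8_1_3_10 : enum 11 ck11 2 5 10688544 1295 6 10 = true := by
  decide +kernel

theorem ch_2_8_1_3 : enum 11 ck11 2 6 202784 271 5 3 = true := by
  refine enum_intro 11 ck11 2 5 202784 271 5 3 ?_
  intro v hv hb hd
  interval_cases v
  · exact absurd hb (by decide)
  · exact absurd hb (by decide)
  · exact absurd hb (by decide)
  · exact absurd hb (by decide)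
  · exact absurd hd (by decide)
  · exact ch_2_8_1_3_5
  · exact ch_2_8_1_3_6
  · exact ch_2_8_1_3_7
  · exact absurd hb (by decide)
  · exact ch_2_8_1_3_9
  · exact ch_2_8_1_3_10

set_option maxRecDepth 100000 in
theorem ch_2_8_1_4_3 : enum 11 ck11 2 5 3414048 287 6 3 = true := by
  decide +kernel

set_option maxRecDepth 100000 in
theorem ch_2_8_1_4_6 : enum 11 ck11 2 5 6559776 343 6 6 = true := by
  decide +kernel

set_option maxRecDepth 100000 in
theorem ch_2_8_1_4_7 : enum 11 ck11 2 5 7608352 407 6 7 = true := by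
  decide +kernel

set_option maxRecDepth 100000 in
theorem ch_2_8_1_4_9 : enum 11 ck11 2 5 9705504 791 6 9 = true := by
  decide +kernel

set_option maxRecDepth 100000 in
theorem ch_2_8_1_4_10 : enum 11 ck11 2 5 10754080 1303 6 10 = true := by
  decide +kernel

theorem ch_2_8_1_4 : enum 11 ck11 2 6 268320 279 5 4 = true := by
  refine enum_intro 11 ck11 2 5 268320 279 5 4 ?_
  intro v hv hb hd
  interval_cases v
  · exact absurd hb (by decide)
  · exact absurd hb (by decide)
  · exact absurd hb (by decide)
  · exact ch_2_8_1_4_3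
  · exact absurd hb (by decide)
  · exact absurd hd (by decide)
  · exact ch_2_8_1_4_6
  · exact ch_2_8_1_4_7
  · exact absurd hb (by decide)
  · exact ch_2_8_1_4_9
  · exact ch_2_8_1_4_10

set_option maxRecDepth 100000 in
theorem ch_2_8_1_5_3 : enum 11 ck11 2 5 3479584 303 6 3 = true := by
  decide +kernel

set_option maxRecDepth 100000 in
theorem ch_2_8_1_5_4 : enum 11 ck11 2 5 4528160 311 6 4 = true := by
  decide +kernel

set_option maxRecDepth 100000 in
theorem ch_2_8_1_5_7 : enum 11 ck11 2 5 7673888 423 6 7 = true := by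
  decide +kernel

set_option maxRecDepth 100000 in
theorem ch_2_8_1_5_9 : enum 11 ck11 2 5 9771040 807 6 9 = true := by
  decide +kernel

set_option maxRecDepth 100000 in
theorem ch_2_8_1_5_10 : enum 11 ck11 2 5 10819616 1319 6 10 = true := by
  decide +kernel

theorem ch_2_8_1_5 : enum 11 ck11 2 6 333856 295 5 5 = true := by
  refine enum_intro 11 ck11 2 5 333856 295 5 5 ?_
  intro v hv hb hd
  interval_cases v
  · exact absurd hb (by decide)
  · exact absurd hb (by decide)
  · exact absurd hb (by decide)
  · exact ch_2_8_1_5_3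
  · exact ch_2_8_1_5_4
  · exact absurd hb (by decide)
  · exact absurd hd (by decide)
  · exact ch_2_8_1_5_7
  · exact absurd hb (by decide)
  · exact ch_2_8_1_5_9
  · exact ch_2_8_1_5_10

set_option maxRecDepth 100000 in
theorem ch_2_8_1_6_3 : enum 11 ck11 2 5 3545120 335 6 3 = true := by
  decide +kernel

set_option maxRecDepth 100000 in
theorem ch_2_8_1_6_4 : enum 11 ck11 2 5 4593696 343 6 4 = true := by
  decide +kernel

set_option maxRecDepth 100000 in
theorem ch_2_8_1_6_5 : enum 11 ck11 2 5 5642272 359 6 5 = true := by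
  decide +kernel

set_option maxRecDepth 100000 in
theorem ch_2_8_1_6_9 : enum 11 ck11 2 5 9836576 839 6 9 = true := by
  decide +kernel

set_option maxRecDepth 100000 in
theorem ch_2_8_1_6_10 : enum 11 ck11 2 5 10885152 1351 6 10 = true := by
  decide +kernel

theorem ch_2_8_1_6 : enum 11 ck11 2 6 399392 327 5 6 = true := by
  refine enum_intro 11 ck11 2 5 399392 327 5 6 ?_
  intro v hv hb hd
  interval_cases v
  · exact absurd hb (by decide)
  · exact absurd hb (by decide)
  · exact absurd hb (by decide)
  · exact ch_2_8_1_6_3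
  · exact ch_2_8_1_6_4
  · exact ch_2_8_1_6_5
  · exact absurd hb (by decide)
  · exact absurd hd (by decide)
  · exact absurd hb (by decide)
  · exact ch_2_8_1_6_9
  · exact ch_2_8_1_6_10

set_option maxRecDepth 100000 in
theorem ch_2_8_1_7_3 : enum 11 ck11 2 5 3610656 399 6 3 = true := by
  decide +kernel

set_option maxRecDepth 100000 in
theorem ch_2_8_1_7_4 : enum 11 ck11 2 5 4659232 407 6 4 = true := by
  decide +kernel

set_option maxRecDepth 100000 in
theorem ch_2_8_1_7_5 : enum 11 ck11 2 5 5707808 423 6 5 = true := by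
  decide +kernel

set_option maxRecDepth 100000 in
theorem ch_2_8_1_7_6 : enum 11 ck11 2 5 6756384 455 6 6 = true := by
  decide +kernel

set_option maxRecDepth 100000 in
theorem ch_2_8_1_7_9 : enum 11 ck11 2 5 9902112 903 6 9 = true := by
  decide +kernel

set_option maxRecDepth 100000 in
theorem ch_2_8_1_7_10 : enum 11 ck11 2 5 10950688 1415 6 10 = true := by
  decide +kernel

theorem ch_2_8_1_7 : enum 11 ck11 2 6 464928 391 5 7 = true := by
  refine enum_intro 11 ck11 2 5 464928 391 5 7 ?_
  intro v hv hb hd
  interval_cases v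
  · exact absurd hb (by decide)
  · exact absurd hb (by decide)
  · exact absurd hb (by decide)
  · exact ch_2_8_1_7_3
  · exact ch_2_8_1_7_4
  · exact ch_2_8_1_7_5
  · exact ch_2_8_1_7_6
  · exact absurd hb (by decide)
  · exact absurd hb (by decide)
  · exact ch_2_8_1_7_9
  · exact ch_2_8_1_7_10

set_option maxRecDepth 100000 in
theorem ch_2_8_1_9_3 : enum 11 ck11 2 5 3741728 783 6 3 = true := by
  decide +kernel

set_option maxRecDepth 100000 in
theorem ch_2_8_1_9_4 : enum 11 ck11 2 5 4790304 791 6 4 = true := by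
  decide +kernel

set_option maxRecDepth 100000 in
theorem ch_2_8_1_9_5 : enum 11 ck11 2 5 5838880 807 6 5 = true := by
  decide +kernel

set_option maxRecDepth 100000 in
theorem ch_2_8_1_9_6 : enum 11 ck11 2 5 6887456 839 6 6 = true := by
  decide +kernel

set_option maxRecDepth 100000 in
theorem ch_2_8_1_9_7 : enum 11 ck11 2 5 7936032 903 6 7 = true := by
  decide +kernel

theorem ch_2_8_1_9 : enum 11 ck11 2 6 596000 775 5 9 = true := by
  refine enum_intro 11 ck11 2 5 596000 775 5 9 ?_
  intro v hv hb hd
  interval_cases v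
  · exact absurd hb (by decide)
  · exact absurd hb (by decide)
  · exact absurd hb (by decide)
  · exact ch_2_8_1_9_3
  · exact ch_2_8_1_9_4
  · exact ch_2_8_1_9_5
  · exact ch_2_8_1_9_6
  · exact ch_2_8_1_9_7
  · exact absurd hb (by decide)
  · exact absurd hb (by decide)
  · exact absurd hd (by decide)

set_option maxRecDepth 100000 in
theorem ch_2_8_1_10_3 : enum 11 ck11 2 5 3807264 1295 6 3 = true := by
  decide +kernel

set_option maxRecDepth 100000 in
theorem ch_2_8_1_10_4 : enum 11 ck11 2 5 4855840 1303 6 4 = true := by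
  decide +kernel

set_option maxRecDepth 100000 in
theorem ch_2_8_1_10_5 : enum 11 ck11 2 5 5904416 1319 6 5 = true := by
  decide +kernel

set_option maxRecDepth 100000 in
theorem ch_2_8_1_10_6 : enum 11 ck11 2 5 6952992 1351 6 6 = true := by
  decide +kernel

set_option maxRecDepth 100000 in
theorem ch_2_8_1_10_7 : enum 11 ck11 2 5 8001568 1415 6 7 = true := by
  decide +kernel

set_option maxRecDepth 100000 in
theorem ch_2_8_1_10_9 : enum 11 ck11 2 5 10098720 1799 6 9 = true := by
  decide +kernel

theorem ch_2_8_1_10 : enum 11 ck11 2 6 661536 1287 5 10 = true := by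
  refine enum_intro 11 ck11 2 5 661536 1287 5 10 ?_
  intro v hv hb hd
  interval_cases v
  · exact absurd hb (by decide)
  · exact absurd hb (by decide)
  · exact absurd hb (by decide)
  · exact ch_2_8_1_10_3
  · exact ch_2_8_1_10_4
  · exact ch_2_8_1_10_5
  · exact ch_2_8_1_10_6
  · exact ch_2_8_1_10_7
  · exact absurd hb (by decide)
  · exact ch_2_8_1_10_9
  · exact absurd hb (by decide)

theorem ch_2_8_1 : enum 11 ck11 2 7 6176 263 4 1 = true := by
  refine enum_intro 11 ck11 2 6 6176 263 4 1 ?_
  intro v hv hb hd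
  interval_cases v
  · exact absurd hb (by decide)
  · exact absurd hb (by decide)
  · exact absurd hb (by decide)
  · exact ch_2_8_1_3
  · exact ch_2_8_1_4
  · exact ch_2_8_1_5
  · exact ch_2_8_1_6
  · exact ch_2_8_1_7
  · exact absurd hb (by decide)
  · exact ch_2_8_1_9
  · exact ch_2_8_1_10

set_option maxRecDepth 100000 in
theorem ch_2_8_3_1_4 : enum 11 ck11 2 5 4274208 287 6 4 = true := by
  decide +kernel

set_option maxRecDepth 100000 in
theorem ch_2_8_3_1_5 : enum 11 ck11 2 5 5322784 303 6 5 = true := by
  decide +kernel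

set_option maxRecDepth 100000 in
theorem ch_2_8_3_1_6 : enum 11 ck11 2 5 6371360 335 6 6 = true := by
  decide +kernel

set_option maxRecDepth 100000 in
theorem ch_2_8_3_1_7 : enum 11 ck11 2 5 7419936 399 6 7 = true := by
  decide +kernel

set_option maxRecDepth 100000 in
theorem ch_2_8_3_1_9 : enum 11 ck11 2 5 9517088 783 6 9 = true := by
  decide +kernel

set_option maxRecDepth 100000 in
theorem ch_2_8_3_1_10 : enum 11 ck11 2 5 10565664 1295 6 10 = true := by
  decide +kernel

theorem ch_2_8_3_1 : enum 11 ck11 2 6 79904 271 5 1 = true := by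
  refine enum_intro 11 ck11 2 5 79904 271 5 1 ?_
  intro v hv hb hd
  interval_cases v
  · exact absurd hb (by decide)
  · exact absurd hb (by decide)
  · exact absurd hb (by decide)
  · exact absurd hb (by decide)
  · exact ch_2_8_3_1_4
  · exact ch_2_8_3_1_5
  · exact ch_2_8_3_1_6
  · exact ch_2_8_3_1_7
  · exact absurd hb (by decide)
  · exact ch_2_8_3_1_9
  · exact ch_2_8_3_1_10

set_option maxRecDepth 100000 in
theorem ch_2_8_3_5_1 : enum 11 ck11 2 5 1390624 303 6 1 = true := by
  decide +kernel

set_option maxRecDepth 100000 in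
theorem ch_2_8_3_5_4 : enum 11 ck11 2 5 4536352 317 6 4 = true := by
  decide +kernel

set_option maxRecDepth 100000 in
theorem ch_2_8_3_5_7 : enum 11 ck11 2 5 7682080 429 6 7 = true := by
  decide +kernel

set_option maxRecDepth 100000 in
theorem ch_2_8_3_5_9 : enum 11 ck11 2 5 9779232 813 6 9 = true := by
  decide +kernel

set_option maxRecDepth 100000 in
theorem ch_2_8_3_5_10 : enum 11 ck11 2 5 10827808 1325 6 10 = true := by
  decide +kernel

theorem ch_2_8_3_5 : enum 11 ck11 2 6 342048 301 5 5 = true := by
  refine enum_intro 11 ck11 2 5 342048 301 5 5 ?_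
  intro v hv hb hd
  interval_cases v
  · exact absurd hb (by decide)
  · exact ch_2_8_3_5_1
  · exact absurd hb (by decide)
  · exact absurd hb (by decide)
  · exact ch_2_8_3_5_4
  · exact absurd hb (by decide)
  · exact absurd hd (by decide)
  · exact ch_2_8_3_5_7
  · exact absurd hb (by decide)
  · exact ch_2_8_3_5_9
  · exact ch_2_8_3_5_10

set_option maxRecDepth 100000 in
theorem ch_2_8_3_6_1 : enum 11 ck11 2 5 1456160 335 6 1 = true := by
  decide +kernel

set_option maxRecDepth 100000 in
theorem ch_2_8_3_6_4 : enum 11 ck11 2 5 4601888 349 6 4 = true := by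
  decide +kernel

set_option maxRecDepth 100000 in
theorem ch_2_8_3_6_5 : enum 11 ck11 2 5 5650464 365 6 5 = true := by
  decide +kernel

set_option maxRecDepth 100000 in
theorem ch_2_8_3_6_9 : enum 11 ck11 2 5 9844768 845 6 9 = true := by
  decide +kernel

set_option maxRecDepth 100000 in
theorem ch_2_8_3_6_10 : enum 11 ck11 2 5 10893344 1357 6 10 = true := by
  decide +kernel

theorem ch_2_8_3_6 : enum 11 ck11 2 6 407584 333 5 6 = true := by
  refine enum_intro 11 ck11 2 5 407584 333 5 6 ?_
  intro v hv hb hd
  interval_cases v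
  · exact absurd hb (by decide)
  · exact ch_2_8_3_6_1
  · exact absurd hb (by decide)
  · exact absurd hb (by decide)
  · exact ch_2_8_3_6_4
  · exact ch_2_8_3_6_5
  · exact absurd hb (by decide)
  · exact absurd hd (by decide)
  · exact absurd hb (by decide)
  · exact ch_2_8_3_6_9
  · exact ch_2_8_3_6_10

set_option maxRecDepth 100000 in
theorem ch_2_8_3_7_1 : enum 11 ck11 2 5 1521696 399 6 1 = true := by
  decide +kernel

set_option maxRecDepth 100000 in
theorem ch_2_8_3_7_4 : enum 11 ck11 2 5 4667424 413 6 4 = true := by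
  decide +kernel

set_option maxRecDepth 100000 in
theorem ch_2_8_3_7_5 : enum 11 ck11 2 5 5716000 429 6 5 = true := by
  decide +kernel

set_option maxRecDepth 100000 in
theorem ch_2_8_3_7_6 : enum 11 ck11 2 5 6764576 461 6 6 = true := by
  decide +kernel

set_option maxRecDepth 100000 in
theorem ch_2_8_3_7_9 : enum 11 ck11 2 5 9910304 909 6 9 = true := by
  decide +kernel

set_option maxRecDepth 100000 in
theorem ch_2_8_3_7_10 : enum 11 ck11 2 5 10958880 1421 6 10 = true := by
  decide +kernel

theorem ch_2_8_3_7 : enum 11 ck11 2 6 473120 397 5 7 = true := by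
  refine enum_intro 11 ck11 2 5 473120 397 5 7 ?_
  intro v hv hb hd
  interval_cases v
  · exact absurd hb (by decide)
  · exact ch_2_8_3_7_1
  · exact absurd hb (by decide)
  · exact absurd hb (by decide)
  · exact ch_2_8_3_7_4
  · exact ch_2_8_3_7_5
  · exact ch_2_8_3_7_6
  · exact absurd hb (by decide)
  · exact absurd hb (by decide)
  · exact ch_2_8_3_7_9
  · exact ch_2_8_3_7_10

set_option maxRecDepth 100000 in
theorem ch_2_8_3_9_1 : enum 11 ck11 2 5 1652768 783 6 1 = true := by
  decide +kernel

set_option maxRecDepth 100000 in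
theorem ch_2_8_3_9_4 : enum 11 ck11 2 5 4798496 797 6 4 = true := by
  decide +kernel

set_option maxRecDepth 100000 in
theorem ch_2_8_3_9_5 : enum 11 ck11 2 5 5847072 813 6 5 = true := by
  decide +kernel

set_option maxRecDepth 100000 in
theorem ch_2_8_3_9_6 : enum 11 ck11 2 5 6895648 845 6 6 = true := by
  decide +kernel

set_option maxRecDepth 100000 in
theorem ch_2_8_3_9_7 : enum 11 ck11 2 5 7944224 909 6 7 = true := by
  decide +kernel

theorem ch_2_8_3_9 : enum 11 ck11 2 6 604192 781 5 9 = true := by
  refine enum_intro 11 ck11 2 5 604192 781 5 9 ?_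
  intro v hv hb hd
  interval_cases v
  · exact absurd hb (by decide)
  · exact ch_2_8_3_9_1
  · exact absurd hb (by decide)
  · exact absurd hb (by decide)
  · exact ch_2_8_3_9_4
  · exact ch_2_8_3_9_5
  · exact ch_2_8_3_9_6
  · exact ch_2_8_3_9_7
  · exact absurd hb (by decide)
  · exact absurd hb (by decide)
  · exact absurd hd (by decide)

set_option maxRecDepth 100000 in
theorem ch_2_8_3_10_1 : enum 11 ck11 2 5 1718304 1295 6 1 = true := by
  decide +kernel

set_option maxRecDepth 100000 in
theorem ch_2_8_3_10_4 : enum 11 ck11 2 5 4864032 1309 6 4 = true := by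
  decide +kernel

set_option maxRecDepth 100000 in
theorem ch_2_8_3_10_5 : enum 11 ck11 2 5 5912608 1325 6 5 = true := by
  decide +kernel

set_option maxRecDepth 100000 in
theorem ch_2_8_3_10_6 : enum 11 ck11 2 5 6961184 1357 6 6 = true := by
  decide +kernel

set_option maxRecDepth 100000 in
theorem ch_2_8_3_10_7 : enum 11 ck11 2 5 8009760 1421 6 7 = true := by
  decide +kernel

set_option maxRecDepth 100000 in
theorem ch_2_8_3_10_9 : enum 11 ck11 2 5 10106912 1805 6 9 = true := by
  decide +kernel

theorem ch_2_8_3_10 : enum 11 ck11 2 6 669728 1293 5 10 = true := by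
  refine enum_intro 11 ck11 2 5 669728 1293 5 10 ?_
  intro v hv hb hd
  interval_cases v
  · exact absurd hb (by decide)
  · exact ch_2_8_3_10_1
  · exact absurd hb (by decide)
  · exact absurd hb (by decide)
  · exact ch_2_8_3_10_4
  · exact ch_2_8_3_10_5
  · exact ch_2_8_3_10_6
  · exact ch_2_8_3_10_7
  · exact absurd hb (by decide)
  · exact ch_2_8_3_10_9
  · exact absurd hb (by decide)

theorem ch_2_8_3 : enum 11 ck11 2 7 14368 269 4 3 = true := by
  refine enum_intro 11 ck11 2 6 14368 269 4 3 ?_
  intro v hv hb hd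
  interval_cases v
  · exact absurd hb (by decide)
  · exact ch_2_8_3_1
  · exact absurd hb (by decide)
  · exact absurd hb (by decide)
  · exact absurd hd (by decide)
  · exact ch_2_8_3_5
  · exact ch_2_8_3_6
  · exact ch_2_8_3_7
  · exact absurd hb (by decide)
  · exact ch_2_8_3_9
  · exact ch_2_8_3_10

set_option maxRecDepth 100000 in
theorem ch_2_8_4_1_3 : enum 11 ck11 2 5 3229728 287 6 3 = true := by
  decide +kernel

set_option maxRecDepth 100000 in
theorem ch_2_8_4_1_5 : enum 11 ck11 2 5 5326880 311 6 5 = true := by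
  decide +kernel

set_option maxRecDepth 100000 in
theorem ch_2_8_4_1_6 : enum 11 ck11 2 5 6375456 343 6 6 = true := by
  decide +kernel

set_option maxRecDepth 100000 in
theorem ch_2_8_4_1_7 : enum 11 ck11 2 5 7424032 407 6 7 = true := by
  decide +kernel

set_option maxRecDepth 100000 in
theorem ch_2_8_4_1_9 : enum 11 ck11 2 5 9521184 791 6 9 = true := by
  decide +kernel

set_option maxRecDepth 100000 in
theorem ch_2_8_4_1_10 : enum 11 ck11 2 5 10569760 1303 6 10 = true := by
  decide +kernel

theorem ch_2_8_4_1 : enum 11 ck11 2 6 84000 279 5 1 = true := by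
  refine enum_intro 11 ck11 2 5 84000 279 5 1 ?_
  intro v hv hb hd
  interval_cases v
  · exact absurd hb (by decide)
  · exact absurd hb (by decide)
  · exact absurd hb (by decide)
  · exact ch_2_8_4_1_3
  · exact absurd hb (by decide)
  · exact ch_2_8_4_1_5
  · exact ch_2_8_4_1_6
  · exact ch_2_8_4_1_7
  · exact absurd hb (by decide)
  · exact ch_2_8_4_1_9
  · exact ch_2_8_4_1_10

set_option maxRecDepth 100000 in
theorem ch_2_8_4_3_1 : enum 11 ck11 2 5 1263648 287 6 1 = true := by
  decide +kernel

set_option maxRecDepth 100000 in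
theorem ch_2_8_4_3_5 : enum 11 ck11 2 5 5457952 317 6 5 = true := by
  decide +kernel

set_option maxRecDepth 100000 in
theorem ch_2_8_4_3_6 : enum 11 ck11 2 5 6506528 349 6 6 = true := by
  decide +kernel

set_option maxRecDepth 100000 in
theorem ch_2_8_4_3_7 : enum 11 ck11 2 5 7555104 413 6 7 = true := by
  decide +kernel

set_option maxRecDepth 100000 in
theorem ch_2_8_4_3_9 : enum 11 ck11 2 5 9652256 797 6 9 = true := by
  decide +kernel

set_option maxRecDepth 100000 in
theorem ch_2_8_4_3_10 : enum 11 ck11 2 5 10700832 1309 6 10 = true := by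
  decide +kernel

theorem ch_2_8_4_3 : enum 11 ck11 2 6 215072 285 5 3 = true := by
  refine enum_intro 11 ck11 2 5 215072 285 5 3 ?_
  intro v hv hb hd
  interval_cases v
  · exact absurd hb (by decide)
  · exact ch_2_8_4_3_1
  · exact absurd hb (by decide)
  · exact absurd hb (by decide)
  · exact absurd hb (by decide)
  · exact ch_2_8_4_3_5
  · exact ch_2_8_4_3_6
  · exact ch_2_8_4_3_7
  · exact absurd hb (by decide)
  · exact ch_2_8_4_3_9
  · exact ch_2_8_4_3_10

set_option maxRecDepth 100000 in
theorem ch_2_8_4_6_1 : enum 11 ck11 2 5 1460256 343 6 1 = true := by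
  decide +kernel

set_option maxRecDepth 100000 in
theorem ch_2_8_4_6_3 : enum 11 ck11 2 5 3557408 349 6 3 = true := by
  decide +kernel

set_option maxRecDepth 100000 in
theorem ch_2_8_4_6_5 : enum 11 ck11 2 5 5654560 373 6 5 = true := by
  decide +kernel

set_option maxRecDepth 100000 in
theorem ch_2_8_4_6_9 : enum 11 ck11 2 5 9848864 853 6 9 = true := by
  decide +kernel

set_option maxRecDepth 100000 in
theorem ch_2_8_4_6_10 : enum 11 ck11 2 5 10897440 1365 6 10 = true := by
  decide +kernel

theorem ch_2_8_4_6 : enum 11 ck11 2 6 411680 341 5 6 = true := by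
  refine enum_intro 11 ck11 2 5 411680 341 5 6 ?_
  intro v hv hb hd
  interval_cases v
  · exact absurd hb (by decide)
  · exact ch_2_8_4_6_1
  · exact absurd hb (by decide)
  · exact ch_2_8_4_6_3
  · exact absurd hb (by decide)
  · exact ch_2_8_4_6_5
  · exact absurd hb (by decide)
  · exact absurd hd (by decide)
  · exact absurd hb (by decide)
  · exact ch_2_8_4_6_9
  · exact ch_2_8_4_6_10

set_option maxRecDepth 100000 in
theorem ch_2_8_4_7_1 : enum 11 ck11 2 5 1525792 407 6 1 = true := by
  decide +kernel

set_option maxRecDepth 100000 in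
theorem ch_2_8_4_7_3 : enum 11 ck11 2 5 3622944 413 6 3 = true := by
  decide +kernel

set_option maxRecDepth 100000 in
theorem ch_2_8_4_7_5 : enum 11 ck11 2 5 5720096 437 6 5 = true := by
  decide +kernel

set_option maxRecDepth 100000 in
theorem ch_2_8_4_7_6 : enum 11 ck11 2 5 6768672 469 6 6 = true := by
  decide +kernel

set_option maxRecDepth 100000 in
theorem ch_2_8_4_7_9 : enum 11 ck11 2 5 9914400 917 6 9 = true := by
  decide +kernel

set_option maxRecDepth 100000 in
theorem ch_2_8_4_7_10 : enum 11 ck11 2 5 10962976 1429 6 10 = true := by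
  decide +kernel

theorem ch_2_8_4_7 : enum 11 ck11 2 6 477216 405 5 7 = true := by
  refine enum_intro 11 ck11 2 5 477216 405 5 7 ?_
  intro v hv hb hd
  interval_cases v
  · exact absurd hb (by decide)
  · exact ch_2_8_4_7_1
  · exact absurd hb (by decide)
  · exact ch_2_8_4_7_3
  · exact absurd hb (by decide)
  · exact ch_2_8_4_7_5
  · exact ch_2_8_4_7_6
  · exact absurd hb (by decide)
  · exact absurd hb (by decide)
  · exact ch_2_8_4_7_9
  · exact ch_2_8_4_7_10

set_option maxRecDepth 100000 in
theorem ch_2_8_4_9_1 : enum 11 ck11 2 5 1656864 791 6 1 = true := by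
  decide +kernel

set_option maxRecDepth 100000 in
theorem ch_2_8_4_9_3 : enum 11 ck11 2 5 3754016 797 6 3 = true := by
  decide +kernel

set_option maxRecDepth 100000 in
theorem ch_2_8_4_9_5 : enum 11 ck11 2 5 5851168 821 6 5 = true := by
  decide +kernel

set_option maxRecDepth 100000 in
theorem ch_2_8_4_9_6 : enum 11 ck11 2 5 6899744 853 6 6 = true := by
  decide +kernel

set_option maxRecDepth 100000 in
theorem ch_2_8_4_9_7 : enum 11 ck11 2 5 7948320 917 6 7 = true := by
  decide +kernel

theorem ch_2_8_4_9 : enum 11 ck11 2 6 608288 789 5 9 = true := by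
  refine enum_intro 11 ck11 2 5 608288 789 5 9 ?_
  intro v hv hb hd
  interval_cases v
  · exact absurd hb (by decide)
  · exact ch_2_8_4_9_1
  · exact absurd hb (by decide)
  · exact ch_2_8_4_9_3
  · exact absurd hb (by decide)
  · exact ch_2_8_4_9_5
  · exact ch_2_8_4_9_6
  · exact ch_2_8_4_9_7
  · exact absurd hb (by decide)
  · exact absurd hb (by decide)
  · exact absurd hd (by decide)

set_option maxRecDepth 100000 in
theorem ch_2_8_4_10_1 : enum 11 ck11 2 5 1722400 1303 6 1 = true := by
  decide +kernel

set_option maxRecDepth 100000 in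
theorem ch_2_8_4_10_3 : enum 11 ck11 2 5 3819552 1309 6 3 = true := by
  decide +kernel

set_option maxRecDepth 100000 in
theorem ch_2_8_4_10_5 : enum 11 ck11 2 5 5916704 1333 6 5 = true := by
  decide +kernel

set_option maxRecDepth 100000 in
theorem ch_2_8_4_10_6 : enum 11 ck11 2 5 6965280 1365 6 6 = true := by
  decide +kernel

set_option maxRecDepth 100000 in
theorem ch_2_8_4_10_7 : enum 11 ck11 2 5 8013856 1429 6 7 = true := by
  decide +kernel

set_option maxRecDepth 100000 in
theorem ch_2_8_4_10_9 : enum 11 ck11 2 5 10111008 1813 6 9 = true := by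
  decide +kernel

theorem ch_2_8_4_10 : enum 11 ck11 2 6 673824 1301 5 10 = true := by
  refine enum_intro 11 ck11 2 5 673824 1301 5 10 ?_
  intro v hv hb hd
  interval_cases v
  · exact absurd hb (by decide)
  · exact ch_2_8_4_10_1
  · exact absurd hb (by decide)
  · exact ch_2_8_4_10_3
  · exact absurd hb (by decide)
  · exact ch_2_8_4_10_5
  · exact ch_2_8_4_10_6
  · exact ch_2_8_4_10_7
  · exact absurd hb (by decide)
  · exact ch_2_8_4_10_9
  · exact absurd hb (by decide)

theorem ch_2_8_4 : enum 11 ck11 2 7 18464 277 4 4 = true := by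
  refine enum_intro 11 ck11 2 6 18464 277 4 4 ?_
  intro v hv hb hd
  interval_cases v
  · exact absurd hb (by decide)
  · exact ch_2_8_4_1
  · exact absurd hb (by decide)
  · exact ch_2_8_4_3
  · exact absurd hb (by decide)
  · exact absurd hd (by decide)
  · exact ch_2_8_4_6
  · exact ch_2_8_4_7
  · exact absurd hb (by decide)
  · exact ch_2_8_4_9
  · exact ch_2_8_4_10

set_option maxRecDepth 100000 in
theorem ch_2_8_5_1_3 : enum 11 ck11 2 5 3233824 303 6 3 = true := by
  decide +kernel

set_option maxRecDepth 100000 in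
theorem ch_2_8_5_1_4 : enum 11 ck11 2 5 4282400 311 6 4 = true := by
  decide +kernel

set_option maxRecDepth 100000 in
theorem ch_2_8_5_1_6 : enum 11 ck11 2 5 6379552 359 6 6 = true := by
  decide +kernel

set_option maxRecDepth 100000 in
theorem ch_2_8_5_1_7 : enum 11 ck11 2 5 7428128 423 6 7 = true := by
  decide +kernel

set_option maxRecDepth 100000 in
theorem ch_2_8_5_1_9 : enum 11 ck11 2 5 9525280 807 6 9 = true := by
  decide +kernel

set_option maxRecDepth 100000 in
theorem ch_2_8_5_1_10 : enum 11 ck11 2 5 10573856 1319 6 10 = true := by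
  decide +kernel

theorem ch_2_8_5_1 : enum 11 ck11 2 6 88096 295 5 1 = true := by
  refine enum_intro 11 ck11 2 5 88096 295 5 1 ?_
  intro v hv hb hd
  interval_cases v
  · exact absurd hb (by decide)
  · exact absurd hb (by decide)
  · exact absurd hb (by decide)
  · exact ch_2_8_5_1_3
  · exact ch_2_8_5_1_4
  · exact absurd hb (by decide)
  · exact ch_2_8_5_1_6
  · exact ch_2_8_5_1_7
  · exact absurd hb (by decide)
  · exact ch_2_8_5_1_9
  · exact ch_2_8_5_1_10

set_option maxRecDepth 100000 in
theorem ch_2_8_5_3_1 : enum 11 ck11 2 5 1267744 303 6 1 = true := by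
  decide +kernel

set_option maxRecDepth 100000 in
theorem ch_2_8_5_3_6 : enum 11 ck11 2 5 6510624 365 6 6 = true := by
  decide +kernel

set_option maxRecDepth 100000 in
theorem ch_2_8_5_3_7 : enum 11 ck11 2 5 7559200 429 6 7 = true := by
  decide +kernel

set_option maxRecDepth 100000 in
theorem ch_2_8_5_3_9 : enum 11 ck11 2 5 9656352 813 6 9 = true := by
  decide +kernel

set_option maxRecDepth 100000 in
theorem ch_2_8_5_3_10 : enum 11 ck11 2 5 10704928 1325 6 10 = true := by
  decide +kernel

theorem ch_2_8_5_3 : enum 11 ck11 2 6 219168 301 5 3 = true := by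
  refine enum_intro 11 ck11 2 5 219168 301 5 3 ?_
  intro v hv hb hd
  interval_cases v
  · exact absurd hb (by decide)
  · exact ch_2_8_5_3_1
  · exact absurd hb (by decide)
  · exact absurd hb (by decide)
  · exact absurd hd (by decide)
  · exact absurd hb (by decide)
  · exact ch_2_8_5_3_6
  · exact ch_2_8_5_3_7
  · exact absurd hb (by decide)
  · exact ch_2_8_5_3_9
  · exact ch_2_8_5_3_10

set_option maxRecDepth 100000 in
theorem ch_2_8_5_4_1 : enum 11 ck11 2 5 1333280 311 6 1 = true := by
  decide +kernel

set_option maxRecDepth 100000 in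
theorem ch_2_8_5_4_3 : enum 11 ck11 2 5 3430432 317 6 3 = true := by
  decide +kernel

set_option maxRecDepth 100000 in
theorem ch_2_8_5_4_6 : enum 11 ck11 2 5 6576160 373 6 6 = true := by
  decide +kernel

set_option maxRecDepth 100000 in
theorem ch_2_8_5_4_7 : enum 11 ck11 2 5 7624736 437 6 7 = true := by
  decide +kernel

set_option maxRecDepth 100000 in
theorem ch_2_8_5_4_9 : enum 11 ck11 2 5 9721888 821 6 9 = true := by
  decide +kernel

set_option maxRecDepth 100000 in
theorem ch_2_8_5_4_10 : enum 11 ck11 2 5 10770464 1333 6 10 = true := by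
  decide +kernel

theorem ch_2_8_5_4 : enum 11 ck11 2 6 284704 309 5 4 = true := by
  refine enum_intro 11 ck11 2 5 284704 309 5 4 ?_
  intro v hv hb hd
  interval_cases v
  · exact absurd hb (by decide)
  · exact ch_2_8_5_4_1
  · exact absurd hb (by decide)
  · exact ch_2_8_5_4_3
  · exact absurd hb (by decide)
  · exact absurd hb (by decide)
  · exact ch_2_8_5_4_6
  · exact ch_2_8_5_4_7
  · exact absurd hb (by decide)
  · exact ch_2_8_5_4_9
  · exact ch_2_8_5_4_10

set_option maxRecDepth 100000 in
theorem ch_2_8_5_7_1 : enum 11 ck11 2 5 1529888 423 6 1 = true := by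
  decide +kernel

set_option maxRecDepth 100000 in
theorem ch_2_8_5_7_3 : enum 11 ck11 2 5 3627040 429 6 3 = true := by
  decide +kernel

set_option maxRecDepth 100000 in
theorem ch_2_8_5_7_4 : enum 11 ck11 2 5 4675616 437 6 4 = true := by
  decide +kernel

set_option maxRecDepth 100000 in
theorem ch_2_8_5_7_6 : enum 11 ck11 2 5 6772768 485 6 6 = true := by
  decide +kernel

set_option maxRecDepth 100000 in
theorem ch_2_8_5_7_9 : enum 11 ck11 2 5 9918496 933 6 9 = true := by
  decide +kernel

set_option maxRecDepth 100000 in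
theorem ch_2_8_5_7_10 : enum 11 ck11 2 5 10967072 1445 6 10 = true := by
  decide +kernel

theorem ch_2_8_5_7 : enum 11 ck11 2 6 481312 421 5 7 = true := by
  refine enum_intro 11 ck11 2 5 481312 421 5 7 ?_
  intro v hv hb hd
  interval_cases v
  · exact absurd hb (by decide)
  · exact ch_2_8_5_7_1
  · exact absurd hb (by decide)
  · exact ch_2_8_5_7_3
  · exact ch_2_8_5_7_4
  · exact absurd hb (by decide)
  · exact ch_2_8_5_7_6
  · exact absurd hb (by decide)
  · exact absurd hb (by decide)
  · exact ch_2_8_5_7_9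
  · exact ch_2_8_5_7_10

set_option maxRecDepth 100000 in
theorem ch_2_8_5_9_1 : enum 11 ck11 2 5 1660960 807 6 1 = true := by
  decide +kernel

set_option maxRecDepth 100000 in
theorem ch_2_8_5_9_3 : enum 11 ck11 2 5 3758112 813 6 3 = true := by
  decide +kernel

set_option maxRecDepth 100000 in
theorem ch_2_8_5_9_4 : enum 11 ck11 2 5 4806688 821 6 4 = true := by
  decide +kernel

set_option maxRecDepth 100000 in
theorem ch_2_8_5_9_6 : enum 11 ck11 2 5 6903840 869 6 6 = true := by
  decide +kernel

set_option maxRecDepth 100000 in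
theorem ch_2_8_5_9_7 : enum 11 ck11 2 5 7952416 933 6 7 = true := by
  decide +kernel

theorem ch_2_8_5_9 : enum 11 ck11 2 6 612384 805 5 9 = true := by
  refine enum_intro 11 ck11 2 5 612384 805 5 9 ?_
  intro v hv hb hd
  interval_cases v
  · exact absurd hb (by decide)
  · exact ch_2_8_5_9_1
  · exact absurd hb (by decide)
  · exact ch_2_8_5_9_3
  · exact ch_2_8_5_9_4
  · exact absurd hb (by decide)
  · exact ch_2_8_5_9_6
  · exact ch_2_8_5_9_7
  · exact absurd hb (by decide)
  · exact absurd hb (by decide)
  · exact absurd hd (by decide)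

set_option maxRecDepth 100000 in
theorem ch_2_8_5_10_1 : enum 11 ck11 2 5 1726496 1319 6 1 = true := by
  decide +kernel

set_option maxRecDepth 100000 in
theorem ch_2_8_5_10_3 : enum 11 ck11 2 5 3823648 1325 6 3 = true := by
  decide +kernel

set_option maxRecDepth 100000 in
theorem ch_2_8_5_10_4 : enum 11 ck11 2 5 4872224 1333 6 4 = true := by
  decide +kernel

set_option maxRecDepth 100000 in
theorem ch_2_8_5_10_6 : enum 11 ck11 2 5 6969376 1381 6 6 = true := by
  decide +kernel

set_option maxRecDepth 100000 in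
theorem ch_2_8_5_10_7 : enum 11 ck11 2 5 8017952 1445 6 7 = true := by
  decide +kernel

set_option maxRecDepth 100000 in
theorem ch_2_8_5_10_9 : enum 11 ck11 2 5 10115104 1829 6 9 = true := by
  decide +kernel

theorem ch_2_8_5_10 : enum 11 ck11 2 6 677920 1317 5 10 = true := by
  refine enum_intro 11 ck11 2 5 677920 1317 5 10 ?_
  intro v hv hb hd
  interval_cases v
  · exact absurd hb (by decide)
  · exact ch_2_8_5_10_1
  · exact absurd hb (by decide)
  · exact ch_2_8_5_10_3
  · exact ch_2_8_5_10_4
  · exact absurd hb (by decide)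
  · exact ch_2_8_5_10_6
  · exact ch_2_8_5_10_7
  · exact absurd hb (by decide)
  · exact ch_2_8_5_10_9
  · exact absurd hb (by decide)

theorem ch_2_8_5 : enum 11 ck11 2 7 22560 293 4 5 = true := by
  refine enum_intro 11 ck11 2 6 22560 293 4 5 ?_
  intro v hv hb hd
  interval_cases v
  · exact absurd hb (by decide)
  · exact ch_2_8_5_1
  · exact absurd hb (by decide)
  · exact ch_2_8_5_3
  · exact ch_2_8_5_4
  · exact absurd hb (by decide)
  · exact absurd hd (by decide)
  · exact ch_2_8_5_7
  · exact absurd hb (by decide)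
  · exact ch_2_8_5_9
  · exact ch_2_8_5_10

set_option maxRecDepth 100000 in
theorem ch_2_8_6_1_3 : enum 11 ck11 2 5 3237920 335 6 3 = true := by
  decide +kernel

set_option maxRecDepth 100000 in
theorem ch_2_8_6_1_4 : enum 11 ck11 2 5 4286496 343 6 4 = true := by
  decide +kernel

set_option maxRecDepth 100000 in
theorem ch_2_8_6_1_5 : enum 11 ck11 2 5 5335072 359 6 5 = true := by
  decide +kernel

set_option maxRecDepth 100000 in
theorem ch_2_8_6_1_7 : enum 11 ck11 2 5 7432224 455 6 7 = true := by
  decide +kernel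

set_option maxRecDepth 100000 in
theorem ch_2_8_6_1_9 : enum 11 ck11 2 5 9529376 839 6 9 = true := by
  decide +kernel

set_option maxRecDepth 100000 in
theorem ch_2_8_6_1_10 : enum 11 ck11 2 5 10577952 1351 6 10 = true := by
  decide +kernel

theorem ch_2_8_6_1 : enum 11 ck11 2 6 92192 327 5 1 = true := by
  refine enum_intro 11 ck11 2 5 92192 327 5 1 ?_
  intro v hv hb hd
  interval_cases v
  · exact absurd hb (by decide)
  · exact absurd hb (by decide)
  · exact absurd hb (by decide)
  · exact ch_2_8_6_1_3
  · exact ch_2_8_6_1_4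
  · exact ch_2_8_6_1_5
  · exact absurd hb (by decide)
  · exact ch_2_8_6_1_7
  · exact absurd hb (by decide)
  · exact ch_2_8_6_1_9
  · exact ch_2_8_6_1_10

set_option maxRecDepth 100000 in
theorem ch_2_8_6_3_1 : enum 11 ck11 2 5 1271840 335 6 1 = true := by
  decide +kernel

set_option maxRecDepth 100000 in
theorem ch_2_8_6_3_5 : enum 11 ck11 2 5 5466144 365 6 5 = true := by
  decide +kernel

set_option maxRecDepth 100000 in
theorem ch_2_8_6_3_7 : enum 11 ck11 2 5 7563296 461 6 7 = true := by
  decide +kernel

set_option maxRecDepth 100000 in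
theorem ch_2_8_6_3_9 : enum 11 ck11 2 5 9660448 845 6 9 = true := by
  decide +kernel

set_option maxRecDepth 100000 in
theorem ch_2_8_6_3_10 : enum 11 ck11 2 5 10709024 1357 6 10 = true := by
  decide +kernel

theorem ch_2_8_6_3 : enum 11 ck11 2 6 223264 333 5 3 = true := by
  refine enum_intro 11 ck11 2 5 223264 333 5 3 ?_
  intro v hv hb hd
  interval_cases v
  · exact absurd hb (by decide)
  · exact ch_2_8_6_3_1
  · exact absurd hb (by decide)
  · exact absurd hb (by decide)
  · exact absurd hd (by decide)
  · exact ch_2_8_6_3_5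
  · exact absurd hb (by decide)
  · exact ch_2_8_6_3_7
  · exact absurd hb (by decide)
  · exact ch_2_8_6_3_9
  · exact ch_2_8_6_3_10

set_option maxRecDepth 100000 in
theorem ch_2_8_6_4_1 : enum 11 ck11 2 5 1337376 343 6 1 = true := by
  decide +kernel

set_option maxRecDepth 100000 in
theorem ch_2_8_6_4_3 : enum 11 ck11 2 5 3434528 349 6 3 = true := by
  decide +kernel

set_option maxRecDepth 100000 in
theorem ch_2_8_6_4_7 : enum 11 ck11 2 5 7628832 469 6 7 = true := by
  decide +kernel

set_option maxRecDepth 100000 in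
theorem ch_2_8_6_4_9 : enum 11 ck11 2 5 9725984 853 6 9 = true := by
  decide +kernel

set_option maxRecDepth 100000 in
theorem ch_2_8_6_4_10 : enum 11 ck11 2 5 10774560 1365 6 10 = true := by
  decide +kernel

theorem ch_2_8_6_4 : enum 11 ck11 2 6 288800 341 5 4 = true := by
  refine enum_intro 11 ck11 2 5 288800 341 5 4 ?_
  intro v hv hb hd
  interval_cases v
  · exact absurd hb (by decide)
  · exact ch_2_8_6_4_1
  · exact absurd hb (by decide)
  · exact ch_2_8_6_4_3
  · exact absurd hb (by decide)
  · exact absurd hd (by decide)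
  · exact absurd hb (by decide)
  · exact ch_2_8_6_4_7
  · exact absurd hb (by decide)
  · exact ch_2_8_6_4_9
  · exact ch_2_8_6_4_10

set_option maxRecDepth 100000 in
theorem ch_2_8_6_5_1 : enum 11 ck11 2 5 1402912 359 6 1 = true := by
  decide +kernel

set_option maxRecDepth 100000 in
theorem ch_2_8_6_5_3 : enum 11 ck11 2 5 3500064 365 6 3 = true := by
  decide +kernel

set_option maxRecDepth 100000 in
theorem ch_2_8_6_5_4 : enum 11 ck11 2 5 4548640 373 6 4 = true := by
  decide +kernel

set_option maxRecDepth 100000 in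
theorem ch_2_8_6_5_7 : enum 11 ck11 2 5 7694368 485 6 7 = true := by
  decide +kernel

set_option maxRecDepth 100000 in
theorem ch_2_8_6_5_9 : enum 11 ck11 2 5 9791520 869 6 9 = true := by
  decide +kernel

set_option maxRecDepth 100000 in
theorem ch_2_8_6_5_10 : enum 11 ck11 2 5 10840096 1381 6 10 = true := by
  decide +kernel

theorem ch_2_8_6_5 : enum 11 ck11 2 6 354336 357 5 5 = true := by
  refine enum_intro 11 ck11 2 5 354336 357 5 5 ?_
  intro v hv hb hd
  interval_cases v
  · exact absurd hb (by decide)
  · exact ch_2_8_6_5_1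
  · exact absurd hb (by decide)
  · exact ch_2_8_6_5_3
  · exact ch_2_8_6_5_4
  · exact absurd hb (by decide)
  · exact absurd hb (by decide)
  · exact ch_2_8_6_5_7
  · exact absurd hb (by decide)
  · exact ch_2_8_6_5_9
  · exact ch_2_8_6_5_10

set_option maxRecDepth 100000 in
theorem ch_2_8_6_9_1 : enum 11 ck11 2 5 1665056 839 6 1 = true := by
  decide +kernel

set_option maxRecDepth 100000 in
theorem ch_2_8_6_9_3 : enum 11 ck11 2 5 3762208 845 6 3 = true := by
  decide +kernel

set_option maxRecDepth 100000 in
theorem ch_2_8_6_9_4 : enum 11 ck11 2 5 4810784 853 6 4 = true := by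
  decide +kernel

set_option maxRecDepth 100000 in
theorem ch_2_8_6_9_5 : enum 11 ck11 2 5 5859360 869 6 5 = true := by
  decide +kernel

set_option maxRecDepth 100000 in
theorem ch_2_8_6_9_7 : enum 11 ck11 2 5 7956512 965 6 7 = true := by
  decide +kernel

theorem ch_2_8_6_9 : enum 11 ck11 2 6 616480 837 5 9 = true := by
  refine enum_intro 11 ck11 2 5 616480 837 5 9 ?_
  intro v hv hb hd
  interval_cases v
  · exact absurd hb (by decide)
  · exact ch_2_8_6_9_1
  · exact absurd hb (by decide)
  · exact ch_2_8_6_9_3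
  · exact ch_2_8_6_9_4
  · exact ch_2_8_6_9_5
  · exact absurd hb (by decide)
  · exact ch_2_8_6_9_7
  · exact absurd hb (by decide)
  · exact absurd hb (by decide)
  · exact absurd hd (by decide)

set_option maxRecDepth 100000 in
theorem ch_2_8_6_10_1 : enum 11 ck11 2 5 1730592 1351 6 1 = true := by
  decide +kernel

set_option maxRecDepth 100000 in
theorem ch_2_8_6_10_3 : enum 11 ck11 2 5 3827744 1357 6 3 = true := by
  decide +kernel

set_option maxRecDepth 100000 in
theorem ch_2_8_6_10_4 : enum 11 ck11 2 5 4876320 1365 6 4 = true := by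
  decide +kernel

set_option maxRecDepth 100000 in
theorem ch_2_8_6_10_5 : enum 11 ck11 2 5 5924896 1381 6 5 = true := by
  decide +kernel

set_option maxRecDepth 100000 in
theorem ch_2_8_6_10_7 : enum 11 ck11 2 5 8022048 1477 6 7 = true := by
  decide +kernel

set_option maxRecDepth 100000 in
theorem ch_2_8_6_10_9 : enum 11 ck11 2 5 10119200 1861 6 9 = true := by
  decide +kernel

theorem ch_2_8_6_10 : enum 11 ck11 2 6 682016 1349 5 10 = true := by
  refine enum_intro 11 ck11 2 5 682016 1349 5 10 ?_
  intro v hv hb hd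
  interval_cases v
  · exact absurd hb (by decide)
  · exact ch_2_8_6_10_1
  · exact absurd hb (by decide)
  · exact ch_2_8_6_10_3
  · exact ch_2_8_6_10_4
  · exact ch_2_8_6_10_5
  · exact absurd hb (by decide)
  · exact ch_2_8_6_10_7
  · exact absurd hb (by decide)
  · exact ch_2_8_6_10_9
  · exact absurd hb (by decide)

theorem ch_2_8_6 : enum 11 ck11 2 7 26656 325 4 6 = true := by
  refine enum_intro 11 ck11 2 6 26656 325 4 6 ?_
  intro v hv hb hd
  interval_cases v
  · exact absurd hb (by decide)
  · exact ch_2_8_6_1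
  · exact absurd hb (by decide)
  · exact ch_2_8_6_3
  · exact ch_2_8_6_4
  · exact ch_2_8_6_5
  · exact absurd hb (by decide)
  · exact absurd hd (by decide)
  · exact absurd hb (by decide)
  · exact ch_2_8_6_9
  · exact ch_2_8_6_10

set_option maxRecDepth 100000 in
theorem ch_2_8_7_1_3 : enum 11 ck11 2 5 3242016 399 6 3 = true := by
  decide +kernel

set_option maxRecDepth 100000 in
theorem ch_2_8_7_1_4 : enum 11 ck11 2 5 4290592 407 6 4 = true := by
  decide +kernel

set_option maxRecDepth 100000 in
theorem ch_2_8_7_1_5 : enum 11 ck11 2 5 5339168 423 6 5 = true := by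
  decide +kernel

set_option maxRecDepth 100000 in
theorem ch_2_8_7_1_6 : enum 11 ck11 2 5 6387744 455 6 6 = true := by
  decide +kernel

set_option maxRecDepth 100000 in
theorem ch_2_8_7_1_9 : enum 11 ck11 2 5 9533472 903 6 9 = true := by
  decide +kernel

set_option maxRecDepth 100000 in
theorem ch_2_8_7_1_10 : enum 11 ck11 2 5 10582048 1415 6 10 = true := by
  decide +kernel

theorem ch_2_8_7_1 : enum 11 ck11 2 6 96288 391 5 1 = true := by
  refine enum_intro 11 ck11 2 5 96288 391 5 1 ?_
  intro v hv hb hd
  interval_cases v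
  · exact absurd hb (by decide)
  · exact absurd hb (by decide)
  · exact absurd hb (by decide)
  · exact ch_2_8_7_1_3
  · exact ch_2_8_7_1_4
  · exact ch_2_8_7_1_5
  · exact ch_2_8_7_1_6
  · exact absurd hb (by decide)
  · exact absurd hb (by decide)
  · exact ch_2_8_7_1_9
  · exact ch_2_8_7_1_10

set_option maxRecDepth 100000 in
theorem ch_2_8_7_3_1 : enum 11 ck11 2 5 1275936 399 6 1 = true := by
  decide +kernel

set_option maxRecDepth 100000 in
theorem ch_2_8_7_3_5 : enum 11 ck11 2 5 5470240 429 6 5 = true := by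
  decide +kernel

set_option maxRecDepth 100000 in
theorem ch_2_8_7_3_6 : enum 11 ck11 2 5 6518816 461 6 6 = true := by
  decide +kernel

set_option maxRecDepth 100000 in
theorem ch_2_8_7_3_9 : enum 11 ck11 2 5 9664544 909 6 9 = true := by
  decide +kernel

set_option maxRecDepth 100000 in
theorem ch_2_8_7_3_10 : enum 11 ck11 2 5 10713120 1421 6 10 = true := by
  decide +kernel

theorem ch_2_8_7_3 : enum 11 ck11 2 6 227360 397 5 3 = true := by
  refine enum_intro 11 ck11 2 5 227360 397 5 3 ?_
  intro v hv hb hd
  interval_cases v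
  · exact absurd hb (by decide)
  · exact ch_2_8_7_3_1
  · exact absurd hb (by decide)
  · exact absurd hb (by decide)
  · exact absurd hd (by decide)
  · exact ch_2_8_7_3_5
  · exact ch_2_8_7_3_6
  · exact absurd hb (by decide)
  · exact absurd hb (by decide)
  · exact ch_2_8_7_3_9
  · exact ch_2_8_7_3_10

set_option maxRecDepth 100000 in
theorem ch_2_8_7_4_1 : enum 11 ck11 2 5 1341472 407 6 1 = true := by
  decide +kernel

set_option maxRecDepth 100000 in
theorem ch_2_8_7_4_3 : enum 11 ck11 2 5 3438624 413 6 3 = true := by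
  decide +kernel

set_option maxRecDepth 100000 in
theorem ch_2_8_7_4_6 : enum 11 ck11 2 5 6584352 469 6 6 = true := by
  decide +kernel

set_option maxRecDepth 100000 in
theorem ch_2_8_7_4_9 : enum 11 ck11 2 5 9730080 917 6 9 = true := by
  decide +kernel

set_option maxRecDepth 100000 in
theorem ch_2_8_7_4_10 : enum 11 ck11 2 5 10778656 1429 6 10 = true := by
  decide +kernel

theorem ch_2_8_7_4 : enum 11 ck11 2 6 292896 405 5 4 = true := by
  refine enum_intro 11 ck11 2 5 292896 405 5 4 ?_
  intro v hv hb hd
  interval_cases v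
  · exact absurd hb (by decide)
  · exact ch_2_8_7_4_1
  · exact absurd hb (by decide)
  · exact ch_2_8_7_4_3
  · exact absurd hb (by decide)
  · exact absurd hd (by decide)
  · exact ch_2_8_7_4_6
  · exact absurd hb (by decide)
  · exact absurd hb (by decide)
  · exact ch_2_8_7_4_9
  · exact ch_2_8_7_4_10

set_option maxRecDepth 100000 in
theorem ch_2_8_7_5_1 : enum 11 ck11 2 5 1407008 423 6 1 = true := by
  decide +kernel

set_option maxRecDepth 100000 in
theorem ch_2_8_7_5_3 : enum 11 ck11 2 5 3504160 429 6 3 = true := by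
  decide +kernel

set_option maxRecDepth 100000 in
theorem ch_2_8_7_5_4 : enum 11 ck11 2 5 4552736 437 6 4 = true := by
  decide +kernel

set_option maxRecDepth 100000 in
theorem ch_2_8_7_5_9 : enum 11 ck11 2 5 9795616 933 6 9 = true := by
  decide +kernel

set_option maxRecDepth 100000 in
theorem ch_2_8_7_5_10 : enum 11 ck11 2 5 10844192 1445 6 10 = true := by
  decide +kernel

theorem ch_2_8_7_5 : enum 11 ck11 2 6 358432 421 5 5 = true := by
  refine enum_intro 11 ck11 2 5 358432 421 5 5 ?_
  intro v hv hb hd
  interval_cases v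
  · exact absurd hb (by decide)
  · exact ch_2_8_7_5_1
  · exact absurd hb (by decide)
  · exact ch_2_8_7_5_3
  · exact ch_2_8_7_5_4
  · exact absurd hb (by decide)
  · exact absurd hd (by decide)
  · exact absurd hb (by decide)
  · exact absurd hb (by decide)
  · exact ch_2_8_7_5_9
  · exact ch_2_8_7_5_10

set_option maxRecDepth 100000 in
theorem ch_2_8_7_6_1 : enum 11 ck11 2 5 1472544 455 6 1 = true := by
  decide +kernel

set_option maxRecDepth 100000 in
theorem ch_2_8_7_6_3 : enum 11 ck11 2 5 3569696 461 6 3 = true := by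
  decide +kernel

set_option maxRecDepth 100000 in
theorem ch_2_8_7_6_4 : enum 11 ck11 2 5 4618272 469 6 4 = true := by
  decide +kernel

set_option maxRecDepth 100000 in
theorem ch_2_8_7_6_5 : enum 11 ck11 2 5 5666848 485 6 5 = true := by
  decide +kernel

set_option maxRecDepth 100000 in
theorem ch_2_8_7_6_9 : enum 11 ck11 2 5 9861152 965 6 9 = true := by
  decide +kernel

set_option maxRecDepth 100000 in
theorem ch_2_8_7_6_10 : enum 11 ck11 2 5 10909728 1477 6 10 = true := by
  decide +kernel

theorem ch_2_8_7_6 : enum 11 ck11 2 6 423968 453 5 6 = true := by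
  refine enum_intro 11 ck11 2 5 423968 453 5 6 ?_
  intro v hv hb hd
  interval_cases v
  · exact absurd hb (by decide)
  · exact ch_2_8_7_6_1
  · exact absurd hb (by decide)
  · exact ch_2_8_7_6_3
  · exact ch_2_8_7_6_4
  · exact ch_2_8_7_6_5
  · exact absurd hb (by decide)
  · exact absurd hb (by decide)
  · exact absurd hb (by decide)
  · exact ch_2_8_7_6_9
  · exact ch_2_8_7_6_10

set_option maxRecDepth 100000 in
theorem ch_2_8_7_9_1 : enum 11 ck11 2 5 1669152 903 6 1 = true := by
  decide +kernel

set_option maxRecDepth 100000 in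
theorem ch_2_8_7_9_3 : enum 11 ck11 2 5 3766304 909 6 3 = true := by
  decide +kernel

set_option maxRecDepth 100000 in
theorem ch_2_8_7_9_4 : enum 11 ck11 2 5 4814880 917 6 4 = true := by
  decide +kernel

set_option maxRecDepth 100000 in
theorem ch_2_8_7_9_5 : enum 11 ck11 2 5 5863456 933 6 5 = true := by
  decide +kernel

set_option maxRecDepth 100000 in
theorem ch_2_8_7_9_6 : enum 11 ck11 2 5 6912032 965 6 6 = true := by
  decide +kernel

theorem ch_2_8_7_9 : enum 11 ck11 2 6 620576 901 5 9 = true := by
  refine enum_intro 11 ck11 2 5 620576 901 5 9 ?_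
  intro v hv hb hd
  interval_cases v
  · exact absurd hb (by decide)
  · exact ch_2_8_7_9_1
  · exact absurd hb (by decide)
  · exact ch_2_8_7_9_3
  · exact ch_2_8_7_9_4
  · exact ch_2_8_7_9_5
  · exact ch_2_8_7_9_6
  · exact absurd hb (by decide)
  · exact absurd hb (by decide)
  · exact absurd hb (by decide)
  · exact absurd hd (by decide)

set_option maxRecDepth 100000 in
theorem ch_2_8_7_10_1 : enum 11 ck11 2 5 1734688 1415 6 1 = true := by
  decide +kernel

set_option maxRecDepth 100000 in
theorem ch_2_8_7_10_3 : enum 11 ck11 2 5 3831840 1421 6 3 = true := by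
  decide +kernel

set_option maxRecDepth 100000 in
theorem ch_2_8_7_10_4 : enum 11 ck11 2 5 4880416 1429 6 4 = true := by
  decide +kernel

set_option maxRecDepth 100000 in
theorem ch_2_8_7_10_5 : enum 11 ck11 2 5 5928992 1445 6 5 = true := by
  decide +kernel

set_option maxRecDepth 100000 in
theorem ch_2_8_7_10_6 : enum 11 ck11 2 5 6977568 1477 6 6 = true := by
  decide +kernel

set_option maxRecDepth 100000 in
theorem ch_2_8_7_10_9 : enum 11 ck11 2 5 10123296 1925 6 9 = true := by
  decide +kernel

theorem ch_2_8_7_10 : enum 11 ck11 2 6 686112 1413 5 10 = true := by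
  refine enum_intro 11 ck11 2 5 686112 1413 5 10 ?_
  intro v hv hb hd
  interval_cases v
  · exact absurd hb (by decide)
  · exact ch_2_8_7_10_1
  · exact absurd hb (by decide)
  · exact ch_2_8_7_10_3
  · exact ch_2_8_7_10_4
  · exact ch_2_8_7_10_5
  · exact ch_2_8_7_10_6
  · exact absurd hb (by decide)
  · exact absurd hb (by decide)
  · exact ch_2_8_7_10_9
  · exact absurd hb (by decide)

theorem ch_2_8_7 : enum 11 ck11 2 7 30752 389 4 7 = true := by
  refine enum_intro 11 ck11 2 6 30752 389 4 7 ?_
  intro v hv hb hd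
  interval_cases v
  · exact absurd hb (by decide)
  · exact ch_2_8_7_1
  · exact absurd hb (by decide)
  · exact ch_2_8_7_3
  · exact ch_2_8_7_4
  · exact ch_2_8_7_5
  · exact ch_2_8_7_6
  · exact absurd hb (by decide)
  · exact absurd hb (by decide)
  · exact ch_2_8_7_9
  · exact ch_2_8_7_10

end Cfsg.Agent.Helper9.T11
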