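import Mathlib
import Cfsg.Agent.Helper9.T11.Chk

set_option autoImplicit false
set_option Elab.async false

/-!
A part of the enumeration on 11 points: the test holds at every permutation of the part.
-/

namespace Cfsg.Agent.Helper9.T11

set_option maxRecDepth 100000 in
theorem ch_2_8_10_1_3 : enum 11 ck11 2 5 3254304 1295 6 3 = true := by
  decide +kernel

set_option maxRecDepth 100000 in
theorem ch_2_8_10_1_4 : enum 11 ck11 2 5 4302880 1303 6 4 = true := by
  decide +kernel

set_option maxRecDepth 100000 in
theorem ch_2_8_10_1_5 : enum 11 ck11 2 5 5351456 1319 6 5 = true := by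
  decide +kernel

set_option maxRecDepth 100000 in
theorem ch_2_8_10_1_6 : enum 11 ck11 2 5 6400032 1351 6 6 = true := by
  decide +kernel

set_option maxRecDepth 100000 in
theorem ch_2_8_10_1_7 : enum 11 ck11 2 5 7448608 1415 6 7 = true := by
  decide +kernel

set_option maxRecDepth 100000 in
theorem ch_2_8_10_1_9 : enum 11 ck11 2 5 9545760 1799 6 9 = true := by
  decide +kernel

theorem ch_2_8_10_1 : enum 11 ck11 2 6 108576 1287 5 1 = true := by
  refine enum_intro 11 ck11 2 5 108576 1287 5 1 ?_
  intro v hv hb hd
  interval_cases v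
  · exact absurd hb (by decide)
  · exact absurd hb (by decide)
  · exact absurd hb (by decide)
  · exact ch_2_8_10_1_3
  · exact ch_2_8_10_1_4
  · exact ch_2_8_10_1_5
  · exact ch_2_8_10_1_6
  · exact ch_2_8_10_1_7
  · exact absurd hb (by decide)
  · exact ch_2_8_10_1_9
  · exact absurd hb (by decide)

set_option maxRecDepth 100000 in
theorem ch_2_8_10_3_1 : enum 11 ck11 2 5 1288224 1295 6 1 = true := by
  decide +kernel

set_option maxRecDepth 100000 in
theorem ch_2_8_10_3_5 : enum 11 ck11 2 5 5482528 1325 6 5 = true := by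
  decide +kernel

set_option maxRecDepth 100000 in
theorem ch_2_8_10_3_6 : enum 11 ck11 2 5 6531104 1357 6 6 = true := by
  decide +kernel

set_option maxRecDepth 100000 in
theorem ch_2_8_10_3_7 : enum 11 ck11 2 5 7579680 1421 6 7 = true := by
  decide +kernel

set_option maxRecDepth 100000 in
theorem ch_2_8_10_3_9 : enum 11 ck11 2 5 9676832 1805 6 9 = true := by
  decide +kernel

theorem ch_2_8_10_3 : enum 11 ck11 2 6 239648 1293 5 3 = true := by
  refine enum_intro 11 ck11 2 5 239648 1293 5 3 ?_
  intro v hv hb hd
  interval_cases v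
  · exact absurd hb (by decide)
  · exact ch_2_8_10_3_1
  · exact absurd hb (by decide)
  · exact absurd hb (by decide)
  · exact absurd hd (by decide)
  · exact ch_2_8_10_3_5
  · exact ch_2_8_10_3_6
  · exact ch_2_8_10_3_7
  · exact absurd hb (by decide)
  · exact ch_2_8_10_3_9
  · exact absurd hb (by decide)

set_option maxRecDepth 100000 in
theorem ch_2_8_10_4_1 : enum 11 ck11 2 5 1353760 1303 6 1 = true := by
  decide +kernel

set_option maxRecDepth 100000 in
theorem ch_2_8_10_4_3 : enum 11 ck11 2 5 3450912 1309 6 3 = true := by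
  decide +kernel

set_option maxRecDepth 100000 in
theorem ch_2_8_10_4_6 : enum 11 ck11 2 5 6596640 1365 6 6 = true := by
  decide +kernel

set_option maxRecDepth 100000 in
theorem ch_2_8_10_4_7 : enum 11 ck11 2 5 7645216 1429 6 7 = true := by
  decide +kernel

set_option maxRecDepth 100000 in
theorem ch_2_8_10_4_9 : enum 11 ck11 2 5 9742368 1813 6 9 = true := by
  decide +kernel

theorem ch_2_8_10_4 : enum 11 ck11 2 6 305184 1301 5 4 = true := by
  refine enum_intro 11 ck11 2 5 305184 1301 5 4 ?_
  intro v hv hb hd
  interval_cases v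
  · exact absurd hb (by decide)
  · exact ch_2_8_10_4_1
  · exact absurd hb (by decide)
  · exact ch_2_8_10_4_3
  · exact absurd hb (by decide)
  · exact absurd hd (by decide)
  · exact ch_2_8_10_4_6
  · exact ch_2_8_10_4_7
  · exact absurd hb (by decide)
  · exact ch_2_8_10_4_9
  · exact absurd hb (by decide)

set_option maxRecDepth 100000 in
theorem ch_2_8_10_5_1 : enum 11 ck11 2 5 1419296 1319 6 1 = true := by
  decide +kernel

set_option maxRecDepth 100000 in
theorem ch_2_8_10_5_3 : enum 11 ck11 2 5 3516448 1325 6 3 = true := by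
  decide +kernel

set_option maxRecDepth 100000 in
theorem ch_2_8_10_5_4 : enum 11 ck11 2 5 4565024 1333 6 4 = true := by
  decide +kernel

set_option maxRecDepth 100000 in
theorem ch_2_8_10_5_7 : enum 11 ck11 2 5 7710752 1445 6 7 = true := by
  decide +kernel

set_option maxRecDepth 100000 in
theorem ch_2_8_10_5_9 : enum 11 ck11 2 5 9807904 1829 6 9 = true := by
  decide +kernel

theorem ch_2_8_10_5 : enum 11 ck11 2 6 370720 1317 5 5 = true := by
  refine enum_intro 11 ck11 2 5 370720 1317 5 5 ?_
  intro v hv hb hd
  interval_cases v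
  · exact absurd hb (by decide)
  · exact ch_2_8_10_5_1
  · exact absurd hb (by decide)
  · exact ch_2_8_10_5_3
  · exact ch_2_8_10_5_4
  · exact absurd hb (by decide)
  · exact absurd hd (by decide)
  · exact ch_2_8_10_5_7
  · exact absurd hb (by decide)
  · exact ch_2_8_10_5_9
  · exact absurd hb (by decide)

set_option maxRecDepth 100000 in
theorem ch_2_8_10_6_1 : enum 11 ck11 2 5 1484832 1351 6 1 = true := by
  decide +kernel

set_option maxRecDepth 100000 in
theorem ch_2_8_10_6_3 : enum 11 ck11 2 5 3581984 1357 6 3 = true := by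
  decide +kernel

set_option maxRecDepth 100000 in
theorem ch_2_8_10_6_4 : enum 11 ck11 2 5 4630560 1365 6 4 = true := by
  decide +kernel

set_option maxRecDepth 100000 in
theorem ch_2_8_10_6_5 : enum 11 ck11 2 5 5679136 1381 6 5 = true := by
  decide +kernel

set_option maxRecDepth 100000 in
theorem ch_2_8_10_6_9 : enum 11 ck11 2 5 9873440 1861 6 9 = true := by
  decide +kernel

theorem ch_2_8_10_6 : enum 11 ck11 2 6 436256 1349 5 6 = true := by
  refine enum_intro 11 ck11 2 5 436256 1349 5 6 ?_
  intro v hv hb hd
  interval_cases v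
  · exact absurd hb (by decide)
  · exact ch_2_8_10_6_1
  · exact absurd hb (by decide)
  · exact ch_2_8_10_6_3
  · exact ch_2_8_10_6_4
  · exact ch_2_8_10_6_5
  · exact absurd hb (by decide)
  · exact absurd hd (by decide)
  · exact absurd hb (by decide)
  · exact ch_2_8_10_6_9
  · exact absurd hb (by decide)

set_option maxRecDepth 100000 in
theorem ch_2_8_10_7_1 : enum 11 ck11 2 5 1550368 1415 6 1 = true := by
  decide +kernel

set_option maxRecDepth 100000 in
theorem ch_2_8_10_7_3 : enum 11 ck11 2 5 3647520 1421 6 3 = true := by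
  decide +kernel

set_option maxRecDepth 100000 in
theorem ch_2_8_10_7_4 : enum 11 ck11 2 5 4696096 1429 6 4 = true := by
  decide +kernel

set_option maxRecDepth 100000 in
theorem ch_2_8_10_7_5 : enum 11 ck11 2 5 5744672 1445 6 5 = true := by
  decide +kernel

set_option maxRecDepth 100000 in
theorem ch_2_8_10_7_6 : enum 11 ck11 2 5 6793248 1477 6 6 = true := by
  decide +kernel

set_option maxRecDepth 100000 in
theorem ch_2_8_10_7_9 : enum 11 ck11 2 5 9938976 1925 6 9 = true := by
  decide +kernel

theorem ch_2_8_10_7 : enum 11 ck11 2 6 501792 1413 5 7 = true := by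
  refine enum_intro 11 ck11 2 5 501792 1413 5 7 ?_
  intro v hv hb hd
  interval_cases v
  · exact absurd hb (by decide)
  · exact ch_2_8_10_7_1
  · exact absurd hb (by decide)
  · exact ch_2_8_10_7_3
  · exact ch_2_8_10_7_4
  · exact ch_2_8_10_7_5
  · exact ch_2_8_10_7_6
  · exact absurd hb (by decide)
  · exact absurd hb (by decide)
  · exact ch_2_8_10_7_9
  · exact absurd hb (by decide)

set_option maxRecDepth 100000 in
theorem ch_2_8_10_9_1 : enum 11 ck11 2 5 1681440 1799 6 1 = true := by
  decide +kernel

set_option maxRecDepth 100000 in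
theorem ch_2_8_10_9_3 : enum 11 ck11 2 5 3778592 1805 6 3 = true := by
  decide +kernel

set_option maxRecDepth 100000 in
theorem ch_2_8_10_9_4 : enum 11 ck11 2 5 4827168 1813 6 4 = true := by
  decide +kernel

set_option maxRecDepth 100000 in
theorem ch_2_8_10_9_5 : enum 11 ck11 2 5 5875744 1829 6 5 = true := by
  decide +kernel

set_option maxRecDepth 100000 in
theorem ch_2_8_10_9_6 : enum 11 ck11 2 5 6924320 1861 6 6 = true := by
  decide +kernel

set_option maxRecDepth 100000 in
theorem ch_2_8_10_9_7 : enum 11 ck11 2 5 7972896 1925 6 7 = true := by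
  decide +kernel

theorem ch_2_8_10_9 : enum 11 ck11 2 6 632864 1797 5 9 = true := by
  refine enum_intro 11 ck11 2 5 632864 1797 5 9 ?_
  intro v hv hb hd
  interval_cases v
  · exact absurd hb (by decide)
  · exact ch_2_8_10_9_1
  · exact absurd hb (by decide)
  · exact ch_2_8_10_9_3
  · exact ch_2_8_10_9_4
  · exact ch_2_8_10_9_5
  · exact ch_2_8_10_9_6
  · exact ch_2_8_10_9_7
  · exact absurd hb (by decide)
  · exact absurd hb (by decide)
  · exact absurd hb (by decide)

theorem ch_2_8_10 : enum 11 ck11 2 7 43040 1285 4 10 = true := by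
  refine enum_intro 11 ck11 2 6 43040 1285 4 10 ?_
  intro v hv hb hd
  interval_cases v
  · exact absurd hb (by decide)
  · exact ch_2_8_10_1
  · exact absurd hb (by decide)
  · exact ch_2_8_10_3
  · exact ch_2_8_10_4
  · exact ch_2_8_10_5
  · exact ch_2_8_10_6
  · exact ch_2_8_10_7
  · exact absurd hb (by decide)
  · exact ch_2_8_10_9
  · exact absurd hb (by decide)

end Cfsg.Agent.Helper9.T11
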