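import Mathlib
import Cfsg.Agent.Helper9.T11.Chk

set_option autoImplicit false
set_option Elab.async false

/-!
A part of the enumeration on 11 points: the test holds at every permutation of the part.
-/

namespace Cfsg.Agent.Helper9.T11

set_option maxRecDepth 100000 in
theorem ch_2_9_1_3_5 : enum 11 ck11 2 5 5445920 559 6 5 = true := by
  decide +kernel

set_option maxRecDepth 100000 in
theorem ch_2_9_1_3_6 : enum 11 ck11 2 5 6494496 591 6 6 = true := by
  decide +kernel

set_option maxRecDepth 100000 in
theorem ch_2_9_1_3_7 : enum 11 ck11 2 5 7543072 655 6 7 = true := by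
  decide +kernel

set_option maxRecDepth 100000 in
theorem ch_2_9_1_3_8 : enum 11 ck11 2 5 8591648 783 6 8 = true := by
  decide +kernel

set_option maxRecDepth 100000 in
theorem ch_2_9_1_3_10 : enum 11 ck11 2 5 10688800 1551 6 10 = true := by
  decide +kernel

theorem ch_2_9_1_3 : enum 11 ck11 2 6 203040 527 5 3 = true := by
  refine enum_intro 11 ck11 2 5 203040 527 5 3 ?_
  intro v hv hb hd
  interval_cases v
  · exact absurd hb (by decide)
  · exact absurd hb (by decide)
  · exact absurd hb (by decide)
  · exact absurd hb (by decide)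
  · exact absurd hd (by decide)
  · exact ch_2_9_1_3_5
  · exact ch_2_9_1_3_6
  · exact ch_2_9_1_3_7
  · exact ch_2_9_1_3_8
  · exact absurd hb (by decide)
  · exact ch_2_9_1_3_10

set_option maxRecDepth 100000 in
theorem ch_2_9_1_4_3 : enum 11 ck11 2 5 3414304 543 6 3 = true := by
  decide +kernel

set_option maxRecDepth 100000 in
theorem ch_2_9_1_4_6 : enum 11 ck11 2 5 6560032 599 6 6 = true := by
  decide +kernel

set_option maxRecDepth 100000 in
theorem ch_2_9_1_4_7 : enum 11 ck11 2 5 7608608 663 6 7 = true := by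
  decide +kernel

set_option maxRecDepth 100000 in
theorem ch_2_9_1_4_8 : enum 11 ck11 2 5 8657184 791 6 8 = true := by
  decide +kernel

set_option maxRecDepth 100000 in
theorem ch_2_9_1_4_10 : enum 11 ck11 2 5 10754336 1559 6 10 = true := by
  decide +kernel

theorem ch_2_9_1_4 : enum 11 ck11 2 6 268576 535 5 4 = true := by
  refine enum_intro 11 ck11 2 5 268576 535 5 4 ?_
  intro v hv hb hd
  interval_cases v
  · exact absurd hb (by decide)
  · exact absurd hb (by decide)
  · exact absurd hb (by decide)
  · exact ch_2_9_1_4_3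
  · exact absurd hb (by decide)
  · exact absurd hd (by decide)
  · exact ch_2_9_1_4_6
  · exact ch_2_9_1_4_7
  · exact ch_2_9_1_4_8
  · exact absurd hb (by decide)
  · exact ch_2_9_1_4_10

set_option maxRecDepth 100000 in
theorem ch_2_9_1_5_3 : enum 11 ck11 2 5 3479840 559 6 3 = true := by
  decide +kernel

set_option maxRecDepth 100000 in
theorem ch_2_9_1_5_4 : enum 11 ck11 2 5 4528416 567 6 4 = true := by
  decide +kernel

set_option maxRecDepth 100000 in
theorem ch_2_9_1_5_7 : enum 11 ck11 2 5 7674144 679 6 7 = true := by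
  decide +kernel

set_option maxRecDepth 100000 in
theorem ch_2_9_1_5_8 : enum 11 ck11 2 5 8722720 807 6 8 = true := by
  decide +kernel

set_option maxRecDepth 100000 in
theorem ch_2_9_1_5_10 : enum 11 ck11 2 5 10819872 1575 6 10 = true := by
  decide +kernel

theorem ch_2_9_1_5 : enum 11 ck11 2 6 334112 551 5 5 = true := by
  refine enum_intro 11 ck11 2 5 334112 551 5 5 ?_
  intro v hv hb hd
  interval_cases v
  · exact absurd hb (by decide)
  · exact absurd hb (by decide)
  · exact absurd hb (by decide)
  · exact ch_2_9_1_5_3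
  · exact ch_2_9_1_5_4
  · exact absurd hb (by decide)
  · exact absurd hd (by decide)
  · exact ch_2_9_1_5_7
  · exact ch_2_9_1_5_8
  · exact absurd hb (by decide)
  · exact ch_2_9_1_5_10

set_option maxRecDepth 100000 in
theorem ch_2_9_1_6_3 : enum 11 ck11 2 5 3545376 591 6 3 = true := by
  decide +kernel

set_option maxRecDepth 100000 in
theorem ch_2_9_1_6_4 : enum 11 ck11 2 5 4593952 599 6 4 = true := by
  decide +kernel

set_option maxRecDepth 100000 in
theorem ch_2_9_1_6_5 : enum 11 ck11 2 5 5642528 615 6 5 = true := by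
  decide +kernel

set_option maxRecDepth 100000 in
theorem ch_2_9_1_6_8 : enum 11 ck11 2 5 8788256 839 6 8 = true := by
  decide +kernel

set_option maxRecDepth 100000 in
theorem ch_2_9_1_6_10 : enum 11 ck11 2 5 10885408 1607 6 10 = true := by
  decide +kernel

theorem ch_2_9_1_6 : enum 11 ck11 2 6 399648 583 5 6 = true := by
  refine enum_intro 11 ck11 2 5 399648 583 5 6 ?_
  intro v hv hb hd
  interval_cases v
  · exact absurd hb (by decide)
  · exact absurd hb (by decide)
  · exact absurd hb (by decide)
  · exact ch_2_9_1_6_3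
  · exact ch_2_9_1_6_4
  · exact ch_2_9_1_6_5
  · exact absurd hb (by decide)
  · exact absurd hd (by decide)
  · exact ch_2_9_1_6_8
  · exact absurd hb (by decide)
  · exact ch_2_9_1_6_10

set_option maxRecDepth 100000 in
theorem ch_2_9_1_7_3 : enum 11 ck11 2 5 3610912 655 6 3 = true := by
  decide +kernel

set_option maxRecDepth 100000 in
theorem ch_2_9_1_7_4 : enum 11 ck11 2 5 4659488 663 6 4 = true := by
  decide +kernel

set_option maxRecDepth 100000 in
theorem ch_2_9_1_7_5 : enum 11 ck11 2 5 5708064 679 6 5 = true := by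
  decide +kernel

set_option maxRecDepth 100000 in
theorem ch_2_9_1_7_6 : enum 11 ck11 2 5 6756640 711 6 6 = true := by
  decide +kernel

set_option maxRecDepth 100000 in
theorem ch_2_9_1_7_10 : enum 11 ck11 2 5 10950944 1671 6 10 = true := by
  decide +kernel

theorem ch_2_9_1_7 : enum 11 ck11 2 6 465184 647 5 7 = true := by
  refine enum_intro 11 ck11 2 5 465184 647 5 7 ?_
  intro v hv hb hd
  interval_cases v
  · exact absurd hb (by decide)
  · exact absurd hb (by decide)
  · exact absurd hb (by decide)
  · exact ch_2_9_1_7_3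
  · exact ch_2_9_1_7_4
  · exact ch_2_9_1_7_5
  · exact ch_2_9_1_7_6
  · exact absurd hb (by decide)
  · exact absurd hd (by decide)
  · exact absurd hb (by decide)
  · exact ch_2_9_1_7_10

set_option maxRecDepth 100000 in
theorem ch_2_9_1_8_3 : enum 11 ck11 2 5 3676448 783 6 3 = true := by
  decide +kernel

set_option maxRecDepth 100000 in
theorem ch_2_9_1_8_4 : enum 11 ck11 2 5 4725024 791 6 4 = true := by
  decide +kernel

set_option maxRecDepth 100000 in
theorem ch_2_9_1_8_5 : enum 11 ck11 2 5 5773600 807 6 5 = true := by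
  decide +kernel

set_option maxRecDepth 100000 in
theorem ch_2_9_1_8_6 : enum 11 ck11 2 5 6822176 839 6 6 = true := by
  decide +kernel

set_option maxRecDepth 100000 in
theorem ch_2_9_1_8_7 : enum 11 ck11 2 5 7870752 903 6 7 = true := by
  decide +kernel

set_option maxRecDepth 100000 in
theorem ch_2_9_1_8_10 : enum 11 ck11 2 5 11016480 1799 6 10 = true := by
  decide +kernel

theorem ch_2_9_1_8 : enum 11 ck11 2 6 530720 775 5 8 = true := by
  refine enum_intro 11 ck11 2 5 530720 775 5 8 ?_
  intro v hv hb hd
  interval_cases v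
  · exact absurd hb (by decide)
  · exact absurd hb (by decide)
  · exact absurd hb (by decide)
  · exact ch_2_9_1_8_3
  · exact ch_2_9_1_8_4
  · exact ch_2_9_1_8_5
  · exact ch_2_9_1_8_6
  · exact ch_2_9_1_8_7
  · exact absurd hb (by decide)
  · exact absurd hb (by decide)
  · exact ch_2_9_1_8_10

set_option maxRecDepth 100000 in
theorem ch_2_9_1_10_3 : enum 11 ck11 2 5 3807520 1551 6 3 = true := by
  decide +kernel

set_option maxRecDepth 100000 in
theorem ch_2_9_1_10_4 : enum 11 ck11 2 5 4856096 1559 6 4 = true := by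
  decide +kernel

set_option maxRecDepth 100000 in
theorem ch_2_9_1_10_5 : enum 11 ck11 2 5 5904672 1575 6 5 = true := by
  decide +kernel

set_option maxRecDepth 100000 in
theorem ch_2_9_1_10_6 : enum 11 ck11 2 5 6953248 1607 6 6 = true := by
  decide +kernel

set_option maxRecDepth 100000 in
theorem ch_2_9_1_10_7 : enum 11 ck11 2 5 8001824 1671 6 7 = true := by
  decide +kernel

set_option maxRecDepth 100000 in
theorem ch_2_9_1_10_8 : enum 11 ck11 2 5 9050400 1799 6 8 = true := by
  decide +kernel

theorem ch_2_9_1_10 : enum 11 ck11 2 6 661792 1543 5 10 = true := by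
  refine enum_intro 11 ck11 2 5 661792 1543 5 10 ?_
  intro v hv hb hd
  interval_cases v
  · exact absurd hb (by decide)
  · exact absurd hb (by decide)
  · exact absurd hb (by decide)
  · exact ch_2_9_1_10_3
  · exact ch_2_9_1_10_4
  · exact ch_2_9_1_10_5
  · exact ch_2_9_1_10_6
  · exact ch_2_9_1_10_7
  · exact ch_2_9_1_10_8
  · exact absurd hb (by decide)
  · exact absurd hb (by decide)

theorem ch_2_9_1 : enum 11 ck11 2 7 6432 519 4 1 = true := by
  refine enum_intro 11 ck11 2 6 6432 519 4 1 ?_
  intro v hv hb hd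
  interval_cases v
  · exact absurd hb (by decide)
  · exact absurd hb (by decide)
  · exact absurd hb (by decide)
  · exact ch_2_9_1_3
  · exact ch_2_9_1_4
  · exact ch_2_9_1_5
  · exact ch_2_9_1_6
  · exact ch_2_9_1_7
  · exact ch_2_9_1_8
  · exact absurd hb (by decide)
  · exact ch_2_9_1_10

set_option maxRecDepth 100000 in
theorem ch_2_9_3_1_4 : enum 11 ck11 2 5 4274464 543 6 4 = true := by
  decide +kernel

set_option maxRecDepth 100000 in
theorem ch_2_9_3_1_5 : enum 11 ck11 2 5 5323040 559 6 5 = true := by
  decide +kernel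

set_option maxRecDepth 100000 in
theorem ch_2_9_3_1_6 : enum 11 ck11 2 5 6371616 591 6 6 = true := by
  decide +kernel

set_option maxRecDepth 100000 in
theorem ch_2_9_3_1_7 : enum 11 ck11 2 5 7420192 655 6 7 = true := by
  decide +kernel

set_option maxRecDepth 100000 in
theorem ch_2_9_3_1_8 : enum 11 ck11 2 5 8468768 783 6 8 = true := by
  decide +kernel

set_option maxRecDepth 100000 in
theorem ch_2_9_3_1_10 : enum 11 ck11 2 5 10565920 1551 6 10 = true := by
  decide +kernel

theorem ch_2_9_3_1 : enum 11 ck11 2 6 80160 527 5 1 = true := by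
  refine enum_intro 11 ck11 2 5 80160 527 5 1 ?_
  intro v hv hb hd
  interval_cases v
  · exact absurd hb (by decide)
  · exact absurd hb (by decide)
  · exact absurd hb (by decide)
  · exact absurd hb (by decide)
  · exact ch_2_9_3_1_4
  · exact ch_2_9_3_1_5
  · exact ch_2_9_3_1_6
  · exact ch_2_9_3_1_7
  · exact ch_2_9_3_1_8
  · exact absurd hb (by decide)
  · exact ch_2_9_3_1_10

set_option maxRecDepth 100000 in
theorem ch_2_9_3_5_1 : enum 11 ck11 2 5 1390880 559 6 1 = true := by
  decide +kernel

set_option maxRecDepth 100000 in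
theorem ch_2_9_3_5_4 : enum 11 ck11 2 5 4536608 573 6 4 = true := by
  decide +kernel

set_option maxRecDepth 100000 in
theorem ch_2_9_3_5_7 : enum 11 ck11 2 5 7682336 685 6 7 = true := by
  decide +kernel

set_option maxRecDepth 100000 in
theorem ch_2_9_3_5_8 : enum 11 ck11 2 5 8730912 813 6 8 = true := by
  decide +kernel

set_option maxRecDepth 100000 in
theorem ch_2_9_3_5_10 : enum 11 ck11 2 5 10828064 1581 6 10 = true := by
  decide +kernel

theorem ch_2_9_3_5 : enum 11 ck11 2 6 342304 557 5 5 = true := by
  refine enum_intro 11 ck11 2 5 342304 557 5 5 ?_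
  intro v hv hb hd
  interval_cases v
  · exact absurd hb (by decide)
  · exact ch_2_9_3_5_1
  · exact absurd hb (by decide)
  · exact absurd hb (by decide)
  · exact ch_2_9_3_5_4
  · exact absurd hb (by decide)
  · exact absurd hd (by decide)
  · exact ch_2_9_3_5_7
  · exact ch_2_9_3_5_8
  · exact absurd hb (by decide)
  · exact ch_2_9_3_5_10

set_option maxRecDepth 100000 in
theorem ch_2_9_3_6_1 : enum 11 ck11 2 5 1456416 591 6 1 = true := by
  decide +kernel

set_option maxRecDepth 100000 in
theorem ch_2_9_3_6_4 : enum 11 ck11 2 5 4602144 605 6 4 = true := by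
  decide +kernel

set_option maxRecDepth 100000 in
theorem ch_2_9_3_6_5 : enum 11 ck11 2 5 5650720 621 6 5 = true := by
  decide +kernel

set_option maxRecDepth 100000 in
theorem ch_2_9_3_6_8 : enum 11 ck11 2 5 8796448 845 6 8 = true := by
  decide +kernel

set_option maxRecDepth 100000 in
theorem ch_2_9_3_6_10 : enum 11 ck11 2 5 10893600 1613 6 10 = true := by
  decide +kernel

theorem ch_2_9_3_6 : enum 11 ck11 2 6 407840 589 5 6 = true := by
  refine enum_intro 11 ck11 2 5 407840 589 5 6 ?_
  intro v hv hb hd
  interval_cases v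
  · exact absurd hb (by decide)
  · exact ch_2_9_3_6_1
  · exact absurd hb (by decide)
  · exact absurd hb (by decide)
  · exact ch_2_9_3_6_4
  · exact ch_2_9_3_6_5
  · exact absurd hb (by decide)
  · exact absurd hd (by decide)
  · exact ch_2_9_3_6_8
  · exact absurd hb (by decide)
  · exact ch_2_9_3_6_10

set_option maxRecDepth 100000 in
theorem ch_2_9_3_7_1 : enum 11 ck11 2 5 1521952 655 6 1 = true := by
  decide +kernel

set_option maxRecDepth 100000 in
theorem ch_2_9_3_7_4 : enum 11 ck11 2 5 4667680 669 6 4 = true := by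
  decide +kernel

set_option maxRecDepth 100000 in
theorem ch_2_9_3_7_5 : enum 11 ck11 2 5 5716256 685 6 5 = true := by
  decide +kernel

set_option maxRecDepth 100000 in
theorem ch_2_9_3_7_6 : enum 11 ck11 2 5 6764832 717 6 6 = true := by
  decide +kernel

set_option maxRecDepth 100000 in
theorem ch_2_9_3_7_10 : enum 11 ck11 2 5 10959136 1677 6 10 = true := by
  decide +kernel

theorem ch_2_9_3_7 : enum 11 ck11 2 6 473376 653 5 7 = true := by
  refine enum_intro 11 ck11 2 5 473376 653 5 7 ?_
  intro v hv hb hd
  interval_cases v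
  · exact absurd hb (by decide)
  · exact ch_2_9_3_7_1
  · exact absurd hb (by decide)
  · exact absurd hb (by decide)
  · exact ch_2_9_3_7_4
  · exact ch_2_9_3_7_5
  · exact ch_2_9_3_7_6
  · exact absurd hb (by decide)
  · exact absurd hd (by decide)
  · exact absurd hb (by decide)
  · exact ch_2_9_3_7_10

set_option maxRecDepth 100000 in
theorem ch_2_9_3_8_1 : enum 11 ck11 2 5 1587488 783 6 1 = true := by
  decide +kernel

set_option maxRecDepth 100000 in
theorem ch_2_9_3_8_4 : enum 11 ck11 2 5 4733216 797 6 4 = true := by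
  decide +kernel

set_option maxRecDepth 100000 in
theorem ch_2_9_3_8_5 : enum 11 ck11 2 5 5781792 813 6 5 = true := by
  decide +kernel

set_option maxRecDepth 100000 in
theorem ch_2_9_3_8_6 : enum 11 ck11 2 5 6830368 845 6 6 = true := by
  decide +kernel

set_option maxRecDepth 100000 in
theorem ch_2_9_3_8_7 : enum 11 ck11 2 5 7878944 909 6 7 = true := by
  decide +kernel

set_option maxRecDepth 100000 in
theorem ch_2_9_3_8_10 : enum 11 ck11 2 5 11024672 1805 6 10 = true := by
  decide +kernel

theorem ch_2_9_3_8 : enum 11 ck11 2 6 538912 781 5 8 = true := by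
  refine enum_intro 11 ck11 2 5 538912 781 5 8 ?_
  intro v hv hb hd
  interval_cases v
  · exact absurd hb (by decide)
  · exact ch_2_9_3_8_1
  · exact absurd hb (by decide)
  · exact absurd hb (by decide)
  · exact ch_2_9_3_8_4
  · exact ch_2_9_3_8_5
  · exact ch_2_9_3_8_6
  · exact ch_2_9_3_8_7
  · exact absurd hb (by decide)
  · exact absurd hb (by decide)
  · exact ch_2_9_3_8_10

set_option maxRecDepth 100000 in
theorem ch_2_9_3_10_1 : enum 11 ck11 2 5 1718560 1551 6 1 = true := by
  decide +kernel

set_option maxRecDepth 100000 in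
theorem ch_2_9_3_10_4 : enum 11 ck11 2 5 4864288 1565 6 4 = true := by
  decide +kernel

set_option maxRecDepth 100000 in
theorem ch_2_9_3_10_5 : enum 11 ck11 2 5 5912864 1581 6 5 = true := by
  decide +kernel

set_option maxRecDepth 100000 in
theorem ch_2_9_3_10_6 : enum 11 ck11 2 5 6961440 1613 6 6 = true := by
  decide +kernel

set_option maxRecDepth 100000 in
theorem ch_2_9_3_10_7 : enum 11 ck11 2 5 8010016 1677 6 7 = true := by
  decide +kernel

set_option maxRecDepth 100000 in
theorem ch_2_9_3_10_8 : enum 11 ck11 2 5 9058592 1805 6 8 = true := by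
  decide +kernel

theorem ch_2_9_3_10 : enum 11 ck11 2 6 669984 1549 5 10 = true := by
  refine enum_intro 11 ck11 2 5 669984 1549 5 10 ?_
  intro v hv hb hd
  interval_cases v
  · exact absurd hb (by decide)
  · exact ch_2_9_3_10_1
  · exact absurd hb (by decide)
  · exact absurd hb (by decide)
  · exact ch_2_9_3_10_4
  · exact ch_2_9_3_10_5
  · exact ch_2_9_3_10_6
  · exact ch_2_9_3_10_7
  · exact ch_2_9_3_10_8
  · exact absurd hb (by decide)
  · exact absurd hb (by decide)

theorem ch_2_9_3 : enum 11 ck11 2 7 14624 525 4 3 = true := by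
  refine enum_intro 11 ck11 2 6 14624 525 4 3 ?_
  intro v hv hb hd
  interval_cases v
  · exact absurd hb (by decide)
  · exact ch_2_9_3_1
  · exact absurd hb (by decide)
  · exact absurd hb (by decide)
  · exact absurd hd (by decide)
  · exact ch_2_9_3_5
  · exact ch_2_9_3_6
  · exact ch_2_9_3_7
  · exact ch_2_9_3_8
  · exact absurd hb (by decide)
  · exact ch_2_9_3_10

set_option maxRecDepth 100000 in
theorem ch_2_9_4_1_3 : enum 11 ck11 2 5 3229984 543 6 3 = true := by
  decide +kernel

set_option maxRecDepth 100000 in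
theorem ch_2_9_4_1_5 : enum 11 ck11 2 5 5327136 567 6 5 = true := by
  decide +kernel

set_option maxRecDepth 100000 in
theorem ch_2_9_4_1_6 : enum 11 ck11 2 5 6375712 599 6 6 = true := by
  decide +kernel

set_option maxRecDepth 100000 in
theorem ch_2_9_4_1_7 : enum 11 ck11 2 5 7424288 663 6 7 = true := by
  decide +kernel

set_option maxRecDepth 100000 in
theorem ch_2_9_4_1_8 : enum 11 ck11 2 5 8472864 791 6 8 = true := by
  decide +kernel

set_option maxRecDepth 100000 in
theorem ch_2_9_4_1_10 : enum 11 ck11 2 5 10570016 1559 6 10 = true := by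
  decide +kernel

theorem ch_2_9_4_1 : enum 11 ck11 2 6 84256 535 5 1 = true := by
  refine enum_intro 11 ck11 2 5 84256 535 5 1 ?_
  intro v hv hb hd
  interval_cases v
  · exact absurd hb (by decide)
  · exact absurd hb (by decide)
  · exact absurd hb (by decide)
  · exact ch_2_9_4_1_3
  · exact absurd hb (by decide)
  · exact ch_2_9_4_1_5
  · exact ch_2_9_4_1_6
  · exact ch_2_9_4_1_7
  · exact ch_2_9_4_1_8
  · exact absurd hb (by decide)
  · exact ch_2_9_4_1_10

set_option maxRecDepth 100000 in
theorem ch_2_9_4_3_1 : enum 11 ck11 2 5 1263904 543 6 1 = true := by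
  decide +kernel

set_option maxRecDepth 100000 in
theorem ch_2_9_4_3_5 : enum 11 ck11 2 5 5458208 573 6 5 = true := by
  decide +kernel

set_option maxRecDepth 100000 in
theorem ch_2_9_4_3_6 : enum 11 ck11 2 5 6506784 605 6 6 = true := by
  decide +kernel

set_option maxRecDepth 100000 in
theorem ch_2_9_4_3_7 : enum 11 ck11 2 5 7555360 669 6 7 = true := by
  decide +kernel

set_option maxRecDepth 100000 in
theorem ch_2_9_4_3_8 : enum 11 ck11 2 5 8603936 797 6 8 = true := by
  decide +kernel

set_option maxRecDepth 100000 in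
theorem ch_2_9_4_3_10 : enum 11 ck11 2 5 10701088 1565 6 10 = true := by
  decide +kernel

theorem ch_2_9_4_3 : enum 11 ck11 2 6 215328 541 5 3 = true := by
  refine enum_intro 11 ck11 2 5 215328 541 5 3 ?_
  intro v hv hb hd
  interval_cases v
  · exact absurd hb (by decide)
  · exact ch_2_9_4_3_1
  · exact absurd hb (by decide)
  · exact absurd hb (by decide)
  · exact absurd hb (by decide)
  · exact ch_2_9_4_3_5
  · exact ch_2_9_4_3_6
  · exact ch_2_9_4_3_7
  · exact ch_2_9_4_3_8
  · exact absurd hb (by decide)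
  · exact ch_2_9_4_3_10

set_option maxRecDepth 100000 in
theorem ch_2_9_4_6_1 : enum 11 ck11 2 5 1460512 599 6 1 = true := by
  decide +kernel

set_option maxRecDepth 100000 in
theorem ch_2_9_4_6_3 : enum 11 ck11 2 5 3557664 605 6 3 = true := by
  decide +kernel

set_option maxRecDepth 100000 in
theorem ch_2_9_4_6_5 : enum 11 ck11 2 5 5654816 629 6 5 = true := by
  decide +kernel

set_option maxRecDepth 100000 in
theorem ch_2_9_4_6_8 : enum 11 ck11 2 5 8800544 853 6 8 = true := by
  decide +kernel

set_option maxRecDepth 100000 in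
theorem ch_2_9_4_6_10 : enum 11 ck11 2 5 10897696 1621 6 10 = true := by
  decide +kernel

theorem ch_2_9_4_6 : enum 11 ck11 2 6 411936 597 5 6 = true := by
  refine enum_intro 11 ck11 2 5 411936 597 5 6 ?_
  intro v hv hb hd
  interval_cases v
  · exact absurd hb (by decide)
  · exact ch_2_9_4_6_1
  · exact absurd hb (by decide)
  · exact ch_2_9_4_6_3
  · exact absurd hb (by decide)
  · exact ch_2_9_4_6_5
  · exact absurd hb (by decide)
  · exact absurd hd (by decide)
  · exact ch_2_9_4_6_8
  · exact absurd hb (by decide)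
  · exact ch_2_9_4_6_10

set_option maxRecDepth 100000 in
theorem ch_2_9_4_7_1 : enum 11 ck11 2 5 1526048 663 6 1 = true := by
  decide +kernel

set_option maxRecDepth 100000 in
theorem ch_2_9_4_7_3 : enum 11 ck11 2 5 3623200 669 6 3 = true := by
  decide +kernel

set_option maxRecDepth 100000 in
theorem ch_2_9_4_7_5 : enum 11 ck11 2 5 5720352 693 6 5 = true := by
  decide +kernel

set_option maxRecDepth 100000 in
theorem ch_2_9_4_7_6 : enum 11 ck11 2 5 6768928 725 6 6 = true := by
  decide +kernel

set_option maxRecDepth 100000 in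
theorem ch_2_9_4_7_10 : enum 11 ck11 2 5 10963232 1685 6 10 = true := by
  decide +kernel

theorem ch_2_9_4_7 : enum 11 ck11 2 6 477472 661 5 7 = true := by
  refine enum_intro 11 ck11 2 5 477472 661 5 7 ?_
  intro v hv hb hd
  interval_cases v
  · exact absurd hb (by decide)
  · exact ch_2_9_4_7_1
  · exact absurd hb (by decide)
  · exact ch_2_9_4_7_3
  · exact absurd hb (by decide)
  · exact ch_2_9_4_7_5
  · exact ch_2_9_4_7_6
  · exact absurd hb (by decide)
  · exact absurd hd (by decide)
  · exact absurd hb (by decide)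
  · exact ch_2_9_4_7_10

set_option maxRecDepth 100000 in
theorem ch_2_9_4_8_1 : enum 11 ck11 2 5 1591584 791 6 1 = true := by
  decide +kernel

set_option maxRecDepth 100000 in
theorem ch_2_9_4_8_3 : enum 11 ck11 2 5 3688736 797 6 3 = true := by
  decide +kernel

set_option maxRecDepth 100000 in
theorem ch_2_9_4_8_5 : enum 11 ck11 2 5 5785888 821 6 5 = true := by
  decide +kernel

set_option maxRecDepth 100000 in
theorem ch_2_9_4_8_6 : enum 11 ck11 2 5 6834464 853 6 6 = true := by
  decide +kernel

set_option maxRecDepth 100000 in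
theorem ch_2_9_4_8_7 : enum 11 ck11 2 5 7883040 917 6 7 = true := by
  decide +kernel

set_option maxRecDepth 100000 in
theorem ch_2_9_4_8_10 : enum 11 ck11 2 5 11028768 1813 6 10 = true := by
  decide +kernel

theorem ch_2_9_4_8 : enum 11 ck11 2 6 543008 789 5 8 = true := by
  refine enum_intro 11 ck11 2 5 543008 789 5 8 ?_
  intro v hv hb hd
  interval_cases v
  · exact absurd hb (by decide)
  · exact ch_2_9_4_8_1
  · exact absurd hb (by decide)
  · exact ch_2_9_4_8_3
  · exact absurd hb (by decide)
  · exact ch_2_9_4_8_5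
  · exact ch_2_9_4_8_6
  · exact ch_2_9_4_8_7
  · exact absurd hb (by decide)
  · exact absurd hb (by decide)
  · exact ch_2_9_4_8_10

set_option maxRecDepth 100000 in
theorem ch_2_9_4_10_1 : enum 11 ck11 2 5 1722656 1559 6 1 = true := by
  decide +kernel

set_option maxRecDepth 100000 in
theorem ch_2_9_4_10_3 : enum 11 ck11 2 5 3819808 1565 6 3 = true := by
  decide +kernel

set_option maxRecDepth 100000 in
theorem ch_2_9_4_10_5 : enum 11 ck11 2 5 5916960 1589 6 5 = true := by
  decide +kernel

set_option maxRecDepth 100000 in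
theorem ch_2_9_4_10_6 : enum 11 ck11 2 5 6965536 1621 6 6 = true := by
  decide +kernel

set_option maxRecDepth 100000 in
theorem ch_2_9_4_10_7 : enum 11 ck11 2 5 8014112 1685 6 7 = true := by
  decide +kernel

set_option maxRecDepth 100000 in
theorem ch_2_9_4_10_8 : enum 11 ck11 2 5 9062688 1813 6 8 = true := by
  decide +kernel

theorem ch_2_9_4_10 : enum 11 ck11 2 6 674080 1557 5 10 = true := by
  refine enum_intro 11 ck11 2 5 674080 1557 5 10 ?_
  intro v hv hb hd
  interval_cases v
  · exact absurd hb (by decide)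
  · exact ch_2_9_4_10_1
  · exact absurd hb (by decide)
  · exact ch_2_9_4_10_3
  · exact absurd hb (by decide)
  · exact ch_2_9_4_10_5
  · exact ch_2_9_4_10_6
  · exact ch_2_9_4_10_7
  · exact ch_2_9_4_10_8
  · exact absurd hb (by decide)
  · exact absurd hb (by decide)

theorem ch_2_9_4 : enum 11 ck11 2 7 18720 533 4 4 = true := by
  refine enum_intro 11 ck11 2 6 18720 533 4 4 ?_
  intro v hv hb hd
  interval_cases v
  · exact absurd hb (by decide)
  · exact ch_2_9_4_1
  · exact absurd hb (by decide)
  · exact ch_2_9_4_3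
  · exact absurd hb (by decide)
  · exact absurd hd (by decide)
  · exact ch_2_9_4_6
  · exact ch_2_9_4_7
  · exact ch_2_9_4_8
  · exact absurd hb (by decide)
  · exact ch_2_9_4_10

set_option maxRecDepth 100000 in
theorem ch_2_9_5_1_3 : enum 11 ck11 2 5 3234080 559 6 3 = true := by
  decide +kernel

set_option maxRecDepth 100000 in
theorem ch_2_9_5_1_4 : enum 11 ck11 2 5 4282656 567 6 4 = true := by
  decide +kernel

set_option maxRecDepth 100000 in
theorem ch_2_9_5_1_6 : enum 11 ck11 2 5 6379808 615 6 6 = true := by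
  decide +kernel

set_option maxRecDepth 100000 in
theorem ch_2_9_5_1_7 : enum 11 ck11 2 5 7428384 679 6 7 = true := by
  decide +kernel

set_option maxRecDepth 100000 in
theorem ch_2_9_5_1_8 : enum 11 ck11 2 5 8476960 807 6 8 = true := by
  decide +kernel

set_option maxRecDepth 100000 in
theorem ch_2_9_5_1_10 : enum 11 ck11 2 5 10574112 1575 6 10 = true := by
  decide +kernel

theorem ch_2_9_5_1 : enum 11 ck11 2 6 88352 551 5 1 = true := by
  refine enum_intro 11 ck11 2 5 88352 551 5 1 ?_
  intro v hv hb hd
  interval_cases v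
  · exact absurd hb (by decide)
  · exact absurd hb (by decide)
  · exact absurd hb (by decide)
  · exact ch_2_9_5_1_3
  · exact ch_2_9_5_1_4
  · exact absurd hb (by decide)
  · exact ch_2_9_5_1_6
  · exact ch_2_9_5_1_7
  · exact ch_2_9_5_1_8
  · exact absurd hb (by decide)
  · exact ch_2_9_5_1_10

set_option maxRecDepth 100000 in
theorem ch_2_9_5_3_1 : enum 11 ck11 2 5 1268000 559 6 1 = true := by
  decide +kernel

set_option maxRecDepth 100000 in
theorem ch_2_9_5_3_6 : enum 11 ck11 2 5 6510880 621 6 6 = true := by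
  decide +kernel

set_option maxRecDepth 100000 in
theorem ch_2_9_5_3_7 : enum 11 ck11 2 5 7559456 685 6 7 = true := by
  decide +kernel

set_option maxRecDepth 100000 in
theorem ch_2_9_5_3_8 : enum 11 ck11 2 5 8608032 813 6 8 = true := by
  decide +kernel

set_option maxRecDepth 100000 in
theorem ch_2_9_5_3_10 : enum 11 ck11 2 5 10705184 1581 6 10 = true := by
  decide +kernel

theorem ch_2_9_5_3 : enum 11 ck11 2 6 219424 557 5 3 = true := by
  refine enum_intro 11 ck11 2 5 219424 557 5 3 ?_
  intro v hv hb hd
  interval_cases v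
  · exact absurd hb (by decide)
  · exact ch_2_9_5_3_1
  · exact absurd hb (by decide)
  · exact absurd hb (by decide)
  · exact absurd hd (by decide)
  · exact absurd hb (by decide)
  · exact ch_2_9_5_3_6
  · exact ch_2_9_5_3_7
  · exact ch_2_9_5_3_8
  · exact absurd hb (by decide)
  · exact ch_2_9_5_3_10

set_option maxRecDepth 100000 in
theorem ch_2_9_5_4_1 : enum 11 ck11 2 5 1333536 567 6 1 = true := by
  decide +kernel

set_option maxRecDepth 100000 in
theorem ch_2_9_5_4_3 : enum 11 ck11 2 5 3430688 573 6 3 = true := by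
  decide +kernel

set_option maxRecDepth 100000 in
theorem ch_2_9_5_4_6 : enum 11 ck11 2 5 6576416 629 6 6 = true := by
  decide +kernel

set_option maxRecDepth 100000 in
theorem ch_2_9_5_4_7 : enum 11 ck11 2 5 7624992 693 6 7 = true := by
  decide +kernel

set_option maxRecDepth 100000 in
theorem ch_2_9_5_4_8 : enum 11 ck11 2 5 8673568 821 6 8 = true := by
  decide +kernel

set_option maxRecDepth 100000 in
theorem ch_2_9_5_4_10 : enum 11 ck11 2 5 10770720 1589 6 10 = true := by
  decide +kernel

theorem ch_2_9_5_4 : enum 11 ck11 2 6 284960 565 5 4 = true := by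
  refine enum_intro 11 ck11 2 5 284960 565 5 4 ?_
  intro v hv hb hd
  interval_cases v
  · exact absurd hb (by decide)
  · exact ch_2_9_5_4_1
  · exact absurd hb (by decide)
  · exact ch_2_9_5_4_3
  · exact absurd hb (by decide)
  · exact absurd hb (by decide)
  · exact ch_2_9_5_4_6
  · exact ch_2_9_5_4_7
  · exact ch_2_9_5_4_8
  · exact absurd hb (by decide)
  · exact ch_2_9_5_4_10

set_option maxRecDepth 100000 in
theorem ch_2_9_5_7_1 : enum 11 ck11 2 5 1530144 679 6 1 = true := by
  decide +kernel

set_option maxRecDepth 100000 in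
theorem ch_2_9_5_7_3 : enum 11 ck11 2 5 3627296 685 6 3 = true := by
  decide +kernel

set_option maxRecDepth 100000 in
theorem ch_2_9_5_7_4 : enum 11 ck11 2 5 4675872 693 6 4 = true := by
  decide +kernel

set_option maxRecDepth 100000 in
theorem ch_2_9_5_7_6 : enum 11 ck11 2 5 6773024 741 6 6 = true := by
  decide +kernel

set_option maxRecDepth 100000 in
theorem ch_2_9_5_7_10 : enum 11 ck11 2 5 10967328 1701 6 10 = true := by
  decide +kernel

theorem ch_2_9_5_7 : enum 11 ck11 2 6 481568 677 5 7 = true := by
  refine enum_intro 11 ck11 2 5 481568 677 5 7 ?_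
  intro v hv hb hd
  interval_cases v
  · exact absurd hb (by decide)
  · exact ch_2_9_5_7_1
  · exact absurd hb (by decide)
  · exact ch_2_9_5_7_3
  · exact ch_2_9_5_7_4
  · exact absurd hb (by decide)
  · exact ch_2_9_5_7_6
  · exact absurd hb (by decide)
  · exact absurd hd (by decide)
  · exact absurd hb (by decide)
  · exact ch_2_9_5_7_10

set_option maxRecDepth 100000 in
theorem ch_2_9_5_8_1 : enum 11 ck11 2 5 1595680 807 6 1 = true := by
  decide +kernel

set_option maxRecDepth 100000 in
theorem ch_2_9_5_8_3 : enum 11 ck11 2 5 3692832 813 6 3 = true := by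
  decide +kernel

set_option maxRecDepth 100000 in
theorem ch_2_9_5_8_4 : enum 11 ck11 2 5 4741408 821 6 4 = true := by
  decide +kernel

set_option maxRecDepth 100000 in
theorem ch_2_9_5_8_6 : enum 11 ck11 2 5 6838560 869 6 6 = true := by
  decide +kernel

set_option maxRecDepth 100000 in
theorem ch_2_9_5_8_7 : enum 11 ck11 2 5 7887136 933 6 7 = true := by
  decide +kernel

set_option maxRecDepth 100000 in
theorem ch_2_9_5_8_10 : enum 11 ck11 2 5 11032864 1829 6 10 = true := by
  decide +kernel

theorem ch_2_9_5_8 : enum 11 ck11 2 6 547104 805 5 8 = true := by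
  refine enum_intro 11 ck11 2 5 547104 805 5 8 ?_
  intro v hv hb hd
  interval_cases v
  · exact absurd hb (by decide)
  · exact ch_2_9_5_8_1
  · exact absurd hb (by decide)
  · exact ch_2_9_5_8_3
  · exact ch_2_9_5_8_4
  · exact absurd hb (by decide)
  · exact ch_2_9_5_8_6
  · exact ch_2_9_5_8_7
  · exact absurd hb (by decide)
  · exact absurd hb (by decide)
  · exact ch_2_9_5_8_10

set_option maxRecDepth 100000 in
theorem ch_2_9_5_10_1 : enum 11 ck11 2 5 1726752 1575 6 1 = true := by
  decide +kernel

set_option maxRecDepth 100000 in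
theorem ch_2_9_5_10_3 : enum 11 ck11 2 5 3823904 1581 6 3 = true := by
  decide +kernel

set_option maxRecDepth 100000 in
theorem ch_2_9_5_10_4 : enum 11 ck11 2 5 4872480 1589 6 4 = true := by
  decide +kernel

set_option maxRecDepth 100000 in
theorem ch_2_9_5_10_6 : enum 11 ck11 2 5 6969632 1637 6 6 = true := by
  decide +kernel

set_option maxRecDepth 100000 in
theorem ch_2_9_5_10_7 : enum 11 ck11 2 5 8018208 1701 6 7 = true := by
  decide +kernel

set_option maxRecDepth 100000 in
theorem ch_2_9_5_10_8 : enum 11 ck11 2 5 9066784 1829 6 8 = true := by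
  decide +kernel

theorem ch_2_9_5_10 : enum 11 ck11 2 6 678176 1573 5 10 = true := by
  refine enum_intro 11 ck11 2 5 678176 1573 5 10 ?_
  intro v hv hb hd
  interval_cases v
  · exact absurd hb (by decide)
  · exact ch_2_9_5_10_1
  · exact absurd hb (by decide)
  · exact ch_2_9_5_10_3
  · exact ch_2_9_5_10_4
  · exact absurd hb (by decide)
  · exact ch_2_9_5_10_6
  · exact ch_2_9_5_10_7
  · exact ch_2_9_5_10_8
  · exact absurd hb (by decide)
  · exact absurd hb (by decide)

theorem ch_2_9_5 : enum 11 ck11 2 7 22816 549 4 5 = true := by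
  refine enum_intro 11 ck11 2 6 22816 549 4 5 ?_
  intro v hv hb hd
  interval_cases v
  · exact absurd hb (by decide)
  · exact ch_2_9_5_1
  · exact absurd hb (by decide)
  · exact ch_2_9_5_3
  · exact ch_2_9_5_4
  · exact absurd hb (by decide)
  · exact absurd hd (by decide)
  · exact ch_2_9_5_7
  · exact ch_2_9_5_8
  · exact absurd hb (by decide)
  · exact ch_2_9_5_10

set_option maxRecDepth 100000 in
theorem ch_2_9_6_1_3 : enum 11 ck11 2 5 3238176 591 6 3 = true := by
  decide +kernel

set_option maxRecDepth 100000 in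
theorem ch_2_9_6_1_4 : enum 11 ck11 2 5 4286752 599 6 4 = true := by
  decide +kernel

set_option maxRecDepth 100000 in
theorem ch_2_9_6_1_5 : enum 11 ck11 2 5 5335328 615 6 5 = true := by
  decide +kernel

set_option maxRecDepth 100000 in
theorem ch_2_9_6_1_7 : enum 11 ck11 2 5 7432480 711 6 7 = true := by
  decide +kernel

set_option maxRecDepth 100000 in
theorem ch_2_9_6_1_8 : enum 11 ck11 2 5 8481056 839 6 8 = true := by
  decide +kernel

set_option maxRecDepth 100000 in
theorem ch_2_9_6_1_10 : enum 11 ck11 2 5 10578208 1607 6 10 = true := by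
  decide +kernel

theorem ch_2_9_6_1 : enum 11 ck11 2 6 92448 583 5 1 = true := by
  refine enum_intro 11 ck11 2 5 92448 583 5 1 ?_
  intro v hv hb hd
  interval_cases v
  · exact absurd hb (by decide)
  · exact absurd hb (by decide)
  · exact absurd hb (by decide)
  · exact ch_2_9_6_1_3
  · exact ch_2_9_6_1_4
  · exact ch_2_9_6_1_5
  · exact absurd hb (by decide)
  · exact ch_2_9_6_1_7
  · exact ch_2_9_6_1_8
  · exact absurd hb (by decide)
  · exact ch_2_9_6_1_10

set_option maxRecDepth 100000 in
theorem ch_2_9_6_3_1 : enum 11 ck11 2 5 1272096 591 6 1 = true := by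
  decide +kernel

set_option maxRecDepth 100000 in
theorem ch_2_9_6_3_5 : enum 11 ck11 2 5 5466400 621 6 5 = true := by
  decide +kernel

set_option maxRecDepth 100000 in
theorem ch_2_9_6_3_7 : enum 11 ck11 2 5 7563552 717 6 7 = true := by
  decide +kernel

set_option maxRecDepth 100000 in
theorem ch_2_9_6_3_8 : enum 11 ck11 2 5 8612128 845 6 8 = true := by
  decide +kernel

set_option maxRecDepth 100000 in
theorem ch_2_9_6_3_10 : enum 11 ck11 2 5 10709280 1613 6 10 = true := by
  decide +kernel

theorem ch_2_9_6_3 : enum 11 ck11 2 6 223520 589 5 3 = true := by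
  refine enum_intro 11 ck11 2 5 223520 589 5 3 ?_
  intro v hv hb hd
  interval_cases v
  · exact absurd hb (by decide)
  · exact ch_2_9_6_3_1
  · exact absurd hb (by decide)
  · exact absurd hb (by decide)
  · exact absurd hd (by decide)
  · exact ch_2_9_6_3_5
  · exact absurd hb (by decide)
  · exact ch_2_9_6_3_7
  · exact ch_2_9_6_3_8
  · exact absurd hb (by decide)
  · exact ch_2_9_6_3_10

set_option maxRecDepth 100000 in
theorem ch_2_9_6_4_1 : enum 11 ck11 2 5 1337632 599 6 1 = true := by
  decide +kernel

set_option maxRecDepth 100000 in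
theorem ch_2_9_6_4_3 : enum 11 ck11 2 5 3434784 605 6 3 = true := by
  decide +kernel

set_option maxRecDepth 100000 in
theorem ch_2_9_6_4_7 : enum 11 ck11 2 5 7629088 725 6 7 = true := by
  decide +kernel

set_option maxRecDepth 100000 in
theorem ch_2_9_6_4_8 : enum 11 ck11 2 5 8677664 853 6 8 = true := by
  decide +kernel

set_option maxRecDepth 100000 in
theorem ch_2_9_6_4_10 : enum 11 ck11 2 5 10774816 1621 6 10 = true := by
  decide +kernel

theorem ch_2_9_6_4 : enum 11 ck11 2 6 289056 597 5 4 = true := by
  refine enum_intro 11 ck11 2 5 289056 597 5 4 ?_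
  intro v hv hb hd
  interval_cases v
  · exact absurd hb (by decide)
  · exact ch_2_9_6_4_1
  · exact absurd hb (by decide)
  · exact ch_2_9_6_4_3
  · exact absurd hb (by decide)
  · exact absurd hd (by decide)
  · exact absurd hb (by decide)
  · exact ch_2_9_6_4_7
  · exact ch_2_9_6_4_8
  · exact absurd hb (by decide)
  · exact ch_2_9_6_4_10

set_option maxRecDepth 100000 in
theorem ch_2_9_6_5_1 : enum 11 ck11 2 5 1403168 615 6 1 = true := by
  decide +kernel

set_option maxRecDepth 100000 in
theorem ch_2_9_6_5_3 : enum 11 ck11 2 5 3500320 621 6 3 = true := by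
  decide +kernel

set_option maxRecDepth 100000 in
theorem ch_2_9_6_5_4 : enum 11 ck11 2 5 4548896 629 6 4 = true := by
  decide +kernel

set_option maxRecDepth 100000 in
theorem ch_2_9_6_5_7 : enum 11 ck11 2 5 7694624 741 6 7 = true := by
  decide +kernel

set_option maxRecDepth 100000 in
theorem ch_2_9_6_5_8 : enum 11 ck11 2 5 8743200 869 6 8 = true := by
  decide +kernel

set_option maxRecDepth 100000 in
theorem ch_2_9_6_5_10 : enum 11 ck11 2 5 10840352 1637 6 10 = true := by
  decide +kernel

theorem ch_2_9_6_5 : enum 11 ck11 2 6 354592 613 5 5 = true := by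
  refine enum_intro 11 ck11 2 5 354592 613 5 5 ?_
  intro v hv hb hd
  interval_cases v
  · exact absurd hb (by decide)
  · exact ch_2_9_6_5_1
  · exact absurd hb (by decide)
  · exact ch_2_9_6_5_3
  · exact ch_2_9_6_5_4
  · exact absurd hb (by decide)
  · exact absurd hb (by decide)
  · exact ch_2_9_6_5_7
  · exact ch_2_9_6_5_8
  · exact absurd hb (by decide)
  · exact ch_2_9_6_5_10

set_option maxRecDepth 100000 in
theorem ch_2_9_6_8_1 : enum 11 ck11 2 5 1599776 839 6 1 = true := by
  decide +kernel

set_option maxRecDepth 100000 in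
theorem ch_2_9_6_8_3 : enum 11 ck11 2 5 3696928 845 6 3 = true := by
  decide +kernel

set_option maxRecDepth 100000 in
theorem ch_2_9_6_8_4 : enum 11 ck11 2 5 4745504 853 6 4 = true := by
  decide +kernel

set_option maxRecDepth 100000 in
theorem ch_2_9_6_8_5 : enum 11 ck11 2 5 5794080 869 6 5 = true := by
  decide +kernel

set_option maxRecDepth 100000 in
theorem ch_2_9_6_8_7 : enum 11 ck11 2 5 7891232 965 6 7 = true := by
  decide +kernel

set_option maxRecDepth 100000 in
theorem ch_2_9_6_8_10 : enum 11 ck11 2 5 11036960 1861 6 10 = true := by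
  decide +kernel

theorem ch_2_9_6_8 : enum 11 ck11 2 6 551200 837 5 8 = true := by
  refine enum_intro 11 ck11 2 5 551200 837 5 8 ?_
  intro v hv hb hd
  interval_cases v
  · exact absurd hb (by decide)
  · exact ch_2_9_6_8_1
  · exact absurd hb (by decide)
  · exact ch_2_9_6_8_3
  · exact ch_2_9_6_8_4
  · exact ch_2_9_6_8_5
  · exact absurd hb (by decide)
  · exact ch_2_9_6_8_7
  · exact absurd hb (by decide)
  · exact absurd hb (by decide)
  · exact ch_2_9_6_8_10

set_option maxRecDepth 100000 in
theorem ch_2_9_6_10_1 : enum 11 ck11 2 5 1730848 1607 6 1 = true := by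
  decide +kernel

set_option maxRecDepth 100000 in
theorem ch_2_9_6_10_3 : enum 11 ck11 2 5 3828000 1613 6 3 = true := by
  decide +kernel

set_option maxRecDepth 100000 in
theorem ch_2_9_6_10_4 : enum 11 ck11 2 5 4876576 1621 6 4 = true := by
  decide +kernel

set_option maxRecDepth 100000 in
theorem ch_2_9_6_10_5 : enum 11 ck11 2 5 5925152 1637 6 5 = true := by
  decide +kernel

set_option maxRecDepth 100000 in
theorem ch_2_9_6_10_7 : enum 11 ck11 2 5 8022304 1733 6 7 = true := by
  decide +kernel

set_option maxRecDepth 100000 in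
theorem ch_2_9_6_10_8 : enum 11 ck11 2 5 9070880 1861 6 8 = true := by
  decide +kernel

theorem ch_2_9_6_10 : enum 11 ck11 2 6 682272 1605 5 10 = true := by
  refine enum_intro 11 ck11 2 5 682272 1605 5 10 ?_
  intro v hv hb hd
  interval_cases v
  · exact absurd hb (by decide)
  · exact ch_2_9_6_10_1
  · exact absurd hb (by decide)
  · exact ch_2_9_6_10_3
  · exact ch_2_9_6_10_4
  · exact ch_2_9_6_10_5
  · exact absurd hb (by decide)
  · exact ch_2_9_6_10_7
  · exact ch_2_9_6_10_8
  · exact absurd hb (by decide)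
  · exact absurd hb (by decide)

theorem ch_2_9_6 : enum 11 ck11 2 7 26912 581 4 6 = true := by
  refine enum_intro 11 ck11 2 6 26912 581 4 6 ?_
  intro v hv hb hd
  interval_cases v
  · exact absurd hb (by decide)
  · exact ch_2_9_6_1
  · exact absurd hb (by decide)
  · exact ch_2_9_6_3
  · exact ch_2_9_6_4
  · exact ch_2_9_6_5
  · exact absurd hb (by decide)
  · exact absurd hd (by decide)
  · exact ch_2_9_6_8
  · exact absurd hb (by decide)
  · exact ch_2_9_6_10

set_option maxRecDepth 100000 in
theorem ch_2_9_7_1_3 : enum 11 ck11 2 5 3242272 655 6 3 = true := by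
  decide +kernel

set_option maxRecDepth 100000 in
theorem ch_2_9_7_1_4 : enum 11 ck11 2 5 4290848 663 6 4 = true := by
  decide +kernel

set_option maxRecDepth 100000 in
theorem ch_2_9_7_1_5 : enum 11 ck11 2 5 5339424 679 6 5 = true := by
  decide +kernel

set_option maxRecDepth 100000 in
theorem ch_2_9_7_1_6 : enum 11 ck11 2 5 6388000 711 6 6 = true := by
  decide +kernel

set_option maxRecDepth 100000 in
theorem ch_2_9_7_1_8 : enum 11 ck11 2 5 8485152 903 6 8 = true := by
  decide +kernel

set_option maxRecDepth 100000 in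
theorem ch_2_9_7_1_10 : enum 11 ck11 2 5 10582304 1671 6 10 = true := by
  decide +kernel

theorem ch_2_9_7_1 : enum 11 ck11 2 6 96544 647 5 1 = true := by
  refine enum_intro 11 ck11 2 5 96544 647 5 1 ?_
  intro v hv hb hd
  interval_cases v
  · exact absurd hb (by decide)
  · exact absurd hb (by decide)
  · exact absurd hb (by decide)
  · exact ch_2_9_7_1_3
  · exact ch_2_9_7_1_4
  · exact ch_2_9_7_1_5
  · exact ch_2_9_7_1_6
  · exact absurd hb (by decide)
  · exact ch_2_9_7_1_8
  · exact absurd hb (by decide)
  · exact ch_2_9_7_1_10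

set_option maxRecDepth 100000 in
theorem ch_2_9_7_3_1 : enum 11 ck11 2 5 1276192 655 6 1 = true := by
  decide +kernel

set_option maxRecDepth 100000 in
theorem ch_2_9_7_3_5 : enum 11 ck11 2 5 5470496 685 6 5 = true := by
  decide +kernel

set_option maxRecDepth 100000 in
theorem ch_2_9_7_3_6 : enum 11 ck11 2 5 6519072 717 6 6 = true := by
  decide +kernel

set_option maxRecDepth 100000 in
theorem ch_2_9_7_3_8 : enum 11 ck11 2 5 8616224 909 6 8 = true := by
  decide +kernel

set_option maxRecDepth 100000 in
theorem ch_2_9_7_3_10 : enum 11 ck11 2 5 10713376 1677 6 10 = true := by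
  decide +kernel

theorem ch_2_9_7_3 : enum 11 ck11 2 6 227616 653 5 3 = true := by
  refine enum_intro 11 ck11 2 5 227616 653 5 3 ?_
  intro v hv hb hd
  interval_cases v
  · exact absurd hb (by decide)
  · exact ch_2_9_7_3_1
  · exact absurd hb (by decide)
  · exact absurd hb (by decide)
  · exact absurd hd (by decide)
  · exact ch_2_9_7_3_5
  · exact ch_2_9_7_3_6
  · exact absurd hb (by decide)
  · exact ch_2_9_7_3_8
  · exact absurd hb (by decide)
  · exact ch_2_9_7_3_10

set_option maxRecDepth 100000 in
theorem ch_2_9_7_4_1 : enum 11 ck11 2 5 1341728 663 6 1 = true := by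
  decide +kernel

set_option maxRecDepth 100000 in
theorem ch_2_9_7_4_3 : enum 11 ck11 2 5 3438880 669 6 3 = true := by
  decide +kernel

set_option maxRecDepth 100000 in
theorem ch_2_9_7_4_6 : enum 11 ck11 2 5 6584608 725 6 6 = true := by
  decide +kernel

set_option maxRecDepth 100000 in
theorem ch_2_9_7_4_8 : enum 11 ck11 2 5 8681760 917 6 8 = true := by
  decide +kernel

set_option maxRecDepth 100000 in
theorem ch_2_9_7_4_10 : enum 11 ck11 2 5 10778912 1685 6 10 = true := by
  decide +kernel

theorem ch_2_9_7_4 : enum 11 ck11 2 6 293152 661 5 4 = true := by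
  refine enum_intro 11 ck11 2 5 293152 661 5 4 ?_
  intro v hv hb hd
  interval_cases v
  · exact absurd hb (by decide)
  · exact ch_2_9_7_4_1
  · exact absurd hb (by decide)
  · exact ch_2_9_7_4_3
  · exact absurd hb (by decide)
  · exact absurd hd (by decide)
  · exact ch_2_9_7_4_6
  · exact absurd hb (by decide)
  · exact ch_2_9_7_4_8
  · exact absurd hb (by decide)
  · exact ch_2_9_7_4_10

set_option maxRecDepth 100000 in
theorem ch_2_9_7_5_1 : enum 11 ck11 2 5 1407264 679 6 1 = true := by
  decide +kernel

set_option maxRecDepth 100000 in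
theorem ch_2_9_7_5_3 : enum 11 ck11 2 5 3504416 685 6 3 = true := by
  decide +kernel

set_option maxRecDepth 100000 in
theorem ch_2_9_7_5_4 : enum 11 ck11 2 5 4552992 693 6 4 = true := by
  decide +kernel

set_option maxRecDepth 100000 in
theorem ch_2_9_7_5_8 : enum 11 ck11 2 5 8747296 933 6 8 = true := by
  decide +kernel

set_option maxRecDepth 100000 in
theorem ch_2_9_7_5_10 : enum 11 ck11 2 5 10844448 1701 6 10 = true := by
  decide +kernel

theorem ch_2_9_7_5 : enum 11 ck11 2 6 358688 677 5 5 = true := by
  refine enum_intro 11 ck11 2 5 358688 677 5 5 ?_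
  intro v hv hb hd
  interval_cases v
  · exact absurd hb (by decide)
  · exact ch_2_9_7_5_1
  · exact absurd hb (by decide)
  · exact ch_2_9_7_5_3
  · exact ch_2_9_7_5_4
  · exact absurd hb (by decide)
  · exact absurd hd (by decide)
  · exact absurd hb (by decide)
  · exact ch_2_9_7_5_8
  · exact absurd hb (by decide)
  · exact ch_2_9_7_5_10

set_option maxRecDepth 100000 in
theorem ch_2_9_7_6_1 : enum 11 ck11 2 5 1472800 711 6 1 = true := by
  decide +kernel

set_option maxRecDepth 100000 in
theorem ch_2_9_7_6_3 : enum 11 ck11 2 5 3569952 717 6 3 = true := by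
  decide +kernel

set_option maxRecDepth 100000 in
theorem ch_2_9_7_6_4 : enum 11 ck11 2 5 4618528 725 6 4 = true := by
  decide +kernel

set_option maxRecDepth 100000 in
theorem ch_2_9_7_6_5 : enum 11 ck11 2 5 5667104 741 6 5 = true := by
  decide +kernel

set_option maxRecDepth 100000 in
theorem ch_2_9_7_6_8 : enum 11 ck11 2 5 8812832 965 6 8 = true := by
  decide +kernel

set_option maxRecDepth 100000 in
theorem ch_2_9_7_6_10 : enum 11 ck11 2 5 10909984 1733 6 10 = true := by
  decide +kernel

theorem ch_2_9_7_6 : enum 11 ck11 2 6 424224 709 5 6 = true := by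
  refine enum_intro 11 ck11 2 5 424224 709 5 6 ?_
  intro v hv hb hd
  interval_cases v
  · exact absurd hb (by decide)
  · exact ch_2_9_7_6_1
  · exact absurd hb (by decide)
  · exact ch_2_9_7_6_3
  · exact ch_2_9_7_6_4
  · exact ch_2_9_7_6_5
  · exact absurd hb (by decide)
  · exact absurd hb (by decide)
  · exact ch_2_9_7_6_8
  · exact absurd hb (by decide)
  · exact ch_2_9_7_6_10

set_option maxRecDepth 100000 in
theorem ch_2_9_7_10_1 : enum 11 ck11 2 5 1734944 1671 6 1 = true := by
  decide +kernel

set_option maxRecDepth 100000 in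
theorem ch_2_9_7_10_3 : enum 11 ck11 2 5 3832096 1677 6 3 = true := by
  decide +kernel

set_option maxRecDepth 100000 in
theorem ch_2_9_7_10_4 : enum 11 ck11 2 5 4880672 1685 6 4 = true := by
  decide +kernel

set_option maxRecDepth 100000 in
theorem ch_2_9_7_10_5 : enum 11 ck11 2 5 5929248 1701 6 5 = true := by
  decide +kernel

set_option maxRecDepth 100000 in
theorem ch_2_9_7_10_6 : enum 11 ck11 2 5 6977824 1733 6 6 = true := by
  decide +kernel

set_option maxRecDepth 100000 in
theorem ch_2_9_7_10_8 : enum 11 ck11 2 5 9074976 1925 6 8 = true := by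
  decide +kernel

theorem ch_2_9_7_10 : enum 11 ck11 2 6 686368 1669 5 10 = true := by
  refine enum_intro 11 ck11 2 5 686368 1669 5 10 ?_
  intro v hv hb hd
  interval_cases v
  · exact absurd hb (by decide)
  · exact ch_2_9_7_10_1
  · exact absurd hb (by decide)
  · exact ch_2_9_7_10_3
  · exact ch_2_9_7_10_4
  · exact ch_2_9_7_10_5
  · exact ch_2_9_7_10_6
  · exact absurd hb (by decide)
  · exact ch_2_9_7_10_8
  · exact absurd hb (by decide)
  · exact absurd hb (by decide)

theorem ch_2_9_7 : enum 11 ck11 2 7 31008 645 4 7 = true := by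
  refine enum_intro 11 ck11 2 6 31008 645 4 7 ?_
  intro v hv hb hd
  interval_cases v
  · exact absurd hb (by decide)
  · exact ch_2_9_7_1
  · exact absurd hb (by decide)
  · exact ch_2_9_7_3
  · exact ch_2_9_7_4
  · exact ch_2_9_7_5
  · exact ch_2_9_7_6
  · exact absurd hb (by decide)
  · exact absurd hd (by decide)
  · exact absurd hb (by decide)
  · exact ch_2_9_7_10

set_option maxRecDepth 100000 in
theorem ch_2_9_8_1_3 : enum 11 ck11 2 5 3246368 783 6 3 = true := by
  decide +kernel

set_option maxRecDepth 100000 in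
theorem ch_2_9_8_1_4 : enum 11 ck11 2 5 4294944 791 6 4 = true := by
  decide +kernel

set_option maxRecDepth 100000 in
theorem ch_2_9_8_1_5 : enum 11 ck11 2 5 5343520 807 6 5 = true := by
  decide +kernel

set_option maxRecDepth 100000 in
theorem ch_2_9_8_1_6 : enum 11 ck11 2 5 6392096 839 6 6 = true := by
  decide +kernel

set_option maxRecDepth 100000 in
theorem ch_2_9_8_1_7 : enum 11 ck11 2 5 7440672 903 6 7 = true := by
  decide +kernel

set_option maxRecDepth 100000 in
theorem ch_2_9_8_1_10 : enum 11 ck11 2 5 10586400 1799 6 10 = true := by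
  decide +kernel

theorem ch_2_9_8_1 : enum 11 ck11 2 6 100640 775 5 1 = true := by
  refine enum_intro 11 ck11 2 5 100640 775 5 1 ?_
  intro v hv hb hd
  interval_cases v
  · exact absurd hb (by decide)
  · exact absurd hb (by decide)
  · exact absurd hb (by decide)
  · exact ch_2_9_8_1_3
  · exact ch_2_9_8_1_4
  · exact ch_2_9_8_1_5
  · exact ch_2_9_8_1_6
  · exact ch_2_9_8_1_7
  · exact absurd hb (by decide)
  · exact absurd hb (by decide)
  · exact ch_2_9_8_1_10

set_option maxRecDepth 100000 in
theorem ch_2_9_8_3_1 : enum 11 ck11 2 5 1280288 783 6 1 = true := by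
  decide +kernel

set_option maxRecDepth 100000 in
theorem ch_2_9_8_3_5 : enum 11 ck11 2 5 5474592 813 6 5 = true := by
  decide +kernel

set_option maxRecDepth 100000 in
theorem ch_2_9_8_3_6 : enum 11 ck11 2 5 6523168 845 6 6 = true := by
  decide +kernel

set_option maxRecDepth 100000 in
theorem ch_2_9_8_3_7 : enum 11 ck11 2 5 7571744 909 6 7 = true := by
  decide +kernel

set_option maxRecDepth 100000 in
theorem ch_2_9_8_3_10 : enum 11 ck11 2 5 10717472 1805 6 10 = true := by
  decide +kernel

theorem ch_2_9_8_3 : enum 11 ck11 2 6 231712 781 5 3 = true := by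
  refine enum_intro 11 ck11 2 5 231712 781 5 3 ?_
  intro v hv hb hd
  interval_cases v
  · exact absurd hb (by decide)
  · exact ch_2_9_8_3_1
  · exact absurd hb (by decide)
  · exact absurd hb (by decide)
  · exact absurd hd (by decide)
  · exact ch_2_9_8_3_5
  · exact ch_2_9_8_3_6
  · exact ch_2_9_8_3_7
  · exact absurd hb (by decide)
  · exact absurd hb (by decide)
  · exact ch_2_9_8_3_10

set_option maxRecDepth 100000 in
theorem ch_2_9_8_4_1 : enum 11 ck11 2 5 1345824 791 6 1 = true := by
  decide +kernel

set_option maxRecDepth 100000 in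
theorem ch_2_9_8_4_3 : enum 11 ck11 2 5 3442976 797 6 3 = true := by
  decide +kernel

set_option maxRecDepth 100000 in
theorem ch_2_9_8_4_6 : enum 11 ck11 2 5 6588704 853 6 6 = true := by
  decide +kernel

set_option maxRecDepth 100000 in
theorem ch_2_9_8_4_7 : enum 11 ck11 2 5 7637280 917 6 7 = true := by
  decide +kernel

set_option maxRecDepth 100000 in
theorem ch_2_9_8_4_10 : enum 11 ck11 2 5 10783008 1813 6 10 = true := by
  decide +kernel

theorem ch_2_9_8_4 : enum 11 ck11 2 6 297248 789 5 4 = true := by
  refine enum_intro 11 ck11 2 5 297248 789 5 4 ?_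
  intro v hv hb hd
  interval_cases v
  · exact absurd hb (by decide)
  · exact ch_2_9_8_4_1
  · exact absurd hb (by decide)
  · exact ch_2_9_8_4_3
  · exact absurd hb (by decide)
  · exact absurd hd (by decide)
  · exact ch_2_9_8_4_6
  · exact ch_2_9_8_4_7
  · exact absurd hb (by decide)
  · exact absurd hb (by decide)
  · exact ch_2_9_8_4_10

set_option maxRecDepth 100000 in
theorem ch_2_9_8_5_1 : enum 11 ck11 2 5 1411360 807 6 1 = true := by
  decide +kernel

set_option maxRecDepth 100000 in
theorem ch_2_9_8_5_3 : enum 11 ck11 2 5 3508512 813 6 3 = true := by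
  decide +kernel

set_option maxRecDepth 100000 in
theorem ch_2_9_8_5_4 : enum 11 ck11 2 5 4557088 821 6 4 = true := by
  decide +kernel

set_option maxRecDepth 100000 in
theorem ch_2_9_8_5_7 : enum 11 ck11 2 5 7702816 933 6 7 = true := by
  decide +kernel

set_option maxRecDepth 100000 in
theorem ch_2_9_8_5_10 : enum 11 ck11 2 5 10848544 1829 6 10 = true := by
  decide +kernel

theorem ch_2_9_8_5 : enum 11 ck11 2 6 362784 805 5 5 = true := by
  refine enum_intro 11 ck11 2 5 362784 805 5 5 ?_
  intro v hv hb hd
  interval_cases v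
  · exact absurd hb (by decide)
  · exact ch_2_9_8_5_1
  · exact absurd hb (by decide)
  · exact ch_2_9_8_5_3
  · exact ch_2_9_8_5_4
  · exact absurd hb (by decide)
  · exact absurd hd (by decide)
  · exact ch_2_9_8_5_7
  · exact absurd hb (by decide)
  · exact absurd hb (by decide)
  · exact ch_2_9_8_5_10

set_option maxRecDepth 100000 in
theorem ch_2_9_8_6_1 : enum 11 ck11 2 5 1476896 839 6 1 = true := by
  decide +kernel

set_option maxRecDepth 100000 in
theorem ch_2_9_8_6_3 : enum 11 ck11 2 5 3574048 845 6 3 = true := by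
  decide +kernel

set_option maxRecDepth 100000 in
theorem ch_2_9_8_6_4 : enum 11 ck11 2 5 4622624 853 6 4 = true := by
  decide +kernel

set_option maxRecDepth 100000 in
theorem ch_2_9_8_6_5 : enum 11 ck11 2 5 5671200 869 6 5 = true := by
  decide +kernel

set_option maxRecDepth 100000 in
theorem ch_2_9_8_6_10 : enum 11 ck11 2 5 10914080 1861 6 10 = true := by
  decide +kernel

theorem ch_2_9_8_6 : enum 11 ck11 2 6 428320 837 5 6 = true := by
  refine enum_intro 11 ck11 2 5 428320 837 5 6 ?_
  intro v hv hb hd
  interval_cases v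
  · exact absurd hb (by decide)
  · exact ch_2_9_8_6_1
  · exact absurd hb (by decide)
  · exact ch_2_9_8_6_3
  · exact ch_2_9_8_6_4
  · exact ch_2_9_8_6_5
  · exact absurd hb (by decide)
  · exact absurd hd (by decide)
  · exact absurd hb (by decide)
  · exact absurd hb (by decide)
  · exact ch_2_9_8_6_10

set_option maxRecDepth 100000 in
theorem ch_2_9_8_7_1 : enum 11 ck11 2 5 1542432 903 6 1 = true := by
  decide +kernel

set_option maxRecDepth 100000 in
theorem ch_2_9_8_7_3 : enum 11 ck11 2 5 3639584 909 6 3 = true := by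
  decide +kernel

set_option maxRecDepth 100000 in
theorem ch_2_9_8_7_4 : enum 11 ck11 2 5 4688160 917 6 4 = true := by
  decide +kernel

set_option maxRecDepth 100000 in
theorem ch_2_9_8_7_5 : enum 11 ck11 2 5 5736736 933 6 5 = true := by
  decide +kernel

set_option maxRecDepth 100000 in
theorem ch_2_9_8_7_6 : enum 11 ck11 2 5 6785312 965 6 6 = true := by
  decide +kernel

set_option maxRecDepth 100000 in
theorem ch_2_9_8_7_10 : enum 11 ck11 2 5 10979616 1925 6 10 = true := by
  decide +kernel

theorem ch_2_9_8_7 : enum 11 ck11 2 6 493856 901 5 7 = true := by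
  refine enum_intro 11 ck11 2 5 493856 901 5 7 ?_
  intro v hv hb hd
  interval_cases v
  · exact absurd hb (by decide)
  · exact ch_2_9_8_7_1
  · exact absurd hb (by decide)
  · exact ch_2_9_8_7_3
  · exact ch_2_9_8_7_4
  · exact ch_2_9_8_7_5
  · exact ch_2_9_8_7_6
  · exact absurd hb (by decide)
  · exact absurd hb (by decide)
  · exact absurd hb (by decide)
  · exact ch_2_9_8_7_10

set_option maxRecDepth 100000 in
theorem ch_2_9_8_10_1 : enum 11 ck11 2 5 1739040 1799 6 1 = true := by
  decide +kernel

set_option maxRecDepth 100000 in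
theorem ch_2_9_8_10_3 : enum 11 ck11 2 5 3836192 1805 6 3 = true := by
  decide +kernel

set_option maxRecDepth 100000 in
theorem ch_2_9_8_10_4 : enum 11 ck11 2 5 4884768 1813 6 4 = true := by
  decide +kernel

set_option maxRecDepth 100000 in
theorem ch_2_9_8_10_5 : enum 11 ck11 2 5 5933344 1829 6 5 = true := by
  decide +kernel

set_option maxRecDepth 100000 in
theorem ch_2_9_8_10_6 : enum 11 ck11 2 5 6981920 1861 6 6 = true := by
  decide +kernel

set_option maxRecDepth 100000 in
theorem ch_2_9_8_10_7 : enum 11 ck11 2 5 8030496 1925 6 7 = true := by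
  decide +kernel

theorem ch_2_9_8_10 : enum 11 ck11 2 6 690464 1797 5 10 = true := by
  refine enum_intro 11 ck11 2 5 690464 1797 5 10 ?_
  intro v hv hb hd
  interval_cases v
  · exact absurd hb (by decide)
  · exact ch_2_9_8_10_1
  · exact absurd hb (by decide)
  · exact ch_2_9_8_10_3
  · exact ch_2_9_8_10_4
  · exact ch_2_9_8_10_5
  · exact ch_2_9_8_10_6
  · exact ch_2_9_8_10_7
  · exact absurd hb (by decide)
  · exact absurd hb (by decide)
  · exact absurd hb (by decide)

theorem ch_2_9_8 : enum 11 ck11 2 7 35104 773 4 8 = true := by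
  refine enum_intro 11 ck11 2 6 35104 773 4 8 ?_
  intro v hv hb hd
  interval_cases v
  · exact absurd hb (by decide)
  · exact ch_2_9_8_1
  · exact absurd hb (by decide)
  · exact ch_2_9_8_3
  · exact ch_2_9_8_4
  · exact ch_2_9_8_5
  · exact ch_2_9_8_6
  · exact ch_2_9_8_7
  · exact absurd hb (by decide)
  · exact absurd hb (by decide)
  · exact ch_2_9_8_10

end Cfsg.Agent.Helper9.T11
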