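import Mathlib
import Cfsg.Agent.Helper9.T11.Chk

set_option autoImplicit false
set_option Elab.async false

/-!
A part of the enumeration on 11 points: the test holds at every permutation of the part.
-/

namespace Cfsg.Agent.Helper9.T11

set_option maxRecDepth 100000 in
theorem ch_3_1_4_2 : enum 11 ck11 3 6 147760 31 5 2 = true := by
  decide +kernel

set_option maxRecDepth 100000 in
theorem ch_3_1_4_7_2 : enum 11 ck11 3 5 2572592 159 6 2 = true := by
  decide +kernel

set_option maxRecDepth 100000 in
theorem ch_3_1_4_7_5 : enum 11 ck11 3 5 5718320 187 6 5 = true := by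
  decide +kernel

set_option maxRecDepth 100000 in
theorem ch_3_1_4_7_6 : enum 11 ck11 3 5 6766896 219 6 6 = true := by
  decide +kernel

set_option maxRecDepth 100000 in
theorem ch_3_1_4_7_10 : enum 11 ck11 3 5 10961200 1179 6 10 = true := by
  decide +kernel

theorem ch_3_1_4_7 : enum 11 ck11 3 6 475440 155 5 7 = true := by
  refine enum_intro 11 ck11 3 5 475440 155 5 7 ?_
  intro v hv hb hd
  interval_cases v
  · exact absurd hb (by decide)
  · exact absurd hb (by decide)
  · exact ch_3_1_4_7_2
  · exact absurd hb (by decide)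
  · exact absurd hb (by decide)
  · exact ch_3_1_4_7_5
  · exact ch_3_1_4_7_6
  · exact absurd hb (by decide)
  · exact absurd hd (by decide)
  · exact absurd hd (by decide)
  · exact ch_3_1_4_7_10

set_option maxRecDepth 100000 in
theorem ch_3_1_4_8_2 : enum 11 ck11 3 5 2638128 287 6 2 = true := by
  decide +kernel

set_option maxRecDepth 100000 in
theorem ch_3_1_4_8_5 : enum 11 ck11 3 5 5783856 315 6 5 = true := by
  decide +kernel

set_option maxRecDepth 100000 in
theorem ch_3_1_4_8_6 : enum 11 ck11 3 5 6832432 347 6 6 = true := by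
  decide +kernel

set_option maxRecDepth 100000 in
theorem ch_3_1_4_8_7 : enum 11 ck11 3 5 7881008 411 6 7 = true := by
  decide +kernel

theorem ch_3_1_4_8 : enum 11 ck11 3 6 540976 283 5 8 = true := by
  refine enum_intro 11 ck11 3 5 540976 283 5 8 ?_
  intro v hv hb hd
  interval_cases v
  · exact absurd hb (by decide)
  · exact absurd hb (by decide)
  · exact ch_3_1_4_8_2
  · exact absurd hb (by decide)
  · exact absurd hb (by decide)
  · exact ch_3_1_4_8_5
  · exact ch_3_1_4_8_6
  · exact ch_3_1_4_8_7
  · exact absurd hb (by decide)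
  · exact absurd hd (by decide)
  · exact absurd hd (by decide)

set_option maxRecDepth 100000 in
theorem ch_3_1_4_9_2 : enum 11 ck11 3 5 2703664 543 6 2 = true := by
  decide +kernel

set_option maxRecDepth 100000 in
theorem ch_3_1_4_9_5 : enum 11 ck11 3 5 5849392 571 6 5 = true := by
  decide +kernel

set_option maxRecDepth 100000 in
theorem ch_3_1_4_9_6 : enum 11 ck11 3 5 6897968 603 6 6 = true := by
  decide +kernel

set_option maxRecDepth 100000 in
theorem ch_3_1_4_9_7 : enum 11 ck11 3 5 7946544 667 6 7 = true := by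
  decide +kernel

set_option maxRecDepth 100000 in
theorem ch_3_1_4_9_8 : enum 11 ck11 3 5 8995120 795 6 8 = true := by
  decide +kernel

theorem ch_3_1_4_9 : enum 11 ck11 3 6 606512 539 5 9 = true := by
  refine enum_intro 11 ck11 3 5 606512 539 5 9 ?_
  intro v hv hb hd
  interval_cases v
  · exact absurd hb (by decide)
  · exact absurd hb (by decide)
  · exact ch_3_1_4_9_2
  · exact absurd hb (by decide)
  · exact absurd hb (by decide)
  · exact ch_3_1_4_9_5
  · exact ch_3_1_4_9_6
  · exact ch_3_1_4_9_7
  · exact ch_3_1_4_9_8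
  · exact absurd hb (by decide)
  · exact absurd hd (by decide)

set_option maxRecDepth 100000 in
theorem ch_3_1_4_10_2 : enum 11 ck11 3 5 2769200 1055 6 2 = true := by
  decide +kernel

set_option maxRecDepth 100000 in
theorem ch_3_1_4_10_5 : enum 11 ck11 3 5 5914928 1083 6 5 = true := by
  decide +kernel

set_option maxRecDepth 100000 in
theorem ch_3_1_4_10_6 : enum 11 ck11 3 5 6963504 1115 6 6 = true := by
  decide +kernel

set_option maxRecDepth 100000 in
theorem ch_3_1_4_10_7 : enum 11 ck11 3 5 8012080 1179 6 7 = true := by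
  decide +kernel

set_option maxRecDepth 100000 in
theorem ch_3_1_4_10_8 : enum 11 ck11 3 5 9060656 1307 6 8 = true := by
  decide +kernel

set_option maxRecDepth 100000 in
theorem ch_3_1_4_10_9 : enum 11 ck11 3 5 10109232 1563 6 9 = true := by
  decide +kernel

theorem ch_3_1_4_10 : enum 11 ck11 3 6 672048 1051 5 10 = true := by
  refine enum_intro 11 ck11 3 5 672048 1051 5 10 ?_
  intro v hv hb hd
  interval_cases v
  · exact absurd hb (by decide)
  · exact absurd hb (by decide)
  · exact ch_3_1_4_10_2
  · exact absurd hb (by decide)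
  · exact absurd hb (by decide)
  · exact ch_3_1_4_10_5
  · exact ch_3_1_4_10_6
  · exact ch_3_1_4_10_7
  · exact ch_3_1_4_10_8
  · exact ch_3_1_4_10_9
  · exact absurd hb (by decide)

theorem ch_3_1_4 : enum 11 ck11 3 7 16688 27 4 4 = true := by
  refine enum_intro 11 ck11 3 6 16688 27 4 4 ?_
  intro v hv hb hd
  interval_cases v
  · exact absurd hb (by decide)
  · exact absurd hb (by decide)
  · exact ch_3_1_4_2
  · exact absurd hb (by decide)
  · exact absurd hb (by decide)
  · exact absurd hd (by decide)
  · exact absurd hd (by decide)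
  · exact ch_3_1_4_7
  · exact ch_3_1_4_8
  · exact ch_3_1_4_9
  · exact ch_3_1_4_10

set_option maxRecDepth 100000 in
theorem ch_3_1_5_2 : enum 11 ck11 3 6 151856 47 5 2 = true := by
  decide +kernel

set_option maxRecDepth 100000 in
theorem ch_3_1_5_4_2 : enum 11 ck11 3 5 2380080 63 6 2 = true := by
  decide +kernel

set_option maxRecDepth 100000 in
theorem ch_3_1_5_4_7 : enum 11 ck11 3 5 7622960 187 6 7 = true := by
  decide +kernel

set_option maxRecDepth 100000 in
theorem ch_3_1_5_4_8 : enum 11 ck11 3 5 8671536 315 6 8 = true := by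
  decide +kernel

set_option maxRecDepth 100000 in
theorem ch_3_1_5_4_9 : enum 11 ck11 3 5 9720112 571 6 9 = true := by
  decide +kernel

set_option maxRecDepth 100000 in
theorem ch_3_1_5_4_10 : enum 11 ck11 3 5 10768688 1083 6 10 = true := by
  decide +kernel

theorem ch_3_1_5_4 : enum 11 ck11 3 6 282928 59 5 4 = true := by
  refine enum_intro 11 ck11 3 5 282928 59 5 4 ?_
  intro v hv hb hd
  interval_cases v
  · exact absurd hb (by decide)
  · exact absurd hb (by decide)
  · exact ch_3_1_5_4_2
  · exact absurd hb (by decide)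
  · exact absurd hb (by decide)
  · exact absurd hb (by decide)
  · exact absurd hd (by decide)
  · exact ch_3_1_5_4_7
  · exact ch_3_1_5_4_8
  · exact ch_3_1_5_4_9
  · exact ch_3_1_5_4_10

set_option maxRecDepth 100000 in
theorem ch_3_1_5_8_2 : enum 11 ck11 3 5 2642224 303 6 2 = true := by
  decide +kernel

set_option maxRecDepth 100000 in
theorem ch_3_1_5_8_4 : enum 11 ck11 3 5 4739376 315 6 4 = true := by
  decide +kernel

set_option maxRecDepth 100000 in
theorem ch_3_1_5_8_6 : enum 11 ck11 3 5 6836528 363 6 6 = true := by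
  decide +kernel

set_option maxRecDepth 100000 in
theorem ch_3_1_5_8_7 : enum 11 ck11 3 5 7885104 427 6 7 = true := by
  decide +kernel

theorem ch_3_1_5_8 : enum 11 ck11 3 6 545072 299 5 8 = true := by
  refine enum_intro 11 ck11 3 5 545072 299 5 8 ?_
  intro v hv hb hd
  interval_cases v
  · exact absurd hb (by decide)
  · exact absurd hb (by decide)
  · exact ch_3_1_5_8_2
  · exact absurd hb (by decide)
  · exact ch_3_1_5_8_4
  · exact absurd hb (by decide)
  · exact ch_3_1_5_8_6
  · exact ch_3_1_5_8_7
  · exact absurd hb (by decide)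
  · exact absurd hd (by decide)
  · exact absurd hd (by decide)

set_option maxRecDepth 100000 in
theorem ch_3_1_5_9_2 : enum 11 ck11 3 5 2707760 559 6 2 = true := by
  decide +kernel

set_option maxRecDepth 100000 in
theorem ch_3_1_5_9_4 : enum 11 ck11 3 5 4804912 571 6 4 = true := by
  decide +kernel

set_option maxRecDepth 100000 in
theorem ch_3_1_5_9_6 : enum 11 ck11 3 5 6902064 619 6 6 = true := by
  decide +kernel

set_option maxRecDepth 100000 in
theorem ch_3_1_5_9_7 : enum 11 ck11 3 5 7950640 683 6 7 = true := by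
  decide +kernel

set_option maxRecDepth 100000 in
theorem ch_3_1_5_9_8 : enum 11 ck11 3 5 8999216 811 6 8 = true := by
  decide +kernel

theorem ch_3_1_5_9 : enum 11 ck11 3 6 610608 555 5 9 = true := by
  refine enum_intro 11 ck11 3 5 610608 555 5 9 ?_
  intro v hv hb hd
  interval_cases v
  · exact absurd hb (by decide)
  · exact absurd hb (by decide)
  · exact ch_3_1_5_9_2
  · exact absurd hb (by decide)
  · exact ch_3_1_5_9_4
  · exact absurd hb (by decide)
  · exact ch_3_1_5_9_6
  · exact ch_3_1_5_9_7
  · exact ch_3_1_5_9_8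
  · exact absurd hb (by decide)
  · exact absurd hd (by decide)

set_option maxRecDepth 100000 in
theorem ch_3_1_5_10_2 : enum 11 ck11 3 5 2773296 1071 6 2 = true := by
  decide +kernel

set_option maxRecDepth 100000 in
theorem ch_3_1_5_10_4 : enum 11 ck11 3 5 4870448 1083 6 4 = true := by
  decide +kernel

set_option maxRecDepth 100000 in
theorem ch_3_1_5_10_6 : enum 11 ck11 3 5 6967600 1131 6 6 = true := by
  decide +kernel

set_option maxRecDepth 100000 in
theorem ch_3_1_5_10_7 : enum 11 ck11 3 5 8016176 1195 6 7 = true := by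
  decide +kernel

set_option maxRecDepth 100000 in
theorem ch_3_1_5_10_8 : enum 11 ck11 3 5 9064752 1323 6 8 = true := by
  decide +kernel

set_option maxRecDepth 100000 in
theorem ch_3_1_5_10_9 : enum 11 ck11 3 5 10113328 1579 6 9 = true := by
  decide +kernel

theorem ch_3_1_5_10 : enum 11 ck11 3 6 676144 1067 5 10 = true := by
  refine enum_intro 11 ck11 3 5 676144 1067 5 10 ?_
  intro v hv hb hd
  interval_cases v
  · exact absurd hb (by decide)
  · exact absurd hb (by decide)
  · exact ch_3_1_5_10_2
  · exact absurd hb (by decide)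
  · exact ch_3_1_5_10_4
  · exact absurd hb (by decide)
  · exact ch_3_1_5_10_6
  · exact ch_3_1_5_10_7
  · exact ch_3_1_5_10_8
  · exact ch_3_1_5_10_9
  · exact absurd hb (by decide)

theorem ch_3_1_5 : enum 11 ck11 3 7 20784 43 4 5 = true := by
  refine enum_intro 11 ck11 3 6 20784 43 4 5 ?_
  intro v hv hb hd
  interval_cases v
  · exact absurd hb (by decide)
  · exact absurd hb (by decide)
  · exact ch_3_1_5_2
  · exact absurd hb (by decide)
  · exact ch_3_1_5_4
  · exact absurd hb (by decide)
  · exact absurd hd (by decide)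
  · exact absurd hd (by decide)
  · exact ch_3_1_5_8
  · exact ch_3_1_5_9
  · exact ch_3_1_5_10

set_option maxRecDepth 100000 in
theorem ch_3_1_6_2_5 : enum 11 ck11 3 5 5398832 111 6 5 = true := by
  decide +kernel

set_option maxRecDepth 100000 in
theorem ch_3_1_6_2_7 : enum 11 ck11 3 5 7495984 207 6 7 = true := by
  decide +kernel

set_option maxRecDepth 100000 in
theorem ch_3_1_6_2_8 : enum 11 ck11 3 5 8544560 335 6 8 = true := by
  decide +kernel

set_option maxRecDepth 100000 in
theorem ch_3_1_6_2_9 : enum 11 ck11 3 5 9593136 591 6 9 = true := by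
  decide +kernel

set_option maxRecDepth 100000 in
theorem ch_3_1_6_2_10 : enum 11 ck11 3 5 10641712 1103 6 10 = true := by
  decide +kernel

theorem ch_3_1_6_2 : enum 11 ck11 3 6 155952 79 5 2 = true := by
  refine enum_intro 11 ck11 3 5 155952 79 5 2 ?_
  intro v hv hb hd
  interval_cases v
  · exact absurd hb (by decide)
  · exact absurd hb (by decide)
  · exact absurd hb (by decide)
  · exact absurd hb (by decide)
  · exact absurd hd (by decide)
  · exact ch_3_1_6_2_5
  · exact absurd hb (by decide)
  · exact ch_3_1_6_2_7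
  · exact ch_3_1_6_2_8
  · exact ch_3_1_6_2_9
  · exact ch_3_1_6_2_10

set_option maxRecDepth 100000 in
theorem ch_3_1_6_4_2 : enum 11 ck11 3 5 2384176 95 6 2 = true := by
  decide +kernel

set_option maxRecDepth 100000 in
theorem ch_3_1_6_4_7 : enum 11 ck11 3 5 7627056 219 6 7 = true := by
  decide +kernel

set_option maxRecDepth 100000 in
theorem ch_3_1_6_4_8 : enum 11 ck11 3 5 8675632 347 6 8 = true := by
  decide +kernel

set_option maxRecDepth 100000 in
theorem ch_3_1_6_4_9 : enum 11 ck11 3 5 9724208 603 6 9 = true := by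
  decide +kernel

set_option maxRecDepth 100000 in
theorem ch_3_1_6_4_10 : enum 11 ck11 3 5 10772784 1115 6 10 = true := by
  decide +kernel

theorem ch_3_1_6_4 : enum 11 ck11 3 6 287024 91 5 4 = true := by
  refine enum_intro 11 ck11 3 5 287024 91 5 4 ?_
  intro v hv hb hd
  interval_cases v
  · exact absurd hb (by decide)
  · exact absurd hb (by decide)
  · exact ch_3_1_6_4_2
  · exact absurd hb (by decide)
  · exact absurd hb (by decide)
  · exact absurd hd (by decide)
  · exact absurd hb (by decide)
  · exact ch_3_1_6_4_7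
  · exact ch_3_1_6_4_8
  · exact ch_3_1_6_4_9
  · exact ch_3_1_6_4_10

set_option maxRecDepth 100000 in
theorem ch_3_1_6_5_2 : enum 11 ck11 3 5 2449712 111 6 2 = true := by
  decide +kernel

set_option maxRecDepth 100000 in
theorem ch_3_1_6_5_4 : enum 11 ck11 3 5 4546864 123 6 4 = true := by
  decide +kernel

set_option maxRecDepth 100000 in
theorem ch_3_1_6_5_8 : enum 11 ck11 3 5 8741168 363 6 8 = true := by
  decide +kernel

set_option maxRecDepth 100000 in
theorem ch_3_1_6_5_9 : enum 11 ck11 3 5 9789744 619 6 9 = true := by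
  decide +kernel

set_option maxRecDepth 100000 in
theorem ch_3_1_6_5_10 : enum 11 ck11 3 5 10838320 1131 6 10 = true := by
  decide +kernel

theorem ch_3_1_6_5 : enum 11 ck11 3 6 352560 107 5 5 = true := by
  refine enum_intro 11 ck11 3 5 352560 107 5 5 ?_
  intro v hv hb hd
  interval_cases v
  · exact absurd hb (by decide)
  · exact absurd hb (by decide)
  · exact ch_3_1_6_5_2
  · exact absurd hb (by decide)
  · exact ch_3_1_6_5_4
  · exact absurd hb (by decide)
  · exact absurd hb (by decide)
  · exact absurd hd (by decide)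
  · exact ch_3_1_6_5_8
  · exact ch_3_1_6_5_9
  · exact ch_3_1_6_5_10

set_option maxRecDepth 100000 in
theorem ch_3_1_6_9_2 : enum 11 ck11 3 5 2711856 591 6 2 = true := by
  decide +kernel

set_option maxRecDepth 100000 in
theorem ch_3_1_6_9_4 : enum 11 ck11 3 5 4809008 603 6 4 = true := by
  decide +kernel

set_option maxRecDepth 100000 in
theorem ch_3_1_6_9_5 : enum 11 ck11 3 5 5857584 619 6 5 = true := by
  decide +kernel

set_option maxRecDepth 100000 in
theorem ch_3_1_6_9_7 : enum 11 ck11 3 5 7954736 715 6 7 = true := by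
  decide +kernel

set_option maxRecDepth 100000 in
theorem ch_3_1_6_9_8 : enum 11 ck11 3 5 9003312 843 6 8 = true := by
  decide +kernel

theorem ch_3_1_6_9 : enum 11 ck11 3 6 614704 587 5 9 = true := by
  refine enum_intro 11 ck11 3 5 614704 587 5 9 ?_
  intro v hv hb hd
  interval_cases v
  · exact absurd hb (by decide)
  · exact absurd hb (by decide)
  · exact ch_3_1_6_9_2
  · exact absurd hb (by decide)
  · exact ch_3_1_6_9_4
  · exact ch_3_1_6_9_5
  · exact absurd hb (by decide)
  · exact ch_3_1_6_9_7
  · exact ch_3_1_6_9_8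
  · exact absurd hb (by decide)
  · exact absurd hd (by decide)

set_option maxRecDepth 100000 in
theorem ch_3_1_6_10_2 : enum 11 ck11 3 5 2777392 1103 6 2 = true := by
  decide +kernel

set_option maxRecDepth 100000 in
theorem ch_3_1_6_10_4 : enum 11 ck11 3 5 4874544 1115 6 4 = true := by
  decide +kernel

set_option maxRecDepth 100000 in
theorem ch_3_1_6_10_5 : enum 11 ck11 3 5 5923120 1131 6 5 = true := by
  decide +kernel

set_option maxRecDepth 100000 in
theorem ch_3_1_6_10_7 : enum 11 ck11 3 5 8020272 1227 6 7 = true := by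
  decide +kernel

set_option maxRecDepth 100000 in
theorem ch_3_1_6_10_8 : enum 11 ck11 3 5 9068848 1355 6 8 = true := by
  decide +kernel

set_option maxRecDepth 100000 in
theorem ch_3_1_6_10_9 : enum 11 ck11 3 5 10117424 1611 6 9 = true := by
  decide +kernel

theorem ch_3_1_6_10 : enum 11 ck11 3 6 680240 1099 5 10 = true := by
  refine enum_intro 11 ck11 3 5 680240 1099 5 10 ?_
  intro v hv hb hd
  interval_cases v
  · exact absurd hb (by decide)
  · exact absurd hb (by decide)
  · exact ch_3_1_6_10_2
  · exact absurd hb (by decide)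
  · exact ch_3_1_6_10_4
  · exact ch_3_1_6_10_5
  · exact absurd hb (by decide)
  · exact ch_3_1_6_10_7
  · exact ch_3_1_6_10_8
  · exact ch_3_1_6_10_9
  · exact absurd hb (by decide)

theorem ch_3_1_6 : enum 11 ck11 3 7 24880 75 4 6 = true := by
  refine enum_intro 11 ck11 3 6 24880 75 4 6 ?_
  intro v hv hb hd
  interval_cases v
  · exact absurd hb (by decide)
  · exact absurd hb (by decide)
  · exact ch_3_1_6_2
  · exact absurd hb (by decide)
  · exact ch_3_1_6_4
  · exact ch_3_1_6_5
  · exact absurd hb (by decide)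
  · exact absurd hd (by decide)
  · exact absurd hd (by decide)
  · exact ch_3_1_6_9
  · exact ch_3_1_6_10

set_option maxRecDepth 100000 in
theorem ch_3_1_7_2_5 : enum 11 ck11 3 5 5402928 175 6 5 = true := by
  decide +kernel

set_option maxRecDepth 100000 in
theorem ch_3_1_7_2_6 : enum 11 ck11 3 5 6451504 207 6 6 = true := by
  decide +kernel

set_option maxRecDepth 100000 in
theorem ch_3_1_7_2_8 : enum 11 ck11 3 5 8548656 399 6 8 = true := by
  decide +kernel

set_option maxRecDepth 100000 in
theorem ch_3_1_7_2_9 : enum 11 ck11 3 5 9597232 655 6 9 = true := by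
  decide +kernel

set_option maxRecDepth 100000 in
theorem ch_3_1_7_2_10 : enum 11 ck11 3 5 10645808 1167 6 10 = true := by
  decide +kernel

theorem ch_3_1_7_2 : enum 11 ck11 3 6 160048 143 5 2 = true := by
  refine enum_intro 11 ck11 3 5 160048 143 5 2 ?_
  intro v hv hb hd
  interval_cases v
  · exact absurd hb (by decide)
  · exact absurd hb (by decide)
  · exact absurd hb (by decide)
  · exact absurd hb (by decide)
  · exact absurd hd (by decide)
  · exact ch_3_1_7_2_5
  · exact ch_3_1_7_2_6
  · exact absurd hb (by decide)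
  · exact ch_3_1_7_2_8
  · exact ch_3_1_7_2_9
  · exact ch_3_1_7_2_10

set_option maxRecDepth 100000 in
theorem ch_3_1_7_4_2 : enum 11 ck11 3 5 2388272 159 6 2 = true := by
  decide +kernel

set_option maxRecDepth 100000 in
theorem ch_3_1_7_4_8 : enum 11 ck11 3 5 8679728 411 6 8 = true := by
  decide +kernel

set_option maxRecDepth 100000 in
theorem ch_3_1_7_4_9 : enum 11 ck11 3 5 9728304 667 6 9 = true := by
  decide +kernel

set_option maxRecDepth 100000 in
theorem ch_3_1_7_4_10 : enum 11 ck11 3 5 10776880 1179 6 10 = true := by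
  decide +kernel

theorem ch_3_1_7_4 : enum 11 ck11 3 6 291120 155 5 4 = true := by
  refine enum_intro 11 ck11 3 5 291120 155 5 4 ?_
  intro v hv hb hd
  interval_cases v
  · exact absurd hb (by decide)
  · exact absurd hb (by decide)
  · exact ch_3_1_7_4_2
  · exact absurd hb (by decide)
  · exact absurd hb (by decide)
  · exact absurd hd (by decide)
  · exact absurd hd (by decide)
  · exact absurd hb (by decide)
  · exact ch_3_1_7_4_8
  · exact ch_3_1_7_4_9
  · exact ch_3_1_7_4_10

set_option maxRecDepth 100000 in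
theorem ch_3_1_7_5_2 : enum 11 ck11 3 5 2453808 175 6 2 = true := by
  decide +kernel

set_option maxRecDepth 100000 in
theorem ch_3_1_7_5_4 : enum 11 ck11 3 5 4550960 187 6 4 = true := by
  decide +kernel

set_option maxRecDepth 100000 in
theorem ch_3_1_7_5_8 : enum 11 ck11 3 5 8745264 427 6 8 = true := by
  decide +kernel

set_option maxRecDepth 100000 in
theorem ch_3_1_7_5_9 : enum 11 ck11 3 5 9793840 683 6 9 = true := by
  decide +kernel

set_option maxRecDepth 100000 in
theorem ch_3_1_7_5_10 : enum 11 ck11 3 5 10842416 1195 6 10 = true := by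
  decide +kernel

theorem ch_3_1_7_5 : enum 11 ck11 3 6 356656 171 5 5 = true := by
  refine enum_intro 11 ck11 3 5 356656 171 5 5 ?_
  intro v hv hb hd
  interval_cases v
  · exact absurd hb (by decide)
  · exact absurd hb (by decide)
  · exact ch_3_1_7_5_2
  · exact absurd hb (by decide)
  · exact ch_3_1_7_5_4
  · exact absurd hb (by decide)
  · exact absurd hd (by decide)
  · exact absurd hb (by decide)
  · exact ch_3_1_7_5_8
  · exact ch_3_1_7_5_9
  · exact ch_3_1_7_5_10

set_option maxRecDepth 100000 in
theorem ch_3_1_7_6_2 : enum 11 ck11 3 5 2519344 207 6 2 = true := by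
  decide +kernel

set_option maxRecDepth 100000 in
theorem ch_3_1_7_6_4 : enum 11 ck11 3 5 4616496 219 6 4 = true := by
  decide +kernel

set_option maxRecDepth 100000 in
theorem ch_3_1_7_6_5 : enum 11 ck11 3 5 5665072 235 6 5 = true := by
  decide +kernel

set_option maxRecDepth 100000 in
theorem ch_3_1_7_6_9 : enum 11 ck11 3 5 9859376 715 6 9 = true := by
  decide +kernel

set_option maxRecDepth 100000 in
theorem ch_3_1_7_6_10 : enum 11 ck11 3 5 10907952 1227 6 10 = true := by
  decide +kernel

theorem ch_3_1_7_6 : enum 11 ck11 3 6 422192 203 5 6 = true := by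
  refine enum_intro 11 ck11 3 5 422192 203 5 6 ?_
  intro v hv hb hd
  interval_cases v
  · exact absurd hb (by decide)
  · exact absurd hb (by decide)
  · exact ch_3_1_7_6_2
  · exact absurd hb (by decide)
  · exact ch_3_1_7_6_4
  · exact ch_3_1_7_6_5
  · exact absurd hb (by decide)
  · exact absurd hb (by decide)
  · exact absurd hd (by decide)
  · exact ch_3_1_7_6_9
  · exact ch_3_1_7_6_10

set_option maxRecDepth 100000 in
theorem ch_3_1_7_10_2 : enum 11 ck11 3 5 2781488 1167 6 2 = true := by
  decide +kernel

set_option maxRecDepth 100000 in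
theorem ch_3_1_7_10_4 : enum 11 ck11 3 5 4878640 1179 6 4 = true := by
  decide +kernel

set_option maxRecDepth 100000 in
theorem ch_3_1_7_10_5 : enum 11 ck11 3 5 5927216 1195 6 5 = true := by
  decide +kernel

set_option maxRecDepth 100000 in
theorem ch_3_1_7_10_6 : enum 11 ck11 3 5 6975792 1227 6 6 = true := by
  decide +kernel

set_option maxRecDepth 100000 in
theorem ch_3_1_7_10_8 : enum 11 ck11 3 5 9072944 1419 6 8 = true := by
  decide +kernel

set_option maxRecDepth 100000 in
theorem ch_3_1_7_10_9 : enum 11 ck11 3 5 10121520 1675 6 9 = true := by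
  decide +kernel

theorem ch_3_1_7_10 : enum 11 ck11 3 6 684336 1163 5 10 = true := by
  refine enum_intro 11 ck11 3 5 684336 1163 5 10 ?_
  intro v hv hb hd
  interval_cases v
  · exact absurd hb (by decide)
  · exact absurd hb (by decide)
  · exact ch_3_1_7_10_2
  · exact absurd hb (by decide)
  · exact ch_3_1_7_10_4
  · exact ch_3_1_7_10_5
  · exact ch_3_1_7_10_6
  · exact absurd hb (by decide)
  · exact ch_3_1_7_10_8
  · exact ch_3_1_7_10_9
  · exact absurd hb (by decide)

theorem ch_3_1_7 : enum 11 ck11 3 7 28976 139 4 7 = true := by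
  refine enum_intro 11 ck11 3 6 28976 139 4 7 ?_
  intro v hv hb hd
  interval_cases v
  · exact absurd hb (by decide)
  · exact absurd hb (by decide)
  · exact ch_3_1_7_2
  · exact absurd hb (by decide)
  · exact ch_3_1_7_4
  · exact ch_3_1_7_5
  · exact ch_3_1_7_6
  · exact absurd hb (by decide)
  · exact absurd hd (by decide)
  · exact absurd hd (by decide)
  · exact ch_3_1_7_10

set_option maxRecDepth 100000 in
theorem ch_3_1_8_2_5 : enum 11 ck11 3 5 5407024 303 6 5 = true := by
  decide +kernel

set_option maxRecDepth 100000 in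
theorem ch_3_1_8_2_6 : enum 11 ck11 3 5 6455600 335 6 6 = true := by
  decide +kernel

set_option maxRecDepth 100000 in
theorem ch_3_1_8_2_7 : enum 11 ck11 3 5 7504176 399 6 7 = true := by
  decide +kernel

set_option maxRecDepth 100000 in
theorem ch_3_1_8_2_9 : enum 11 ck11 3 5 9601328 783 6 9 = true := by
  decide +kernel

set_option maxRecDepth 100000 in
theorem ch_3_1_8_2_10 : enum 11 ck11 3 5 10649904 1295 6 10 = true := by
  decide +kernel

theorem ch_3_1_8_2 : enum 11 ck11 3 6 164144 271 5 2 = true := by
  refine enum_intro 11 ck11 3 5 164144 271 5 2 ?_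
  intro v hv hb hd
  interval_cases v
  · exact absurd hb (by decide)
  · exact absurd hb (by decide)
  · exact absurd hb (by decide)
  · exact absurd hb (by decide)
  · exact absurd hd (by decide)
  · exact ch_3_1_8_2_5
  · exact ch_3_1_8_2_6
  · exact ch_3_1_8_2_7
  · exact absurd hb (by decide)
  · exact ch_3_1_8_2_9
  · exact ch_3_1_8_2_10

set_option maxRecDepth 100000 in
theorem ch_3_1_8_4_2 : enum 11 ck11 3 5 2392368 287 6 2 = true := by
  decide +kernel

set_option maxRecDepth 100000 in
theorem ch_3_1_8_4_7 : enum 11 ck11 3 5 7635248 411 6 7 = true := by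
  decide +kernel

set_option maxRecDepth 100000 in
theorem ch_3_1_8_4_9 : enum 11 ck11 3 5 9732400 795 6 9 = true := by
  decide +kernel

set_option maxRecDepth 100000 in
theorem ch_3_1_8_4_10 : enum 11 ck11 3 5 10780976 1307 6 10 = true := by
  decide +kernel

theorem ch_3_1_8_4 : enum 11 ck11 3 6 295216 283 5 4 = true := by
  refine enum_intro 11 ck11 3 5 295216 283 5 4 ?_
  intro v hv hb hd
  interval_cases v
  · exact absurd hb (by decide)
  · exact absurd hb (by decide)
  · exact ch_3_1_8_4_2
  · exact absurd hb (by decide)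
  · exact absurd hb (by decide)
  · exact absurd hd (by decide)
  · exact absurd hd (by decide)
  · exact ch_3_1_8_4_7
  · exact absurd hb (by decide)
  · exact ch_3_1_8_4_9
  · exact ch_3_1_8_4_10

set_option maxRecDepth 100000 in
theorem ch_3_1_8_5_2 : enum 11 ck11 3 5 2457904 303 6 2 = true := by
  decide +kernel

set_option maxRecDepth 100000 in
theorem ch_3_1_8_5_4 : enum 11 ck11 3 5 4555056 315 6 4 = true := by
  decide +kernel

set_option maxRecDepth 100000 in
theorem ch_3_1_8_5_9 : enum 11 ck11 3 5 9797936 811 6 9 = true := by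
  decide +kernel

set_option maxRecDepth 100000 in
theorem ch_3_1_8_5_10 : enum 11 ck11 3 5 10846512 1323 6 10 = true := by
  decide +kernel

theorem ch_3_1_8_5 : enum 11 ck11 3 6 360752 299 5 5 = true := by
  refine enum_intro 11 ck11 3 5 360752 299 5 5 ?_
  intro v hv hb hd
  interval_cases v
  · exact absurd hb (by decide)
  · exact absurd hb (by decide)
  · exact ch_3_1_8_5_2
  · exact absurd hb (by decide)
  · exact ch_3_1_8_5_4
  · exact absurd hb (by decide)
  · exact absurd hd (by decide)
  · exact absurd hd (by decide)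
  · exact absurd hb (by decide)
  · exact ch_3_1_8_5_9
  · exact ch_3_1_8_5_10

set_option maxRecDepth 100000 in
theorem ch_3_1_8_6_2 : enum 11 ck11 3 5 2523440 335 6 2 = true := by
  decide +kernel

set_option maxRecDepth 100000 in
theorem ch_3_1_8_6_4 : enum 11 ck11 3 5 4620592 347 6 4 = true := by
  decide +kernel

set_option maxRecDepth 100000 in
theorem ch_3_1_8_6_5 : enum 11 ck11 3 5 5669168 363 6 5 = true := by
  decide +kernel

set_option maxRecDepth 100000 in
theorem ch_3_1_8_6_9 : enum 11 ck11 3 5 9863472 843 6 9 = true := by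
  decide +kernel

set_option maxRecDepth 100000 in
theorem ch_3_1_8_6_10 : enum 11 ck11 3 5 10912048 1355 6 10 = true := by
  decide +kernel

theorem ch_3_1_8_6 : enum 11 ck11 3 6 426288 331 5 6 = true := by
  refine enum_intro 11 ck11 3 5 426288 331 5 6 ?_
  intro v hv hb hd
  interval_cases v
  · exact absurd hb (by decide)
  · exact absurd hb (by decide)
  · exact ch_3_1_8_6_2
  · exact absurd hb (by decide)
  · exact ch_3_1_8_6_4
  · exact ch_3_1_8_6_5
  · exact absurd hb (by decide)
  · exact absurd hd (by decide)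
  · exact absurd hb (by decide)
  · exact ch_3_1_8_6_9
  · exact ch_3_1_8_6_10

set_option maxRecDepth 100000 in
theorem ch_3_1_8_7_2 : enum 11 ck11 3 5 2588976 399 6 2 = true := by
  decide +kernel

set_option maxRecDepth 100000 in
theorem ch_3_1_8_7_4 : enum 11 ck11 3 5 4686128 411 6 4 = true := by
  decide +kernel

set_option maxRecDepth 100000 in
theorem ch_3_1_8_7_5 : enum 11 ck11 3 5 5734704 427 6 5 = true := by
  decide +kernel

set_option maxRecDepth 100000 in
theorem ch_3_1_8_7_6 : enum 11 ck11 3 5 6783280 459 6 6 = true := by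
  decide +kernel

set_option maxRecDepth 100000 in
theorem ch_3_1_8_7_10 : enum 11 ck11 3 5 10977584 1419 6 10 = true := by
  decide +kernel

theorem ch_3_1_8_7 : enum 11 ck11 3 6 491824 395 5 7 = true := by
  refine enum_intro 11 ck11 3 5 491824 395 5 7 ?_
  intro v hv hb hd
  interval_cases v
  · exact absurd hb (by decide)
  · exact absurd hb (by decide)
  · exact ch_3_1_8_7_2
  · exact absurd hb (by decide)
  · exact ch_3_1_8_7_4
  · exact ch_3_1_8_7_5
  · exact ch_3_1_8_7_6
  · exact absurd hb (by decide)
  · exact absurd hb (by decide)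
  · exact absurd hd (by decide)
  · exact ch_3_1_8_7_10

theorem ch_3_1_8 : enum 11 ck11 3 7 33072 267 4 8 = true := by
  refine enum_intro 11 ck11 3 6 33072 267 4 8 ?_
  intro v hv hb hd
  interval_cases v
  · exact absurd hb (by decide)
  · exact absurd hb (by decide)
  · exact ch_3_1_8_2
  · exact absurd hb (by decide)
  · exact ch_3_1_8_4
  · exact ch_3_1_8_5
  · exact ch_3_1_8_6
  · exact ch_3_1_8_7
  · exact absurd hb (by decide)
  · exact absurd hd (by decide)
  · exact absurd hd (by decide)

set_option maxRecDepth 100000 in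
theorem ch_3_1_9_2_5 : enum 11 ck11 3 5 5411120 559 6 5 = true := by
  decide +kernel

set_option maxRecDepth 100000 in
theorem ch_3_1_9_2_6 : enum 11 ck11 3 5 6459696 591 6 6 = true := by
  decide +kernel

set_option maxRecDepth 100000 in
theorem ch_3_1_9_2_7 : enum 11 ck11 3 5 7508272 655 6 7 = true := by
  decide +kernel

set_option maxRecDepth 100000 in
theorem ch_3_1_9_2_8 : enum 11 ck11 3 5 8556848 783 6 8 = true := by
  decide +kernel

set_option maxRecDepth 100000 in
theorem ch_3_1_9_2_10 : enum 11 ck11 3 5 10654000 1551 6 10 = true := by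
  decide +kernel

theorem ch_3_1_9_2 : enum 11 ck11 3 6 168240 527 5 2 = true := by
  refine enum_intro 11 ck11 3 5 168240 527 5 2 ?_
  intro v hv hb hd
  interval_cases v
  · exact absurd hb (by decide)
  · exact absurd hb (by decide)
  · exact absurd hb (by decide)
  · exact absurd hb (by decide)
  · exact absurd hd (by decide)
  · exact ch_3_1_9_2_5
  · exact ch_3_1_9_2_6
  · exact ch_3_1_9_2_7
  · exact ch_3_1_9_2_8
  · exact absurd hb (by decide)
  · exact ch_3_1_9_2_10

set_option maxRecDepth 100000 in
theorem ch_3_1_9_4_2 : enum 11 ck11 3 5 2396464 543 6 2 = true := by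
  decide +kernel

set_option maxRecDepth 100000 in
theorem ch_3_1_9_4_7 : enum 11 ck11 3 5 7639344 667 6 7 = true := by
  decide +kernel

set_option maxRecDepth 100000 in
theorem ch_3_1_9_4_8 : enum 11 ck11 3 5 8687920 795 6 8 = true := by
  decide +kernel

set_option maxRecDepth 100000 in
theorem ch_3_1_9_4_10 : enum 11 ck11 3 5 10785072 1563 6 10 = true := by
  decide +kernel

theorem ch_3_1_9_4 : enum 11 ck11 3 6 299312 539 5 4 = true := by
  refine enum_intro 11 ck11 3 5 299312 539 5 4 ?_
  intro v hv hb hd
  interval_cases v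
  · exact absurd hb (by decide)
  · exact absurd hb (by decide)
  · exact ch_3_1_9_4_2
  · exact absurd hb (by decide)
  · exact absurd hb (by decide)
  · exact absurd hd (by decide)
  · exact absurd hd (by decide)
  · exact ch_3_1_9_4_7
  · exact ch_3_1_9_4_8
  · exact absurd hb (by decide)
  · exact ch_3_1_9_4_10

set_option maxRecDepth 100000 in
theorem ch_3_1_9_5_2 : enum 11 ck11 3 5 2462000 559 6 2 = true := by
  decide +kernel

set_option maxRecDepth 100000 in
theorem ch_3_1_9_5_4 : enum 11 ck11 3 5 4559152 571 6 4 = true := by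
  decide +kernel

set_option maxRecDepth 100000 in
theorem ch_3_1_9_5_8 : enum 11 ck11 3 5 8753456 811 6 8 = true := by
  decide +kernel

set_option maxRecDepth 100000 in
theorem ch_3_1_9_5_10 : enum 11 ck11 3 5 10850608 1579 6 10 = true := by
  decide +kernel

theorem ch_3_1_9_5 : enum 11 ck11 3 6 364848 555 5 5 = true := by
  refine enum_intro 11 ck11 3 5 364848 555 5 5 ?_
  intro v hv hb hd
  interval_cases v
  · exact absurd hb (by decide)
  · exact absurd hb (by decide)
  · exact ch_3_1_9_5_2
  · exact absurd hb (by decide)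
  · exact ch_3_1_9_5_4
  · exact absurd hb (by decide)
  · exact absurd hd (by decide)
  · exact absurd hd (by decide)
  · exact ch_3_1_9_5_8
  · exact absurd hb (by decide)
  · exact ch_3_1_9_5_10

set_option maxRecDepth 100000 in
theorem ch_3_1_9_6_2 : enum 11 ck11 3 5 2527536 591 6 2 = true := by
  decide +kernel

set_option maxRecDepth 100000 in
theorem ch_3_1_9_6_4 : enum 11 ck11 3 5 4624688 603 6 4 = true := by
  decide +kernel

set_option maxRecDepth 100000 in
theorem ch_3_1_9_6_5 : enum 11 ck11 3 5 5673264 619 6 5 = true := by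
  decide +kernel

set_option maxRecDepth 100000 in
theorem ch_3_1_9_6_10 : enum 11 ck11 3 5 10916144 1611 6 10 = true := by
  decide +kernel

theorem ch_3_1_9_6 : enum 11 ck11 3 6 430384 587 5 6 = true := by
  refine enum_intro 11 ck11 3 5 430384 587 5 6 ?_
  intro v hv hb hd
  interval_cases v
  · exact absurd hb (by decide)
  · exact absurd hb (by decide)
  · exact ch_3_1_9_6_2
  · exact absurd hb (by decide)
  · exact ch_3_1_9_6_4
  · exact ch_3_1_9_6_5
  · exact absurd hb (by decide)
  · exact absurd hd (by decide)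
  · exact absurd hd (by decide)
  · exact absurd hb (by decide)
  · exact ch_3_1_9_6_10

set_option maxRecDepth 100000 in
theorem ch_3_1_9_7_2 : enum 11 ck11 3 5 2593072 655 6 2 = true := by
  decide +kernel

set_option maxRecDepth 100000 in
theorem ch_3_1_9_7_4 : enum 11 ck11 3 5 4690224 667 6 4 = true := by
  decide +kernel

set_option maxRecDepth 100000 in
theorem ch_3_1_9_7_5 : enum 11 ck11 3 5 5738800 683 6 5 = true := by
  decide +kernel

set_option maxRecDepth 100000 in
theorem ch_3_1_9_7_6 : enum 11 ck11 3 5 6787376 715 6 6 = true := by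
  decide +kernel

set_option maxRecDepth 100000 in
theorem ch_3_1_9_7_10 : enum 11 ck11 3 5 10981680 1675 6 10 = true := by
  decide +kernel

theorem ch_3_1_9_7 : enum 11 ck11 3 6 495920 651 5 7 = true := by
  refine enum_intro 11 ck11 3 5 495920 651 5 7 ?_
  intro v hv hb hd
  interval_cases v
  · exact absurd hb (by decide)
  · exact absurd hb (by decide)
  · exact ch_3_1_9_7_2
  · exact absurd hb (by decide)
  · exact ch_3_1_9_7_4
  · exact ch_3_1_9_7_5
  · exact ch_3_1_9_7_6
  · exact absurd hb (by decide)
  · exact absurd hd (by decide)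
  · exact absurd hb (by decide)
  · exact ch_3_1_9_7_10

set_option maxRecDepth 100000 in
theorem ch_3_1_9_8_2 : enum 11 ck11 3 5 2658608 783 6 2 = true := by
  decide +kernel

set_option maxRecDepth 100000 in
theorem ch_3_1_9_8_4 : enum 11 ck11 3 5 4755760 795 6 4 = true := by
  decide +kernel

set_option maxRecDepth 100000 in
theorem ch_3_1_9_8_5 : enum 11 ck11 3 5 5804336 811 6 5 = true := by
  decide +kernel

set_option maxRecDepth 100000 in
theorem ch_3_1_9_8_6 : enum 11 ck11 3 5 6852912 843 6 6 = true := by
  decide +kernel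

set_option maxRecDepth 100000 in
theorem ch_3_1_9_8_7 : enum 11 ck11 3 5 7901488 907 6 7 = true := by
  decide +kernel

theorem ch_3_1_9_8 : enum 11 ck11 3 6 561456 779 5 8 = true := by
  refine enum_intro 11 ck11 3 5 561456 779 5 8 ?_
  intro v hv hb hd
  interval_cases v
  · exact absurd hb (by decide)
  · exact absurd hb (by decide)
  · exact ch_3_1_9_8_2
  · exact absurd hb (by decide)
  · exact ch_3_1_9_8_4
  · exact ch_3_1_9_8_5
  · exact ch_3_1_9_8_6
  · exact ch_3_1_9_8_7
  · exact absurd hb (by decide)
  · exact absurd hb (by decide)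
  · exact absurd hd (by decide)

theorem ch_3_1_9 : enum 11 ck11 3 7 37168 523 4 9 = true := by
  refine enum_intro 11 ck11 3 6 37168 523 4 9 ?_
  intro v hv hb hd
  interval_cases v
  · exact absurd hb (by decide)
  · exact absurd hb (by decide)
  · exact ch_3_1_9_2
  · exact absurd hb (by decide)
  · exact ch_3_1_9_4
  · exact ch_3_1_9_5
  · exact ch_3_1_9_6
  · exact ch_3_1_9_7
  · exact ch_3_1_9_8
  · exact absurd hb (by decide)
  · exact absurd hd (by decide)

set_option maxRecDepth 100000 in
theorem ch_3_1_10_2 : enum 11 ck11 3 6 172336 1039 5 2 = true := by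
  decide +kernel

set_option maxRecDepth 100000 in
theorem ch_3_1_10_4 : enum 11 ck11 3 6 303408 1051 5 4 = true := by
  decide +kernel

set_option maxRecDepth 100000 in
theorem ch_3_1_10_5_2 : enum 11 ck11 3 5 2466096 1071 6 2 = true := by
  decide +kernel

set_option maxRecDepth 100000 in
theorem ch_3_1_10_5_4 : enum 11 ck11 3 5 4563248 1083 6 4 = true := by
  decide +kernel

set_option maxRecDepth 100000 in
theorem ch_3_1_10_5_8 : enum 11 ck11 3 5 8757552 1323 6 8 = true := by
  decide +kernel

set_option maxRecDepth 100000 in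
theorem ch_3_1_10_5_9 : enum 11 ck11 3 5 9806128 1579 6 9 = true := by
  decide +kernel

theorem ch_3_1_10_5 : enum 11 ck11 3 6 368944 1067 5 5 = true := by
  refine enum_intro 11 ck11 3 5 368944 1067 5 5 ?_
  intro v hv hb hd
  interval_cases v
  · exact absurd hb (by decide)
  · exact absurd hb (by decide)
  · exact ch_3_1_10_5_2
  · exact absurd hb (by decide)
  · exact ch_3_1_10_5_4
  · exact absurd hb (by decide)
  · exact absurd hd (by decide)
  · exact absurd hd (by decide)
  · exact ch_3_1_10_5_8
  · exact ch_3_1_10_5_9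
  · exact absurd hb (by decide)

set_option maxRecDepth 100000 in
theorem ch_3_1_10_6_2 : enum 11 ck11 3 5 2531632 1103 6 2 = true := by
  decide +kernel

set_option maxRecDepth 100000 in
theorem ch_3_1_10_6_4 : enum 11 ck11 3 5 4628784 1115 6 4 = true := by
  decide +kernel

set_option maxRecDepth 100000 in
theorem ch_3_1_10_6_5 : enum 11 ck11 3 5 5677360 1131 6 5 = true := by
  decide +kernel

set_option maxRecDepth 100000 in
theorem ch_3_1_10_6_9 : enum 11 ck11 3 5 9871664 1611 6 9 = true := by
  decide +kernel

theorem ch_3_1_10_6 : enum 11 ck11 3 6 434480 1099 5 6 = true := by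
  refine enum_intro 11 ck11 3 5 434480 1099 5 6 ?_
  intro v hv hb hd
  interval_cases v
  · exact absurd hb (by decide)
  · exact absurd hb (by decide)
  · exact ch_3_1_10_6_2
  · exact absurd hb (by decide)
  · exact ch_3_1_10_6_4
  · exact ch_3_1_10_6_5
  · exact absurd hb (by decide)
  · exact absurd hd (by decide)
  · exact absurd hd (by decide)
  · exact ch_3_1_10_6_9
  · exact absurd hb (by decide)

set_option maxRecDepth 100000 in
theorem ch_3_1_10_7_2 : enum 11 ck11 3 5 2597168 1167 6 2 = true := by
  decide +kernel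

set_option maxRecDepth 100000 in
theorem ch_3_1_10_7_4 : enum 11 ck11 3 5 4694320 1179 6 4 = true := by
  decide +kernel

set_option maxRecDepth 100000 in
theorem ch_3_1_10_7_5 : enum 11 ck11 3 5 5742896 1195 6 5 = true := by
  decide +kernel

set_option maxRecDepth 100000 in
theorem ch_3_1_10_7_6 : enum 11 ck11 3 5 6791472 1227 6 6 = true := by
  decide +kernel

theorem ch_3_1_10_7 : enum 11 ck11 3 6 500016 1163 5 7 = true := by
  refine enum_intro 11 ck11 3 5 500016 1163 5 7 ?_
  intro v hv hb hd
  interval_cases v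
  · exact absurd hb (by decide)
  · exact absurd hb (by decide)
  · exact ch_3_1_10_7_2
  · exact absurd hb (by decide)
  · exact ch_3_1_10_7_4
  · exact ch_3_1_10_7_5
  · exact ch_3_1_10_7_6
  · exact absurd hb (by decide)
  · exact absurd hd (by decide)
  · exact absurd hd (by decide)
  · exact absurd hb (by decide)

set_option maxRecDepth 100000 in
theorem ch_3_1_10_8_2 : enum 11 ck11 3 5 2662704 1295 6 2 = true := by
  decide +kernel

set_option maxRecDepth 100000 in
theorem ch_3_1_10_8_4 : enum 11 ck11 3 5 4759856 1307 6 4 = true := by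
  decide +kernel

set_option maxRecDepth 100000 in
theorem ch_3_1_10_8_5 : enum 11 ck11 3 5 5808432 1323 6 5 = true := by
  decide +kernel

set_option maxRecDepth 100000 in
theorem ch_3_1_10_8_6 : enum 11 ck11 3 5 6857008 1355 6 6 = true := by
  decide +kernel

set_option maxRecDepth 100000 in
theorem ch_3_1_10_8_7 : enum 11 ck11 3 5 7905584 1419 6 7 = true := by
  decide +kernel

theorem ch_3_1_10_8 : enum 11 ck11 3 6 565552 1291 5 8 = true := by
  refine enum_intro 11 ck11 3 5 565552 1291 5 8 ?_
  intro v hv hb hd
  interval_cases v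
  · exact absurd hb (by decide)
  · exact absurd hb (by decide)
  · exact ch_3_1_10_8_2
  · exact absurd hb (by decide)
  · exact ch_3_1_10_8_4
  · exact ch_3_1_10_8_5
  · exact ch_3_1_10_8_6
  · exact ch_3_1_10_8_7
  · exact absurd hb (by decide)
  · exact absurd hd (by decide)
  · exact absurd hb (by decide)

set_option maxRecDepth 100000 in
theorem ch_3_1_10_9_2 : enum 11 ck11 3 5 2728240 1551 6 2 = true := by
  decide +kernel

set_option maxRecDepth 100000 in
theorem ch_3_1_10_9_4 : enum 11 ck11 3 5 4825392 1563 6 4 = true := by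
  decide +kernel

set_option maxRecDepth 100000 in
theorem ch_3_1_10_9_5 : enum 11 ck11 3 5 5873968 1579 6 5 = true := by
  decide +kernel

set_option maxRecDepth 100000 in
theorem ch_3_1_10_9_6 : enum 11 ck11 3 5 6922544 1611 6 6 = true := by
  decide +kernel

set_option maxRecDepth 100000 in
theorem ch_3_1_10_9_7 : enum 11 ck11 3 5 7971120 1675 6 7 = true := by
  decide +kernel

set_option maxRecDepth 100000 in
theorem ch_3_1_10_9_8 : enum 11 ck11 3 5 9019696 1803 6 8 = true := by
  decide +kernel

theorem ch_3_1_10_9 : enum 11 ck11 3 6 631088 1547 5 9 = true := by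
  refine enum_intro 11 ck11 3 5 631088 1547 5 9 ?_
  intro v hv hb hd
  interval_cases v
  · exact absurd hb (by decide)
  · exact absurd hb (by decide)
  · exact ch_3_1_10_9_2
  · exact absurd hb (by decide)
  · exact ch_3_1_10_9_4
  · exact ch_3_1_10_9_5
  · exact ch_3_1_10_9_6
  · exact ch_3_1_10_9_7
  · exact ch_3_1_10_9_8
  · exact absurd hb (by decide)
  · exact absurd hb (by decide)

theorem ch_3_1_10 : enum 11 ck11 3 7 41264 1035 4 10 = true := by
  refine enum_intro 11 ck11 3 6 41264 1035 4 10 ?_
  intro v hv hb hd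
  interval_cases v
  · exact absurd hb (by decide)
  · exact absurd hb (by decide)
  · exact ch_3_1_10_2
  · exact absurd hb (by decide)
  · exact ch_3_1_10_4
  · exact ch_3_1_10_5
  · exact ch_3_1_10_6
  · exact ch_3_1_10_7
  · exact ch_3_1_10_8
  · exact ch_3_1_10_9
  · exact absurd hb (by decide)

theorem ch_3_1 : enum 11 ck11 3 8 304 11 3 1 = true := by
  refine enum_intro 11 ck11 3 7 304 11 3 1 ?_
  intro v hv hb hd
  interval_cases v
  · exact absurd hb (by decide)
  · exact absurd hb (by decide)
  · exact absurd hd (by decide)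
  · exact absurd hb (by decide)
  · exact ch_3_1_4
  · exact ch_3_1_5
  · exact ch_3_1_6
  · exact ch_3_1_7
  · exact ch_3_1_8
  · exact ch_3_1_9
  · exact ch_3_1_10

set_option maxRecDepth 100000 in
theorem ch_3_2_1_4 : enum 11 ck11 3 6 266800 31 5 4 = true := by
  decide +kernel

set_option maxRecDepth 100000 in
theorem ch_3_2_1_5 : enum 11 ck11 3 6 332336 47 5 5 = true := by
  decide +kernel

set_option maxRecDepth 100000 in
theorem ch_3_2_1_6 : enum 11 ck11 3 6 397872 79 5 6 = true := by
  decide +kernel

set_option maxRecDepth 100000 in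
theorem ch_3_2_1_7 : enum 11 ck11 3 6 463408 143 5 7 = true := by
  decide +kernel

set_option maxRecDepth 100000 in
theorem ch_3_2_1_8 : enum 11 ck11 3 6 528944 271 5 8 = true := by
  decide +kernel

set_option maxRecDepth 100000 in
theorem ch_3_2_1_9 : enum 11 ck11 3 6 594480 527 5 9 = true := by
  decide +kernel

set_option maxRecDepth 100000 in
theorem ch_3_2_1_10 : enum 11 ck11 3 6 660016 1039 5 10 = true := by
  decide +kernel

theorem ch_3_2_1 : enum 11 ck11 3 7 4656 15 4 1 = true := by
  refine enum_intro 11 ck11 3 6 4656 15 4 1 ?_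
  intro v hv hb hd
  interval_cases v
  · exact absurd hb (by decide)
  · exact absurd hb (by decide)
  · exact absurd hb (by decide)
  · exact absurd hb (by decide)
  · exact ch_3_2_1_4
  · exact ch_3_2_1_5
  · exact ch_3_2_1_6
  · exact ch_3_2_1_7
  · exact ch_3_2_1_8
  · exact ch_3_2_1_9
  · exact ch_3_2_1_10

set_option maxRecDepth 100000 in
theorem ch_3_2_5_1_4 : enum 11 ck11 3 5 4280880 63 6 4 = true := by
  decide +kernel

set_option maxRecDepth 100000 in
theorem ch_3_2_5_1_6 : enum 11 ck11 3 5 6378032 111 6 6 = true := by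
  decide +kernel

set_option maxRecDepth 100000 in
theorem ch_3_2_5_1_7 : enum 11 ck11 3 5 7426608 175 6 7 = true := by
  decide +kernel

set_option maxRecDepth 100000 in
theorem ch_3_2_5_1_8 : enum 11 ck11 3 5 8475184 303 6 8 = true := by
  decide +kernel

set_option maxRecDepth 100000 in
theorem ch_3_2_5_1_9 : enum 11 ck11 3 5 9523760 559 6 9 = true := by
  decide +kernel

set_option maxRecDepth 100000 in
theorem ch_3_2_5_1_10 : enum 11 ck11 3 5 10572336 1071 6 10 = true := by
  decide +kernel

theorem ch_3_2_5_1 : enum 11 ck11 3 6 86576 47 5 1 = true := by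
  refine enum_intro 11 ck11 3 5 86576 47 5 1 ?_
  intro v hv hb hd
  interval_cases v
  · exact absurd hb (by decide)
  · exact absurd hb (by decide)
  · exact absurd hb (by decide)
  · exact absurd hb (by decide)
  · exact ch_3_2_5_1_4
  · exact absurd hb (by decide)
  · exact ch_3_2_5_1_6
  · exact ch_3_2_5_1_7
  · exact ch_3_2_5_1_8
  · exact ch_3_2_5_1_9
  · exact ch_3_2_5_1_10

set_option maxRecDepth 100000 in
theorem ch_3_2_5_4 : enum 11 ck11 3 6 283184 61 5 4 = true := by
  decide +kernel

set_option maxRecDepth 100000 in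
theorem ch_3_2_5_8_1 : enum 11 ck11 3 5 1593904 303 6 1 = true := by
  decide +kernel

set_option maxRecDepth 100000 in
theorem ch_3_2_5_8_4 : enum 11 ck11 3 5 4739632 317 6 4 = true := by
  decide +kernel

set_option maxRecDepth 100000 in
theorem ch_3_2_5_8_6 : enum 11 ck11 3 5 6836784 365 6 6 = true := by
  decide +kernel

set_option maxRecDepth 100000 in
theorem ch_3_2_5_8_7 : enum 11 ck11 3 5 7885360 429 6 7 = true := by
  decide +kernel

theorem ch_3_2_5_8 : enum 11 ck11 3 6 545328 301 5 8 = true := by
  refine enum_intro 11 ck11 3 5 545328 301 5 8 ?_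
  intro v hv hb hd
  interval_cases v
  · exact absurd hb (by decide)
  · exact ch_3_2_5_8_1
  · exact absurd hb (by decide)
  · exact absurd hb (by decide)
  · exact ch_3_2_5_8_4
  · exact absurd hb (by decide)
  · exact ch_3_2_5_8_6
  · exact ch_3_2_5_8_7
  · exact absurd hb (by decide)
  · exact absurd hd (by decide)
  · exact absurd hd (by decide)

set_option maxRecDepth 100000 in
theorem ch_3_2_5_9_1 : enum 11 ck11 3 5 1659440 559 6 1 = true := by
  decide +kernel

set_option maxRecDepth 100000 in
theorem ch_3_2_5_9_4 : enum 11 ck11 3 5 4805168 573 6 4 = true := by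
  decide +kernel

set_option maxRecDepth 100000 in
theorem ch_3_2_5_9_6 : enum 11 ck11 3 5 6902320 621 6 6 = true := by
  decide +kernel

set_option maxRecDepth 100000 in
theorem ch_3_2_5_9_7 : enum 11 ck11 3 5 7950896 685 6 7 = true := by
  decide +kernel

set_option maxRecDepth 100000 in
theorem ch_3_2_5_9_8 : enum 11 ck11 3 5 8999472 813 6 8 = true := by
  decide +kernel

theorem ch_3_2_5_9 : enum 11 ck11 3 6 610864 557 5 9 = true := by
  refine enum_intro 11 ck11 3 5 610864 557 5 9 ?_
  intro v hv hb hd
  interval_cases v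
  · exact absurd hb (by decide)
  · exact ch_3_2_5_9_1
  · exact absurd hb (by decide)
  · exact absurd hb (by decide)
  · exact ch_3_2_5_9_4
  · exact absurd hb (by decide)
  · exact ch_3_2_5_9_6
  · exact ch_3_2_5_9_7
  · exact ch_3_2_5_9_8
  · exact absurd hb (by decide)
  · exact absurd hd (by decide)

set_option maxRecDepth 100000 in
theorem ch_3_2_5_10_4 : enum 11 ck11 3 5 4870704 1085 6 4 = true := by
  decide +kernel

set_option maxRecDepth 100000 in
theorem ch_3_2_5_10_6 : enum 11 ck11 3 5 6967856 1133 6 6 = true := by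
  decide +kernel

set_option maxRecDepth 100000 in
theorem ch_3_2_5_10_7 : enum 11 ck11 3 5 8016432 1197 6 7 = true := by
  decide +kernel

set_option maxRecDepth 100000 in
theorem ch_3_2_5_10_8 : enum 11 ck11 3 5 9065008 1325 6 8 = true := by
  decide +kernel

set_option maxRecDepth 100000 in
theorem ch_3_2_5_10_9 : enum 11 ck11 3 5 10113584 1581 6 9 = true := by
  decide +kernel

theorem ch_3_2_5_10 : enum 11 ck11 3 6 676400 1069 5 10 = true := by
  refine enum_intro 11 ck11 3 5 676400 1069 5 10 ?_
  intro v hv hb hd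
  interval_cases v
  · exact absurd hb (by decide)
  · exact absurd hd (by decide)
  · exact absurd hb (by decide)
  · exact absurd hb (by decide)
  · exact ch_3_2_5_10_4
  · exact absurd hb (by decide)
  · exact ch_3_2_5_10_6
  · exact ch_3_2_5_10_7
  · exact ch_3_2_5_10_8
  · exact ch_3_2_5_10_9
  · exact absurd hb (by decide)

theorem ch_3_2_5 : enum 11 ck11 3 7 21040 45 4 5 = true := by
  refine enum_intro 11 ck11 3 6 21040 45 4 5 ?_
  intro v hv hb hd
  interval_cases v
  · exact absurd hb (by decide)
  · exact ch_3_2_5_1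
  · exact absurd hb (by decide)
  · exact absurd hb (by decide)
  · exact ch_3_2_5_4
  · exact absurd hb (by decide)
  · exact absurd hd (by decide)
  · exact absurd hd (by decide)
  · exact ch_3_2_5_8
  · exact ch_3_2_5_9
  · exact ch_3_2_5_10

set_option maxRecDepth 100000 in
theorem ch_3_2_6_1_4 : enum 11 ck11 3 5 4284976 95 6 4 = true := by
  decide +kernel

set_option maxRecDepth 100000 in
theorem ch_3_2_6_1_5 : enum 11 ck11 3 5 5333552 111 6 5 = true := by
  decide +kernel

set_option maxRecDepth 100000 in
theorem ch_3_2_6_1_7 : enum 11 ck11 3 5 7430704 207 6 7 = true := by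
  decide +kernel

set_option maxRecDepth 100000 in
theorem ch_3_2_6_1_8 : enum 11 ck11 3 5 8479280 335 6 8 = true := by
  decide +kernel

set_option maxRecDepth 100000 in
theorem ch_3_2_6_1_9 : enum 11 ck11 3 5 9527856 591 6 9 = true := by
  decide +kernel

set_option maxRecDepth 100000 in
theorem ch_3_2_6_1_10 : enum 11 ck11 3 5 10576432 1103 6 10 = true := by
  decide +kernel

theorem ch_3_2_6_1 : enum 11 ck11 3 6 90672 79 5 1 = true := by
  refine enum_intro 11 ck11 3 5 90672 79 5 1 ?_
  intro v hv hb hd
  interval_cases v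
  · exact absurd hb (by decide)
  · exact absurd hb (by decide)
  · exact absurd hb (by decide)
  · exact absurd hb (by decide)
  · exact ch_3_2_6_1_4
  · exact ch_3_2_6_1_5
  · exact absurd hb (by decide)
  · exact ch_3_2_6_1_7
  · exact ch_3_2_6_1_8
  · exact ch_3_2_6_1_9
  · exact ch_3_2_6_1_10

set_option maxRecDepth 100000 in
theorem ch_3_2_6_4_1 : enum 11 ck11 3 5 1335856 95 6 1 = true := by
  decide +kernel

set_option maxRecDepth 100000 in
theorem ch_3_2_6_4_7 : enum 11 ck11 3 5 7627312 221 6 7 = true := by
  decide +kernel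

set_option maxRecDepth 100000 in
theorem ch_3_2_6_4_8 : enum 11 ck11 3 5 8675888 349 6 8 = true := by
  decide +kernel

set_option maxRecDepth 100000 in
theorem ch_3_2_6_4_9 : enum 11 ck11 3 5 9724464 605 6 9 = true := by
  decide +kernel

set_option maxRecDepth 100000 in
theorem ch_3_2_6_4_10 : enum 11 ck11 3 5 10773040 1117 6 10 = true := by
  decide +kernel

theorem ch_3_2_6_4 : enum 11 ck11 3 6 287280 93 5 4 = true := by
  refine enum_intro 11 ck11 3 5 287280 93 5 4 ?_
  intro v hv hb hd
  interval_cases v
  · exact absurd hb (by decide)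
  · exact ch_3_2_6_4_1
  · exact absurd hb (by decide)
  · exact absurd hb (by decide)
  · exact absurd hb (by decide)
  · exact absurd hd (by decide)
  · exact absurd hb (by decide)
  · exact ch_3_2_6_4_7
  · exact ch_3_2_6_4_8
  · exact ch_3_2_6_4_9
  · exact ch_3_2_6_4_10

set_option maxRecDepth 100000 in
theorem ch_3_2_6_5_1 : enum 11 ck11 3 5 1401392 111 6 1 = true := by
  decide +kernel

set_option maxRecDepth 100000 in
theorem ch_3_2_6_5_4 : enum 11 ck11 3 5 4547120 125 6 4 = true := by
  decide +kernel

set_option maxRecDepth 100000 in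
theorem ch_3_2_6_5_8 : enum 11 ck11 3 5 8741424 365 6 8 = true := by
  decide +kernel

set_option maxRecDepth 100000 in
theorem ch_3_2_6_5_9 : enum 11 ck11 3 5 9790000 621 6 9 = true := by
  decide +kernel

set_option maxRecDepth 100000 in
theorem ch_3_2_6_5_10 : enum 11 ck11 3 5 10838576 1133 6 10 = true := by
  decide +kernel

theorem ch_3_2_6_5 : enum 11 ck11 3 6 352816 109 5 5 = true := by
  refine enum_intro 11 ck11 3 5 352816 109 5 5 ?_
  intro v hv hb hd
  interval_cases v
  · exact absurd hb (by decide)
  · exact ch_3_2_6_5_1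
  · exact absurd hb (by decide)
  · exact absurd hb (by decide)
  · exact ch_3_2_6_5_4
  · exact absurd hb (by decide)
  · exact absurd hb (by decide)
  · exact absurd hd (by decide)
  · exact ch_3_2_6_5_8
  · exact ch_3_2_6_5_9
  · exact ch_3_2_6_5_10

set_option maxRecDepth 100000 in
theorem ch_3_2_6_9_1 : enum 11 ck11 3 5 1663536 591 6 1 = true := by
  decide +kernel

set_option maxRecDepth 100000 in
theorem ch_3_2_6_9_4 : enum 11 ck11 3 5 4809264 605 6 4 = true := by
  decide +kernel

set_option maxRecDepth 100000 in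
theorem ch_3_2_6_9_5 : enum 11 ck11 3 5 5857840 621 6 5 = true := by
  decide +kernel

set_option maxRecDepth 100000 in
theorem ch_3_2_6_9_7 : enum 11 ck11 3 5 7954992 717 6 7 = true := by
  decide +kernel

set_option maxRecDepth 100000 in
theorem ch_3_2_6_9_8 : enum 11 ck11 3 5 9003568 845 6 8 = true := by
  decide +kernel

theorem ch_3_2_6_9 : enum 11 ck11 3 6 614960 589 5 9 = true := by
  refine enum_intro 11 ck11 3 5 614960 589 5 9 ?_
  intro v hv hb hd
  interval_cases v
  · exact absurd hb (by decide)
  · exact ch_3_2_6_9_1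
  · exact absurd hb (by decide)
  · exact absurd hb (by decide)
  · exact ch_3_2_6_9_4
  · exact ch_3_2_6_9_5
  · exact absurd hb (by decide)
  · exact ch_3_2_6_9_7
  · exact ch_3_2_6_9_8
  · exact absurd hb (by decide)
  · exact absurd hd (by decide)

set_option maxRecDepth 100000 in
theorem ch_3_2_6_10_4 : enum 11 ck11 3 5 4874800 1117 6 4 = true := by
  decide +kernel

set_option maxRecDepth 100000 in
theorem ch_3_2_6_10_5 : enum 11 ck11 3 5 5923376 1133 6 5 = true := by
  decide +kernel

set_option maxRecDepth 100000 in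
theorem ch_3_2_6_10_7 : enum 11 ck11 3 5 8020528 1229 6 7 = true := by
  decide +kernel

set_option maxRecDepth 100000 in
theorem ch_3_2_6_10_8 : enum 11 ck11 3 5 9069104 1357 6 8 = true := by
  decide +kernel

set_option maxRecDepth 100000 in
theorem ch_3_2_6_10_9 : enum 11 ck11 3 5 10117680 1613 6 9 = true := by
  decide +kernel

theorem ch_3_2_6_10 : enum 11 ck11 3 6 680496 1101 5 10 = true := by
  refine enum_intro 11 ck11 3 5 680496 1101 5 10 ?_
  intro v hv hb hd
  interval_cases v
  · exact absurd hb (by decide)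
  · exact absurd hd (by decide)
  · exact absurd hb (by decide)
  · exact absurd hb (by decide)
  · exact ch_3_2_6_10_4
  · exact ch_3_2_6_10_5
  · exact absurd hb (by decide)
  · exact ch_3_2_6_10_7
  · exact ch_3_2_6_10_8
  · exact ch_3_2_6_10_9
  · exact absurd hb (by decide)

theorem ch_3_2_6 : enum 11 ck11 3 7 25136 77 4 6 = true := by
  refine enum_intro 11 ck11 3 6 25136 77 4 6 ?_
  intro v hv hb hd
  interval_cases v
  · exact absurd hb (by decide)
  · exact ch_3_2_6_1
  · exact absurd hb (by decide)
  · exact absurd hb (by decide)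
  · exact ch_3_2_6_4
  · exact ch_3_2_6_5
  · exact absurd hb (by decide)
  · exact absurd hd (by decide)
  · exact absurd hd (by decide)
  · exact ch_3_2_6_9
  · exact ch_3_2_6_10

set_option maxRecDepth 100000 in
theorem ch_3_2_7_1_4 : enum 11 ck11 3 5 4289072 159 6 4 = true := by
  decide +kernel

set_option maxRecDepth 100000 in
theorem ch_3_2_7_1_5 : enum 11 ck11 3 5 5337648 175 6 5 = true := by
  decide +kernel

set_option maxRecDepth 100000 in
theorem ch_3_2_7_1_6 : enum 11 ck11 3 5 6386224 207 6 6 = true := by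
  decide +kernel

set_option maxRecDepth 100000 in
theorem ch_3_2_7_1_8 : enum 11 ck11 3 5 8483376 399 6 8 = true := by
  decide +kernel

set_option maxRecDepth 100000 in
theorem ch_3_2_7_1_9 : enum 11 ck11 3 5 9531952 655 6 9 = true := by
  decide +kernel

set_option maxRecDepth 100000 in
theorem ch_3_2_7_1_10 : enum 11 ck11 3 5 10580528 1167 6 10 = true := by
  decide +kernel

theorem ch_3_2_7_1 : enum 11 ck11 3 6 94768 143 5 1 = true := by
  refine enum_intro 11 ck11 3 5 94768 143 5 1 ?_
  intro v hv hb hd
  interval_cases v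
  · exact absurd hb (by decide)
  · exact absurd hb (by decide)
  · exact absurd hb (by decide)
  · exact absurd hb (by decide)
  · exact ch_3_2_7_1_4
  · exact ch_3_2_7_1_5
  · exact ch_3_2_7_1_6
  · exact absurd hb (by decide)
  · exact ch_3_2_7_1_8
  · exact ch_3_2_7_1_9
  · exact ch_3_2_7_1_10

set_option maxRecDepth 100000 in
theorem ch_3_2_7_4_1 : enum 11 ck11 3 5 1339952 159 6 1 = true := by
  decide +kernel

set_option maxRecDepth 100000 in
theorem ch_3_2_7_4_8 : enum 11 ck11 3 5 8679984 413 6 8 = true := by
  decide +kernel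

set_option maxRecDepth 100000 in
theorem ch_3_2_7_4_9 : enum 11 ck11 3 5 9728560 669 6 9 = true := by
  decide +kernel

set_option maxRecDepth 100000 in
theorem ch_3_2_7_4_10 : enum 11 ck11 3 5 10777136 1181 6 10 = true := by
  decide +kernel

theorem ch_3_2_7_4 : enum 11 ck11 3 6 291376 157 5 4 = true := by
  refine enum_intro 11 ck11 3 5 291376 157 5 4 ?_
  intro v hv hb hd
  interval_cases v
  · exact absurd hb (by decide)
  · exact ch_3_2_7_4_1
  · exact absurd hb (by decide)
  · exact absurd hb (by decide)
  · exact absurd hb (by decide)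
  · exact absurd hd (by decide)
  · exact absurd hd (by decide)
  · exact absurd hb (by decide)
  · exact ch_3_2_7_4_8
  · exact ch_3_2_7_4_9
  · exact ch_3_2_7_4_10

set_option maxRecDepth 100000 in
theorem ch_3_2_7_5_1 : enum 11 ck11 3 5 1405488 175 6 1 = true := by
  decide +kernel

set_option maxRecDepth 100000 in
theorem ch_3_2_7_5_4 : enum 11 ck11 3 5 4551216 189 6 4 = true := by
  decide +kernel

set_option maxRecDepth 100000 in
theorem ch_3_2_7_5_8 : enum 11 ck11 3 5 8745520 429 6 8 = true := by
  decide +kernel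

set_option maxRecDepth 100000 in
theorem ch_3_2_7_5_9 : enum 11 ck11 3 5 9794096 685 6 9 = true := by
  decide +kernel

set_option maxRecDepth 100000 in
theorem ch_3_2_7_5_10 : enum 11 ck11 3 5 10842672 1197 6 10 = true := by
  decide +kernel

theorem ch_3_2_7_5 : enum 11 ck11 3 6 356912 173 5 5 = true := by
  refine enum_intro 11 ck11 3 5 356912 173 5 5 ?_
  intro v hv hb hd
  interval_cases v
  · exact absurd hb (by decide)
  · exact ch_3_2_7_5_1
  · exact absurd hb (by decide)
  · exact absurd hb (by decide)
  · exact ch_3_2_7_5_4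
  · exact absurd hb (by decide)
  · exact absurd hd (by decide)
  · exact absurd hb (by decide)
  · exact ch_3_2_7_5_8
  · exact ch_3_2_7_5_9
  · exact ch_3_2_7_5_10

set_option maxRecDepth 100000 in
theorem ch_3_2_7_6_1 : enum 11 ck11 3 5 1471024 207 6 1 = true := by
  decide +kernel

set_option maxRecDepth 100000 in
theorem ch_3_2_7_6_4 : enum 11 ck11 3 5 4616752 221 6 4 = true := by
  decide +kernel

set_option maxRecDepth 100000 in
theorem ch_3_2_7_6_5 : enum 11 ck11 3 5 5665328 237 6 5 = true := by
  decide +kernel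

set_option maxRecDepth 100000 in
theorem ch_3_2_7_6_9 : enum 11 ck11 3 5 9859632 717 6 9 = true := by
  decide +kernel

set_option maxRecDepth 100000 in
theorem ch_3_2_7_6_10 : enum 11 ck11 3 5 10908208 1229 6 10 = true := by
  decide +kernel

theorem ch_3_2_7_6 : enum 11 ck11 3 6 422448 205 5 6 = true := by
  refine enum_intro 11 ck11 3 5 422448 205 5 6 ?_
  intro v hv hb hd
  interval_cases v
  · exact absurd hb (by decide)
  · exact ch_3_2_7_6_1
  · exact absurd hb (by decide)
  · exact absurd hb (by decide)
  · exact ch_3_2_7_6_4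
  · exact ch_3_2_7_6_5
  · exact absurd hb (by decide)
  · exact absurd hb (by decide)
  · exact absurd hd (by decide)
  · exact ch_3_2_7_6_9
  · exact ch_3_2_7_6_10

set_option maxRecDepth 100000 in
theorem ch_3_2_7_10_4 : enum 11 ck11 3 5 4878896 1181 6 4 = true := by
  decide +kernel

set_option maxRecDepth 100000 in
theorem ch_3_2_7_10_5 : enum 11 ck11 3 5 5927472 1197 6 5 = true := by
  decide +kernel

set_option maxRecDepth 100000 in
theorem ch_3_2_7_10_6 : enum 11 ck11 3 5 6976048 1229 6 6 = true := by
  decide +kernel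

set_option maxRecDepth 100000 in
theorem ch_3_2_7_10_8 : enum 11 ck11 3 5 9073200 1421 6 8 = true := by
  decide +kernel

set_option maxRecDepth 100000 in
theorem ch_3_2_7_10_9 : enum 11 ck11 3 5 10121776 1677 6 9 = true := by
  decide +kernel

theorem ch_3_2_7_10 : enum 11 ck11 3 6 684592 1165 5 10 = true := by
  refine enum_intro 11 ck11 3 5 684592 1165 5 10 ?_
  intro v hv hb hd
  interval_cases v
  · exact absurd hb (by decide)
  · exact absurd hd (by decide)
  · exact absurd hb (by decide)
  · exact absurd hb (by decide)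
  · exact ch_3_2_7_10_4
  · exact ch_3_2_7_10_5
  · exact ch_3_2_7_10_6
  · exact absurd hb (by decide)
  · exact ch_3_2_7_10_8
  · exact ch_3_2_7_10_9
  · exact absurd hb (by decide)

theorem ch_3_2_7 : enum 11 ck11 3 7 29232 141 4 7 = true := by
  refine enum_intro 11 ck11 3 6 29232 141 4 7 ?_
  intro v hv hb hd
  interval_cases v
  · exact absurd hb (by decide)
  · exact ch_3_2_7_1
  · exact absurd hb (by decide)
  · exact absurd hb (by decide)
  · exact ch_3_2_7_4
  · exact ch_3_2_7_5
  · exact ch_3_2_7_6
  · exact absurd hb (by decide)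
  · exact absurd hd (by decide)
  · exact absurd hd (by decide)
  · exact ch_3_2_7_10

set_option maxRecDepth 100000 in
theorem ch_3_2_8_1_4 : enum 11 ck11 3 5 4293168 287 6 4 = true := by
  decide +kernel

set_option maxRecDepth 100000 in
theorem ch_3_2_8_1_5 : enum 11 ck11 3 5 5341744 303 6 5 = true := by
  decide +kernel

set_option maxRecDepth 100000 in
theorem ch_3_2_8_1_6 : enum 11 ck11 3 5 6390320 335 6 6 = true := by
  decide +kernel

set_option maxRecDepth 100000 in
theorem ch_3_2_8_1_7 : enum 11 ck11 3 5 7438896 399 6 7 = true := by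
  decide +kernel

set_option maxRecDepth 100000 in
theorem ch_3_2_8_1_9 : enum 11 ck11 3 5 9536048 783 6 9 = true := by
  decide +kernel

set_option maxRecDepth 100000 in
theorem ch_3_2_8_1_10 : enum 11 ck11 3 5 10584624 1295 6 10 = true := by
  decide +kernel

theorem ch_3_2_8_1 : enum 11 ck11 3 6 98864 271 5 1 = true := by
  refine enum_intro 11 ck11 3 5 98864 271 5 1 ?_
  intro v hv hb hd
  interval_cases v
  · exact absurd hb (by decide)
  · exact absurd hb (by decide)
  · exact absurd hb (by decide)
  · exact absurd hb (by decide)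
  · exact ch_3_2_8_1_4
  · exact ch_3_2_8_1_5
  · exact ch_3_2_8_1_6
  · exact ch_3_2_8_1_7
  · exact absurd hb (by decide)
  · exact ch_3_2_8_1_9
  · exact ch_3_2_8_1_10

set_option maxRecDepth 100000 in
theorem ch_3_2_8_4_1 : enum 11 ck11 3 5 1344048 287 6 1 = true := by
  decide +kernel

set_option maxRecDepth 100000 in
theorem ch_3_2_8_4_7 : enum 11 ck11 3 5 7635504 413 6 7 = true := by
  decide +kernel

set_option maxRecDepth 100000 in
theorem ch_3_2_8_4_9 : enum 11 ck11 3 5 9732656 797 6 9 = true := by
  decide +kernel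

set_option maxRecDepth 100000 in
theorem ch_3_2_8_4_10 : enum 11 ck11 3 5 10781232 1309 6 10 = true := by
  decide +kernel

theorem ch_3_2_8_4 : enum 11 ck11 3 6 295472 285 5 4 = true := by
  refine enum_intro 11 ck11 3 5 295472 285 5 4 ?_
  intro v hv hb hd
  interval_cases v
  · exact absurd hb (by decide)
  · exact ch_3_2_8_4_1
  · exact absurd hb (by decide)
  · exact absurd hb (by decide)
  · exact absurd hb (by decide)
  · exact absurd hd (by decide)
  · exact absurd hd (by decide)
  · exact ch_3_2_8_4_7
  · exact absurd hb (by decide)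
  · exact ch_3_2_8_4_9
  · exact ch_3_2_8_4_10

set_option maxRecDepth 100000 in
theorem ch_3_2_8_5_1 : enum 11 ck11 3 5 1409584 303 6 1 = true := by
  decide +kernel

set_option maxRecDepth 100000 in
theorem ch_3_2_8_5_4 : enum 11 ck11 3 5 4555312 317 6 4 = true := by
  decide +kernel

set_option maxRecDepth 100000 in
theorem ch_3_2_8_5_9 : enum 11 ck11 3 5 9798192 813 6 9 = true := by
  decide +kernel

set_option maxRecDepth 100000 in
theorem ch_3_2_8_5_10 : enum 11 ck11 3 5 10846768 1325 6 10 = true := by
  decide +kernel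

theorem ch_3_2_8_5 : enum 11 ck11 3 6 361008 301 5 5 = true := by
  refine enum_intro 11 ck11 3 5 361008 301 5 5 ?_
  intro v hv hb hd
  interval_cases v
  · exact absurd hb (by decide)
  · exact ch_3_2_8_5_1
  · exact absurd hb (by decide)
  · exact absurd hb (by decide)
  · exact ch_3_2_8_5_4
  · exact absurd hb (by decide)
  · exact absurd hd (by decide)
  · exact absurd hd (by decide)
  · exact absurd hb (by decide)
  · exact ch_3_2_8_5_9
  · exact ch_3_2_8_5_10

set_option maxRecDepth 100000 in
theorem ch_3_2_8_6_1 : enum 11 ck11 3 5 1475120 335 6 1 = true := by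
  decide +kernel

set_option maxRecDepth 100000 in
theorem ch_3_2_8_6_4 : enum 11 ck11 3 5 4620848 349 6 4 = true := by
  decide +kernel

set_option maxRecDepth 100000 in
theorem ch_3_2_8_6_5 : enum 11 ck11 3 5 5669424 365 6 5 = true := by
  decide +kernel

set_option maxRecDepth 100000 in
theorem ch_3_2_8_6_9 : enum 11 ck11 3 5 9863728 845 6 9 = true := by
  decide +kernel

set_option maxRecDepth 100000 in
theorem ch_3_2_8_6_10 : enum 11 ck11 3 5 10912304 1357 6 10 = true := by
  decide +kernel

theorem ch_3_2_8_6 : enum 11 ck11 3 6 426544 333 5 6 = true := by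
  refine enum_intro 11 ck11 3 5 426544 333 5 6 ?_
  intro v hv hb hd
  interval_cases v
  · exact absurd hb (by decide)
  · exact ch_3_2_8_6_1
  · exact absurd hb (by decide)
  · exact absurd hb (by decide)
  · exact ch_3_2_8_6_4
  · exact ch_3_2_8_6_5
  · exact absurd hb (by decide)
  · exact absurd hd (by decide)
  · exact absurd hb (by decide)
  · exact ch_3_2_8_6_9
  · exact ch_3_2_8_6_10

set_option maxRecDepth 100000 in
theorem ch_3_2_8_7_1 : enum 11 ck11 3 5 1540656 399 6 1 = true := by
  decide +kernel

set_option maxRecDepth 100000 in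
theorem ch_3_2_8_7_4 : enum 11 ck11 3 5 4686384 413 6 4 = true := by
  decide +kernel

set_option maxRecDepth 100000 in
theorem ch_3_2_8_7_5 : enum 11 ck11 3 5 5734960 429 6 5 = true := by
  decide +kernel

set_option maxRecDepth 100000 in
theorem ch_3_2_8_7_6 : enum 11 ck11 3 5 6783536 461 6 6 = true := by
  decide +kernel

set_option maxRecDepth 100000 in
theorem ch_3_2_8_7_10 : enum 11 ck11 3 5 10977840 1421 6 10 = true := by
  decide +kernel

theorem ch_3_2_8_7 : enum 11 ck11 3 6 492080 397 5 7 = true := by
  refine enum_intro 11 ck11 3 5 492080 397 5 7 ?_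
  intro v hv hb hd
  interval_cases v
  · exact absurd hb (by decide)
  · exact ch_3_2_8_7_1
  · exact absurd hb (by decide)
  · exact absurd hb (by decide)
  · exact ch_3_2_8_7_4
  · exact ch_3_2_8_7_5
  · exact ch_3_2_8_7_6
  · exact absurd hb (by decide)
  · exact absurd hb (by decide)
  · exact absurd hd (by decide)
  · exact ch_3_2_8_7_10

theorem ch_3_2_8 : enum 11 ck11 3 7 33328 269 4 8 = true := by
  refine enum_intro 11 ck11 3 6 33328 269 4 8 ?_
  intro v hv hb hd
  interval_cases v
  · exact absurd hb (by decide)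
  · exact ch_3_2_8_1
  · exact absurd hb (by decide)
  · exact absurd hb (by decide)
  · exact ch_3_2_8_4
  · exact ch_3_2_8_5
  · exact ch_3_2_8_6
  · exact ch_3_2_8_7
  · exact absurd hb (by decide)
  · exact absurd hd (by decide)
  · exact absurd hd (by decide)

set_option maxRecDepth 100000 in
theorem ch_3_2_9_1_4 : enum 11 ck11 3 5 4297264 543 6 4 = true := by
  decide +kernel

set_option maxRecDepth 100000 in
theorem ch_3_2_9_1_5 : enum 11 ck11 3 5 5345840 559 6 5 = true := by
  decide +kernel

set_option maxRecDepth 100000 in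
theorem ch_3_2_9_1_6 : enum 11 ck11 3 5 6394416 591 6 6 = true := by
  decide +kernel

set_option maxRecDepth 100000 in
theorem ch_3_2_9_1_7 : enum 11 ck11 3 5 7442992 655 6 7 = true := by
  decide +kernel

set_option maxRecDepth 100000 in
theorem ch_3_2_9_1_8 : enum 11 ck11 3 5 8491568 783 6 8 = true := by
  decide +kernel

set_option maxRecDepth 100000 in
theorem ch_3_2_9_1_10 : enum 11 ck11 3 5 10588720 1551 6 10 = true := by
  decide +kernel

theorem ch_3_2_9_1 : enum 11 ck11 3 6 102960 527 5 1 = true := by
  refine enum_intro 11 ck11 3 5 102960 527 5 1 ?_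
  intro v hv hb hd
  interval_cases v
  · exact absurd hb (by decide)
  · exact absurd hb (by decide)
  · exact absurd hb (by decide)
  · exact absurd hb (by decide)
  · exact ch_3_2_9_1_4
  · exact ch_3_2_9_1_5
  · exact ch_3_2_9_1_6
  · exact ch_3_2_9_1_7
  · exact ch_3_2_9_1_8
  · exact absurd hb (by decide)
  · exact ch_3_2_9_1_10

set_option maxRecDepth 100000 in
theorem ch_3_2_9_4_1 : enum 11 ck11 3 5 1348144 543 6 1 = true := by
  decide +kernel

set_option maxRecDepth 100000 in
theorem ch_3_2_9_4_7 : enum 11 ck11 3 5 7639600 669 6 7 = true := by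
  decide +kernel

set_option maxRecDepth 100000 in
theorem ch_3_2_9_4_8 : enum 11 ck11 3 5 8688176 797 6 8 = true := by
  decide +kernel

set_option maxRecDepth 100000 in
theorem ch_3_2_9_4_10 : enum 11 ck11 3 5 10785328 1565 6 10 = true := by
  decide +kernel

theorem ch_3_2_9_4 : enum 11 ck11 3 6 299568 541 5 4 = true := by
  refine enum_intro 11 ck11 3 5 299568 541 5 4 ?_
  intro v hv hb hd
  interval_cases v
  · exact absurd hb (by decide)
  · exact ch_3_2_9_4_1
  · exact absurd hb (by decide)
  · exact absurd hb (by decide)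
  · exact absurd hb (by decide)
  · exact absurd hd (by decide)
  · exact absurd hd (by decide)
  · exact ch_3_2_9_4_7
  · exact ch_3_2_9_4_8
  · exact absurd hb (by decide)
  · exact ch_3_2_9_4_10

set_option maxRecDepth 100000 in
theorem ch_3_2_9_5_1 : enum 11 ck11 3 5 1413680 559 6 1 = true := by
  decide +kernel

set_option maxRecDepth 100000 in
theorem ch_3_2_9_5_4 : enum 11 ck11 3 5 4559408 573 6 4 = true := by
  decide +kernel

set_option maxRecDepth 100000 in
theorem ch_3_2_9_5_8 : enum 11 ck11 3 5 8753712 813 6 8 = true := by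
  decide +kernel

set_option maxRecDepth 100000 in
theorem ch_3_2_9_5_10 : enum 11 ck11 3 5 10850864 1581 6 10 = true := by
  decide +kernel

theorem ch_3_2_9_5 : enum 11 ck11 3 6 365104 557 5 5 = true := by
  refine enum_intro 11 ck11 3 5 365104 557 5 5 ?_
  intro v hv hb hd
  interval_cases v
  · exact absurd hb (by decide)
  · exact ch_3_2_9_5_1
  · exact absurd hb (by decide)
  · exact absurd hb (by decide)
  · exact ch_3_2_9_5_4
  · exact absurd hb (by decide)
  · exact absurd hd (by decide)
  · exact absurd hd (by decide)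
  · exact ch_3_2_9_5_8
  · exact absurd hb (by decide)
  · exact ch_3_2_9_5_10

set_option maxRecDepth 100000 in
theorem ch_3_2_9_6_1 : enum 11 ck11 3 5 1479216 591 6 1 = true := by
  decide +kernel

set_option maxRecDepth 100000 in
theorem ch_3_2_9_6_4 : enum 11 ck11 3 5 4624944 605 6 4 = true := by
  decide +kernel

set_option maxRecDepth 100000 in
theorem ch_3_2_9_6_5 : enum 11 ck11 3 5 5673520 621 6 5 = true := by
  decide +kernel

set_option maxRecDepth 100000 in
theorem ch_3_2_9_6_10 : enum 11 ck11 3 5 10916400 1613 6 10 = true := by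
  decide +kernel

theorem ch_3_2_9_6 : enum 11 ck11 3 6 430640 589 5 6 = true := by
  refine enum_intro 11 ck11 3 5 430640 589 5 6 ?_
  intro v hv hb hd
  interval_cases v
  · exact absurd hb (by decide)
  · exact ch_3_2_9_6_1
  · exact absurd hb (by decide)
  · exact absurd hb (by decide)
  · exact ch_3_2_9_6_4
  · exact ch_3_2_9_6_5
  · exact absurd hb (by decide)
  · exact absurd hd (by decide)
  · exact absurd hd (by decide)
  · exact absurd hb (by decide)
  · exact ch_3_2_9_6_10

set_option maxRecDepth 100000 in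
theorem ch_3_2_9_7_1 : enum 11 ck11 3 5 1544752 655 6 1 = true := by
  decide +kernel

set_option maxRecDepth 100000 in
theorem ch_3_2_9_7_4 : enum 11 ck11 3 5 4690480 669 6 4 = true := by
  decide +kernel

set_option maxRecDepth 100000 in
theorem ch_3_2_9_7_5 : enum 11 ck11 3 5 5739056 685 6 5 = true := by
  decide +kernel

set_option maxRecDepth 100000 in
theorem ch_3_2_9_7_6 : enum 11 ck11 3 5 6787632 717 6 6 = true := by
  decide +kernel

set_option maxRecDepth 100000 in
theorem ch_3_2_9_7_10 : enum 11 ck11 3 5 10981936 1677 6 10 = true := by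
  decide +kernel

theorem ch_3_2_9_7 : enum 11 ck11 3 6 496176 653 5 7 = true := by
  refine enum_intro 11 ck11 3 5 496176 653 5 7 ?_
  intro v hv hb hd
  interval_cases v
  · exact absurd hb (by decide)
  · exact ch_3_2_9_7_1
  · exact absurd hb (by decide)
  · exact absurd hb (by decide)
  · exact ch_3_2_9_7_4
  · exact ch_3_2_9_7_5
  · exact ch_3_2_9_7_6
  · exact absurd hb (by decide)
  · exact absurd hd (by decide)
  · exact absurd hb (by decide)
  · exact ch_3_2_9_7_10

set_option maxRecDepth 100000 in
theorem ch_3_2_9_8_1 : enum 11 ck11 3 5 1610288 783 6 1 = true := by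
  decide +kernel

set_option maxRecDepth 100000 in
theorem ch_3_2_9_8_4 : enum 11 ck11 3 5 4756016 797 6 4 = true := by
  decide +kernel

set_option maxRecDepth 100000 in
theorem ch_3_2_9_8_5 : enum 11 ck11 3 5 5804592 813 6 5 = true := by
  decide +kernel

set_option maxRecDepth 100000 in
theorem ch_3_2_9_8_6 : enum 11 ck11 3 5 6853168 845 6 6 = true := by
  decide +kernel

set_option maxRecDepth 100000 in
theorem ch_3_2_9_8_7 : enum 11 ck11 3 5 7901744 909 6 7 = true := by
  decide +kernel

theorem ch_3_2_9_8 : enum 11 ck11 3 6 561712 781 5 8 = true := by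
  refine enum_intro 11 ck11 3 5 561712 781 5 8 ?_
  intro v hv hb hd
  interval_cases v
  · exact absurd hb (by decide)
  · exact ch_3_2_9_8_1
  · exact absurd hb (by decide)
  · exact absurd hb (by decide)
  · exact ch_3_2_9_8_4
  · exact ch_3_2_9_8_5
  · exact ch_3_2_9_8_6
  · exact ch_3_2_9_8_7
  · exact absurd hb (by decide)
  · exact absurd hb (by decide)
  · exact absurd hd (by decide)

theorem ch_3_2_9 : enum 11 ck11 3 7 37424 525 4 9 = true := by
  refine enum_intro 11 ck11 3 6 37424 525 4 9 ?_
  intro v hv hb hd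
  interval_cases v
  · exact absurd hb (by decide)
  · exact ch_3_2_9_1
  · exact absurd hb (by decide)
  · exact absurd hb (by decide)
  · exact ch_3_2_9_4
  · exact ch_3_2_9_5
  · exact ch_3_2_9_6
  · exact ch_3_2_9_7
  · exact ch_3_2_9_8
  · exact absurd hb (by decide)
  · exact absurd hd (by decide)

set_option maxRecDepth 100000 in
theorem ch_3_2_10_4 : enum 11 ck11 3 6 303664 1053 5 4 = true := by
  decide +kernel

set_option maxRecDepth 100000 in
theorem ch_3_2_10_5_1 : enum 11 ck11 3 5 1417776 1071 6 1 = true := by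
  decide +kernel

set_option maxRecDepth 100000 in
theorem ch_3_2_10_5_4 : enum 11 ck11 3 5 4563504 1085 6 4 = true := by
  decide +kernel

set_option maxRecDepth 100000 in
theorem ch_3_2_10_5_8 : enum 11 ck11 3 5 8757808 1325 6 8 = true := by
  decide +kernel

set_option maxRecDepth 100000 in
theorem ch_3_2_10_5_9 : enum 11 ck11 3 5 9806384 1581 6 9 = true := by
  decide +kernel

theorem ch_3_2_10_5 : enum 11 ck11 3 6 369200 1069 5 5 = true := by
  refine enum_intro 11 ck11 3 5 369200 1069 5 5 ?_
  intro v hv hb hd
  interval_cases v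
  · exact absurd hb (by decide)
  · exact ch_3_2_10_5_1
  · exact absurd hb (by decide)
  · exact absurd hb (by decide)
  · exact ch_3_2_10_5_4
  · exact absurd hb (by decide)
  · exact absurd hd (by decide)
  · exact absurd hd (by decide)
  · exact ch_3_2_10_5_8
  · exact ch_3_2_10_5_9
  · exact absurd hb (by decide)

set_option maxRecDepth 100000 in
theorem ch_3_2_10_6_1 : enum 11 ck11 3 5 1483312 1103 6 1 = true := by
  decide +kernel

set_option maxRecDepth 100000 in
theorem ch_3_2_10_6_4 : enum 11 ck11 3 5 4629040 1117 6 4 = true := by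
  decide +kernel

set_option maxRecDepth 100000 in
theorem ch_3_2_10_6_5 : enum 11 ck11 3 5 5677616 1133 6 5 = true := by
  decide +kernel

set_option maxRecDepth 100000 in
theorem ch_3_2_10_6_9 : enum 11 ck11 3 5 9871920 1613 6 9 = true := by
  decide +kernel

theorem ch_3_2_10_6 : enum 11 ck11 3 6 434736 1101 5 6 = true := by
  refine enum_intro 11 ck11 3 5 434736 1101 5 6 ?_
  intro v hv hb hd
  interval_cases v
  · exact absurd hb (by decide)
  · exact ch_3_2_10_6_1
  · exact absurd hb (by decide)
  · exact absurd hb (by decide)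
  · exact ch_3_2_10_6_4
  · exact ch_3_2_10_6_5
  · exact absurd hb (by decide)
  · exact absurd hd (by decide)
  · exact absurd hd (by decide)
  · exact ch_3_2_10_6_9
  · exact absurd hb (by decide)

set_option maxRecDepth 100000 in
theorem ch_3_2_10_7_1 : enum 11 ck11 3 5 1548848 1167 6 1 = true := by
  decide +kernel

set_option maxRecDepth 100000 in
theorem ch_3_2_10_7_4 : enum 11 ck11 3 5 4694576 1181 6 4 = true := by
  decide +kernel

set_option maxRecDepth 100000 in
theorem ch_3_2_10_7_5 : enum 11 ck11 3 5 5743152 1197 6 5 = true := by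
  decide +kernel

set_option maxRecDepth 100000 in
theorem ch_3_2_10_7_6 : enum 11 ck11 3 5 6791728 1229 6 6 = true := by
  decide +kernel

theorem ch_3_2_10_7 : enum 11 ck11 3 6 500272 1165 5 7 = true := by
  refine enum_intro 11 ck11 3 5 500272 1165 5 7 ?_
  intro v hv hb hd
  interval_cases v
  · exact absurd hb (by decide)
  · exact ch_3_2_10_7_1
  · exact absurd hb (by decide)
  · exact absurd hb (by decide)
  · exact ch_3_2_10_7_4
  · exact ch_3_2_10_7_5
  · exact ch_3_2_10_7_6
  · exact absurd hb (by decide)
  · exact absurd hd (by decide)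
  · exact absurd hd (by decide)
  · exact absurd hb (by decide)

set_option maxRecDepth 100000 in
theorem ch_3_2_10_8_1 : enum 11 ck11 3 5 1614384 1295 6 1 = true := by
  decide +kernel

set_option maxRecDepth 100000 in
theorem ch_3_2_10_8_4 : enum 11 ck11 3 5 4760112 1309 6 4 = true := by
  decide +kernel

set_option maxRecDepth 100000 in
theorem ch_3_2_10_8_5 : enum 11 ck11 3 5 5808688 1325 6 5 = true := by
  decide +kernel

set_option maxRecDepth 100000 in
theorem ch_3_2_10_8_6 : enum 11 ck11 3 5 6857264 1357 6 6 = true := by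
  decide +kernel

set_option maxRecDepth 100000 in
theorem ch_3_2_10_8_7 : enum 11 ck11 3 5 7905840 1421 6 7 = true := by
  decide +kernel

theorem ch_3_2_10_8 : enum 11 ck11 3 6 565808 1293 5 8 = true := by
  refine enum_intro 11 ck11 3 5 565808 1293 5 8 ?_
  intro v hv hb hd
  interval_cases v
  · exact absurd hb (by decide)
  · exact ch_3_2_10_8_1
  · exact absurd hb (by decide)
  · exact absurd hb (by decide)
  · exact ch_3_2_10_8_4
  · exact ch_3_2_10_8_5
  · exact ch_3_2_10_8_6
  · exact ch_3_2_10_8_7
  · exact absurd hb (by decide)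
  · exact absurd hd (by decide)
  · exact absurd hb (by decide)

set_option maxRecDepth 100000 in
theorem ch_3_2_10_9_1 : enum 11 ck11 3 5 1679920 1551 6 1 = true := by
  decide +kernel

set_option maxRecDepth 100000 in
theorem ch_3_2_10_9_4 : enum 11 ck11 3 5 4825648 1565 6 4 = true := by
  decide +kernel

set_option maxRecDepth 100000 in
theorem ch_3_2_10_9_5 : enum 11 ck11 3 5 5874224 1581 6 5 = true := by
  decide +kernel

set_option maxRecDepth 100000 in
theorem ch_3_2_10_9_6 : enum 11 ck11 3 5 6922800 1613 6 6 = true := by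
  decide +kernel

set_option maxRecDepth 100000 in
theorem ch_3_2_10_9_7 : enum 11 ck11 3 5 7971376 1677 6 7 = true := by
  decide +kernel

set_option maxRecDepth 100000 in
theorem ch_3_2_10_9_8 : enum 11 ck11 3 5 9019952 1805 6 8 = true := by
  decide +kernel

theorem ch_3_2_10_9 : enum 11 ck11 3 6 631344 1549 5 9 = true := by
  refine enum_intro 11 ck11 3 5 631344 1549 5 9 ?_
  intro v hv hb hd
  interval_cases v
  · exact absurd hb (by decide)
  · exact ch_3_2_10_9_1
  · exact absurd hb (by decide)
  · exact absurd hb (by decide)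
  · exact ch_3_2_10_9_4
  · exact ch_3_2_10_9_5
  · exact ch_3_2_10_9_6
  · exact ch_3_2_10_9_7
  · exact ch_3_2_10_9_8
  · exact absurd hb (by decide)
  · exact absurd hb (by decide)

theorem ch_3_2_10 : enum 11 ck11 3 7 41520 1037 4 10 = true := by
  refine enum_intro 11 ck11 3 6 41520 1037 4 10 ?_
  intro v hv hb hd
  interval_cases v
  · exact absurd hb (by decide)
  · exact absurd hd (by decide)
  · exact absurd hb (by decide)
  · exact absurd hb (by decide)
  · exact ch_3_2_10_4
  · exact ch_3_2_10_5
  · exact ch_3_2_10_6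
  · exact ch_3_2_10_7
  · exact ch_3_2_10_8
  · exact ch_3_2_10_9
  · exact absurd hb (by decide)

theorem ch_3_2 : enum 11 ck11 3 8 560 13 3 2 = true := by
  refine enum_intro 11 ck11 3 7 560 13 3 2 ?_
  intro v hv hb hd
  interval_cases v
  · exact absurd hb (by decide)
  · exact ch_3_2_1
  · exact absurd hb (by decide)
  · exact absurd hb (by decide)
  · exact absurd hd (by decide)
  · exact ch_3_2_5
  · exact ch_3_2_6
  · exact ch_3_2_7
  · exact ch_3_2_8
  · exact ch_3_2_9
  · exact ch_3_2_10

end Cfsg.Agent.Helper9.T11
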