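import Mathlib
import Cfsg.Agent.Helper9.T11.Chk

set_option autoImplicit false
set_option Elab.async false

/-!
A part of the enumeration on 11 points: the test holds at every permutation of the part.
-/

namespace Cfsg.Agent.Helper9.T11

set_option maxRecDepth 100000 in
theorem ch_3_6_1_4_2 : enum 11 ck11 3 5 2364976 95 6 2 = true := by
  decide +kernel

set_option maxRecDepth 100000 in
theorem ch_3_6_1_4_7 : enum 11 ck11 3 5 7607856 219 6 7 = true := by
  decide +kernel

set_option maxRecDepth 100000 in
theorem ch_3_6_1_4_8 : enum 11 ck11 3 5 8656432 347 6 8 = true := by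
  decide +kernel

set_option maxRecDepth 100000 in
theorem ch_3_6_1_4_9 : enum 11 ck11 3 5 9705008 603 6 9 = true := by
  decide +kernel

set_option maxRecDepth 100000 in
theorem ch_3_6_1_4_10 : enum 11 ck11 3 5 10753584 1115 6 10 = true := by
  decide +kernel

theorem ch_3_6_1_4 : enum 11 ck11 3 6 267824 91 5 4 = true := by
  refine enum_intro 11 ck11 3 5 267824 91 5 4 ?_
  intro v hv hb hd
  interval_cases v
  · exact absurd hb (by decide)
  · exact absurd hb (by decide)
  · exact ch_3_6_1_4_2
  · exact absurd hb (by decide)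
  · exact absurd hb (by decide)
  · exact absurd hd (by decide)
  · exact absurd hb (by decide)
  · exact ch_3_6_1_4_7
  · exact ch_3_6_1_4_8
  · exact ch_3_6_1_4_9
  · exact ch_3_6_1_4_10

set_option maxRecDepth 100000 in
theorem ch_3_6_1_5_2 : enum 11 ck11 3 5 2430512 111 6 2 = true := by
  decide +kernel

set_option maxRecDepth 100000 in
theorem ch_3_6_1_5_4 : enum 11 ck11 3 5 4527664 123 6 4 = true := by
  decide +kernel

set_option maxRecDepth 100000 in
theorem ch_3_6_1_5_8 : enum 11 ck11 3 5 8721968 363 6 8 = true := by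
  decide +kernel

set_option maxRecDepth 100000 in
theorem ch_3_6_1_5_9 : enum 11 ck11 3 5 9770544 619 6 9 = true := by
  decide +kernel

set_option maxRecDepth 100000 in
theorem ch_3_6_1_5_10 : enum 11 ck11 3 5 10819120 1131 6 10 = true := by
  decide +kernel

theorem ch_3_6_1_5 : enum 11 ck11 3 6 333360 107 5 5 = true := by
  refine enum_intro 11 ck11 3 5 333360 107 5 5 ?_
  intro v hv hb hd
  interval_cases v
  · exact absurd hb (by decide)
  · exact absurd hb (by decide)
  · exact ch_3_6_1_5_2
  · exact absurd hb (by decide)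
  · exact ch_3_6_1_5_4
  · exact absurd hb (by decide)
  · exact absurd hb (by decide)
  · exact absurd hd (by decide)
  · exact ch_3_6_1_5_8
  · exact ch_3_6_1_5_9
  · exact ch_3_6_1_5_10

set_option maxRecDepth 100000 in
theorem ch_3_6_1_7_2 : enum 11 ck11 3 5 2561584 207 6 2 = true := by
  decide +kernel

set_option maxRecDepth 100000 in
theorem ch_3_6_1_7_4 : enum 11 ck11 3 5 4658736 219 6 4 = true := by
  decide +kernel

set_option maxRecDepth 100000 in
theorem ch_3_6_1_7_5 : enum 11 ck11 3 5 5707312 235 6 5 = true := by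
  decide +kernel

set_option maxRecDepth 100000 in
theorem ch_3_6_1_7_10 : enum 11 ck11 3 5 10950192 1227 6 10 = true := by
  decide +kernel

theorem ch_3_6_1_7 : enum 11 ck11 3 6 464432 203 5 7 = true := by
  refine enum_intro 11 ck11 3 5 464432 203 5 7 ?_
  intro v hv hb hd
  interval_cases v
  · exact absurd hb (by decide)
  · exact absurd hb (by decide)
  · exact ch_3_6_1_7_2
  · exact absurd hb (by decide)
  · exact ch_3_6_1_7_4
  · exact ch_3_6_1_7_5
  · exact absurd hb (by decide)
  · exact absurd hb (by decide)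
  · exact absurd hd (by decide)
  · exact absurd hd (by decide)
  · exact ch_3_6_1_7_10

set_option maxRecDepth 100000 in
theorem ch_3_6_1_8_2 : enum 11 ck11 3 5 2627120 335 6 2 = true := by
  decide +kernel

set_option maxRecDepth 100000 in
theorem ch_3_6_1_8_4 : enum 11 ck11 3 5 4724272 347 6 4 = true := by
  decide +kernel

set_option maxRecDepth 100000 in
theorem ch_3_6_1_8_5 : enum 11 ck11 3 5 5772848 363 6 5 = true := by
  decide +kernel

set_option maxRecDepth 100000 in
theorem ch_3_6_1_8_7 : enum 11 ck11 3 5 7870000 459 6 7 = true := by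
  decide +kernel

theorem ch_3_6_1_8 : enum 11 ck11 3 6 529968 331 5 8 = true := by
  refine enum_intro 11 ck11 3 5 529968 331 5 8 ?_
  intro v hv hb hd
  interval_cases v
  · exact absurd hb (by decide)
  · exact absurd hb (by decide)
  · exact ch_3_6_1_8_2
  · exact absurd hb (by decide)
  · exact ch_3_6_1_8_4
  · exact ch_3_6_1_8_5
  · exact absurd hb (by decide)
  · exact ch_3_6_1_8_7
  · exact absurd hb (by decide)
  · exact absurd hd (by decide)
  · exact absurd hd (by decide)

set_option maxRecDepth 100000 in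
theorem ch_3_6_1_9_2 : enum 11 ck11 3 5 2692656 591 6 2 = true := by
  decide +kernel

set_option maxRecDepth 100000 in
theorem ch_3_6_1_9_4 : enum 11 ck11 3 5 4789808 603 6 4 = true := by
  decide +kernel

set_option maxRecDepth 100000 in
theorem ch_3_6_1_9_5 : enum 11 ck11 3 5 5838384 619 6 5 = true := by
  decide +kernel

set_option maxRecDepth 100000 in
theorem ch_3_6_1_9_7 : enum 11 ck11 3 5 7935536 715 6 7 = true := by
  decide +kernel

set_option maxRecDepth 100000 in
theorem ch_3_6_1_9_8 : enum 11 ck11 3 5 8984112 843 6 8 = true := by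
  decide +kernel

theorem ch_3_6_1_9 : enum 11 ck11 3 6 595504 587 5 9 = true := by
  refine enum_intro 11 ck11 3 5 595504 587 5 9 ?_
  intro v hv hb hd
  interval_cases v
  · exact absurd hb (by decide)
  · exact absurd hb (by decide)
  · exact ch_3_6_1_9_2
  · exact absurd hb (by decide)
  · exact ch_3_6_1_9_4
  · exact ch_3_6_1_9_5
  · exact absurd hb (by decide)
  · exact ch_3_6_1_9_7
  · exact ch_3_6_1_9_8
  · exact absurd hb (by decide)
  · exact absurd hd (by decide)

set_option maxRecDepth 100000 in
theorem ch_3_6_1_10_2 : enum 11 ck11 3 5 2758192 1103 6 2 = true := by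
  decide +kernel

set_option maxRecDepth 100000 in
theorem ch_3_6_1_10_4 : enum 11 ck11 3 5 4855344 1115 6 4 = true := by
  decide +kernel

set_option maxRecDepth 100000 in
theorem ch_3_6_1_10_5 : enum 11 ck11 3 5 5903920 1131 6 5 = true := by
  decide +kernel

set_option maxRecDepth 100000 in
theorem ch_3_6_1_10_7 : enum 11 ck11 3 5 8001072 1227 6 7 = true := by
  decide +kernel

set_option maxRecDepth 100000 in
theorem ch_3_6_1_10_8 : enum 11 ck11 3 5 9049648 1355 6 8 = true := by
  decide +kernel

set_option maxRecDepth 100000 in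
theorem ch_3_6_1_10_9 : enum 11 ck11 3 5 10098224 1611 6 9 = true := by
  decide +kernel

theorem ch_3_6_1_10 : enum 11 ck11 3 6 661040 1099 5 10 = true := by
  refine enum_intro 11 ck11 3 5 661040 1099 5 10 ?_
  intro v hv hb hd
  interval_cases v
  · exact absurd hb (by decide)
  · exact absurd hb (by decide)
  · exact ch_3_6_1_10_2
  · exact absurd hb (by decide)
  · exact ch_3_6_1_10_4
  · exact ch_3_6_1_10_5
  · exact absurd hb (by decide)
  · exact ch_3_6_1_10_7
  · exact ch_3_6_1_10_8
  · exact ch_3_6_1_10_9
  · exact absurd hb (by decide)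

theorem ch_3_6_1 : enum 11 ck11 3 7 5680 75 4 1 = true := by
  refine enum_intro 11 ck11 3 6 5680 75 4 1 ?_
  intro v hv hb hd
  interval_cases v
  · exact absurd hb (by decide)
  · exact absurd hb (by decide)
  · exact absurd hd (by decide)
  · exact absurd hb (by decide)
  · exact ch_3_6_1_4
  · exact ch_3_6_1_5
  · exact absurd hb (by decide)
  · exact ch_3_6_1_7
  · exact ch_3_6_1_8
  · exact ch_3_6_1_9
  · exact ch_3_6_1_10

set_option maxRecDepth 100000 in
theorem ch_3_6_2_1_4 : enum 11 ck11 3 5 4269616 95 6 4 = true := by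
  decide +kernel

set_option maxRecDepth 100000 in
theorem ch_3_6_2_1_5 : enum 11 ck11 3 5 5318192 111 6 5 = true := by
  decide +kernel

set_option maxRecDepth 100000 in
theorem ch_3_6_2_1_7 : enum 11 ck11 3 5 7415344 207 6 7 = true := by
  decide +kernel

set_option maxRecDepth 100000 in
theorem ch_3_6_2_1_8 : enum 11 ck11 3 5 8463920 335 6 8 = true := by
  decide +kernel

set_option maxRecDepth 100000 in
theorem ch_3_6_2_1_9 : enum 11 ck11 3 5 9512496 591 6 9 = true := by
  decide +kernel

set_option maxRecDepth 100000 in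
theorem ch_3_6_2_1_10 : enum 11 ck11 3 5 10561072 1103 6 10 = true := by
  decide +kernel

theorem ch_3_6_2_1 : enum 11 ck11 3 6 75312 79 5 1 = true := by
  refine enum_intro 11 ck11 3 5 75312 79 5 1 ?_
  intro v hv hb hd
  interval_cases v
  · exact absurd hb (by decide)
  · exact absurd hb (by decide)
  · exact absurd hb (by decide)
  · exact absurd hb (by decide)
  · exact ch_3_6_2_1_4
  · exact ch_3_6_2_1_5
  · exact absurd hb (by decide)
  · exact ch_3_6_2_1_7
  · exact ch_3_6_2_1_8
  · exact ch_3_6_2_1_9
  · exact ch_3_6_2_1_10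

set_option maxRecDepth 100000 in
theorem ch_3_6_2_5_1 : enum 11 ck11 3 5 1386032 111 6 1 = true := by
  decide +kernel

set_option maxRecDepth 100000 in
theorem ch_3_6_2_5_4 : enum 11 ck11 3 5 4531760 125 6 4 = true := by
  decide +kernel

set_option maxRecDepth 100000 in
theorem ch_3_6_2_5_8 : enum 11 ck11 3 5 8726064 365 6 8 = true := by
  decide +kernel

set_option maxRecDepth 100000 in
theorem ch_3_6_2_5_9 : enum 11 ck11 3 5 9774640 621 6 9 = true := by
  decide +kernel

set_option maxRecDepth 100000 in
theorem ch_3_6_2_5_10 : enum 11 ck11 3 5 10823216 1133 6 10 = true := by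
  decide +kernel

theorem ch_3_6_2_5 : enum 11 ck11 3 6 337456 109 5 5 = true := by
  refine enum_intro 11 ck11 3 5 337456 109 5 5 ?_
  intro v hv hb hd
  interval_cases v
  · exact absurd hb (by decide)
  · exact ch_3_6_2_5_1
  · exact absurd hb (by decide)
  · exact absurd hb (by decide)
  · exact ch_3_6_2_5_4
  · exact absurd hb (by decide)
  · exact absurd hb (by decide)
  · exact absurd hd (by decide)
  · exact ch_3_6_2_5_8
  · exact ch_3_6_2_5_9
  · exact ch_3_6_2_5_10

set_option maxRecDepth 100000 in
theorem ch_3_6_2_7_1 : enum 11 ck11 3 5 1517104 207 6 1 = true := by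
  decide +kernel

set_option maxRecDepth 100000 in
theorem ch_3_6_2_7_4 : enum 11 ck11 3 5 4662832 221 6 4 = true := by
  decide +kernel

set_option maxRecDepth 100000 in
theorem ch_3_6_2_7_5 : enum 11 ck11 3 5 5711408 237 6 5 = true := by
  decide +kernel

set_option maxRecDepth 100000 in
theorem ch_3_6_2_7_10 : enum 11 ck11 3 5 10954288 1229 6 10 = true := by
  decide +kernel

theorem ch_3_6_2_7 : enum 11 ck11 3 6 468528 205 5 7 = true := by
  refine enum_intro 11 ck11 3 5 468528 205 5 7 ?_
  intro v hv hb hd
  interval_cases v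
  · exact absurd hb (by decide)
  · exact ch_3_6_2_7_1
  · exact absurd hb (by decide)
  · exact absurd hb (by decide)
  · exact ch_3_6_2_7_4
  · exact ch_3_6_2_7_5
  · exact absurd hb (by decide)
  · exact absurd hb (by decide)
  · exact absurd hd (by decide)
  · exact absurd hd (by decide)
  · exact ch_3_6_2_7_10

set_option maxRecDepth 100000 in
theorem ch_3_6_2_8_1 : enum 11 ck11 3 5 1582640 335 6 1 = true := by
  decide +kernel

set_option maxRecDepth 100000 in
theorem ch_3_6_2_8_4 : enum 11 ck11 3 5 4728368 349 6 4 = true := by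
  decide +kernel

set_option maxRecDepth 100000 in
theorem ch_3_6_2_8_5 : enum 11 ck11 3 5 5776944 365 6 5 = true := by
  decide +kernel

set_option maxRecDepth 100000 in
theorem ch_3_6_2_8_7 : enum 11 ck11 3 5 7874096 461 6 7 = true := by
  decide +kernel

theorem ch_3_6_2_8 : enum 11 ck11 3 6 534064 333 5 8 = true := by
  refine enum_intro 11 ck11 3 5 534064 333 5 8 ?_
  intro v hv hb hd
  interval_cases v
  · exact absurd hb (by decide)
  · exact ch_3_6_2_8_1
  · exact absurd hb (by decide)
  · exact absurd hb (by decide)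
  · exact ch_3_6_2_8_4
  · exact ch_3_6_2_8_5
  · exact absurd hb (by decide)
  · exact ch_3_6_2_8_7
  · exact absurd hb (by decide)
  · exact absurd hd (by decide)
  · exact absurd hd (by decide)

set_option maxRecDepth 100000 in
theorem ch_3_6_2_9_1 : enum 11 ck11 3 5 1648176 591 6 1 = true := by
  decide +kernel

set_option maxRecDepth 100000 in
theorem ch_3_6_2_9_4 : enum 11 ck11 3 5 4793904 605 6 4 = true := by
  decide +kernel

set_option maxRecDepth 100000 in
theorem ch_3_6_2_9_5 : enum 11 ck11 3 5 5842480 621 6 5 = true := by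
  decide +kernel

set_option maxRecDepth 100000 in
theorem ch_3_6_2_9_7 : enum 11 ck11 3 5 7939632 717 6 7 = true := by
  decide +kernel

set_option maxRecDepth 100000 in
theorem ch_3_6_2_9_8 : enum 11 ck11 3 5 8988208 845 6 8 = true := by
  decide +kernel

theorem ch_3_6_2_9 : enum 11 ck11 3 6 599600 589 5 9 = true := by
  refine enum_intro 11 ck11 3 5 599600 589 5 9 ?_
  intro v hv hb hd
  interval_cases v
  · exact absurd hb (by decide)
  · exact ch_3_6_2_9_1
  · exact absurd hb (by decide)
  · exact absurd hb (by decide)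
  · exact ch_3_6_2_9_4
  · exact ch_3_6_2_9_5
  · exact absurd hb (by decide)
  · exact ch_3_6_2_9_7
  · exact ch_3_6_2_9_8
  · exact absurd hb (by decide)
  · exact absurd hd (by decide)

set_option maxRecDepth 100000 in
theorem ch_3_6_2_10_4 : enum 11 ck11 3 5 4859440 1117 6 4 = true := by
  decide +kernel

set_option maxRecDepth 100000 in
theorem ch_3_6_2_10_5 : enum 11 ck11 3 5 5908016 1133 6 5 = true := by
  decide +kernel

set_option maxRecDepth 100000 in
theorem ch_3_6_2_10_7 : enum 11 ck11 3 5 8005168 1229 6 7 = true := by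
  decide +kernel

set_option maxRecDepth 100000 in
theorem ch_3_6_2_10_8 : enum 11 ck11 3 5 9053744 1357 6 8 = true := by
  decide +kernel

set_option maxRecDepth 100000 in
theorem ch_3_6_2_10_9 : enum 11 ck11 3 5 10102320 1613 6 9 = true := by
  decide +kernel

theorem ch_3_6_2_10 : enum 11 ck11 3 6 665136 1101 5 10 = true := by
  refine enum_intro 11 ck11 3 5 665136 1101 5 10 ?_
  intro v hv hb hd
  interval_cases v
  · exact absurd hb (by decide)
  · exact absurd hd (by decide)
  · exact absurd hb (by decide)
  · exact absurd hb (by decide)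
  · exact ch_3_6_2_10_4
  · exact ch_3_6_2_10_5
  · exact absurd hb (by decide)
  · exact ch_3_6_2_10_7
  · exact ch_3_6_2_10_8
  · exact ch_3_6_2_10_9
  · exact absurd hb (by decide)

theorem ch_3_6_2 : enum 11 ck11 3 7 9776 77 4 2 = true := by
  refine enum_intro 11 ck11 3 6 9776 77 4 2 ?_
  intro v hv hb hd
  interval_cases v
  · exact absurd hb (by decide)
  · exact ch_3_6_2_1
  · exact absurd hb (by decide)
  · exact absurd hb (by decide)
  · exact absurd hd (by decide)
  · exact ch_3_6_2_5
  · exact absurd hb (by decide)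
  · exact ch_3_6_2_7
  · exact ch_3_6_2_8
  · exact ch_3_6_2_9
  · exact ch_3_6_2_10

set_option maxRecDepth 100000 in
theorem ch_3_6_4_1_5 : enum 11 ck11 3 5 5326384 123 6 5 = true := by
  decide +kernel

set_option maxRecDepth 100000 in
theorem ch_3_6_4_1_7 : enum 11 ck11 3 5 7423536 219 6 7 = true := by
  decide +kernel

set_option maxRecDepth 100000 in
theorem ch_3_6_4_1_8 : enum 11 ck11 3 5 8472112 347 6 8 = true := by
  decide +kernel

set_option maxRecDepth 100000 in
theorem ch_3_6_4_1_9 : enum 11 ck11 3 5 9520688 603 6 9 = true := by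
  decide +kernel

set_option maxRecDepth 100000 in
theorem ch_3_6_4_1_10 : enum 11 ck11 3 5 10569264 1115 6 10 = true := by
  decide +kernel

theorem ch_3_6_4_1 : enum 11 ck11 3 6 83504 91 5 1 = true := by
  refine enum_intro 11 ck11 3 5 83504 91 5 1 ?_
  intro v hv hb hd
  interval_cases v
  · exact absurd hb (by decide)
  · exact absurd hb (by decide)
  · exact absurd hd (by decide)
  · exact absurd hb (by decide)
  · exact absurd hb (by decide)
  · exact ch_3_6_4_1_5
  · exact absurd hb (by decide)
  · exact ch_3_6_4_1_7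
  · exact ch_3_6_4_1_8
  · exact ch_3_6_4_1_9
  · exact ch_3_6_4_1_10

set_option maxRecDepth 100000 in
theorem ch_3_6_4_2_1 : enum 11 ck11 3 5 1197616 95 6 1 = true := by
  decide +kernel

set_option maxRecDepth 100000 in
theorem ch_3_6_4_2_5 : enum 11 ck11 3 5 5391920 125 6 5 = true := by
  decide +kernel

set_option maxRecDepth 100000 in
theorem ch_3_6_4_2_7 : enum 11 ck11 3 5 7489072 221 6 7 = true := by
  decide +kernel

set_option maxRecDepth 100000 in
theorem ch_3_6_4_2_8 : enum 11 ck11 3 5 8537648 349 6 8 = true := by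
  decide +kernel

set_option maxRecDepth 100000 in
theorem ch_3_6_4_2_9 : enum 11 ck11 3 5 9586224 605 6 9 = true := by
  decide +kernel

set_option maxRecDepth 100000 in
theorem ch_3_6_4_2_10 : enum 11 ck11 3 5 10634800 1117 6 10 = true := by
  decide +kernel

theorem ch_3_6_4_2 : enum 11 ck11 3 6 149040 93 5 2 = true := by
  refine enum_intro 11 ck11 3 5 149040 93 5 2 ?_
  intro v hv hb hd
  interval_cases v
  · exact absurd hb (by decide)
  · exact ch_3_6_4_2_1
  · exact absurd hb (by decide)
  · exact absurd hb (by decide)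
  · exact absurd hb (by decide)
  · exact ch_3_6_4_2_5
  · exact absurd hb (by decide)
  · exact ch_3_6_4_2_7
  · exact ch_3_6_4_2_8
  · exact ch_3_6_4_2_9
  · exact ch_3_6_4_2_10

set_option maxRecDepth 100000 in
theorem ch_3_6_4_7_1 : enum 11 ck11 3 5 1525296 219 6 1 = true := by
  decide +kernel

set_option maxRecDepth 100000 in
theorem ch_3_6_4_7_2 : enum 11 ck11 3 5 2573872 221 6 2 = true := by
  decide +kernel

set_option maxRecDepth 100000 in
theorem ch_3_6_4_7_5 : enum 11 ck11 3 5 5719600 249 6 5 = true := by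
  decide +kernel

set_option maxRecDepth 100000 in
theorem ch_3_6_4_7_10 : enum 11 ck11 3 5 10962480 1241 6 10 = true := by
  decide +kernel

theorem ch_3_6_4_7 : enum 11 ck11 3 6 476720 217 5 7 = true := by
  refine enum_intro 11 ck11 3 5 476720 217 5 7 ?_
  intro v hv hb hd
  interval_cases v
  · exact absurd hb (by decide)
  · exact ch_3_6_4_7_1
  · exact ch_3_6_4_7_2
  · exact absurd hb (by decide)
  · exact absurd hb (by decide)
  · exact ch_3_6_4_7_5
  · exact absurd hb (by decide)
  · exact absurd hb (by decide)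
  · exact absurd hd (by decide)
  · exact absurd hd (by decide)
  · exact ch_3_6_4_7_10

set_option maxRecDepth 100000 in
theorem ch_3_6_4_8_1 : enum 11 ck11 3 5 1590832 347 6 1 = true := by
  decide +kernel

set_option maxRecDepth 100000 in
theorem ch_3_6_4_8_2 : enum 11 ck11 3 5 2639408 349 6 2 = true := by
  decide +kernel

set_option maxRecDepth 100000 in
theorem ch_3_6_4_8_5 : enum 11 ck11 3 5 5785136 377 6 5 = true := by
  decide +kernel

set_option maxRecDepth 100000 in
theorem ch_3_6_4_8_7 : enum 11 ck11 3 5 7882288 473 6 7 = true := by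
  decide +kernel

theorem ch_3_6_4_8 : enum 11 ck11 3 6 542256 345 5 8 = true := by
  refine enum_intro 11 ck11 3 5 542256 345 5 8 ?_
  intro v hv hb hd
  interval_cases v
  · exact absurd hb (by decide)
  · exact ch_3_6_4_8_1
  · exact ch_3_6_4_8_2
  · exact absurd hb (by decide)
  · exact absurd hb (by decide)
  · exact ch_3_6_4_8_5
  · exact absurd hb (by decide)
  · exact ch_3_6_4_8_7
  · exact absurd hb (by decide)
  · exact absurd hd (by decide)
  · exact absurd hd (by decide)

set_option maxRecDepth 100000 in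
theorem ch_3_6_4_9_1 : enum 11 ck11 3 5 1656368 603 6 1 = true := by
  decide +kernel

set_option maxRecDepth 100000 in
theorem ch_3_6_4_9_2 : enum 11 ck11 3 5 2704944 605 6 2 = true := by
  decide +kernel

set_option maxRecDepth 100000 in
theorem ch_3_6_4_9_5 : enum 11 ck11 3 5 5850672 633 6 5 = true := by
  decide +kernel

set_option maxRecDepth 100000 in
theorem ch_3_6_4_9_7 : enum 11 ck11 3 5 7947824 729 6 7 = true := by
  decide +kernel

set_option maxRecDepth 100000 in
theorem ch_3_6_4_9_8 : enum 11 ck11 3 5 8996400 857 6 8 = true := by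
  decide +kernel

theorem ch_3_6_4_9 : enum 11 ck11 3 6 607792 601 5 9 = true := by
  refine enum_intro 11 ck11 3 5 607792 601 5 9 ?_
  intro v hv hb hd
  interval_cases v
  · exact absurd hb (by decide)
  · exact ch_3_6_4_9_1
  · exact ch_3_6_4_9_2
  · exact absurd hb (by decide)
  · exact absurd hb (by decide)
  · exact ch_3_6_4_9_5
  · exact absurd hb (by decide)
  · exact ch_3_6_4_9_7
  · exact ch_3_6_4_9_8
  · exact absurd hb (by decide)
  · exact absurd hd (by decide)

set_option maxRecDepth 100000 in
theorem ch_3_6_4_10_2 : enum 11 ck11 3 5 2770480 1117 6 2 = true := by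
  decide +kernel

set_option maxRecDepth 100000 in
theorem ch_3_6_4_10_5 : enum 11 ck11 3 5 5916208 1145 6 5 = true := by
  decide +kernel

set_option maxRecDepth 100000 in
theorem ch_3_6_4_10_7 : enum 11 ck11 3 5 8013360 1241 6 7 = true := by
  decide +kernel

set_option maxRecDepth 100000 in
theorem ch_3_6_4_10_8 : enum 11 ck11 3 5 9061936 1369 6 8 = true := by
  decide +kernel

set_option maxRecDepth 100000 in
theorem ch_3_6_4_10_9 : enum 11 ck11 3 5 10110512 1625 6 9 = true := by
  decide +kernel

theorem ch_3_6_4_10 : enum 11 ck11 3 6 673328 1113 5 10 = true := by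
  refine enum_intro 11 ck11 3 5 673328 1113 5 10 ?_
  intro v hv hb hd
  interval_cases v
  · exact absurd hb (by decide)
  · exact absurd hd (by decide)
  · exact ch_3_6_4_10_2
  · exact absurd hb (by decide)
  · exact absurd hb (by decide)
  · exact ch_3_6_4_10_5
  · exact absurd hb (by decide)
  · exact ch_3_6_4_10_7
  · exact ch_3_6_4_10_8
  · exact ch_3_6_4_10_9
  · exact absurd hb (by decide)

theorem ch_3_6_4 : enum 11 ck11 3 7 17968 89 4 4 = true := by
  refine enum_intro 11 ck11 3 6 17968 89 4 4 ?_
  intro v hv hb hd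
  interval_cases v
  · exact absurd hb (by decide)
  · exact ch_3_6_4_1
  · exact ch_3_6_4_2
  · exact absurd hb (by decide)
  · exact absurd hb (by decide)
  · exact absurd hd (by decide)
  · exact absurd hb (by decide)
  · exact ch_3_6_4_7
  · exact ch_3_6_4_8
  · exact ch_3_6_4_9
  · exact ch_3_6_4_10

set_option maxRecDepth 100000 in
theorem ch_3_6_5_1_4 : enum 11 ck11 3 5 4281904 123 6 4 = true := by
  decide +kernel

set_option maxRecDepth 100000 in
theorem ch_3_6_5_1_7 : enum 11 ck11 3 5 7427632 235 6 7 = true := by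
  decide +kernel

set_option maxRecDepth 100000 in
theorem ch_3_6_5_1_8 : enum 11 ck11 3 5 8476208 363 6 8 = true := by
  decide +kernel

set_option maxRecDepth 100000 in
theorem ch_3_6_5_1_9 : enum 11 ck11 3 5 9524784 619 6 9 = true := by
  decide +kernel

set_option maxRecDepth 100000 in
theorem ch_3_6_5_1_10 : enum 11 ck11 3 5 10573360 1131 6 10 = true := by
  decide +kernel

theorem ch_3_6_5_1 : enum 11 ck11 3 6 87600 107 5 1 = true := by
  refine enum_intro 11 ck11 3 5 87600 107 5 1 ?_
  intro v hv hb hd
  interval_cases v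
  · exact absurd hb (by decide)
  · exact absurd hb (by decide)
  · exact absurd hd (by decide)
  · exact absurd hb (by decide)
  · exact ch_3_6_5_1_4
  · exact absurd hb (by decide)
  · exact absurd hb (by decide)
  · exact ch_3_6_5_1_7
  · exact ch_3_6_5_1_8
  · exact ch_3_6_5_1_9
  · exact ch_3_6_5_1_10

set_option maxRecDepth 100000 in
theorem ch_3_6_5_2_1 : enum 11 ck11 3 5 1201712 111 6 1 = true := by
  decide +kernel

set_option maxRecDepth 100000 in
theorem ch_3_6_5_2_7 : enum 11 ck11 3 5 7493168 237 6 7 = true := by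
  decide +kernel

set_option maxRecDepth 100000 in
theorem ch_3_6_5_2_8 : enum 11 ck11 3 5 8541744 365 6 8 = true := by
  decide +kernel

set_option maxRecDepth 100000 in
theorem ch_3_6_5_2_9 : enum 11 ck11 3 5 9590320 621 6 9 = true := by
  decide +kernel

set_option maxRecDepth 100000 in
theorem ch_3_6_5_2_10 : enum 11 ck11 3 5 10638896 1133 6 10 = true := by
  decide +kernel

theorem ch_3_6_5_2 : enum 11 ck11 3 6 153136 109 5 2 = true := by
  refine enum_intro 11 ck11 3 5 153136 109 5 2 ?_
  intro v hv hb hd
  interval_cases v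
  · exact absurd hb (by decide)
  · exact ch_3_6_5_2_1
  · exact absurd hb (by decide)
  · exact absurd hb (by decide)
  · exact absurd hd (by decide)
  · exact absurd hb (by decide)
  · exact absurd hb (by decide)
  · exact ch_3_6_5_2_7
  · exact ch_3_6_5_2_8
  · exact ch_3_6_5_2_9
  · exact ch_3_6_5_2_10

set_option maxRecDepth 100000 in
theorem ch_3_6_5_4_1 : enum 11 ck11 3 5 1332784 123 6 1 = true := by
  decide +kernel

set_option maxRecDepth 100000 in
theorem ch_3_6_5_4_2 : enum 11 ck11 3 5 2381360 125 6 2 = true := by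
  decide +kernel

set_option maxRecDepth 100000 in
theorem ch_3_6_5_4_7 : enum 11 ck11 3 5 7624240 249 6 7 = true := by
  decide +kernel

set_option maxRecDepth 100000 in
theorem ch_3_6_5_4_8 : enum 11 ck11 3 5 8672816 377 6 8 = true := by
  decide +kernel

set_option maxRecDepth 100000 in
theorem ch_3_6_5_4_9 : enum 11 ck11 3 5 9721392 633 6 9 = true := by
  decide +kernel

set_option maxRecDepth 100000 in
theorem ch_3_6_5_4_10 : enum 11 ck11 3 5 10769968 1145 6 10 = true := by
  decide +kernel

theorem ch_3_6_5_4 : enum 11 ck11 3 6 284208 121 5 4 = true := by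
  refine enum_intro 11 ck11 3 5 284208 121 5 4 ?_
  intro v hv hb hd
  interval_cases v
  · exact absurd hb (by decide)
  · exact ch_3_6_5_4_1
  · exact ch_3_6_5_4_2
  · exact absurd hb (by decide)
  · exact absurd hb (by decide)
  · exact absurd hb (by decide)
  · exact absurd hb (by decide)
  · exact ch_3_6_5_4_7
  · exact ch_3_6_5_4_8
  · exact ch_3_6_5_4_9
  · exact ch_3_6_5_4_10

set_option maxRecDepth 100000 in
theorem ch_3_6_5_8_1 : enum 11 ck11 3 5 1594928 363 6 1 = true := by
  decide +kernel

set_option maxRecDepth 100000 in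
theorem ch_3_6_5_8_2 : enum 11 ck11 3 5 2643504 365 6 2 = true := by
  decide +kernel

set_option maxRecDepth 100000 in
theorem ch_3_6_5_8_4 : enum 11 ck11 3 5 4740656 377 6 4 = true := by
  decide +kernel

set_option maxRecDepth 100000 in
theorem ch_3_6_5_8_7 : enum 11 ck11 3 5 7886384 489 6 7 = true := by
  decide +kernel

theorem ch_3_6_5_8 : enum 11 ck11 3 6 546352 361 5 8 = true := by
  refine enum_intro 11 ck11 3 5 546352 361 5 8 ?_
  intro v hv hb hd
  interval_cases v
  · exact absurd hb (by decide)
  · exact ch_3_6_5_8_1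
  · exact ch_3_6_5_8_2
  · exact absurd hb (by decide)
  · exact ch_3_6_5_8_4
  · exact absurd hb (by decide)
  · exact absurd hb (by decide)
  · exact ch_3_6_5_8_7
  · exact absurd hb (by decide)
  · exact absurd hd (by decide)
  · exact absurd hd (by decide)

set_option maxRecDepth 100000 in
theorem ch_3_6_5_9_1 : enum 11 ck11 3 5 1660464 619 6 1 = true := by
  decide +kernel

set_option maxRecDepth 100000 in
theorem ch_3_6_5_9_2 : enum 11 ck11 3 5 2709040 621 6 2 = true := by
  decide +kernel

set_option maxRecDepth 100000 in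
theorem ch_3_6_5_9_4 : enum 11 ck11 3 5 4806192 633 6 4 = true := by
  decide +kernel

set_option maxRecDepth 100000 in
theorem ch_3_6_5_9_7 : enum 11 ck11 3 5 7951920 745 6 7 = true := by
  decide +kernel

set_option maxRecDepth 100000 in
theorem ch_3_6_5_9_8 : enum 11 ck11 3 5 9000496 873 6 8 = true := by
  decide +kernel

theorem ch_3_6_5_9 : enum 11 ck11 3 6 611888 617 5 9 = true := by
  refine enum_intro 11 ck11 3 5 611888 617 5 9 ?_
  intro v hv hb hd
  interval_cases v
  · exact absurd hb (by decide)
  · exact ch_3_6_5_9_1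
  · exact ch_3_6_5_9_2
  · exact absurd hb (by decide)
  · exact ch_3_6_5_9_4
  · exact absurd hb (by decide)
  · exact absurd hb (by decide)
  · exact ch_3_6_5_9_7
  · exact ch_3_6_5_9_8
  · exact absurd hb (by decide)
  · exact absurd hd (by decide)

set_option maxRecDepth 100000 in
theorem ch_3_6_5_10_2 : enum 11 ck11 3 5 2774576 1133 6 2 = true := by
  decide +kernel

set_option maxRecDepth 100000 in
theorem ch_3_6_5_10_4 : enum 11 ck11 3 5 4871728 1145 6 4 = true := by
  decide +kernel

set_option maxRecDepth 100000 in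
theorem ch_3_6_5_10_7 : enum 11 ck11 3 5 8017456 1257 6 7 = true := by
  decide +kernel

set_option maxRecDepth 100000 in
theorem ch_3_6_5_10_8 : enum 11 ck11 3 5 9066032 1385 6 8 = true := by
  decide +kernel

set_option maxRecDepth 100000 in
theorem ch_3_6_5_10_9 : enum 11 ck11 3 5 10114608 1641 6 9 = true := by
  decide +kernel

theorem ch_3_6_5_10 : enum 11 ck11 3 6 677424 1129 5 10 = true := by
  refine enum_intro 11 ck11 3 5 677424 1129 5 10 ?_
  intro v hv hb hd
  interval_cases v
  · exact absurd hb (by decide)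
  · exact absurd hd (by decide)
  · exact ch_3_6_5_10_2
  · exact absurd hb (by decide)
  · exact ch_3_6_5_10_4
  · exact absurd hb (by decide)
  · exact absurd hb (by decide)
  · exact ch_3_6_5_10_7
  · exact ch_3_6_5_10_8
  · exact ch_3_6_5_10_9
  · exact absurd hb (by decide)

theorem ch_3_6_5 : enum 11 ck11 3 7 22064 105 4 5 = true := by
  refine enum_intro 11 ck11 3 6 22064 105 4 5 ?_
  intro v hv hb hd
  interval_cases v
  · exact absurd hb (by decide)
  · exact ch_3_6_5_1
  · exact ch_3_6_5_2
  · exact absurd hb (by decide)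
  · exact ch_3_6_5_4
  · exact absurd hb (by decide)
  · exact absurd hb (by decide)
  · exact absurd hd (by decide)
  · exact ch_3_6_5_8
  · exact ch_3_6_5_9
  · exact ch_3_6_5_10

set_option maxRecDepth 100000 in
theorem ch_3_6_9_1_4 : enum 11 ck11 3 5 4298288 603 6 4 = true := by
  decide +kernel

set_option maxRecDepth 100000 in
theorem ch_3_6_9_1_5 : enum 11 ck11 3 5 5346864 619 6 5 = true := by
  decide +kernel

set_option maxRecDepth 100000 in
theorem ch_3_6_9_1_7 : enum 11 ck11 3 5 7444016 715 6 7 = true := by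
  decide +kernel

set_option maxRecDepth 100000 in
theorem ch_3_6_9_1_8 : enum 11 ck11 3 5 8492592 843 6 8 = true := by
  decide +kernel

set_option maxRecDepth 100000 in
theorem ch_3_6_9_1_10 : enum 11 ck11 3 5 10589744 1611 6 10 = true := by
  decide +kernel

theorem ch_3_6_9_1 : enum 11 ck11 3 6 103984 587 5 1 = true := by
  refine enum_intro 11 ck11 3 5 103984 587 5 1 ?_
  intro v hv hb hd
  interval_cases v
  · exact absurd hb (by decide)
  · exact absurd hb (by decide)
  · exact absurd hd (by decide)
  · exact absurd hb (by decide)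
  · exact ch_3_6_9_1_4
  · exact ch_3_6_9_1_5
  · exact absurd hb (by decide)
  · exact ch_3_6_9_1_7
  · exact ch_3_6_9_1_8
  · exact absurd hb (by decide)
  · exact ch_3_6_9_1_10

set_option maxRecDepth 100000 in
theorem ch_3_6_9_2_1 : enum 11 ck11 3 5 1218096 591 6 1 = true := by
  decide +kernel

set_option maxRecDepth 100000 in
theorem ch_3_6_9_2_5 : enum 11 ck11 3 5 5412400 621 6 5 = true := by
  decide +kernel

set_option maxRecDepth 100000 in
theorem ch_3_6_9_2_7 : enum 11 ck11 3 5 7509552 717 6 7 = true := by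
  decide +kernel

set_option maxRecDepth 100000 in
theorem ch_3_6_9_2_8 : enum 11 ck11 3 5 8558128 845 6 8 = true := by
  decide +kernel

set_option maxRecDepth 100000 in
theorem ch_3_6_9_2_10 : enum 11 ck11 3 5 10655280 1613 6 10 = true := by
  decide +kernel

theorem ch_3_6_9_2 : enum 11 ck11 3 6 169520 589 5 2 = true := by
  refine enum_intro 11 ck11 3 5 169520 589 5 2 ?_
  intro v hv hb hd
  interval_cases v
  · exact absurd hb (by decide)
  · exact ch_3_6_9_2_1
  · exact absurd hb (by decide)
  · exact absurd hb (by decide)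
  · exact absurd hd (by decide)
  · exact ch_3_6_9_2_5
  · exact absurd hb (by decide)
  · exact ch_3_6_9_2_7
  · exact ch_3_6_9_2_8
  · exact absurd hb (by decide)
  · exact ch_3_6_9_2_10

set_option maxRecDepth 100000 in
theorem ch_3_6_9_4_1 : enum 11 ck11 3 5 1349168 603 6 1 = true := by
  decide +kernel

set_option maxRecDepth 100000 in
theorem ch_3_6_9_4_2 : enum 11 ck11 3 5 2397744 605 6 2 = true := by
  decide +kernel

set_option maxRecDepth 100000 in
theorem ch_3_6_9_4_7 : enum 11 ck11 3 5 7640624 729 6 7 = true := by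
  decide +kernel

set_option maxRecDepth 100000 in
theorem ch_3_6_9_4_8 : enum 11 ck11 3 5 8689200 857 6 8 = true := by
  decide +kernel

set_option maxRecDepth 100000 in
theorem ch_3_6_9_4_10 : enum 11 ck11 3 5 10786352 1625 6 10 = true := by
  decide +kernel

theorem ch_3_6_9_4 : enum 11 ck11 3 6 300592 601 5 4 = true := by
  refine enum_intro 11 ck11 3 5 300592 601 5 4 ?_
  intro v hv hb hd
  interval_cases v
  · exact absurd hb (by decide)
  · exact ch_3_6_9_4_1
  · exact ch_3_6_9_4_2
  · exact absurd hb (by decide)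
  · exact absurd hb (by decide)
  · exact absurd hd (by decide)
  · exact absurd hb (by decide)
  · exact ch_3_6_9_4_7
  · exact ch_3_6_9_4_8
  · exact absurd hb (by decide)
  · exact ch_3_6_9_4_10

set_option maxRecDepth 100000 in
theorem ch_3_6_9_5_1 : enum 11 ck11 3 5 1414704 619 6 1 = true := by
  decide +kernel

set_option maxRecDepth 100000 in
theorem ch_3_6_9_5_2 : enum 11 ck11 3 5 2463280 621 6 2 = true := by
  decide +kernel

set_option maxRecDepth 100000 in
theorem ch_3_6_9_5_4 : enum 11 ck11 3 5 4560432 633 6 4 = true := by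
  decide +kernel

set_option maxRecDepth 100000 in
theorem ch_3_6_9_5_8 : enum 11 ck11 3 5 8754736 873 6 8 = true := by
  decide +kernel

set_option maxRecDepth 100000 in
theorem ch_3_6_9_5_10 : enum 11 ck11 3 5 10851888 1641 6 10 = true := by
  decide +kernel

theorem ch_3_6_9_5 : enum 11 ck11 3 6 366128 617 5 5 = true := by
  refine enum_intro 11 ck11 3 5 366128 617 5 5 ?_
  intro v hv hb hd
  interval_cases v
  · exact absurd hb (by decide)
  · exact ch_3_6_9_5_1
  · exact ch_3_6_9_5_2
  · exact absurd hb (by decide)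
  · exact ch_3_6_9_5_4
  · exact absurd hb (by decide)
  · exact absurd hb (by decide)
  · exact absurd hd (by decide)
  · exact ch_3_6_9_5_8
  · exact absurd hb (by decide)
  · exact ch_3_6_9_5_10

set_option maxRecDepth 100000 in
theorem ch_3_6_9_7_1 : enum 11 ck11 3 5 1545776 715 6 1 = true := by
  decide +kernel

set_option maxRecDepth 100000 in
theorem ch_3_6_9_7_2 : enum 11 ck11 3 5 2594352 717 6 2 = true := by
  decide +kernel

set_option maxRecDepth 100000 in
theorem ch_3_6_9_7_4 : enum 11 ck11 3 5 4691504 729 6 4 = true := by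
  decide +kernel

set_option maxRecDepth 100000 in
theorem ch_3_6_9_7_5 : enum 11 ck11 3 5 5740080 745 6 5 = true := by
  decide +kernel

set_option maxRecDepth 100000 in
theorem ch_3_6_9_7_10 : enum 11 ck11 3 5 10982960 1737 6 10 = true := by
  decide +kernel

theorem ch_3_6_9_7 : enum 11 ck11 3 6 497200 713 5 7 = true := by
  refine enum_intro 11 ck11 3 5 497200 713 5 7 ?_
  intro v hv hb hd
  interval_cases v
  · exact absurd hb (by decide)
  · exact ch_3_6_9_7_1
  · exact ch_3_6_9_7_2
  · exact absurd hb (by decide)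
  · exact ch_3_6_9_7_4
  · exact ch_3_6_9_7_5
  · exact absurd hb (by decide)
  · exact absurd hb (by decide)
  · exact absurd hd (by decide)
  · exact absurd hb (by decide)
  · exact ch_3_6_9_7_10

set_option maxRecDepth 100000 in
theorem ch_3_6_9_8_1 : enum 11 ck11 3 5 1611312 843 6 1 = true := by
  decide +kernel

set_option maxRecDepth 100000 in
theorem ch_3_6_9_8_2 : enum 11 ck11 3 5 2659888 845 6 2 = true := by
  decide +kernel

set_option maxRecDepth 100000 in
theorem ch_3_6_9_8_4 : enum 11 ck11 3 5 4757040 857 6 4 = true := by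
  decide +kernel

set_option maxRecDepth 100000 in
theorem ch_3_6_9_8_5 : enum 11 ck11 3 5 5805616 873 6 5 = true := by
  decide +kernel

set_option maxRecDepth 100000 in
theorem ch_3_6_9_8_7 : enum 11 ck11 3 5 7902768 969 6 7 = true := by
  decide +kernel

theorem ch_3_6_9_8 : enum 11 ck11 3 6 562736 841 5 8 = true := by
  refine enum_intro 11 ck11 3 5 562736 841 5 8 ?_
  intro v hv hb hd
  interval_cases v
  · exact absurd hb (by decide)
  · exact ch_3_6_9_8_1
  · exact ch_3_6_9_8_2
  · exact absurd hb (by decide)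
  · exact ch_3_6_9_8_4
  · exact ch_3_6_9_8_5
  · exact absurd hb (by decide)
  · exact ch_3_6_9_8_7
  · exact absurd hb (by decide)
  · exact absurd hb (by decide)
  · exact absurd hd (by decide)

theorem ch_3_6_9 : enum 11 ck11 3 7 38448 585 4 9 = true := by
  refine enum_intro 11 ck11 3 6 38448 585 4 9 ?_
  intro v hv hb hd
  interval_cases v
  · exact absurd hb (by decide)
  · exact ch_3_6_9_1
  · exact ch_3_6_9_2
  · exact absurd hb (by decide)
  · exact ch_3_6_9_4
  · exact ch_3_6_9_5
  · exact absurd hb (by decide)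
  · exact ch_3_6_9_7
  · exact ch_3_6_9_8
  · exact absurd hb (by decide)
  · exact absurd hd (by decide)

set_option maxRecDepth 100000 in
theorem ch_3_6_10_2_1 : enum 11 ck11 3 5 1222192 1103 6 1 = true := by
  decide +kernel

set_option maxRecDepth 100000 in
theorem ch_3_6_10_2_5 : enum 11 ck11 3 5 5416496 1133 6 5 = true := by
  decide +kernel

set_option maxRecDepth 100000 in
theorem ch_3_6_10_2_7 : enum 11 ck11 3 5 7513648 1229 6 7 = true := by
  decide +kernel

set_option maxRecDepth 100000 in
theorem ch_3_6_10_2_8 : enum 11 ck11 3 5 8562224 1357 6 8 = true := by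
  decide +kernel

set_option maxRecDepth 100000 in
theorem ch_3_6_10_2_9 : enum 11 ck11 3 5 9610800 1613 6 9 = true := by
  decide +kernel

theorem ch_3_6_10_2 : enum 11 ck11 3 6 173616 1101 5 2 = true := by
  refine enum_intro 11 ck11 3 5 173616 1101 5 2 ?_
  intro v hv hb hd
  interval_cases v
  · exact absurd hb (by decide)
  · exact ch_3_6_10_2_1
  · exact absurd hb (by decide)
  · exact absurd hb (by decide)
  · exact absurd hd (by decide)
  · exact ch_3_6_10_2_5
  · exact absurd hb (by decide)
  · exact ch_3_6_10_2_7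
  · exact ch_3_6_10_2_8
  · exact ch_3_6_10_2_9
  · exact absurd hb (by decide)

set_option maxRecDepth 100000 in
theorem ch_3_6_10_4_1 : enum 11 ck11 3 5 1353264 1115 6 1 = true := by
  decide +kernel

set_option maxRecDepth 100000 in
theorem ch_3_6_10_4_2 : enum 11 ck11 3 5 2401840 1117 6 2 = true := by
  decide +kernel

set_option maxRecDepth 100000 in
theorem ch_3_6_10_4_7 : enum 11 ck11 3 5 7644720 1241 6 7 = true := by
  decide +kernel

set_option maxRecDepth 100000 in
theorem ch_3_6_10_4_8 : enum 11 ck11 3 5 8693296 1369 6 8 = true := by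
  decide +kernel

set_option maxRecDepth 100000 in
theorem ch_3_6_10_4_9 : enum 11 ck11 3 5 9741872 1625 6 9 = true := by
  decide +kernel

theorem ch_3_6_10_4 : enum 11 ck11 3 6 304688 1113 5 4 = true := by
  refine enum_intro 11 ck11 3 5 304688 1113 5 4 ?_
  intro v hv hb hd
  interval_cases v
  · exact absurd hb (by decide)
  · exact ch_3_6_10_4_1
  · exact ch_3_6_10_4_2
  · exact absurd hb (by decide)
  · exact absurd hb (by decide)
  · exact absurd hd (by decide)
  · exact absurd hb (by decide)
  · exact ch_3_6_10_4_7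
  · exact ch_3_6_10_4_8
  · exact ch_3_6_10_4_9
  · exact absurd hb (by decide)

set_option maxRecDepth 100000 in
theorem ch_3_6_10_5_1 : enum 11 ck11 3 5 1418800 1131 6 1 = true := by
  decide +kernel

set_option maxRecDepth 100000 in
theorem ch_3_6_10_5_2 : enum 11 ck11 3 5 2467376 1133 6 2 = true := by
  decide +kernel

set_option maxRecDepth 100000 in
theorem ch_3_6_10_5_4 : enum 11 ck11 3 5 4564528 1145 6 4 = true := by
  decide +kernel

set_option maxRecDepth 100000 in
theorem ch_3_6_10_5_8 : enum 11 ck11 3 5 8758832 1385 6 8 = true := by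
  decide +kernel

set_option maxRecDepth 100000 in
theorem ch_3_6_10_5_9 : enum 11 ck11 3 5 9807408 1641 6 9 = true := by
  decide +kernel

theorem ch_3_6_10_5 : enum 11 ck11 3 6 370224 1129 5 5 = true := by
  refine enum_intro 11 ck11 3 5 370224 1129 5 5 ?_
  intro v hv hb hd
  interval_cases v
  · exact absurd hb (by decide)
  · exact ch_3_6_10_5_1
  · exact ch_3_6_10_5_2
  · exact absurd hb (by decide)
  · exact ch_3_6_10_5_4
  · exact absurd hb (by decide)
  · exact absurd hb (by decide)
  · exact absurd hd (by decide)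
  · exact ch_3_6_10_5_8
  · exact ch_3_6_10_5_9
  · exact absurd hb (by decide)

set_option maxRecDepth 100000 in
theorem ch_3_6_10_7_1 : enum 11 ck11 3 5 1549872 1227 6 1 = true := by
  decide +kernel

set_option maxRecDepth 100000 in
theorem ch_3_6_10_7_2 : enum 11 ck11 3 5 2598448 1229 6 2 = true := by
  decide +kernel

set_option maxRecDepth 100000 in
theorem ch_3_6_10_7_4 : enum 11 ck11 3 5 4695600 1241 6 4 = true := by
  decide +kernel

set_option maxRecDepth 100000 in
theorem ch_3_6_10_7_5 : enum 11 ck11 3 5 5744176 1257 6 5 = true := by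
  decide +kernel

theorem ch_3_6_10_7 : enum 11 ck11 3 6 501296 1225 5 7 = true := by
  refine enum_intro 11 ck11 3 5 501296 1225 5 7 ?_
  intro v hv hb hd
  interval_cases v
  · exact absurd hb (by decide)
  · exact ch_3_6_10_7_1
  · exact ch_3_6_10_7_2
  · exact absurd hb (by decide)
  · exact ch_3_6_10_7_4
  · exact ch_3_6_10_7_5
  · exact absurd hb (by decide)
  · exact absurd hb (by decide)
  · exact absurd hd (by decide)
  · exact absurd hd (by decide)
  · exact absurd hb (by decide)

set_option maxRecDepth 100000 in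
theorem ch_3_6_10_8_1 : enum 11 ck11 3 5 1615408 1355 6 1 = true := by
  decide +kernel

set_option maxRecDepth 100000 in
theorem ch_3_6_10_8_2 : enum 11 ck11 3 5 2663984 1357 6 2 = true := by
  decide +kernel

set_option maxRecDepth 100000 in
theorem ch_3_6_10_8_4 : enum 11 ck11 3 5 4761136 1369 6 4 = true := by
  decide +kernel

set_option maxRecDepth 100000 in
theorem ch_3_6_10_8_5 : enum 11 ck11 3 5 5809712 1385 6 5 = true := by
  decide +kernel

set_option maxRecDepth 100000 in
theorem ch_3_6_10_8_7 : enum 11 ck11 3 5 7906864 1481 6 7 = true := by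
  decide +kernel

theorem ch_3_6_10_8 : enum 11 ck11 3 6 566832 1353 5 8 = true := by
  refine enum_intro 11 ck11 3 5 566832 1353 5 8 ?_
  intro v hv hb hd
  interval_cases v
  · exact absurd hb (by decide)
  · exact ch_3_6_10_8_1
  · exact ch_3_6_10_8_2
  · exact absurd hb (by decide)
  · exact ch_3_6_10_8_4
  · exact ch_3_6_10_8_5
  · exact absurd hb (by decide)
  · exact ch_3_6_10_8_7
  · exact absurd hb (by decide)
  · exact absurd hd (by decide)
  · exact absurd hb (by decide)

set_option maxRecDepth 100000 in
theorem ch_3_6_10_9_1 : enum 11 ck11 3 5 1680944 1611 6 1 = true := by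
  decide +kernel

set_option maxRecDepth 100000 in
theorem ch_3_6_10_9_2 : enum 11 ck11 3 5 2729520 1613 6 2 = true := by
  decide +kernel

set_option maxRecDepth 100000 in
theorem ch_3_6_10_9_4 : enum 11 ck11 3 5 4826672 1625 6 4 = true := by
  decide +kernel

set_option maxRecDepth 100000 in
theorem ch_3_6_10_9_5 : enum 11 ck11 3 5 5875248 1641 6 5 = true := by
  decide +kernel

set_option maxRecDepth 100000 in
theorem ch_3_6_10_9_7 : enum 11 ck11 3 5 7972400 1737 6 7 = true := by
  decide +kernel

set_option maxRecDepth 100000 in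
theorem ch_3_6_10_9_8 : enum 11 ck11 3 5 9020976 1865 6 8 = true := by
  decide +kernel

theorem ch_3_6_10_9 : enum 11 ck11 3 6 632368 1609 5 9 = true := by
  refine enum_intro 11 ck11 3 5 632368 1609 5 9 ?_
  intro v hv hb hd
  interval_cases v
  · exact absurd hb (by decide)
  · exact ch_3_6_10_9_1
  · exact ch_3_6_10_9_2
  · exact absurd hb (by decide)
  · exact ch_3_6_10_9_4
  · exact ch_3_6_10_9_5
  · exact absurd hb (by decide)
  · exact ch_3_6_10_9_7
  · exact ch_3_6_10_9_8
  · exact absurd hb (by decide)
  · exact absurd hb (by decide)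

theorem ch_3_6_10 : enum 11 ck11 3 7 42544 1097 4 10 = true := by
  refine enum_intro 11 ck11 3 6 42544 1097 4 10 ?_
  intro v hv hb hd
  interval_cases v
  · exact absurd hb (by decide)
  · exact absurd hd (by decide)
  · exact ch_3_6_10_2
  · exact absurd hb (by decide)
  · exact ch_3_6_10_4
  · exact ch_3_6_10_5
  · exact absurd hb (by decide)
  · exact ch_3_6_10_7
  · exact ch_3_6_10_8
  · exact ch_3_6_10_9
  · exact absurd hb (by decide)

theorem ch_3_6 : enum 11 ck11 3 8 1584 73 3 6 = true := by
  refine enum_intro 11 ck11 3 7 1584 73 3 6 ?_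
  intro v hv hb hd
  interval_cases v
  · exact absurd hb (by decide)
  · exact ch_3_6_1
  · exact ch_3_6_2
  · exact absurd hb (by decide)
  · exact ch_3_6_4
  · exact ch_3_6_5
  · exact absurd hb (by decide)
  · exact absurd hd (by decide)
  · exact absurd hd (by decide)
  · exact ch_3_6_9
  · exact ch_3_6_10

set_option maxRecDepth 100000 in
theorem ch_3_7_1_4_2 : enum 11 ck11 3 5 2365232 159 6 2 = true := by
  decide +kernel

set_option maxRecDepth 100000 in
theorem ch_3_7_1_4_8 : enum 11 ck11 3 5 8656688 411 6 8 = true := by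
  decide +kernel

set_option maxRecDepth 100000 in
theorem ch_3_7_1_4_9 : enum 11 ck11 3 5 9705264 667 6 9 = true := by
  decide +kernel

set_option maxRecDepth 100000 in
theorem ch_3_7_1_4_10 : enum 11 ck11 3 5 10753840 1179 6 10 = true := by
  decide +kernel

theorem ch_3_7_1_4 : enum 11 ck11 3 6 268080 155 5 4 = true := by
  refine enum_intro 11 ck11 3 5 268080 155 5 4 ?_
  intro v hv hb hd
  interval_cases v
  · exact absurd hb (by decide)
  · exact absurd hb (by decide)
  · exact ch_3_7_1_4_2
  · exact absurd hb (by decide)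
  · exact absurd hb (by decide)
  · exact absurd hd (by decide)
  · exact absurd hd (by decide)
  · exact absurd hb (by decide)
  · exact ch_3_7_1_4_8
  · exact ch_3_7_1_4_9
  · exact ch_3_7_1_4_10

set_option maxRecDepth 100000 in
theorem ch_3_7_1_5_2 : enum 11 ck11 3 5 2430768 175 6 2 = true := by
  decide +kernel

set_option maxRecDepth 100000 in
theorem ch_3_7_1_5_4 : enum 11 ck11 3 5 4527920 187 6 4 = true := by
  decide +kernel

set_option maxRecDepth 100000 in
theorem ch_3_7_1_5_8 : enum 11 ck11 3 5 8722224 427 6 8 = true := by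
  decide +kernel

set_option maxRecDepth 100000 in
theorem ch_3_7_1_5_9 : enum 11 ck11 3 5 9770800 683 6 9 = true := by
  decide +kernel

set_option maxRecDepth 100000 in
theorem ch_3_7_1_5_10 : enum 11 ck11 3 5 10819376 1195 6 10 = true := by
  decide +kernel

theorem ch_3_7_1_5 : enum 11 ck11 3 6 333616 171 5 5 = true := by
  refine enum_intro 11 ck11 3 5 333616 171 5 5 ?_
  intro v hv hb hd
  interval_cases v
  · exact absurd hb (by decide)
  · exact absurd hb (by decide)
  · exact ch_3_7_1_5_2
  · exact absurd hb (by decide)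
  · exact ch_3_7_1_5_4
  · exact absurd hb (by decide)
  · exact absurd hd (by decide)
  · exact absurd hb (by decide)
  · exact ch_3_7_1_5_8
  · exact ch_3_7_1_5_9
  · exact ch_3_7_1_5_10

set_option maxRecDepth 100000 in
theorem ch_3_7_1_6_2 : enum 11 ck11 3 5 2496304 207 6 2 = true := by
  decide +kernel

set_option maxRecDepth 100000 in
theorem ch_3_7_1_6_4 : enum 11 ck11 3 5 4593456 219 6 4 = true := by
  decide +kernel

set_option maxRecDepth 100000 in
theorem ch_3_7_1_6_5 : enum 11 ck11 3 5 5642032 235 6 5 = true := by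
  decide +kernel

set_option maxRecDepth 100000 in
theorem ch_3_7_1_6_9 : enum 11 ck11 3 5 9836336 715 6 9 = true := by
  decide +kernel

set_option maxRecDepth 100000 in
theorem ch_3_7_1_6_10 : enum 11 ck11 3 5 10884912 1227 6 10 = true := by
  decide +kernel

theorem ch_3_7_1_6 : enum 11 ck11 3 6 399152 203 5 6 = true := by
  refine enum_intro 11 ck11 3 5 399152 203 5 6 ?_
  intro v hv hb hd
  interval_cases v
  · exact absurd hb (by decide)
  · exact absurd hb (by decide)
  · exact ch_3_7_1_6_2
  · exact absurd hb (by decide)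
  · exact ch_3_7_1_6_4
  · exact ch_3_7_1_6_5
  · exact absurd hb (by decide)
  · exact absurd hb (by decide)
  · exact absurd hd (by decide)
  · exact ch_3_7_1_6_9
  · exact ch_3_7_1_6_10

set_option maxRecDepth 100000 in
theorem ch_3_7_1_8_2 : enum 11 ck11 3 5 2627376 399 6 2 = true := by
  decide +kernel

set_option maxRecDepth 100000 in
theorem ch_3_7_1_8_4 : enum 11 ck11 3 5 4724528 411 6 4 = true := by
  decide +kernel

set_option maxRecDepth 100000 in
theorem ch_3_7_1_8_5 : enum 11 ck11 3 5 5773104 427 6 5 = true := by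
  decide +kernel

set_option maxRecDepth 100000 in
theorem ch_3_7_1_8_6 : enum 11 ck11 3 5 6821680 459 6 6 = true := by
  decide +kernel

theorem ch_3_7_1_8 : enum 11 ck11 3 6 530224 395 5 8 = true := by
  refine enum_intro 11 ck11 3 5 530224 395 5 8 ?_
  intro v hv hb hd
  interval_cases v
  · exact absurd hb (by decide)
  · exact absurd hb (by decide)
  · exact ch_3_7_1_8_2
  · exact absurd hb (by decide)
  · exact ch_3_7_1_8_4
  · exact ch_3_7_1_8_5
  · exact ch_3_7_1_8_6
  · exact absurd hb (by decide)
  · exact absurd hb (by decide)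
  · exact absurd hd (by decide)
  · exact absurd hd (by decide)

set_option maxRecDepth 100000 in
theorem ch_3_7_1_9_2 : enum 11 ck11 3 5 2692912 655 6 2 = true := by
  decide +kernel

set_option maxRecDepth 100000 in
theorem ch_3_7_1_9_4 : enum 11 ck11 3 5 4790064 667 6 4 = true := by
  decide +kernel

set_option maxRecDepth 100000 in
theorem ch_3_7_1_9_5 : enum 11 ck11 3 5 5838640 683 6 5 = true := by
  decide +kernel

set_option maxRecDepth 100000 in
theorem ch_3_7_1_9_6 : enum 11 ck11 3 5 6887216 715 6 6 = true := by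
  decide +kernel

set_option maxRecDepth 100000 in
theorem ch_3_7_1_9_8 : enum 11 ck11 3 5 8984368 907 6 8 = true := by
  decide +kernel

theorem ch_3_7_1_9 : enum 11 ck11 3 6 595760 651 5 9 = true := by
  refine enum_intro 11 ck11 3 5 595760 651 5 9 ?_
  intro v hv hb hd
  interval_cases v
  · exact absurd hb (by decide)
  · exact absurd hb (by decide)
  · exact ch_3_7_1_9_2
  · exact absurd hb (by decide)
  · exact ch_3_7_1_9_4
  · exact ch_3_7_1_9_5
  · exact ch_3_7_1_9_6
  · exact absurd hb (by decide)
  · exact ch_3_7_1_9_8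
  · exact absurd hb (by decide)
  · exact absurd hd (by decide)

set_option maxRecDepth 100000 in
theorem ch_3_7_1_10_2 : enum 11 ck11 3 5 2758448 1167 6 2 = true := by
  decide +kernel

set_option maxRecDepth 100000 in
theorem ch_3_7_1_10_4 : enum 11 ck11 3 5 4855600 1179 6 4 = true := by
  decide +kernel

set_option maxRecDepth 100000 in
theorem ch_3_7_1_10_5 : enum 11 ck11 3 5 5904176 1195 6 5 = true := by
  decide +kernel

set_option maxRecDepth 100000 in
theorem ch_3_7_1_10_6 : enum 11 ck11 3 5 6952752 1227 6 6 = true := by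
  decide +kernel

set_option maxRecDepth 100000 in
theorem ch_3_7_1_10_8 : enum 11 ck11 3 5 9049904 1419 6 8 = true := by
  decide +kernel

set_option maxRecDepth 100000 in
theorem ch_3_7_1_10_9 : enum 11 ck11 3 5 10098480 1675 6 9 = true := by
  decide +kernel

theorem ch_3_7_1_10 : enum 11 ck11 3 6 661296 1163 5 10 = true := by
  refine enum_intro 11 ck11 3 5 661296 1163 5 10 ?_
  intro v hv hb hd
  interval_cases v
  · exact absurd hb (by decide)
  · exact absurd hb (by decide)
  · exact ch_3_7_1_10_2
  · exact absurd hb (by decide)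
  · exact ch_3_7_1_10_4
  · exact ch_3_7_1_10_5
  · exact ch_3_7_1_10_6
  · exact absurd hb (by decide)
  · exact ch_3_7_1_10_8
  · exact ch_3_7_1_10_9
  · exact absurd hb (by decide)

theorem ch_3_7_1 : enum 11 ck11 3 7 5936 139 4 1 = true := by
  refine enum_intro 11 ck11 3 6 5936 139 4 1 ?_
  intro v hv hb hd
  interval_cases v
  · exact absurd hb (by decide)
  · exact absurd hb (by decide)
  · exact absurd hd (by decide)
  · exact absurd hb (by decide)
  · exact ch_3_7_1_4
  · exact ch_3_7_1_5
  · exact ch_3_7_1_6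
  · exact absurd hb (by decide)
  · exact ch_3_7_1_8
  · exact ch_3_7_1_9
  · exact ch_3_7_1_10

set_option maxRecDepth 100000 in
theorem ch_3_7_2_1_4 : enum 11 ck11 3 5 4269872 159 6 4 = true := by
  decide +kernel

set_option maxRecDepth 100000 in
theorem ch_3_7_2_1_5 : enum 11 ck11 3 5 5318448 175 6 5 = true := by
  decide +kernel

set_option maxRecDepth 100000 in
theorem ch_3_7_2_1_6 : enum 11 ck11 3 5 6367024 207 6 6 = true := by
  decide +kernel

set_option maxRecDepth 100000 in
theorem ch_3_7_2_1_8 : enum 11 ck11 3 5 8464176 399 6 8 = true := by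
  decide +kernel

set_option maxRecDepth 100000 in
theorem ch_3_7_2_1_9 : enum 11 ck11 3 5 9512752 655 6 9 = true := by
  decide +kernel

set_option maxRecDepth 100000 in
theorem ch_3_7_2_1_10 : enum 11 ck11 3 5 10561328 1167 6 10 = true := by
  decide +kernel

theorem ch_3_7_2_1 : enum 11 ck11 3 6 75568 143 5 1 = true := by
  refine enum_intro 11 ck11 3 5 75568 143 5 1 ?_
  intro v hv hb hd
  interval_cases v
  · exact absurd hb (by decide)
  · exact absurd hb (by decide)
  · exact absurd hb (by decide)
  · exact absurd hb (by decide)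
  · exact ch_3_7_2_1_4
  · exact ch_3_7_2_1_5
  · exact ch_3_7_2_1_6
  · exact absurd hb (by decide)
  · exact ch_3_7_2_1_8
  · exact ch_3_7_2_1_9
  · exact ch_3_7_2_1_10

set_option maxRecDepth 100000 in
theorem ch_3_7_2_5_1 : enum 11 ck11 3 5 1386288 175 6 1 = true := by
  decide +kernel

set_option maxRecDepth 100000 in
theorem ch_3_7_2_5_4 : enum 11 ck11 3 5 4532016 189 6 4 = true := by
  decide +kernel

set_option maxRecDepth 100000 in
theorem ch_3_7_2_5_8 : enum 11 ck11 3 5 8726320 429 6 8 = true := by
  decide +kernel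

set_option maxRecDepth 100000 in
theorem ch_3_7_2_5_9 : enum 11 ck11 3 5 9774896 685 6 9 = true := by
  decide +kernel

set_option maxRecDepth 100000 in
theorem ch_3_7_2_5_10 : enum 11 ck11 3 5 10823472 1197 6 10 = true := by
  decide +kernel

theorem ch_3_7_2_5 : enum 11 ck11 3 6 337712 173 5 5 = true := by
  refine enum_intro 11 ck11 3 5 337712 173 5 5 ?_
  intro v hv hb hd
  interval_cases v
  · exact absurd hb (by decide)
  · exact ch_3_7_2_5_1
  · exact absurd hb (by decide)
  · exact absurd hb (by decide)
  · exact ch_3_7_2_5_4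
  · exact absurd hb (by decide)
  · exact absurd hd (by decide)
  · exact absurd hb (by decide)
  · exact ch_3_7_2_5_8
  · exact ch_3_7_2_5_9
  · exact ch_3_7_2_5_10

set_option maxRecDepth 100000 in
theorem ch_3_7_2_6_1 : enum 11 ck11 3 5 1451824 207 6 1 = true := by
  decide +kernel

set_option maxRecDepth 100000 in
theorem ch_3_7_2_6_4 : enum 11 ck11 3 5 4597552 221 6 4 = true := by
  decide +kernel

set_option maxRecDepth 100000 in
theorem ch_3_7_2_6_5 : enum 11 ck11 3 5 5646128 237 6 5 = true := by
  decide +kernel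

set_option maxRecDepth 100000 in
theorem ch_3_7_2_6_9 : enum 11 ck11 3 5 9840432 717 6 9 = true := by
  decide +kernel

set_option maxRecDepth 100000 in
theorem ch_3_7_2_6_10 : enum 11 ck11 3 5 10889008 1229 6 10 = true := by
  decide +kernel

theorem ch_3_7_2_6 : enum 11 ck11 3 6 403248 205 5 6 = true := by
  refine enum_intro 11 ck11 3 5 403248 205 5 6 ?_
  intro v hv hb hd
  interval_cases v
  · exact absurd hb (by decide)
  · exact ch_3_7_2_6_1
  · exact absurd hb (by decide)
  · exact absurd hb (by decide)
  · exact ch_3_7_2_6_4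
  · exact ch_3_7_2_6_5
  · exact absurd hb (by decide)
  · exact absurd hb (by decide)
  · exact absurd hd (by decide)
  · exact ch_3_7_2_6_9
  · exact ch_3_7_2_6_10

set_option maxRecDepth 100000 in
theorem ch_3_7_2_8_1 : enum 11 ck11 3 5 1582896 399 6 1 = true := by
  decide +kernel

set_option maxRecDepth 100000 in
theorem ch_3_7_2_8_4 : enum 11 ck11 3 5 4728624 413 6 4 = true := by
  decide +kernel

set_option maxRecDepth 100000 in
theorem ch_3_7_2_8_5 : enum 11 ck11 3 5 5777200 429 6 5 = true := by
  decide +kernel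

set_option maxRecDepth 100000 in
theorem ch_3_7_2_8_6 : enum 11 ck11 3 5 6825776 461 6 6 = true := by
  decide +kernel

theorem ch_3_7_2_8 : enum 11 ck11 3 6 534320 397 5 8 = true := by
  refine enum_intro 11 ck11 3 5 534320 397 5 8 ?_
  intro v hv hb hd
  interval_cases v
  · exact absurd hb (by decide)
  · exact ch_3_7_2_8_1
  · exact absurd hb (by decide)
  · exact absurd hb (by decide)
  · exact ch_3_7_2_8_4
  · exact ch_3_7_2_8_5
  · exact ch_3_7_2_8_6
  · exact absurd hb (by decide)
  · exact absurd hb (by decide)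
  · exact absurd hd (by decide)
  · exact absurd hd (by decide)

set_option maxRecDepth 100000 in
theorem ch_3_7_2_9_1 : enum 11 ck11 3 5 1648432 655 6 1 = true := by
  decide +kernel

set_option maxRecDepth 100000 in
theorem ch_3_7_2_9_4 : enum 11 ck11 3 5 4794160 669 6 4 = true := by
  decide +kernel

set_option maxRecDepth 100000 in
theorem ch_3_7_2_9_5 : enum 11 ck11 3 5 5842736 685 6 5 = true := by
  decide +kernel

set_option maxRecDepth 100000 in
theorem ch_3_7_2_9_6 : enum 11 ck11 3 5 6891312 717 6 6 = true := by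
  decide +kernel

set_option maxRecDepth 100000 in
theorem ch_3_7_2_9_8 : enum 11 ck11 3 5 8988464 909 6 8 = true := by
  decide +kernel

theorem ch_3_7_2_9 : enum 11 ck11 3 6 599856 653 5 9 = true := by
  refine enum_intro 11 ck11 3 5 599856 653 5 9 ?_
  intro v hv hb hd
  interval_cases v
  · exact absurd hb (by decide)
  · exact ch_3_7_2_9_1
  · exact absurd hb (by decide)
  · exact absurd hb (by decide)
  · exact ch_3_7_2_9_4
  · exact ch_3_7_2_9_5
  · exact ch_3_7_2_9_6
  · exact absurd hb (by decide)
  · exact ch_3_7_2_9_8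
  · exact absurd hb (by decide)
  · exact absurd hd (by decide)

set_option maxRecDepth 100000 in
theorem ch_3_7_2_10_4 : enum 11 ck11 3 5 4859696 1181 6 4 = true := by
  decide +kernel

set_option maxRecDepth 100000 in
theorem ch_3_7_2_10_5 : enum 11 ck11 3 5 5908272 1197 6 5 = true := by
  decide +kernel

set_option maxRecDepth 100000 in
theorem ch_3_7_2_10_6 : enum 11 ck11 3 5 6956848 1229 6 6 = true := by
  decide +kernel

set_option maxRecDepth 100000 in
theorem ch_3_7_2_10_8 : enum 11 ck11 3 5 9054000 1421 6 8 = true := by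
  decide +kernel

set_option maxRecDepth 100000 in
theorem ch_3_7_2_10_9 : enum 11 ck11 3 5 10102576 1677 6 9 = true := by
  decide +kernel

theorem ch_3_7_2_10 : enum 11 ck11 3 6 665392 1165 5 10 = true := by
  refine enum_intro 11 ck11 3 5 665392 1165 5 10 ?_
  intro v hv hb hd
  interval_cases v
  · exact absurd hb (by decide)
  · exact absurd hd (by decide)
  · exact absurd hb (by decide)
  · exact absurd hb (by decide)
  · exact ch_3_7_2_10_4
  · exact ch_3_7_2_10_5
  · exact ch_3_7_2_10_6
  · exact absurd hb (by decide)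
  · exact ch_3_7_2_10_8
  · exact ch_3_7_2_10_9
  · exact absurd hb (by decide)

theorem ch_3_7_2 : enum 11 ck11 3 7 10032 141 4 2 = true := by
  refine enum_intro 11 ck11 3 6 10032 141 4 2 ?_
  intro v hv hb hd
  interval_cases v
  · exact absurd hb (by decide)
  · exact ch_3_7_2_1
  · exact absurd hb (by decide)
  · exact absurd hb (by decide)
  · exact absurd hd (by decide)
  · exact ch_3_7_2_5
  · exact ch_3_7_2_6
  · exact absurd hb (by decide)
  · exact ch_3_7_2_8
  · exact ch_3_7_2_9
  · exact ch_3_7_2_10

set_option maxRecDepth 100000 in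
theorem ch_3_7_4_1_5 : enum 11 ck11 3 5 5326640 187 6 5 = true := by
  decide +kernel

set_option maxRecDepth 100000 in
theorem ch_3_7_4_1_6 : enum 11 ck11 3 5 6375216 219 6 6 = true := by
  decide +kernel

set_option maxRecDepth 100000 in
theorem ch_3_7_4_1_8 : enum 11 ck11 3 5 8472368 411 6 8 = true := by
  decide +kernel

set_option maxRecDepth 100000 in
theorem ch_3_7_4_1_9 : enum 11 ck11 3 5 9520944 667 6 9 = true := by
  decide +kernel

set_option maxRecDepth 100000 in
theorem ch_3_7_4_1_10 : enum 11 ck11 3 5 10569520 1179 6 10 = true := by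
  decide +kernel

theorem ch_3_7_4_1 : enum 11 ck11 3 6 83760 155 5 1 = true := by
  refine enum_intro 11 ck11 3 5 83760 155 5 1 ?_
  intro v hv hb hd
  interval_cases v
  · exact absurd hb (by decide)
  · exact absurd hb (by decide)
  · exact absurd hd (by decide)
  · exact absurd hb (by decide)
  · exact absurd hb (by decide)
  · exact ch_3_7_4_1_5
  · exact ch_3_7_4_1_6
  · exact absurd hb (by decide)
  · exact ch_3_7_4_1_8
  · exact ch_3_7_4_1_9
  · exact ch_3_7_4_1_10

set_option maxRecDepth 100000 in
theorem ch_3_7_4_2_1 : enum 11 ck11 3 5 1197872 159 6 1 = true := by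
  decide +kernel

set_option maxRecDepth 100000 in
theorem ch_3_7_4_2_5 : enum 11 ck11 3 5 5392176 189 6 5 = true := by
  decide +kernel

set_option maxRecDepth 100000 in
theorem ch_3_7_4_2_6 : enum 11 ck11 3 5 6440752 221 6 6 = true := by
  decide +kernel

set_option maxRecDepth 100000 in
theorem ch_3_7_4_2_8 : enum 11 ck11 3 5 8537904 413 6 8 = true := by
  decide +kernel

set_option maxRecDepth 100000 in
theorem ch_3_7_4_2_9 : enum 11 ck11 3 5 9586480 669 6 9 = true := by
  decide +kernel

set_option maxRecDepth 100000 in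
theorem ch_3_7_4_2_10 : enum 11 ck11 3 5 10635056 1181 6 10 = true := by
  decide +kernel

theorem ch_3_7_4_2 : enum 11 ck11 3 6 149296 157 5 2 = true := by
  refine enum_intro 11 ck11 3 5 149296 157 5 2 ?_
  intro v hv hb hd
  interval_cases v
  · exact absurd hb (by decide)
  · exact ch_3_7_4_2_1
  · exact absurd hb (by decide)
  · exact absurd hb (by decide)
  · exact absurd hb (by decide)
  · exact ch_3_7_4_2_5
  · exact ch_3_7_4_2_6
  · exact absurd hb (by decide)
  · exact ch_3_7_4_2_8
  · exact ch_3_7_4_2_9
  · exact ch_3_7_4_2_10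

set_option maxRecDepth 100000 in
theorem ch_3_7_4_8_1 : enum 11 ck11 3 5 1591088 411 6 1 = true := by
  decide +kernel

set_option maxRecDepth 100000 in
theorem ch_3_7_4_8_2 : enum 11 ck11 3 5 2639664 413 6 2 = true := by
  decide +kernel

set_option maxRecDepth 100000 in
theorem ch_3_7_4_8_5 : enum 11 ck11 3 5 5785392 441 6 5 = true := by
  decide +kernel

set_option maxRecDepth 100000 in
theorem ch_3_7_4_8_6 : enum 11 ck11 3 5 6833968 473 6 6 = true := by
  decide +kernel

theorem ch_3_7_4_8 : enum 11 ck11 3 6 542512 409 5 8 = true := by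
  refine enum_intro 11 ck11 3 5 542512 409 5 8 ?_
  intro v hv hb hd
  interval_cases v
  · exact absurd hb (by decide)
  · exact ch_3_7_4_8_1
  · exact ch_3_7_4_8_2
  · exact absurd hb (by decide)
  · exact absurd hb (by decide)
  · exact ch_3_7_4_8_5
  · exact ch_3_7_4_8_6
  · exact absurd hb (by decide)
  · exact absurd hb (by decide)
  · exact absurd hd (by decide)
  · exact absurd hd (by decide)

set_option maxRecDepth 100000 in
theorem ch_3_7_4_9_1 : enum 11 ck11 3 5 1656624 667 6 1 = true := by
  decide +kernel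

set_option maxRecDepth 100000 in
theorem ch_3_7_4_9_2 : enum 11 ck11 3 5 2705200 669 6 2 = true := by
  decide +kernel

set_option maxRecDepth 100000 in
theorem ch_3_7_4_9_5 : enum 11 ck11 3 5 5850928 697 6 5 = true := by
  decide +kernel

set_option maxRecDepth 100000 in
theorem ch_3_7_4_9_6 : enum 11 ck11 3 5 6899504 729 6 6 = true := by
  decide +kernel

set_option maxRecDepth 100000 in
theorem ch_3_7_4_9_8 : enum 11 ck11 3 5 8996656 921 6 8 = true := by
  decide +kernel

theorem ch_3_7_4_9 : enum 11 ck11 3 6 608048 665 5 9 = true := by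
  refine enum_intro 11 ck11 3 5 608048 665 5 9 ?_
  intro v hv hb hd
  interval_cases v
  · exact absurd hb (by decide)
  · exact ch_3_7_4_9_1
  · exact ch_3_7_4_9_2
  · exact absurd hb (by decide)
  · exact absurd hb (by decide)
  · exact ch_3_7_4_9_5
  · exact ch_3_7_4_9_6
  · exact absurd hb (by decide)
  · exact ch_3_7_4_9_8
  · exact absurd hb (by decide)
  · exact absurd hd (by decide)

set_option maxRecDepth 100000 in
theorem ch_3_7_4_10_2 : enum 11 ck11 3 5 2770736 1181 6 2 = true := by
  decide +kernel

set_option maxRecDepth 100000 in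
theorem ch_3_7_4_10_5 : enum 11 ck11 3 5 5916464 1209 6 5 = true := by
  decide +kernel

set_option maxRecDepth 100000 in
theorem ch_3_7_4_10_6 : enum 11 ck11 3 5 6965040 1241 6 6 = true := by
  decide +kernel

set_option maxRecDepth 100000 in
theorem ch_3_7_4_10_8 : enum 11 ck11 3 5 9062192 1433 6 8 = true := by
  decide +kernel

set_option maxRecDepth 100000 in
theorem ch_3_7_4_10_9 : enum 11 ck11 3 5 10110768 1689 6 9 = true := by
  decide +kernel

theorem ch_3_7_4_10 : enum 11 ck11 3 6 673584 1177 5 10 = true := by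
  refine enum_intro 11 ck11 3 5 673584 1177 5 10 ?_
  intro v hv hb hd
  interval_cases v
  · exact absurd hb (by decide)
  · exact absurd hd (by decide)
  · exact ch_3_7_4_10_2
  · exact absurd hb (by decide)
  · exact absurd hb (by decide)
  · exact ch_3_7_4_10_5
  · exact ch_3_7_4_10_6
  · exact absurd hb (by decide)
  · exact ch_3_7_4_10_8
  · exact ch_3_7_4_10_9
  · exact absurd hb (by decide)

theorem ch_3_7_4 : enum 11 ck11 3 7 18224 153 4 4 = true := by
  refine enum_intro 11 ck11 3 6 18224 153 4 4 ?_
  intro v hv hb hd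
  interval_cases v
  · exact absurd hb (by decide)
  · exact ch_3_7_4_1
  · exact ch_3_7_4_2
  · exact absurd hb (by decide)
  · exact absurd hb (by decide)
  · exact absurd hd (by decide)
  · exact absurd hd (by decide)
  · exact absurd hb (by decide)
  · exact ch_3_7_4_8
  · exact ch_3_7_4_9
  · exact ch_3_7_4_10

set_option maxRecDepth 100000 in
theorem ch_3_7_5_1_4 : enum 11 ck11 3 5 4282160 187 6 4 = true := by
  decide +kernel

set_option maxRecDepth 100000 in
theorem ch_3_7_5_1_6 : enum 11 ck11 3 5 6379312 235 6 6 = true := by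
  decide +kernel

set_option maxRecDepth 100000 in
theorem ch_3_7_5_1_8 : enum 11 ck11 3 5 8476464 427 6 8 = true := by
  decide +kernel

set_option maxRecDepth 100000 in
theorem ch_3_7_5_1_9 : enum 11 ck11 3 5 9525040 683 6 9 = true := by
  decide +kernel

set_option maxRecDepth 100000 in
theorem ch_3_7_5_1_10 : enum 11 ck11 3 5 10573616 1195 6 10 = true := by
  decide +kernel

theorem ch_3_7_5_1 : enum 11 ck11 3 6 87856 171 5 1 = true := by
  refine enum_intro 11 ck11 3 5 87856 171 5 1 ?_
  intro v hv hb hd
  interval_cases v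
  · exact absurd hb (by decide)
  · exact absurd hb (by decide)
  · exact absurd hd (by decide)
  · exact absurd hb (by decide)
  · exact ch_3_7_5_1_4
  · exact absurd hb (by decide)
  · exact ch_3_7_5_1_6
  · exact absurd hb (by decide)
  · exact ch_3_7_5_1_8
  · exact ch_3_7_5_1_9
  · exact ch_3_7_5_1_10

set_option maxRecDepth 100000 in
theorem ch_3_7_5_2_1 : enum 11 ck11 3 5 1201968 175 6 1 = true := by
  decide +kernel

set_option maxRecDepth 100000 in
theorem ch_3_7_5_2_6 : enum 11 ck11 3 5 6444848 237 6 6 = true := by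
  decide +kernel

set_option maxRecDepth 100000 in
theorem ch_3_7_5_2_8 : enum 11 ck11 3 5 8542000 429 6 8 = true := by
  decide +kernel

set_option maxRecDepth 100000 in
theorem ch_3_7_5_2_9 : enum 11 ck11 3 5 9590576 685 6 9 = true := by
  decide +kernel

set_option maxRecDepth 100000 in
theorem ch_3_7_5_2_10 : enum 11 ck11 3 5 10639152 1197 6 10 = true := by
  decide +kernel

theorem ch_3_7_5_2 : enum 11 ck11 3 6 153392 173 5 2 = true := by
  refine enum_intro 11 ck11 3 5 153392 173 5 2 ?_
  intro v hv hb hd
  interval_cases v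
  · exact absurd hb (by decide)
  · exact ch_3_7_5_2_1
  · exact absurd hb (by decide)
  · exact absurd hb (by decide)
  · exact absurd hd (by decide)
  · exact absurd hb (by decide)
  · exact ch_3_7_5_2_6
  · exact absurd hb (by decide)
  · exact ch_3_7_5_2_8
  · exact ch_3_7_5_2_9
  · exact ch_3_7_5_2_10

set_option maxRecDepth 100000 in
theorem ch_3_7_5_4_1 : enum 11 ck11 3 5 1333040 187 6 1 = true := by
  decide +kernel

set_option maxRecDepth 100000 in
theorem ch_3_7_5_4_2 : enum 11 ck11 3 5 2381616 189 6 2 = true := by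
  decide +kernel

set_option maxRecDepth 100000 in
theorem ch_3_7_5_4_8 : enum 11 ck11 3 5 8673072 441 6 8 = true := by
  decide +kernel

set_option maxRecDepth 100000 in
theorem ch_3_7_5_4_9 : enum 11 ck11 3 5 9721648 697 6 9 = true := by
  decide +kernel

set_option maxRecDepth 100000 in
theorem ch_3_7_5_4_10 : enum 11 ck11 3 5 10770224 1209 6 10 = true := by
  decide +kernel

theorem ch_3_7_5_4 : enum 11 ck11 3 6 284464 185 5 4 = true := by
  refine enum_intro 11 ck11 3 5 284464 185 5 4 ?_
  intro v hv hb hd
  interval_cases v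
  · exact absurd hb (by decide)
  · exact ch_3_7_5_4_1
  · exact ch_3_7_5_4_2
  · exact absurd hb (by decide)
  · exact absurd hb (by decide)
  · exact absurd hb (by decide)
  · exact absurd hd (by decide)
  · exact absurd hb (by decide)
  · exact ch_3_7_5_4_8
  · exact ch_3_7_5_4_9
  · exact ch_3_7_5_4_10

set_option maxRecDepth 100000 in
theorem ch_3_7_5_8_1 : enum 11 ck11 3 5 1595184 427 6 1 = true := by
  decide +kernel

set_option maxRecDepth 100000 in
theorem ch_3_7_5_8_2 : enum 11 ck11 3 5 2643760 429 6 2 = true := by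
  decide +kernel

set_option maxRecDepth 100000 in
theorem ch_3_7_5_8_4 : enum 11 ck11 3 5 4740912 441 6 4 = true := by
  decide +kernel

set_option maxRecDepth 100000 in
theorem ch_3_7_5_8_6 : enum 11 ck11 3 5 6838064 489 6 6 = true := by
  decide +kernel

theorem ch_3_7_5_8 : enum 11 ck11 3 6 546608 425 5 8 = true := by
  refine enum_intro 11 ck11 3 5 546608 425 5 8 ?_
  intro v hv hb hd
  interval_cases v
  · exact absurd hb (by decide)
  · exact ch_3_7_5_8_1
  · exact ch_3_7_5_8_2
  · exact absurd hb (by decide)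
  · exact ch_3_7_5_8_4
  · exact absurd hb (by decide)
  · exact ch_3_7_5_8_6
  · exact absurd hb (by decide)
  · exact absurd hb (by decide)
  · exact absurd hd (by decide)
  · exact absurd hd (by decide)

set_option maxRecDepth 100000 in
theorem ch_3_7_5_9_1 : enum 11 ck11 3 5 1660720 683 6 1 = true := by
  decide +kernel

set_option maxRecDepth 100000 in
theorem ch_3_7_5_9_2 : enum 11 ck11 3 5 2709296 685 6 2 = true := by
  decide +kernel

set_option maxRecDepth 100000 in
theorem ch_3_7_5_9_4 : enum 11 ck11 3 5 4806448 697 6 4 = true := by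
  decide +kernel

set_option maxRecDepth 100000 in
theorem ch_3_7_5_9_6 : enum 11 ck11 3 5 6903600 745 6 6 = true := by
  decide +kernel

set_option maxRecDepth 100000 in
theorem ch_3_7_5_9_8 : enum 11 ck11 3 5 9000752 937 6 8 = true := by
  decide +kernel

theorem ch_3_7_5_9 : enum 11 ck11 3 6 612144 681 5 9 = true := by
  refine enum_intro 11 ck11 3 5 612144 681 5 9 ?_
  intro v hv hb hd
  interval_cases v
  · exact absurd hb (by decide)
  · exact ch_3_7_5_9_1
  · exact ch_3_7_5_9_2
  · exact absurd hb (by decide)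
  · exact ch_3_7_5_9_4
  · exact absurd hb (by decide)
  · exact ch_3_7_5_9_6
  · exact absurd hb (by decide)
  · exact ch_3_7_5_9_8
  · exact absurd hb (by decide)
  · exact absurd hd (by decide)

set_option maxRecDepth 100000 in
theorem ch_3_7_5_10_2 : enum 11 ck11 3 5 2774832 1197 6 2 = true := by
  decide +kernel

set_option maxRecDepth 100000 in
theorem ch_3_7_5_10_4 : enum 11 ck11 3 5 4871984 1209 6 4 = true := by
  decide +kernel

set_option maxRecDepth 100000 in
theorem ch_3_7_5_10_6 : enum 11 ck11 3 5 6969136 1257 6 6 = true := by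
  decide +kernel

set_option maxRecDepth 100000 in
theorem ch_3_7_5_10_8 : enum 11 ck11 3 5 9066288 1449 6 8 = true := by
  decide +kernel

set_option maxRecDepth 100000 in
theorem ch_3_7_5_10_9 : enum 11 ck11 3 5 10114864 1705 6 9 = true := by
  decide +kernel

theorem ch_3_7_5_10 : enum 11 ck11 3 6 677680 1193 5 10 = true := by
  refine enum_intro 11 ck11 3 5 677680 1193 5 10 ?_
  intro v hv hb hd
  interval_cases v
  · exact absurd hb (by decide)
  · exact absurd hd (by decide)
  · exact ch_3_7_5_10_2
  · exact absurd hb (by decide)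
  · exact ch_3_7_5_10_4
  · exact absurd hb (by decide)
  · exact ch_3_7_5_10_6
  · exact absurd hb (by decide)
  · exact ch_3_7_5_10_8
  · exact ch_3_7_5_10_9
  · exact absurd hb (by decide)

theorem ch_3_7_5 : enum 11 ck11 3 7 22320 169 4 5 = true := by
  refine enum_intro 11 ck11 3 6 22320 169 4 5 ?_
  intro v hv hb hd
  interval_cases v
  · exact absurd hb (by decide)
  · exact ch_3_7_5_1
  · exact ch_3_7_5_2
  · exact absurd hb (by decide)
  · exact ch_3_7_5_4
  · exact absurd hb (by decide)
  · exact absurd hd (by decide)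
  · exact absurd hb (by decide)
  · exact ch_3_7_5_8
  · exact ch_3_7_5_9
  · exact ch_3_7_5_10

set_option maxRecDepth 100000 in
theorem ch_3_7_6_1_4 : enum 11 ck11 3 5 4286256 219 6 4 = true := by
  decide +kernel

set_option maxRecDepth 100000 in
theorem ch_3_7_6_1_5 : enum 11 ck11 3 5 5334832 235 6 5 = true := by
  decide +kernel

set_option maxRecDepth 100000 in
theorem ch_3_7_6_1_8 : enum 11 ck11 3 5 8480560 459 6 8 = true := by
  decide +kernel

set_option maxRecDepth 100000 in
theorem ch_3_7_6_1_9 : enum 11 ck11 3 5 9529136 715 6 9 = true := by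
  decide +kernel

set_option maxRecDepth 100000 in
theorem ch_3_7_6_1_10 : enum 11 ck11 3 5 10577712 1227 6 10 = true := by
  decide +kernel

theorem ch_3_7_6_1 : enum 11 ck11 3 6 91952 203 5 1 = true := by
  refine enum_intro 11 ck11 3 5 91952 203 5 1 ?_
  intro v hv hb hd
  interval_cases v
  · exact absurd hb (by decide)
  · exact absurd hb (by decide)
  · exact absurd hd (by decide)
  · exact absurd hb (by decide)
  · exact ch_3_7_6_1_4
  · exact ch_3_7_6_1_5
  · exact absurd hb (by decide)
  · exact absurd hb (by decide)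
  · exact ch_3_7_6_1_8
  · exact ch_3_7_6_1_9
  · exact ch_3_7_6_1_10

set_option maxRecDepth 100000 in
theorem ch_3_7_6_2_1 : enum 11 ck11 3 5 1206064 207 6 1 = true := by
  decide +kernel

set_option maxRecDepth 100000 in
theorem ch_3_7_6_2_5 : enum 11 ck11 3 5 5400368 237 6 5 = true := by
  decide +kernel

set_option maxRecDepth 100000 in
theorem ch_3_7_6_2_8 : enum 11 ck11 3 5 8546096 461 6 8 = true := by
  decide +kernel

set_option maxRecDepth 100000 in
theorem ch_3_7_6_2_9 : enum 11 ck11 3 5 9594672 717 6 9 = true := by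
  decide +kernel

set_option maxRecDepth 100000 in
theorem ch_3_7_6_2_10 : enum 11 ck11 3 5 10643248 1229 6 10 = true := by
  decide +kernel

theorem ch_3_7_6_2 : enum 11 ck11 3 6 157488 205 5 2 = true := by
  refine enum_intro 11 ck11 3 5 157488 205 5 2 ?_
  intro v hv hb hd
  interval_cases v
  · exact absurd hb (by decide)
  · exact ch_3_7_6_2_1
  · exact absurd hb (by decide)
  · exact absurd hb (by decide)
  · exact absurd hd (by decide)
  · exact ch_3_7_6_2_5
  · exact absurd hb (by decide)
  · exact absurd hb (by decide)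
  · exact ch_3_7_6_2_8
  · exact ch_3_7_6_2_9
  · exact ch_3_7_6_2_10

set_option maxRecDepth 100000 in
theorem ch_3_7_6_4_1 : enum 11 ck11 3 5 1337136 219 6 1 = true := by
  decide +kernel

set_option maxRecDepth 100000 in
theorem ch_3_7_6_4_2 : enum 11 ck11 3 5 2385712 221 6 2 = true := by
  decide +kernel

set_option maxRecDepth 100000 in
theorem ch_3_7_6_4_8 : enum 11 ck11 3 5 8677168 473 6 8 = true := by
  decide +kernel

set_option maxRecDepth 100000 in
theorem ch_3_7_6_4_9 : enum 11 ck11 3 5 9725744 729 6 9 = true := by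
  decide +kernel

set_option maxRecDepth 100000 in
theorem ch_3_7_6_4_10 : enum 11 ck11 3 5 10774320 1241 6 10 = true := by
  decide +kernel

theorem ch_3_7_6_4 : enum 11 ck11 3 6 288560 217 5 4 = true := by
  refine enum_intro 11 ck11 3 5 288560 217 5 4 ?_
  intro v hv hb hd
  interval_cases v
  · exact absurd hb (by decide)
  · exact ch_3_7_6_4_1
  · exact ch_3_7_6_4_2
  · exact absurd hb (by decide)
  · exact absurd hb (by decide)
  · exact absurd hd (by decide)
  · exact absurd hb (by decide)
  · exact absurd hb (by decide)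
  · exact ch_3_7_6_4_8
  · exact ch_3_7_6_4_9
  · exact ch_3_7_6_4_10

set_option maxRecDepth 100000 in
theorem ch_3_7_6_5_1 : enum 11 ck11 3 5 1402672 235 6 1 = true := by
  decide +kernel

set_option maxRecDepth 100000 in
theorem ch_3_7_6_5_2 : enum 11 ck11 3 5 2451248 237 6 2 = true := by
  decide +kernel

set_option maxRecDepth 100000 in
theorem ch_3_7_6_5_4 : enum 11 ck11 3 5 4548400 249 6 4 = true := by
  decide +kernel

set_option maxRecDepth 100000 in
theorem ch_3_7_6_5_8 : enum 11 ck11 3 5 8742704 489 6 8 = true := by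
  decide +kernel

set_option maxRecDepth 100000 in
theorem ch_3_7_6_5_9 : enum 11 ck11 3 5 9791280 745 6 9 = true := by
  decide +kernel

set_option maxRecDepth 100000 in
theorem ch_3_7_6_5_10 : enum 11 ck11 3 5 10839856 1257 6 10 = true := by
  decide +kernel

theorem ch_3_7_6_5 : enum 11 ck11 3 6 354096 233 5 5 = true := by
  refine enum_intro 11 ck11 3 5 354096 233 5 5 ?_
  intro v hv hb hd
  interval_cases v
  · exact absurd hb (by decide)
  · exact ch_3_7_6_5_1
  · exact ch_3_7_6_5_2
  · exact absurd hb (by decide)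
  · exact ch_3_7_6_5_4
  · exact absurd hb (by decide)
  · exact absurd hb (by decide)
  · exact absurd hb (by decide)
  · exact ch_3_7_6_5_8
  · exact ch_3_7_6_5_9
  · exact ch_3_7_6_5_10

set_option maxRecDepth 100000 in
theorem ch_3_7_6_9_1 : enum 11 ck11 3 5 1664816 715 6 1 = true := by
  decide +kernel

set_option maxRecDepth 100000 in
theorem ch_3_7_6_9_2 : enum 11 ck11 3 5 2713392 717 6 2 = true := by
  decide +kernel

set_option maxRecDepth 100000 in
theorem ch_3_7_6_9_4 : enum 11 ck11 3 5 4810544 729 6 4 = true := by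
  decide +kernel

set_option maxRecDepth 100000 in
theorem ch_3_7_6_9_5 : enum 11 ck11 3 5 5859120 745 6 5 = true := by
  decide +kernel

set_option maxRecDepth 100000 in
theorem ch_3_7_6_9_8 : enum 11 ck11 3 5 9004848 969 6 8 = true := by
  decide +kernel

theorem ch_3_7_6_9 : enum 11 ck11 3 6 616240 713 5 9 = true := by
  refine enum_intro 11 ck11 3 5 616240 713 5 9 ?_
  intro v hv hb hd
  interval_cases v
  · exact absurd hb (by decide)
  · exact ch_3_7_6_9_1
  · exact ch_3_7_6_9_2
  · exact absurd hb (by decide)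
  · exact ch_3_7_6_9_4
  · exact ch_3_7_6_9_5
  · exact absurd hb (by decide)
  · exact absurd hb (by decide)
  · exact ch_3_7_6_9_8
  · exact absurd hb (by decide)
  · exact absurd hd (by decide)

set_option maxRecDepth 100000 in
theorem ch_3_7_6_10_2 : enum 11 ck11 3 5 2778928 1229 6 2 = true := by
  decide +kernel

set_option maxRecDepth 100000 in
theorem ch_3_7_6_10_4 : enum 11 ck11 3 5 4876080 1241 6 4 = true := by
  decide +kernel

set_option maxRecDepth 100000 in
theorem ch_3_7_6_10_5 : enum 11 ck11 3 5 5924656 1257 6 5 = true := by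
  decide +kernel

set_option maxRecDepth 100000 in
theorem ch_3_7_6_10_8 : enum 11 ck11 3 5 9070384 1481 6 8 = true := by
  decide +kernel

set_option maxRecDepth 100000 in
theorem ch_3_7_6_10_9 : enum 11 ck11 3 5 10118960 1737 6 9 = true := by
  decide +kernel

theorem ch_3_7_6_10 : enum 11 ck11 3 6 681776 1225 5 10 = true := by
  refine enum_intro 11 ck11 3 5 681776 1225 5 10 ?_
  intro v hv hb hd
  interval_cases v
  · exact absurd hb (by decide)
  · exact absurd hd (by decide)
  · exact ch_3_7_6_10_2
  · exact absurd hb (by decide)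
  · exact ch_3_7_6_10_4
  · exact ch_3_7_6_10_5
  · exact absurd hb (by decide)
  · exact absurd hb (by decide)
  · exact ch_3_7_6_10_8
  · exact ch_3_7_6_10_9
  · exact absurd hb (by decide)

theorem ch_3_7_6 : enum 11 ck11 3 7 26416 201 4 6 = true := by
  refine enum_intro 11 ck11 3 6 26416 201 4 6 ?_
  intro v hv hb hd
  interval_cases v
  · exact absurd hb (by decide)
  · exact ch_3_7_6_1
  · exact ch_3_7_6_2
  · exact absurd hb (by decide)
  · exact ch_3_7_6_4
  · exact ch_3_7_6_5
  · exact absurd hb (by decide)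
  · exact absurd hb (by decide)
  · exact absurd hd (by decide)
  · exact ch_3_7_6_9
  · exact ch_3_7_6_10

set_option maxRecDepth 100000 in
theorem ch_3_7_10_2_1 : enum 11 ck11 3 5 1222448 1167 6 1 = true := by
  decide +kernel

set_option maxRecDepth 100000 in
theorem ch_3_7_10_2_5 : enum 11 ck11 3 5 5416752 1197 6 5 = true := by
  decide +kernel

set_option maxRecDepth 100000 in
theorem ch_3_7_10_2_6 : enum 11 ck11 3 5 6465328 1229 6 6 = true := by
  decide +kernel

set_option maxRecDepth 100000 in
theorem ch_3_7_10_2_8 : enum 11 ck11 3 5 8562480 1421 6 8 = true := by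
  decide +kernel

set_option maxRecDepth 100000 in
theorem ch_3_7_10_2_9 : enum 11 ck11 3 5 9611056 1677 6 9 = true := by
  decide +kernel

theorem ch_3_7_10_2 : enum 11 ck11 3 6 173872 1165 5 2 = true := by
  refine enum_intro 11 ck11 3 5 173872 1165 5 2 ?_
  intro v hv hb hd
  interval_cases v
  · exact absurd hb (by decide)
  · exact ch_3_7_10_2_1
  · exact absurd hb (by decide)
  · exact absurd hb (by decide)
  · exact absurd hd (by decide)
  · exact ch_3_7_10_2_5
  · exact ch_3_7_10_2_6
  · exact absurd hb (by decide)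
  · exact ch_3_7_10_2_8
  · exact ch_3_7_10_2_9
  · exact absurd hb (by decide)

set_option maxRecDepth 100000 in
theorem ch_3_7_10_4_1 : enum 11 ck11 3 5 1353520 1179 6 1 = true := by
  decide +kernel

set_option maxRecDepth 100000 in
theorem ch_3_7_10_4_2 : enum 11 ck11 3 5 2402096 1181 6 2 = true := by
  decide +kernel

set_option maxRecDepth 100000 in
theorem ch_3_7_10_4_8 : enum 11 ck11 3 5 8693552 1433 6 8 = true := by
  decide +kernel

set_option maxRecDepth 100000 in
theorem ch_3_7_10_4_9 : enum 11 ck11 3 5 9742128 1689 6 9 = true := by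
  decide +kernel

theorem ch_3_7_10_4 : enum 11 ck11 3 6 304944 1177 5 4 = true := by
  refine enum_intro 11 ck11 3 5 304944 1177 5 4 ?_
  intro v hv hb hd
  interval_cases v
  · exact absurd hb (by decide)
  · exact ch_3_7_10_4_1
  · exact ch_3_7_10_4_2
  · exact absurd hb (by decide)
  · exact absurd hb (by decide)
  · exact absurd hd (by decide)
  · exact absurd hd (by decide)
  · exact absurd hb (by decide)
  · exact ch_3_7_10_4_8
  · exact ch_3_7_10_4_9
  · exact absurd hb (by decide)

set_option maxRecDepth 100000 in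
theorem ch_3_7_10_5_1 : enum 11 ck11 3 5 1419056 1195 6 1 = true := by
  decide +kernel

set_option maxRecDepth 100000 in
theorem ch_3_7_10_5_2 : enum 11 ck11 3 5 2467632 1197 6 2 = true := by
  decide +kernel

set_option maxRecDepth 100000 in
theorem ch_3_7_10_5_4 : enum 11 ck11 3 5 4564784 1209 6 4 = true := by
  decide +kernel

set_option maxRecDepth 100000 in
theorem ch_3_7_10_5_8 : enum 11 ck11 3 5 8759088 1449 6 8 = true := by
  decide +kernel

set_option maxRecDepth 100000 in
theorem ch_3_7_10_5_9 : enum 11 ck11 3 5 9807664 1705 6 9 = true := by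
  decide +kernel

theorem ch_3_7_10_5 : enum 11 ck11 3 6 370480 1193 5 5 = true := by
  refine enum_intro 11 ck11 3 5 370480 1193 5 5 ?_
  intro v hv hb hd
  interval_cases v
  · exact absurd hb (by decide)
  · exact ch_3_7_10_5_1
  · exact ch_3_7_10_5_2
  · exact absurd hb (by decide)
  · exact ch_3_7_10_5_4
  · exact absurd hb (by decide)
  · exact absurd hd (by decide)
  · exact absurd hb (by decide)
  · exact ch_3_7_10_5_8
  · exact ch_3_7_10_5_9
  · exact absurd hb (by decide)

set_option maxRecDepth 100000 in
theorem ch_3_7_10_6_1 : enum 11 ck11 3 5 1484592 1227 6 1 = true := by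
  decide +kernel

set_option maxRecDepth 100000 in
theorem ch_3_7_10_6_2 : enum 11 ck11 3 5 2533168 1229 6 2 = true := by
  decide +kernel

set_option maxRecDepth 100000 in
theorem ch_3_7_10_6_4 : enum 11 ck11 3 5 4630320 1241 6 4 = true := by
  decide +kernel

set_option maxRecDepth 100000 in
theorem ch_3_7_10_6_5 : enum 11 ck11 3 5 5678896 1257 6 5 = true := by
  decide +kernel

set_option maxRecDepth 100000 in
theorem ch_3_7_10_6_9 : enum 11 ck11 3 5 9873200 1737 6 9 = true := by
  decide +kernel

theorem ch_3_7_10_6 : enum 11 ck11 3 6 436016 1225 5 6 = true := by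
  refine enum_intro 11 ck11 3 5 436016 1225 5 6 ?_
  intro v hv hb hd
  interval_cases v
  · exact absurd hb (by decide)
  · exact ch_3_7_10_6_1
  · exact ch_3_7_10_6_2
  · exact absurd hb (by decide)
  · exact ch_3_7_10_6_4
  · exact ch_3_7_10_6_5
  · exact absurd hb (by decide)
  · exact absurd hb (by decide)
  · exact absurd hd (by decide)
  · exact ch_3_7_10_6_9
  · exact absurd hb (by decide)

set_option maxRecDepth 100000 in
theorem ch_3_7_10_8_1 : enum 11 ck11 3 5 1615664 1419 6 1 = true := by
  decide +kernel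

set_option maxRecDepth 100000 in
theorem ch_3_7_10_8_2 : enum 11 ck11 3 5 2664240 1421 6 2 = true := by
  decide +kernel

set_option maxRecDepth 100000 in
theorem ch_3_7_10_8_4 : enum 11 ck11 3 5 4761392 1433 6 4 = true := by
  decide +kernel

set_option maxRecDepth 100000 in
theorem ch_3_7_10_8_5 : enum 11 ck11 3 5 5809968 1449 6 5 = true := by
  decide +kernel

set_option maxRecDepth 100000 in
theorem ch_3_7_10_8_6 : enum 11 ck11 3 5 6858544 1481 6 6 = true := by
  decide +kernel

theorem ch_3_7_10_8 : enum 11 ck11 3 6 567088 1417 5 8 = true := by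
  refine enum_intro 11 ck11 3 5 567088 1417 5 8 ?_
  intro v hv hb hd
  interval_cases v
  · exact absurd hb (by decide)
  · exact ch_3_7_10_8_1
  · exact ch_3_7_10_8_2
  · exact absurd hb (by decide)
  · exact ch_3_7_10_8_4
  · exact ch_3_7_10_8_5
  · exact ch_3_7_10_8_6
  · exact absurd hb (by decide)
  · exact absurd hb (by decide)
  · exact absurd hd (by decide)
  · exact absurd hb (by decide)

set_option maxRecDepth 100000 in
theorem ch_3_7_10_9_1 : enum 11 ck11 3 5 1681200 1675 6 1 = true := by
  decide +kernel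

set_option maxRecDepth 100000 in
theorem ch_3_7_10_9_2 : enum 11 ck11 3 5 2729776 1677 6 2 = true := by
  decide +kernel

set_option maxRecDepth 100000 in
theorem ch_3_7_10_9_4 : enum 11 ck11 3 5 4826928 1689 6 4 = true := by
  decide +kernel

set_option maxRecDepth 100000 in
theorem ch_3_7_10_9_5 : enum 11 ck11 3 5 5875504 1705 6 5 = true := by
  decide +kernel

set_option maxRecDepth 100000 in
theorem ch_3_7_10_9_6 : enum 11 ck11 3 5 6924080 1737 6 6 = true := by
  decide +kernel

set_option maxRecDepth 100000 in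
theorem ch_3_7_10_9_8 : enum 11 ck11 3 5 9021232 1929 6 8 = true := by
  decide +kernel

theorem ch_3_7_10_9 : enum 11 ck11 3 6 632624 1673 5 9 = true := by
  refine enum_intro 11 ck11 3 5 632624 1673 5 9 ?_
  intro v hv hb hd
  interval_cases v
  · exact absurd hb (by decide)
  · exact ch_3_7_10_9_1
  · exact ch_3_7_10_9_2
  · exact absurd hb (by decide)
  · exact ch_3_7_10_9_4
  · exact ch_3_7_10_9_5
  · exact ch_3_7_10_9_6
  · exact absurd hb (by decide)
  · exact ch_3_7_10_9_8
  · exact absurd hb (by decide)
  · exact absurd hb (by decide)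

theorem ch_3_7_10 : enum 11 ck11 3 7 42800 1161 4 10 = true := by
  refine enum_intro 11 ck11 3 6 42800 1161 4 10 ?_
  intro v hv hb hd
  interval_cases v
  · exact absurd hb (by decide)
  · exact absurd hd (by decide)
  · exact ch_3_7_10_2
  · exact absurd hb (by decide)
  · exact ch_3_7_10_4
  · exact ch_3_7_10_5
  · exact ch_3_7_10_6
  · exact absurd hb (by decide)
  · exact ch_3_7_10_8
  · exact ch_3_7_10_9
  · exact absurd hb (by decide)

theorem ch_3_7 : enum 11 ck11 3 8 1840 137 3 7 = true := by
  refine enum_intro 11 ck11 3 7 1840 137 3 7 ?_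
  intro v hv hb hd
  interval_cases v
  · exact absurd hb (by decide)
  · exact ch_3_7_1
  · exact ch_3_7_2
  · exact absurd hb (by decide)
  · exact ch_3_7_4
  · exact ch_3_7_5
  · exact ch_3_7_6
  · exact absurd hb (by decide)
  · exact absurd hd (by decide)
  · exact absurd hd (by decide)
  · exact ch_3_7_10

end Cfsg.Agent.Helper9.T11
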