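import Mathlib
import Cfsg.Agent.Helper9.T11.Chk

set_option autoImplicit false
set_option Elab.async false

/-!
A part of the enumeration on 11 points: the test holds at every permutation of the part.
-/

namespace Cfsg.Agent.Helper9.T11

set_option maxRecDepth 100000 in
theorem ch_3_8_1_4_2 : enum 11 ck11 3 5 2365488 287 6 2 = true := by
  decide +kernel

set_option maxRecDepth 100000 in
theorem ch_3_8_1_4_7 : enum 11 ck11 3 5 7608368 411 6 7 = true := by
  decide +kernel

set_option maxRecDepth 100000 in
theorem ch_3_8_1_4_9 : enum 11 ck11 3 5 9705520 795 6 9 = true := by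
  decide +kernel

set_option maxRecDepth 100000 in
theorem ch_3_8_1_4_10 : enum 11 ck11 3 5 10754096 1307 6 10 = true := by
  decide +kernel

theorem ch_3_8_1_4 : enum 11 ck11 3 6 268336 283 5 4 = true := by
  refine enum_intro 11 ck11 3 5 268336 283 5 4 ?_
  intro v hv hb hd
  interval_cases v
  · exact absurd hb (by decide)
  · exact absurd hb (by decide)
  · exact ch_3_8_1_4_2
  · exact absurd hb (by decide)
  · exact absurd hb (by decide)
  · exact absurd hd (by decide)
  · exact absurd hd (by decide)
  · exact ch_3_8_1_4_7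
  · exact absurd hb (by decide)
  · exact ch_3_8_1_4_9
  · exact ch_3_8_1_4_10

set_option maxRecDepth 100000 in
theorem ch_3_8_1_5_2 : enum 11 ck11 3 5 2431024 303 6 2 = true := by
  decide +kernel

set_option maxRecDepth 100000 in
theorem ch_3_8_1_5_4 : enum 11 ck11 3 5 4528176 315 6 4 = true := by
  decide +kernel

set_option maxRecDepth 100000 in
theorem ch_3_8_1_5_9 : enum 11 ck11 3 5 9771056 811 6 9 = true := by
  decide +kernel

set_option maxRecDepth 100000 in
theorem ch_3_8_1_5_10 : enum 11 ck11 3 5 10819632 1323 6 10 = true := by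
  decide +kernel

theorem ch_3_8_1_5 : enum 11 ck11 3 6 333872 299 5 5 = true := by
  refine enum_intro 11 ck11 3 5 333872 299 5 5 ?_
  intro v hv hb hd
  interval_cases v
  · exact absurd hb (by decide)
  · exact absurd hb (by decide)
  · exact ch_3_8_1_5_2
  · exact absurd hb (by decide)
  · exact ch_3_8_1_5_4
  · exact absurd hb (by decide)
  · exact absurd hd (by decide)
  · exact absurd hd (by decide)
  · exact absurd hb (by decide)
  · exact ch_3_8_1_5_9
  · exact ch_3_8_1_5_10

set_option maxRecDepth 100000 in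
theorem ch_3_8_1_6_2 : enum 11 ck11 3 5 2496560 335 6 2 = true := by
  decide +kernel

set_option maxRecDepth 100000 in
theorem ch_3_8_1_6_4 : enum 11 ck11 3 5 4593712 347 6 4 = true := by
  decide +kernel

set_option maxRecDepth 100000 in
theorem ch_3_8_1_6_5 : enum 11 ck11 3 5 5642288 363 6 5 = true := by
  decide +kernel

set_option maxRecDepth 100000 in
theorem ch_3_8_1_6_9 : enum 11 ck11 3 5 9836592 843 6 9 = true := by
  decide +kernel

set_option maxRecDepth 100000 in
theorem ch_3_8_1_6_10 : enum 11 ck11 3 5 10885168 1355 6 10 = true := by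
  decide +kernel

theorem ch_3_8_1_6 : enum 11 ck11 3 6 399408 331 5 6 = true := by
  refine enum_intro 11 ck11 3 5 399408 331 5 6 ?_
  intro v hv hb hd
  interval_cases v
  · exact absurd hb (by decide)
  · exact absurd hb (by decide)
  · exact ch_3_8_1_6_2
  · exact absurd hb (by decide)
  · exact ch_3_8_1_6_4
  · exact ch_3_8_1_6_5
  · exact absurd hb (by decide)
  · exact absurd hd (by decide)
  · exact absurd hb (by decide)
  · exact ch_3_8_1_6_9
  · exact ch_3_8_1_6_10

set_option maxRecDepth 100000 in
theorem ch_3_8_1_7_2 : enum 11 ck11 3 5 2562096 399 6 2 = true := by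
  decide +kernel

set_option maxRecDepth 100000 in
theorem ch_3_8_1_7_4 : enum 11 ck11 3 5 4659248 411 6 4 = true := by
  decide +kernel

set_option maxRecDepth 100000 in
theorem ch_3_8_1_7_5 : enum 11 ck11 3 5 5707824 427 6 5 = true := by
  decide +kernel

set_option maxRecDepth 100000 in
theorem ch_3_8_1_7_6 : enum 11 ck11 3 5 6756400 459 6 6 = true := by
  decide +kernel

set_option maxRecDepth 100000 in
theorem ch_3_8_1_7_10 : enum 11 ck11 3 5 10950704 1419 6 10 = true := by
  decide +kernel

theorem ch_3_8_1_7 : enum 11 ck11 3 6 464944 395 5 7 = true := by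
  refine enum_intro 11 ck11 3 5 464944 395 5 7 ?_
  intro v hv hb hd
  interval_cases v
  · exact absurd hb (by decide)
  · exact absurd hb (by decide)
  · exact ch_3_8_1_7_2
  · exact absurd hb (by decide)
  · exact ch_3_8_1_7_4
  · exact ch_3_8_1_7_5
  · exact ch_3_8_1_7_6
  · exact absurd hb (by decide)
  · exact absurd hb (by decide)
  · exact absurd hd (by decide)
  · exact ch_3_8_1_7_10

set_option maxRecDepth 100000 in
theorem ch_3_8_1_9_2 : enum 11 ck11 3 5 2693168 783 6 2 = true := by
  decide +kernel

set_option maxRecDepth 100000 in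
theorem ch_3_8_1_9_4 : enum 11 ck11 3 5 4790320 795 6 4 = true := by
  decide +kernel

set_option maxRecDepth 100000 in
theorem ch_3_8_1_9_5 : enum 11 ck11 3 5 5838896 811 6 5 = true := by
  decide +kernel

set_option maxRecDepth 100000 in
theorem ch_3_8_1_9_6 : enum 11 ck11 3 5 6887472 843 6 6 = true := by
  decide +kernel

set_option maxRecDepth 100000 in
theorem ch_3_8_1_9_7 : enum 11 ck11 3 5 7936048 907 6 7 = true := by
  decide +kernel

theorem ch_3_8_1_9 : enum 11 ck11 3 6 596016 779 5 9 = true := by
  refine enum_intro 11 ck11 3 5 596016 779 5 9 ?_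
  intro v hv hb hd
  interval_cases v
  · exact absurd hb (by decide)
  · exact absurd hb (by decide)
  · exact ch_3_8_1_9_2
  · exact absurd hb (by decide)
  · exact ch_3_8_1_9_4
  · exact ch_3_8_1_9_5
  · exact ch_3_8_1_9_6
  · exact ch_3_8_1_9_7
  · exact absurd hb (by decide)
  · exact absurd hb (by decide)
  · exact absurd hd (by decide)

set_option maxRecDepth 100000 in
theorem ch_3_8_1_10_2 : enum 11 ck11 3 5 2758704 1295 6 2 = true := by
  decide +kernel

set_option maxRecDepth 100000 in
theorem ch_3_8_1_10_4 : enum 11 ck11 3 5 4855856 1307 6 4 = true := by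
  decide +kernel

set_option maxRecDepth 100000 in
theorem ch_3_8_1_10_5 : enum 11 ck11 3 5 5904432 1323 6 5 = true := by
  decide +kernel

set_option maxRecDepth 100000 in
theorem ch_3_8_1_10_6 : enum 11 ck11 3 5 6953008 1355 6 6 = true := by
  decide +kernel

set_option maxRecDepth 100000 in
theorem ch_3_8_1_10_7 : enum 11 ck11 3 5 8001584 1419 6 7 = true := by
  decide +kernel

set_option maxRecDepth 100000 in
theorem ch_3_8_1_10_9 : enum 11 ck11 3 5 10098736 1803 6 9 = true := by
  decide +kernel

theorem ch_3_8_1_10 : enum 11 ck11 3 6 661552 1291 5 10 = true := by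
  refine enum_intro 11 ck11 3 5 661552 1291 5 10 ?_
  intro v hv hb hd
  interval_cases v
  · exact absurd hb (by decide)
  · exact absurd hb (by decide)
  · exact ch_3_8_1_10_2
  · exact absurd hb (by decide)
  · exact ch_3_8_1_10_4
  · exact ch_3_8_1_10_5
  · exact ch_3_8_1_10_6
  · exact ch_3_8_1_10_7
  · exact absurd hb (by decide)
  · exact ch_3_8_1_10_9
  · exact absurd hb (by decide)

theorem ch_3_8_1 : enum 11 ck11 3 7 6192 267 4 1 = true := by
  refine enum_intro 11 ck11 3 6 6192 267 4 1 ?_
  intro v hv hb hd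
  interval_cases v
  · exact absurd hb (by decide)
  · exact absurd hb (by decide)
  · exact absurd hd (by decide)
  · exact absurd hb (by decide)
  · exact ch_3_8_1_4
  · exact ch_3_8_1_5
  · exact ch_3_8_1_6
  · exact ch_3_8_1_7
  · exact absurd hb (by decide)
  · exact ch_3_8_1_9
  · exact ch_3_8_1_10

set_option maxRecDepth 100000 in
theorem ch_3_8_2_1_4 : enum 11 ck11 3 5 4270128 287 6 4 = true := by
  decide +kernel

set_option maxRecDepth 100000 in
theorem ch_3_8_2_1_5 : enum 11 ck11 3 5 5318704 303 6 5 = true := by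
  decide +kernel

set_option maxRecDepth 100000 in
theorem ch_3_8_2_1_6 : enum 11 ck11 3 5 6367280 335 6 6 = true := by
  decide +kernel

set_option maxRecDepth 100000 in
theorem ch_3_8_2_1_7 : enum 11 ck11 3 5 7415856 399 6 7 = true := by
  decide +kernel

set_option maxRecDepth 100000 in
theorem ch_3_8_2_1_9 : enum 11 ck11 3 5 9513008 783 6 9 = true := by
  decide +kernel

set_option maxRecDepth 100000 in
theorem ch_3_8_2_1_10 : enum 11 ck11 3 5 10561584 1295 6 10 = true := by
  decide +kernel

theorem ch_3_8_2_1 : enum 11 ck11 3 6 75824 271 5 1 = true := by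
  refine enum_intro 11 ck11 3 5 75824 271 5 1 ?_
  intro v hv hb hd
  interval_cases v
  · exact absurd hb (by decide)
  · exact absurd hb (by decide)
  · exact absurd hb (by decide)
  · exact absurd hb (by decide)
  · exact ch_3_8_2_1_4
  · exact ch_3_8_2_1_5
  · exact ch_3_8_2_1_6
  · exact ch_3_8_2_1_7
  · exact absurd hb (by decide)
  · exact ch_3_8_2_1_9
  · exact ch_3_8_2_1_10

set_option maxRecDepth 100000 in
theorem ch_3_8_2_5_1 : enum 11 ck11 3 5 1386544 303 6 1 = true := by
  decide +kernel

set_option maxRecDepth 100000 in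
theorem ch_3_8_2_5_4 : enum 11 ck11 3 5 4532272 317 6 4 = true := by
  decide +kernel

set_option maxRecDepth 100000 in
theorem ch_3_8_2_5_9 : enum 11 ck11 3 5 9775152 813 6 9 = true := by
  decide +kernel

set_option maxRecDepth 100000 in
theorem ch_3_8_2_5_10 : enum 11 ck11 3 5 10823728 1325 6 10 = true := by
  decide +kernel

theorem ch_3_8_2_5 : enum 11 ck11 3 6 337968 301 5 5 = true := by
  refine enum_intro 11 ck11 3 5 337968 301 5 5 ?_
  intro v hv hb hd
  interval_cases v
  · exact absurd hb (by decide)
  · exact ch_3_8_2_5_1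
  · exact absurd hb (by decide)
  · exact absurd hb (by decide)
  · exact ch_3_8_2_5_4
  · exact absurd hb (by decide)
  · exact absurd hd (by decide)
  · exact absurd hd (by decide)
  · exact absurd hb (by decide)
  · exact ch_3_8_2_5_9
  · exact ch_3_8_2_5_10

set_option maxRecDepth 100000 in
theorem ch_3_8_2_6_1 : enum 11 ck11 3 5 1452080 335 6 1 = true := by
  decide +kernel

set_option maxRecDepth 100000 in
theorem ch_3_8_2_6_4 : enum 11 ck11 3 5 4597808 349 6 4 = true := by
  decide +kernel

set_option maxRecDepth 100000 in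
theorem ch_3_8_2_6_5 : enum 11 ck11 3 5 5646384 365 6 5 = true := by
  decide +kernel

set_option maxRecDepth 100000 in
theorem ch_3_8_2_6_9 : enum 11 ck11 3 5 9840688 845 6 9 = true := by
  decide +kernel

set_option maxRecDepth 100000 in
theorem ch_3_8_2_6_10 : enum 11 ck11 3 5 10889264 1357 6 10 = true := by
  decide +kernel

theorem ch_3_8_2_6 : enum 11 ck11 3 6 403504 333 5 6 = true := by
  refine enum_intro 11 ck11 3 5 403504 333 5 6 ?_
  intro v hv hb hd
  interval_cases v
  · exact absurd hb (by decide)
  · exact ch_3_8_2_6_1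
  · exact absurd hb (by decide)
  · exact absurd hb (by decide)
  · exact ch_3_8_2_6_4
  · exact ch_3_8_2_6_5
  · exact absurd hb (by decide)
  · exact absurd hd (by decide)
  · exact absurd hb (by decide)
  · exact ch_3_8_2_6_9
  · exact ch_3_8_2_6_10

set_option maxRecDepth 100000 in
theorem ch_3_8_2_7_1 : enum 11 ck11 3 5 1517616 399 6 1 = true := by
  decide +kernel

set_option maxRecDepth 100000 in
theorem ch_3_8_2_7_4 : enum 11 ck11 3 5 4663344 413 6 4 = true := by
  decide +kernel

set_option maxRecDepth 100000 in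
theorem ch_3_8_2_7_5 : enum 11 ck11 3 5 5711920 429 6 5 = true := by
  decide +kernel

set_option maxRecDepth 100000 in
theorem ch_3_8_2_7_6 : enum 11 ck11 3 5 6760496 461 6 6 = true := by
  decide +kernel

set_option maxRecDepth 100000 in
theorem ch_3_8_2_7_10 : enum 11 ck11 3 5 10954800 1421 6 10 = true := by
  decide +kernel

theorem ch_3_8_2_7 : enum 11 ck11 3 6 469040 397 5 7 = true := by
  refine enum_intro 11 ck11 3 5 469040 397 5 7 ?_
  intro v hv hb hd
  interval_cases v
  · exact absurd hb (by decide)
  · exact ch_3_8_2_7_1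
  · exact absurd hb (by decide)
  · exact absurd hb (by decide)
  · exact ch_3_8_2_7_4
  · exact ch_3_8_2_7_5
  · exact ch_3_8_2_7_6
  · exact absurd hb (by decide)
  · exact absurd hb (by decide)
  · exact absurd hd (by decide)
  · exact ch_3_8_2_7_10

set_option maxRecDepth 100000 in
theorem ch_3_8_2_9_1 : enum 11 ck11 3 5 1648688 783 6 1 = true := by
  decide +kernel

set_option maxRecDepth 100000 in
theorem ch_3_8_2_9_4 : enum 11 ck11 3 5 4794416 797 6 4 = true := by
  decide +kernel

set_option maxRecDepth 100000 in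
theorem ch_3_8_2_9_5 : enum 11 ck11 3 5 5842992 813 6 5 = true := by
  decide +kernel

set_option maxRecDepth 100000 in
theorem ch_3_8_2_9_6 : enum 11 ck11 3 5 6891568 845 6 6 = true := by
  decide +kernel

set_option maxRecDepth 100000 in
theorem ch_3_8_2_9_7 : enum 11 ck11 3 5 7940144 909 6 7 = true := by
  decide +kernel

theorem ch_3_8_2_9 : enum 11 ck11 3 6 600112 781 5 9 = true := by
  refine enum_intro 11 ck11 3 5 600112 781 5 9 ?_
  intro v hv hb hd
  interval_cases v
  · exact absurd hb (by decide)
  · exact ch_3_8_2_9_1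
  · exact absurd hb (by decide)
  · exact absurd hb (by decide)
  · exact ch_3_8_2_9_4
  · exact ch_3_8_2_9_5
  · exact ch_3_8_2_9_6
  · exact ch_3_8_2_9_7
  · exact absurd hb (by decide)
  · exact absurd hb (by decide)
  · exact absurd hd (by decide)

set_option maxRecDepth 100000 in
theorem ch_3_8_2_10_4 : enum 11 ck11 3 5 4859952 1309 6 4 = true := by
  decide +kernel

set_option maxRecDepth 100000 in
theorem ch_3_8_2_10_5 : enum 11 ck11 3 5 5908528 1325 6 5 = true := by
  decide +kernel

set_option maxRecDepth 100000 in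
theorem ch_3_8_2_10_6 : enum 11 ck11 3 5 6957104 1357 6 6 = true := by
  decide +kernel

set_option maxRecDepth 100000 in
theorem ch_3_8_2_10_7 : enum 11 ck11 3 5 8005680 1421 6 7 = true := by
  decide +kernel

set_option maxRecDepth 100000 in
theorem ch_3_8_2_10_9 : enum 11 ck11 3 5 10102832 1805 6 9 = true := by
  decide +kernel

theorem ch_3_8_2_10 : enum 11 ck11 3 6 665648 1293 5 10 = true := by
  refine enum_intro 11 ck11 3 5 665648 1293 5 10 ?_
  intro v hv hb hd
  interval_cases v
  · exact absurd hb (by decide)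
  · exact absurd hd (by decide)
  · exact absurd hb (by decide)
  · exact absurd hb (by decide)
  · exact ch_3_8_2_10_4
  · exact ch_3_8_2_10_5
  · exact ch_3_8_2_10_6
  · exact ch_3_8_2_10_7
  · exact absurd hb (by decide)
  · exact ch_3_8_2_10_9
  · exact absurd hb (by decide)

theorem ch_3_8_2 : enum 11 ck11 3 7 10288 269 4 2 = true := by
  refine enum_intro 11 ck11 3 6 10288 269 4 2 ?_
  intro v hv hb hd
  interval_cases v
  · exact absurd hb (by decide)
  · exact ch_3_8_2_1
  · exact absurd hb (by decide)
  · exact absurd hb (by decide)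
  · exact absurd hd (by decide)
  · exact ch_3_8_2_5
  · exact ch_3_8_2_6
  · exact ch_3_8_2_7
  · exact absurd hb (by decide)
  · exact ch_3_8_2_9
  · exact ch_3_8_2_10

set_option maxRecDepth 100000 in
theorem ch_3_8_4_1_5 : enum 11 ck11 3 5 5326896 315 6 5 = true := by
  decide +kernel

set_option maxRecDepth 100000 in
theorem ch_3_8_4_1_6 : enum 11 ck11 3 5 6375472 347 6 6 = true := by
  decide +kernel

set_option maxRecDepth 100000 in
theorem ch_3_8_4_1_7 : enum 11 ck11 3 5 7424048 411 6 7 = true := by
  decide +kernel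

set_option maxRecDepth 100000 in
theorem ch_3_8_4_1_9 : enum 11 ck11 3 5 9521200 795 6 9 = true := by
  decide +kernel

set_option maxRecDepth 100000 in
theorem ch_3_8_4_1_10 : enum 11 ck11 3 5 10569776 1307 6 10 = true := by
  decide +kernel

theorem ch_3_8_4_1 : enum 11 ck11 3 6 84016 283 5 1 = true := by
  refine enum_intro 11 ck11 3 5 84016 283 5 1 ?_
  intro v hv hb hd
  interval_cases v
  · exact absurd hb (by decide)
  · exact absurd hb (by decide)
  · exact absurd hd (by decide)
  · exact absurd hb (by decide)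
  · exact absurd hb (by decide)
  · exact ch_3_8_4_1_5
  · exact ch_3_8_4_1_6
  · exact ch_3_8_4_1_7
  · exact absurd hb (by decide)
  · exact ch_3_8_4_1_9
  · exact ch_3_8_4_1_10

set_option maxRecDepth 100000 in
theorem ch_3_8_4_2_1 : enum 11 ck11 3 5 1198128 287 6 1 = true := by
  decide +kernel

set_option maxRecDepth 100000 in
theorem ch_3_8_4_2_5 : enum 11 ck11 3 5 5392432 317 6 5 = true := by
  decide +kernel

set_option maxRecDepth 100000 in
theorem ch_3_8_4_2_6 : enum 11 ck11 3 5 6441008 349 6 6 = true := by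
  decide +kernel

set_option maxRecDepth 100000 in
theorem ch_3_8_4_2_7 : enum 11 ck11 3 5 7489584 413 6 7 = true := by
  decide +kernel

set_option maxRecDepth 100000 in
theorem ch_3_8_4_2_9 : enum 11 ck11 3 5 9586736 797 6 9 = true := by
  decide +kernel

set_option maxRecDepth 100000 in
theorem ch_3_8_4_2_10 : enum 11 ck11 3 5 10635312 1309 6 10 = true := by
  decide +kernel

theorem ch_3_8_4_2 : enum 11 ck11 3 6 149552 285 5 2 = true := by
  refine enum_intro 11 ck11 3 5 149552 285 5 2 ?_
  intro v hv hb hd
  interval_cases v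
  · exact absurd hb (by decide)
  · exact ch_3_8_4_2_1
  · exact absurd hb (by decide)
  · exact absurd hb (by decide)
  · exact absurd hb (by decide)
  · exact ch_3_8_4_2_5
  · exact ch_3_8_4_2_6
  · exact ch_3_8_4_2_7
  · exact absurd hb (by decide)
  · exact ch_3_8_4_2_9
  · exact ch_3_8_4_2_10

set_option maxRecDepth 100000 in
theorem ch_3_8_4_7_1 : enum 11 ck11 3 5 1525808 411 6 1 = true := by
  decide +kernel

set_option maxRecDepth 100000 in
theorem ch_3_8_4_7_2 : enum 11 ck11 3 5 2574384 413 6 2 = true := by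
  decide +kernel

set_option maxRecDepth 100000 in
theorem ch_3_8_4_7_5 : enum 11 ck11 3 5 5720112 441 6 5 = true := by
  decide +kernel

set_option maxRecDepth 100000 in
theorem ch_3_8_4_7_6 : enum 11 ck11 3 5 6768688 473 6 6 = true := by
  decide +kernel

set_option maxRecDepth 100000 in
theorem ch_3_8_4_7_10 : enum 11 ck11 3 5 10962992 1433 6 10 = true := by
  decide +kernel

theorem ch_3_8_4_7 : enum 11 ck11 3 6 477232 409 5 7 = true := by
  refine enum_intro 11 ck11 3 5 477232 409 5 7 ?_
  intro v hv hb hd
  interval_cases v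
  · exact absurd hb (by decide)
  · exact ch_3_8_4_7_1
  · exact ch_3_8_4_7_2
  · exact absurd hb (by decide)
  · exact absurd hb (by decide)
  · exact ch_3_8_4_7_5
  · exact ch_3_8_4_7_6
  · exact absurd hb (by decide)
  · exact absurd hb (by decide)
  · exact absurd hd (by decide)
  · exact ch_3_8_4_7_10

set_option maxRecDepth 100000 in
theorem ch_3_8_4_9_1 : enum 11 ck11 3 5 1656880 795 6 1 = true := by
  decide +kernel

set_option maxRecDepth 100000 in
theorem ch_3_8_4_9_2 : enum 11 ck11 3 5 2705456 797 6 2 = true := by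
  decide +kernel

set_option maxRecDepth 100000 in
theorem ch_3_8_4_9_5 : enum 11 ck11 3 5 5851184 825 6 5 = true := by
  decide +kernel

set_option maxRecDepth 100000 in
theorem ch_3_8_4_9_6 : enum 11 ck11 3 5 6899760 857 6 6 = true := by
  decide +kernel

set_option maxRecDepth 100000 in
theorem ch_3_8_4_9_7 : enum 11 ck11 3 5 7948336 921 6 7 = true := by
  decide +kernel

theorem ch_3_8_4_9 : enum 11 ck11 3 6 608304 793 5 9 = true := by
  refine enum_intro 11 ck11 3 5 608304 793 5 9 ?_
  intro v hv hb hd
  interval_cases v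
  · exact absurd hb (by decide)
  · exact ch_3_8_4_9_1
  · exact ch_3_8_4_9_2
  · exact absurd hb (by decide)
  · exact absurd hb (by decide)
  · exact ch_3_8_4_9_5
  · exact ch_3_8_4_9_6
  · exact ch_3_8_4_9_7
  · exact absurd hb (by decide)
  · exact absurd hb (by decide)
  · exact absurd hd (by decide)

set_option maxRecDepth 100000 in
theorem ch_3_8_4_10_2 : enum 11 ck11 3 5 2770992 1309 6 2 = true := by
  decide +kernel

set_option maxRecDepth 100000 in
theorem ch_3_8_4_10_5 : enum 11 ck11 3 5 5916720 1337 6 5 = true := by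
  decide +kernel

set_option maxRecDepth 100000 in
theorem ch_3_8_4_10_6 : enum 11 ck11 3 5 6965296 1369 6 6 = true := by
  decide +kernel

set_option maxRecDepth 100000 in
theorem ch_3_8_4_10_7 : enum 11 ck11 3 5 8013872 1433 6 7 = true := by
  decide +kernel

set_option maxRecDepth 100000 in
theorem ch_3_8_4_10_9 : enum 11 ck11 3 5 10111024 1817 6 9 = true := by
  decide +kernel

theorem ch_3_8_4_10 : enum 11 ck11 3 6 673840 1305 5 10 = true := by
  refine enum_intro 11 ck11 3 5 673840 1305 5 10 ?_
  intro v hv hb hd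
  interval_cases v
  · exact absurd hb (by decide)
  · exact absurd hd (by decide)
  · exact ch_3_8_4_10_2
  · exact absurd hb (by decide)
  · exact absurd hb (by decide)
  · exact ch_3_8_4_10_5
  · exact ch_3_8_4_10_6
  · exact ch_3_8_4_10_7
  · exact absurd hb (by decide)
  · exact ch_3_8_4_10_9
  · exact absurd hb (by decide)

theorem ch_3_8_4 : enum 11 ck11 3 7 18480 281 4 4 = true := by
  refine enum_intro 11 ck11 3 6 18480 281 4 4 ?_
  intro v hv hb hd
  interval_cases v
  · exact absurd hb (by decide)
  · exact ch_3_8_4_1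
  · exact ch_3_8_4_2
  · exact absurd hb (by decide)
  · exact absurd hb (by decide)
  · exact absurd hd (by decide)
  · exact absurd hd (by decide)
  · exact ch_3_8_4_7
  · exact absurd hb (by decide)
  · exact ch_3_8_4_9
  · exact ch_3_8_4_10

set_option maxRecDepth 100000 in
theorem ch_3_8_5_1_4 : enum 11 ck11 3 5 4282416 315 6 4 = true := by
  decide +kernel

set_option maxRecDepth 100000 in
theorem ch_3_8_5_1_6 : enum 11 ck11 3 5 6379568 363 6 6 = true := by
  decide +kernel

set_option maxRecDepth 100000 in
theorem ch_3_8_5_1_7 : enum 11 ck11 3 5 7428144 427 6 7 = true := by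
  decide +kernel

set_option maxRecDepth 100000 in
theorem ch_3_8_5_1_9 : enum 11 ck11 3 5 9525296 811 6 9 = true := by
  decide +kernel

set_option maxRecDepth 100000 in
theorem ch_3_8_5_1_10 : enum 11 ck11 3 5 10573872 1323 6 10 = true := by
  decide +kernel

theorem ch_3_8_5_1 : enum 11 ck11 3 6 88112 299 5 1 = true := by
  refine enum_intro 11 ck11 3 5 88112 299 5 1 ?_
  intro v hv hb hd
  interval_cases v
  · exact absurd hb (by decide)
  · exact absurd hb (by decide)
  · exact absurd hd (by decide)
  · exact absurd hb (by decide)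
  · exact ch_3_8_5_1_4
  · exact absurd hb (by decide)
  · exact ch_3_8_5_1_6
  · exact ch_3_8_5_1_7
  · exact absurd hb (by decide)
  · exact ch_3_8_5_1_9
  · exact ch_3_8_5_1_10

set_option maxRecDepth 100000 in
theorem ch_3_8_5_2_1 : enum 11 ck11 3 5 1202224 303 6 1 = true := by
  decide +kernel

set_option maxRecDepth 100000 in
theorem ch_3_8_5_2_6 : enum 11 ck11 3 5 6445104 365 6 6 = true := by
  decide +kernel

set_option maxRecDepth 100000 in
theorem ch_3_8_5_2_7 : enum 11 ck11 3 5 7493680 429 6 7 = true := by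
  decide +kernel

set_option maxRecDepth 100000 in
theorem ch_3_8_5_2_9 : enum 11 ck11 3 5 9590832 813 6 9 = true := by
  decide +kernel

set_option maxRecDepth 100000 in
theorem ch_3_8_5_2_10 : enum 11 ck11 3 5 10639408 1325 6 10 = true := by
  decide +kernel

theorem ch_3_8_5_2 : enum 11 ck11 3 6 153648 301 5 2 = true := by
  refine enum_intro 11 ck11 3 5 153648 301 5 2 ?_
  intro v hv hb hd
  interval_cases v
  · exact absurd hb (by decide)
  · exact ch_3_8_5_2_1
  · exact absurd hb (by decide)
  · exact absurd hb (by decide)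
  · exact absurd hd (by decide)
  · exact absurd hb (by decide)
  · exact ch_3_8_5_2_6
  · exact ch_3_8_5_2_7
  · exact absurd hb (by decide)
  · exact ch_3_8_5_2_9
  · exact ch_3_8_5_2_10

set_option maxRecDepth 100000 in
theorem ch_3_8_5_4_1 : enum 11 ck11 3 5 1333296 315 6 1 = true := by
  decide +kernel

set_option maxRecDepth 100000 in
theorem ch_3_8_5_4_2 : enum 11 ck11 3 5 2381872 317 6 2 = true := by
  decide +kernel

set_option maxRecDepth 100000 in
theorem ch_3_8_5_4_7 : enum 11 ck11 3 5 7624752 441 6 7 = true := by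
  decide +kernel

set_option maxRecDepth 100000 in
theorem ch_3_8_5_4_9 : enum 11 ck11 3 5 9721904 825 6 9 = true := by
  decide +kernel

set_option maxRecDepth 100000 in
theorem ch_3_8_5_4_10 : enum 11 ck11 3 5 10770480 1337 6 10 = true := by
  decide +kernel

theorem ch_3_8_5_4 : enum 11 ck11 3 6 284720 313 5 4 = true := by
  refine enum_intro 11 ck11 3 5 284720 313 5 4 ?_
  intro v hv hb hd
  interval_cases v
  · exact absurd hb (by decide)
  · exact ch_3_8_5_4_1
  · exact ch_3_8_5_4_2
  · exact absurd hb (by decide)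
  · exact absurd hb (by decide)
  · exact absurd hb (by decide)
  · exact absurd hd (by decide)
  · exact ch_3_8_5_4_7
  · exact absurd hb (by decide)
  · exact ch_3_8_5_4_9
  · exact ch_3_8_5_4_10

set_option maxRecDepth 100000 in
theorem ch_3_8_5_9_1 : enum 11 ck11 3 5 1660976 811 6 1 = true := by
  decide +kernel

set_option maxRecDepth 100000 in
theorem ch_3_8_5_9_2 : enum 11 ck11 3 5 2709552 813 6 2 = true := by
  decide +kernel

set_option maxRecDepth 100000 in
theorem ch_3_8_5_9_4 : enum 11 ck11 3 5 4806704 825 6 4 = true := by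
  decide +kernel

set_option maxRecDepth 100000 in
theorem ch_3_8_5_9_6 : enum 11 ck11 3 5 6903856 873 6 6 = true := by
  decide +kernel

set_option maxRecDepth 100000 in
theorem ch_3_8_5_9_7 : enum 11 ck11 3 5 7952432 937 6 7 = true := by
  decide +kernel

theorem ch_3_8_5_9 : enum 11 ck11 3 6 612400 809 5 9 = true := by
  refine enum_intro 11 ck11 3 5 612400 809 5 9 ?_
  intro v hv hb hd
  interval_cases v
  · exact absurd hb (by decide)
  · exact ch_3_8_5_9_1
  · exact ch_3_8_5_9_2
  · exact absurd hb (by decide)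
  · exact ch_3_8_5_9_4
  · exact absurd hb (by decide)
  · exact ch_3_8_5_9_6
  · exact ch_3_8_5_9_7
  · exact absurd hb (by decide)
  · exact absurd hb (by decide)
  · exact absurd hd (by decide)

set_option maxRecDepth 100000 in
theorem ch_3_8_5_10_2 : enum 11 ck11 3 5 2775088 1325 6 2 = true := by
  decide +kernel

set_option maxRecDepth 100000 in
theorem ch_3_8_5_10_4 : enum 11 ck11 3 5 4872240 1337 6 4 = true := by
  decide +kernel

set_option maxRecDepth 100000 in
theorem ch_3_8_5_10_6 : enum 11 ck11 3 5 6969392 1385 6 6 = true := by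
  decide +kernel

set_option maxRecDepth 100000 in
theorem ch_3_8_5_10_7 : enum 11 ck11 3 5 8017968 1449 6 7 = true := by
  decide +kernel

set_option maxRecDepth 100000 in
theorem ch_3_8_5_10_9 : enum 11 ck11 3 5 10115120 1833 6 9 = true := by
  decide +kernel

theorem ch_3_8_5_10 : enum 11 ck11 3 6 677936 1321 5 10 = true := by
  refine enum_intro 11 ck11 3 5 677936 1321 5 10 ?_
  intro v hv hb hd
  interval_cases v
  · exact absurd hb (by decide)
  · exact absurd hd (by decide)
  · exact ch_3_8_5_10_2
  · exact absurd hb (by decide)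
  · exact ch_3_8_5_10_4
  · exact absurd hb (by decide)
  · exact ch_3_8_5_10_6
  · exact ch_3_8_5_10_7
  · exact absurd hb (by decide)
  · exact ch_3_8_5_10_9
  · exact absurd hb (by decide)

theorem ch_3_8_5 : enum 11 ck11 3 7 22576 297 4 5 = true := by
  refine enum_intro 11 ck11 3 6 22576 297 4 5 ?_
  intro v hv hb hd
  interval_cases v
  · exact absurd hb (by decide)
  · exact ch_3_8_5_1
  · exact ch_3_8_5_2
  · exact absurd hb (by decide)
  · exact ch_3_8_5_4
  · exact absurd hb (by decide)
  · exact absurd hd (by decide)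
  · exact absurd hd (by decide)
  · exact absurd hb (by decide)
  · exact ch_3_8_5_9
  · exact ch_3_8_5_10

set_option maxRecDepth 100000 in
theorem ch_3_8_6_1_4 : enum 11 ck11 3 5 4286512 347 6 4 = true := by
  decide +kernel

set_option maxRecDepth 100000 in
theorem ch_3_8_6_1_5 : enum 11 ck11 3 5 5335088 363 6 5 = true := by
  decide +kernel

set_option maxRecDepth 100000 in
theorem ch_3_8_6_1_7 : enum 11 ck11 3 5 7432240 459 6 7 = true := by
  decide +kernel

set_option maxRecDepth 100000 in
theorem ch_3_8_6_1_9 : enum 11 ck11 3 5 9529392 843 6 9 = true := by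
  decide +kernel

set_option maxRecDepth 100000 in
theorem ch_3_8_6_1_10 : enum 11 ck11 3 5 10577968 1355 6 10 = true := by
  decide +kernel

theorem ch_3_8_6_1 : enum 11 ck11 3 6 92208 331 5 1 = true := by
  refine enum_intro 11 ck11 3 5 92208 331 5 1 ?_
  intro v hv hb hd
  interval_cases v
  · exact absurd hb (by decide)
  · exact absurd hb (by decide)
  · exact absurd hd (by decide)
  · exact absurd hb (by decide)
  · exact ch_3_8_6_1_4
  · exact ch_3_8_6_1_5
  · exact absurd hb (by decide)
  · exact ch_3_8_6_1_7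
  · exact absurd hb (by decide)
  · exact ch_3_8_6_1_9
  · exact ch_3_8_6_1_10

set_option maxRecDepth 100000 in
theorem ch_3_8_6_2_1 : enum 11 ck11 3 5 1206320 335 6 1 = true := by
  decide +kernel

set_option maxRecDepth 100000 in
theorem ch_3_8_6_2_5 : enum 11 ck11 3 5 5400624 365 6 5 = true := by
  decide +kernel

set_option maxRecDepth 100000 in
theorem ch_3_8_6_2_7 : enum 11 ck11 3 5 7497776 461 6 7 = true := by
  decide +kernel

set_option maxRecDepth 100000 in
theorem ch_3_8_6_2_9 : enum 11 ck11 3 5 9594928 845 6 9 = true := by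
  decide +kernel

set_option maxRecDepth 100000 in
theorem ch_3_8_6_2_10 : enum 11 ck11 3 5 10643504 1357 6 10 = true := by
  decide +kernel

theorem ch_3_8_6_2 : enum 11 ck11 3 6 157744 333 5 2 = true := by
  refine enum_intro 11 ck11 3 5 157744 333 5 2 ?_
  intro v hv hb hd
  interval_cases v
  · exact absurd hb (by decide)
  · exact ch_3_8_6_2_1
  · exact absurd hb (by decide)
  · exact absurd hb (by decide)
  · exact absurd hd (by decide)
  · exact ch_3_8_6_2_5
  · exact absurd hb (by decide)
  · exact ch_3_8_6_2_7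
  · exact absurd hb (by decide)
  · exact ch_3_8_6_2_9
  · exact ch_3_8_6_2_10

set_option maxRecDepth 100000 in
theorem ch_3_8_6_4_1 : enum 11 ck11 3 5 1337392 347 6 1 = true := by
  decide +kernel

set_option maxRecDepth 100000 in
theorem ch_3_8_6_4_2 : enum 11 ck11 3 5 2385968 349 6 2 = true := by
  decide +kernel

set_option maxRecDepth 100000 in
theorem ch_3_8_6_4_7 : enum 11 ck11 3 5 7628848 473 6 7 = true := by
  decide +kernel

set_option maxRecDepth 100000 in
theorem ch_3_8_6_4_9 : enum 11 ck11 3 5 9726000 857 6 9 = true := by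
  decide +kernel

set_option maxRecDepth 100000 in
theorem ch_3_8_6_4_10 : enum 11 ck11 3 5 10774576 1369 6 10 = true := by
  decide +kernel

theorem ch_3_8_6_4 : enum 11 ck11 3 6 288816 345 5 4 = true := by
  refine enum_intro 11 ck11 3 5 288816 345 5 4 ?_
  intro v hv hb hd
  interval_cases v
  · exact absurd hb (by decide)
  · exact ch_3_8_6_4_1
  · exact ch_3_8_6_4_2
  · exact absurd hb (by decide)
  · exact absurd hb (by decide)
  · exact absurd hd (by decide)
  · exact absurd hb (by decide)
  · exact ch_3_8_6_4_7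
  · exact absurd hb (by decide)
  · exact ch_3_8_6_4_9
  · exact ch_3_8_6_4_10

set_option maxRecDepth 100000 in
theorem ch_3_8_6_5_1 : enum 11 ck11 3 5 1402928 363 6 1 = true := by
  decide +kernel

set_option maxRecDepth 100000 in
theorem ch_3_8_6_5_2 : enum 11 ck11 3 5 2451504 365 6 2 = true := by
  decide +kernel

set_option maxRecDepth 100000 in
theorem ch_3_8_6_5_4 : enum 11 ck11 3 5 4548656 377 6 4 = true := by
  decide +kernel

set_option maxRecDepth 100000 in
theorem ch_3_8_6_5_9 : enum 11 ck11 3 5 9791536 873 6 9 = true := by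
  decide +kernel

set_option maxRecDepth 100000 in
theorem ch_3_8_6_5_10 : enum 11 ck11 3 5 10840112 1385 6 10 = true := by
  decide +kernel

theorem ch_3_8_6_5 : enum 11 ck11 3 6 354352 361 5 5 = true := by
  refine enum_intro 11 ck11 3 5 354352 361 5 5 ?_
  intro v hv hb hd
  interval_cases v
  · exact absurd hb (by decide)
  · exact ch_3_8_6_5_1
  · exact ch_3_8_6_5_2
  · exact absurd hb (by decide)
  · exact ch_3_8_6_5_4
  · exact absurd hb (by decide)
  · exact absurd hb (by decide)
  · exact absurd hd (by decide)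
  · exact absurd hb (by decide)
  · exact ch_3_8_6_5_9
  · exact ch_3_8_6_5_10

set_option maxRecDepth 100000 in
theorem ch_3_8_6_9_1 : enum 11 ck11 3 5 1665072 843 6 1 = true := by
  decide +kernel

set_option maxRecDepth 100000 in
theorem ch_3_8_6_9_2 : enum 11 ck11 3 5 2713648 845 6 2 = true := by
  decide +kernel

set_option maxRecDepth 100000 in
theorem ch_3_8_6_9_4 : enum 11 ck11 3 5 4810800 857 6 4 = true := by
  decide +kernel

set_option maxRecDepth 100000 in
theorem ch_3_8_6_9_5 : enum 11 ck11 3 5 5859376 873 6 5 = true := by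
  decide +kernel

set_option maxRecDepth 100000 in
theorem ch_3_8_6_9_7 : enum 11 ck11 3 5 7956528 969 6 7 = true := by
  decide +kernel

theorem ch_3_8_6_9 : enum 11 ck11 3 6 616496 841 5 9 = true := by
  refine enum_intro 11 ck11 3 5 616496 841 5 9 ?_
  intro v hv hb hd
  interval_cases v
  · exact absurd hb (by decide)
  · exact ch_3_8_6_9_1
  · exact ch_3_8_6_9_2
  · exact absurd hb (by decide)
  · exact ch_3_8_6_9_4
  · exact ch_3_8_6_9_5
  · exact absurd hb (by decide)
  · exact ch_3_8_6_9_7
  · exact absurd hb (by decide)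
  · exact absurd hb (by decide)
  · exact absurd hd (by decide)

set_option maxRecDepth 100000 in
theorem ch_3_8_6_10_2 : enum 11 ck11 3 5 2779184 1357 6 2 = true := by
  decide +kernel

set_option maxRecDepth 100000 in
theorem ch_3_8_6_10_4 : enum 11 ck11 3 5 4876336 1369 6 4 = true := by
  decide +kernel

set_option maxRecDepth 100000 in
theorem ch_3_8_6_10_5 : enum 11 ck11 3 5 5924912 1385 6 5 = true := by
  decide +kernel

set_option maxRecDepth 100000 in
theorem ch_3_8_6_10_7 : enum 11 ck11 3 5 8022064 1481 6 7 = true := by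
  decide +kernel

set_option maxRecDepth 100000 in
theorem ch_3_8_6_10_9 : enum 11 ck11 3 5 10119216 1865 6 9 = true := by
  decide +kernel

theorem ch_3_8_6_10 : enum 11 ck11 3 6 682032 1353 5 10 = true := by
  refine enum_intro 11 ck11 3 5 682032 1353 5 10 ?_
  intro v hv hb hd
  interval_cases v
  · exact absurd hb (by decide)
  · exact absurd hd (by decide)
  · exact ch_3_8_6_10_2
  · exact absurd hb (by decide)
  · exact ch_3_8_6_10_4
  · exact ch_3_8_6_10_5
  · exact absurd hb (by decide)
  · exact ch_3_8_6_10_7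
  · exact absurd hb (by decide)
  · exact ch_3_8_6_10_9
  · exact absurd hb (by decide)

theorem ch_3_8_6 : enum 11 ck11 3 7 26672 329 4 6 = true := by
  refine enum_intro 11 ck11 3 6 26672 329 4 6 ?_
  intro v hv hb hd
  interval_cases v
  · exact absurd hb (by decide)
  · exact ch_3_8_6_1
  · exact ch_3_8_6_2
  · exact absurd hb (by decide)
  · exact ch_3_8_6_4
  · exact ch_3_8_6_5
  · exact absurd hb (by decide)
  · exact absurd hd (by decide)
  · exact absurd hb (by decide)
  · exact ch_3_8_6_9
  · exact ch_3_8_6_10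

set_option maxRecDepth 100000 in
theorem ch_3_8_7_1_4 : enum 11 ck11 3 5 4290608 411 6 4 = true := by
  decide +kernel

set_option maxRecDepth 100000 in
theorem ch_3_8_7_1_5 : enum 11 ck11 3 5 5339184 427 6 5 = true := by
  decide +kernel

set_option maxRecDepth 100000 in
theorem ch_3_8_7_1_6 : enum 11 ck11 3 5 6387760 459 6 6 = true := by
  decide +kernel

set_option maxRecDepth 100000 in
theorem ch_3_8_7_1_9 : enum 11 ck11 3 5 9533488 907 6 9 = true := by
  decide +kernel

set_option maxRecDepth 100000 in
theorem ch_3_8_7_1_10 : enum 11 ck11 3 5 10582064 1419 6 10 = true := by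
  decide +kernel

theorem ch_3_8_7_1 : enum 11 ck11 3 6 96304 395 5 1 = true := by
  refine enum_intro 11 ck11 3 5 96304 395 5 1 ?_
  intro v hv hb hd
  interval_cases v
  · exact absurd hb (by decide)
  · exact absurd hb (by decide)
  · exact absurd hd (by decide)
  · exact absurd hb (by decide)
  · exact ch_3_8_7_1_4
  · exact ch_3_8_7_1_5
  · exact ch_3_8_7_1_6
  · exact absurd hb (by decide)
  · exact absurd hb (by decide)
  · exact ch_3_8_7_1_9
  · exact ch_3_8_7_1_10

set_option maxRecDepth 100000 in
theorem ch_3_8_7_2_1 : enum 11 ck11 3 5 1210416 399 6 1 = true := by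
  decide +kernel

set_option maxRecDepth 100000 in
theorem ch_3_8_7_2_5 : enum 11 ck11 3 5 5404720 429 6 5 = true := by
  decide +kernel

set_option maxRecDepth 100000 in
theorem ch_3_8_7_2_6 : enum 11 ck11 3 5 6453296 461 6 6 = true := by
  decide +kernel

set_option maxRecDepth 100000 in
theorem ch_3_8_7_2_9 : enum 11 ck11 3 5 9599024 909 6 9 = true := by
  decide +kernel

set_option maxRecDepth 100000 in
theorem ch_3_8_7_2_10 : enum 11 ck11 3 5 10647600 1421 6 10 = true := by
  decide +kernel

theorem ch_3_8_7_2 : enum 11 ck11 3 6 161840 397 5 2 = true := by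
  refine enum_intro 11 ck11 3 5 161840 397 5 2 ?_
  intro v hv hb hd
  interval_cases v
  · exact absurd hb (by decide)
  · exact ch_3_8_7_2_1
  · exact absurd hb (by decide)
  · exact absurd hb (by decide)
  · exact absurd hd (by decide)
  · exact ch_3_8_7_2_5
  · exact ch_3_8_7_2_6
  · exact absurd hb (by decide)
  · exact absurd hb (by decide)
  · exact ch_3_8_7_2_9
  · exact ch_3_8_7_2_10

set_option maxRecDepth 100000 in
theorem ch_3_8_7_4_1 : enum 11 ck11 3 5 1341488 411 6 1 = true := by
  decide +kernel

set_option maxRecDepth 100000 in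
theorem ch_3_8_7_4_2 : enum 11 ck11 3 5 2390064 413 6 2 = true := by
  decide +kernel

set_option maxRecDepth 100000 in
theorem ch_3_8_7_4_9 : enum 11 ck11 3 5 9730096 921 6 9 = true := by
  decide +kernel

set_option maxRecDepth 100000 in
theorem ch_3_8_7_4_10 : enum 11 ck11 3 5 10778672 1433 6 10 = true := by
  decide +kernel

theorem ch_3_8_7_4 : enum 11 ck11 3 6 292912 409 5 4 = true := by
  refine enum_intro 11 ck11 3 5 292912 409 5 4 ?_
  intro v hv hb hd
  interval_cases v
  · exact absurd hb (by decide)
  · exact ch_3_8_7_4_1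
  · exact ch_3_8_7_4_2
  · exact absurd hb (by decide)
  · exact absurd hb (by decide)
  · exact absurd hd (by decide)
  · exact absurd hd (by decide)
  · exact absurd hb (by decide)
  · exact absurd hb (by decide)
  · exact ch_3_8_7_4_9
  · exact ch_3_8_7_4_10

set_option maxRecDepth 100000 in
theorem ch_3_8_7_5_1 : enum 11 ck11 3 5 1407024 427 6 1 = true := by
  decide +kernel

set_option maxRecDepth 100000 in
theorem ch_3_8_7_5_2 : enum 11 ck11 3 5 2455600 429 6 2 = true := by
  decide +kernel

set_option maxRecDepth 100000 in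
theorem ch_3_8_7_5_4 : enum 11 ck11 3 5 4552752 441 6 4 = true := by
  decide +kernel

set_option maxRecDepth 100000 in
theorem ch_3_8_7_5_9 : enum 11 ck11 3 5 9795632 937 6 9 = true := by
  decide +kernel

set_option maxRecDepth 100000 in
theorem ch_3_8_7_5_10 : enum 11 ck11 3 5 10844208 1449 6 10 = true := by
  decide +kernel

theorem ch_3_8_7_5 : enum 11 ck11 3 6 358448 425 5 5 = true := by
  refine enum_intro 11 ck11 3 5 358448 425 5 5 ?_
  intro v hv hb hd
  interval_cases v
  · exact absurd hb (by decide)
  · exact ch_3_8_7_5_1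
  · exact ch_3_8_7_5_2
  · exact absurd hb (by decide)
  · exact ch_3_8_7_5_4
  · exact absurd hb (by decide)
  · exact absurd hd (by decide)
  · exact absurd hb (by decide)
  · exact absurd hb (by decide)
  · exact ch_3_8_7_5_9
  · exact ch_3_8_7_5_10

set_option maxRecDepth 100000 in
theorem ch_3_8_7_6_1 : enum 11 ck11 3 5 1472560 459 6 1 = true := by
  decide +kernel

set_option maxRecDepth 100000 in
theorem ch_3_8_7_6_2 : enum 11 ck11 3 5 2521136 461 6 2 = true := by
  decide +kernel

set_option maxRecDepth 100000 in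
theorem ch_3_8_7_6_4 : enum 11 ck11 3 5 4618288 473 6 4 = true := by
  decide +kernel

set_option maxRecDepth 100000 in
theorem ch_3_8_7_6_5 : enum 11 ck11 3 5 5666864 489 6 5 = true := by
  decide +kernel

set_option maxRecDepth 100000 in
theorem ch_3_8_7_6_9 : enum 11 ck11 3 5 9861168 969 6 9 = true := by
  decide +kernel

set_option maxRecDepth 100000 in
theorem ch_3_8_7_6_10 : enum 11 ck11 3 5 10909744 1481 6 10 = true := by
  decide +kernel

theorem ch_3_8_7_6 : enum 11 ck11 3 6 423984 457 5 6 = true := by
  refine enum_intro 11 ck11 3 5 423984 457 5 6 ?_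
  intro v hv hb hd
  interval_cases v
  · exact absurd hb (by decide)
  · exact ch_3_8_7_6_1
  · exact ch_3_8_7_6_2
  · exact absurd hb (by decide)
  · exact ch_3_8_7_6_4
  · exact ch_3_8_7_6_5
  · exact absurd hb (by decide)
  · exact absurd hb (by decide)
  · exact absurd hb (by decide)
  · exact ch_3_8_7_6_9
  · exact ch_3_8_7_6_10

set_option maxRecDepth 100000 in
theorem ch_3_8_7_10_2 : enum 11 ck11 3 5 2783280 1421 6 2 = true := by
  decide +kernel

set_option maxRecDepth 100000 in
theorem ch_3_8_7_10_4 : enum 11 ck11 3 5 4880432 1433 6 4 = true := by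
  decide +kernel

set_option maxRecDepth 100000 in
theorem ch_3_8_7_10_5 : enum 11 ck11 3 5 5929008 1449 6 5 = true := by
  decide +kernel

set_option maxRecDepth 100000 in
theorem ch_3_8_7_10_6 : enum 11 ck11 3 5 6977584 1481 6 6 = true := by
  decide +kernel

set_option maxRecDepth 100000 in
theorem ch_3_8_7_10_9 : enum 11 ck11 3 5 10123312 1929 6 9 = true := by
  decide +kernel

theorem ch_3_8_7_10 : enum 11 ck11 3 6 686128 1417 5 10 = true := by
  refine enum_intro 11 ck11 3 5 686128 1417 5 10 ?_
  intro v hv hb hd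
  interval_cases v
  · exact absurd hb (by decide)
  · exact absurd hd (by decide)
  · exact ch_3_8_7_10_2
  · exact absurd hb (by decide)
  · exact ch_3_8_7_10_4
  · exact ch_3_8_7_10_5
  · exact ch_3_8_7_10_6
  · exact absurd hb (by decide)
  · exact absurd hb (by decide)
  · exact ch_3_8_7_10_9
  · exact absurd hb (by decide)

theorem ch_3_8_7 : enum 11 ck11 3 7 30768 393 4 7 = true := by
  refine enum_intro 11 ck11 3 6 30768 393 4 7 ?_
  intro v hv hb hd
  interval_cases v
  · exact absurd hb (by decide)
  · exact ch_3_8_7_1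
  · exact ch_3_8_7_2
  · exact absurd hb (by decide)
  · exact ch_3_8_7_4
  · exact ch_3_8_7_5
  · exact ch_3_8_7_6
  · exact absurd hb (by decide)
  · exact absurd hb (by decide)
  · exact absurd hd (by decide)
  · exact ch_3_8_7_10

theorem ch_3_8 : enum 11 ck11 3 8 2096 265 3 8 = true := by
  refine enum_intro 11 ck11 3 7 2096 265 3 8 ?_
  intro v hv hb hd
  interval_cases v
  · exact absurd hb (by decide)
  · exact ch_3_8_1
  · exact ch_3_8_2
  · exact absurd hb (by decide)
  · exact ch_3_8_4
  · exact ch_3_8_5
  · exact ch_3_8_6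
  · exact ch_3_8_7
  · exact absurd hb (by decide)
  · exact absurd hd (by decide)
  · exact absurd hd (by decide)

set_option maxRecDepth 100000 in
theorem ch_3_9_1_4_2 : enum 11 ck11 3 5 2365744 543 6 2 = true := by
  decide +kernel

set_option maxRecDepth 100000 in
theorem ch_3_9_1_4_7 : enum 11 ck11 3 5 7608624 667 6 7 = true := by
  decide +kernel

set_option maxRecDepth 100000 in
theorem ch_3_9_1_4_8 : enum 11 ck11 3 5 8657200 795 6 8 = true := by
  decide +kernel

set_option maxRecDepth 100000 in
theorem ch_3_9_1_4_10 : enum 11 ck11 3 5 10754352 1563 6 10 = true := by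
  decide +kernel

theorem ch_3_9_1_4 : enum 11 ck11 3 6 268592 539 5 4 = true := by
  refine enum_intro 11 ck11 3 5 268592 539 5 4 ?_
  intro v hv hb hd
  interval_cases v
  · exact absurd hb (by decide)
  · exact absurd hb (by decide)
  · exact ch_3_9_1_4_2
  · exact absurd hb (by decide)
  · exact absurd hb (by decide)
  · exact absurd hd (by decide)
  · exact absurd hd (by decide)
  · exact ch_3_9_1_4_7
  · exact ch_3_9_1_4_8
  · exact absurd hb (by decide)
  · exact ch_3_9_1_4_10

set_option maxRecDepth 100000 in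
theorem ch_3_9_1_5_2 : enum 11 ck11 3 5 2431280 559 6 2 = true := by
  decide +kernel

set_option maxRecDepth 100000 in
theorem ch_3_9_1_5_4 : enum 11 ck11 3 5 4528432 571 6 4 = true := by
  decide +kernel

set_option maxRecDepth 100000 in
theorem ch_3_9_1_5_8 : enum 11 ck11 3 5 8722736 811 6 8 = true := by
  decide +kernel

set_option maxRecDepth 100000 in
theorem ch_3_9_1_5_10 : enum 11 ck11 3 5 10819888 1579 6 10 = true := by
  decide +kernel

theorem ch_3_9_1_5 : enum 11 ck11 3 6 334128 555 5 5 = true := by
  refine enum_intro 11 ck11 3 5 334128 555 5 5 ?_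
  intro v hv hb hd
  interval_cases v
  · exact absurd hb (by decide)
  · exact absurd hb (by decide)
  · exact ch_3_9_1_5_2
  · exact absurd hb (by decide)
  · exact ch_3_9_1_5_4
  · exact absurd hb (by decide)
  · exact absurd hd (by decide)
  · exact absurd hd (by decide)
  · exact ch_3_9_1_5_8
  · exact absurd hb (by decide)
  · exact ch_3_9_1_5_10

set_option maxRecDepth 100000 in
theorem ch_3_9_1_6_2 : enum 11 ck11 3 5 2496816 591 6 2 = true := by
  decide +kernel

set_option maxRecDepth 100000 in
theorem ch_3_9_1_6_4 : enum 11 ck11 3 5 4593968 603 6 4 = true := by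
  decide +kernel

set_option maxRecDepth 100000 in
theorem ch_3_9_1_6_5 : enum 11 ck11 3 5 5642544 619 6 5 = true := by
  decide +kernel

set_option maxRecDepth 100000 in
theorem ch_3_9_1_6_10 : enum 11 ck11 3 5 10885424 1611 6 10 = true := by
  decide +kernel

theorem ch_3_9_1_6 : enum 11 ck11 3 6 399664 587 5 6 = true := by
  refine enum_intro 11 ck11 3 5 399664 587 5 6 ?_
  intro v hv hb hd
  interval_cases v
  · exact absurd hb (by decide)
  · exact absurd hb (by decide)
  · exact ch_3_9_1_6_2
  · exact absurd hb (by decide)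
  · exact ch_3_9_1_6_4
  · exact ch_3_9_1_6_5
  · exact absurd hb (by decide)
  · exact absurd hd (by decide)
  · exact absurd hd (by decide)
  · exact absurd hb (by decide)
  · exact ch_3_9_1_6_10

set_option maxRecDepth 100000 in
theorem ch_3_9_1_7_2 : enum 11 ck11 3 5 2562352 655 6 2 = true := by
  decide +kernel

set_option maxRecDepth 100000 in
theorem ch_3_9_1_7_4 : enum 11 ck11 3 5 4659504 667 6 4 = true := by
  decide +kernel

set_option maxRecDepth 100000 in
theorem ch_3_9_1_7_5 : enum 11 ck11 3 5 5708080 683 6 5 = true := by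
  decide +kernel

set_option maxRecDepth 100000 in
theorem ch_3_9_1_7_6 : enum 11 ck11 3 5 6756656 715 6 6 = true := by
  decide +kernel

set_option maxRecDepth 100000 in
theorem ch_3_9_1_7_10 : enum 11 ck11 3 5 10950960 1675 6 10 = true := by
  decide +kernel

theorem ch_3_9_1_7 : enum 11 ck11 3 6 465200 651 5 7 = true := by
  refine enum_intro 11 ck11 3 5 465200 651 5 7 ?_
  intro v hv hb hd
  interval_cases v
  · exact absurd hb (by decide)
  · exact absurd hb (by decide)
  · exact ch_3_9_1_7_2
  · exact absurd hb (by decide)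
  · exact ch_3_9_1_7_4
  · exact ch_3_9_1_7_5
  · exact ch_3_9_1_7_6
  · exact absurd hb (by decide)
  · exact absurd hd (by decide)
  · exact absurd hb (by decide)
  · exact ch_3_9_1_7_10

set_option maxRecDepth 100000 in
theorem ch_3_9_1_8_2 : enum 11 ck11 3 5 2627888 783 6 2 = true := by
  decide +kernel

set_option maxRecDepth 100000 in
theorem ch_3_9_1_8_4 : enum 11 ck11 3 5 4725040 795 6 4 = true := by
  decide +kernel

set_option maxRecDepth 100000 in
theorem ch_3_9_1_8_5 : enum 11 ck11 3 5 5773616 811 6 5 = true := by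
  decide +kernel

set_option maxRecDepth 100000 in
theorem ch_3_9_1_8_6 : enum 11 ck11 3 5 6822192 843 6 6 = true := by
  decide +kernel

set_option maxRecDepth 100000 in
theorem ch_3_9_1_8_7 : enum 11 ck11 3 5 7870768 907 6 7 = true := by
  decide +kernel

theorem ch_3_9_1_8 : enum 11 ck11 3 6 530736 779 5 8 = true := by
  refine enum_intro 11 ck11 3 5 530736 779 5 8 ?_
  intro v hv hb hd
  interval_cases v
  · exact absurd hb (by decide)
  · exact absurd hb (by decide)
  · exact ch_3_9_1_8_2
  · exact absurd hb (by decide)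
  · exact ch_3_9_1_8_4
  · exact ch_3_9_1_8_5
  · exact ch_3_9_1_8_6
  · exact ch_3_9_1_8_7
  · exact absurd hb (by decide)
  · exact absurd hb (by decide)
  · exact absurd hd (by decide)

set_option maxRecDepth 100000 in
theorem ch_3_9_1_10_2 : enum 11 ck11 3 5 2758960 1551 6 2 = true := by
  decide +kernel

set_option maxRecDepth 100000 in
theorem ch_3_9_1_10_4 : enum 11 ck11 3 5 4856112 1563 6 4 = true := by
  decide +kernel

set_option maxRecDepth 100000 in
theorem ch_3_9_1_10_5 : enum 11 ck11 3 5 5904688 1579 6 5 = true := by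
  decide +kernel

set_option maxRecDepth 100000 in
theorem ch_3_9_1_10_6 : enum 11 ck11 3 5 6953264 1611 6 6 = true := by
  decide +kernel

set_option maxRecDepth 100000 in
theorem ch_3_9_1_10_7 : enum 11 ck11 3 5 8001840 1675 6 7 = true := by
  decide +kernel

set_option maxRecDepth 100000 in
theorem ch_3_9_1_10_8 : enum 11 ck11 3 5 9050416 1803 6 8 = true := by
  decide +kernel

theorem ch_3_9_1_10 : enum 11 ck11 3 6 661808 1547 5 10 = true := by
  refine enum_intro 11 ck11 3 5 661808 1547 5 10 ?_
  intro v hv hb hd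
  interval_cases v
  · exact absurd hb (by decide)
  · exact absurd hb (by decide)
  · exact ch_3_9_1_10_2
  · exact absurd hb (by decide)
  · exact ch_3_9_1_10_4
  · exact ch_3_9_1_10_5
  · exact ch_3_9_1_10_6
  · exact ch_3_9_1_10_7
  · exact ch_3_9_1_10_8
  · exact absurd hb (by decide)
  · exact absurd hb (by decide)

theorem ch_3_9_1 : enum 11 ck11 3 7 6448 523 4 1 = true := by
  refine enum_intro 11 ck11 3 6 6448 523 4 1 ?_
  intro v hv hb hd
  interval_cases v
  · exact absurd hb (by decide)
  · exact absurd hb (by decide)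
  · exact absurd hd (by decide)
  · exact absurd hb (by decide)
  · exact ch_3_9_1_4
  · exact ch_3_9_1_5
  · exact ch_3_9_1_6
  · exact ch_3_9_1_7
  · exact ch_3_9_1_8
  · exact absurd hb (by decide)
  · exact ch_3_9_1_10

set_option maxRecDepth 100000 in
theorem ch_3_9_2_1_4 : enum 11 ck11 3 5 4270384 543 6 4 = true := by
  decide +kernel

set_option maxRecDepth 100000 in
theorem ch_3_9_2_1_5 : enum 11 ck11 3 5 5318960 559 6 5 = true := by
  decide +kernel

set_option maxRecDepth 100000 in
theorem ch_3_9_2_1_6 : enum 11 ck11 3 5 6367536 591 6 6 = true := by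
  decide +kernel

set_option maxRecDepth 100000 in
theorem ch_3_9_2_1_7 : enum 11 ck11 3 5 7416112 655 6 7 = true := by
  decide +kernel

set_option maxRecDepth 100000 in
theorem ch_3_9_2_1_8 : enum 11 ck11 3 5 8464688 783 6 8 = true := by
  decide +kernel

set_option maxRecDepth 100000 in
theorem ch_3_9_2_1_10 : enum 11 ck11 3 5 10561840 1551 6 10 = true := by
  decide +kernel

theorem ch_3_9_2_1 : enum 11 ck11 3 6 76080 527 5 1 = true := by
  refine enum_intro 11 ck11 3 5 76080 527 5 1 ?_
  intro v hv hb hd
  interval_cases v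
  · exact absurd hb (by decide)
  · exact absurd hb (by decide)
  · exact absurd hb (by decide)
  · exact absurd hb (by decide)
  · exact ch_3_9_2_1_4
  · exact ch_3_9_2_1_5
  · exact ch_3_9_2_1_6
  · exact ch_3_9_2_1_7
  · exact ch_3_9_2_1_8
  · exact absurd hb (by decide)
  · exact ch_3_9_2_1_10

set_option maxRecDepth 100000 in
theorem ch_3_9_2_5_1 : enum 11 ck11 3 5 1386800 559 6 1 = true := by
  decide +kernel

set_option maxRecDepth 100000 in
theorem ch_3_9_2_5_4 : enum 11 ck11 3 5 4532528 573 6 4 = true := by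
  decide +kernel

set_option maxRecDepth 100000 in
theorem ch_3_9_2_5_8 : enum 11 ck11 3 5 8726832 813 6 8 = true := by
  decide +kernel

set_option maxRecDepth 100000 in
theorem ch_3_9_2_5_10 : enum 11 ck11 3 5 10823984 1581 6 10 = true := by
  decide +kernel

theorem ch_3_9_2_5 : enum 11 ck11 3 6 338224 557 5 5 = true := by
  refine enum_intro 11 ck11 3 5 338224 557 5 5 ?_
  intro v hv hb hd
  interval_cases v
  · exact absurd hb (by decide)
  · exact ch_3_9_2_5_1
  · exact absurd hb (by decide)
  · exact absurd hb (by decide)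
  · exact ch_3_9_2_5_4
  · exact absurd hb (by decide)
  · exact absurd hd (by decide)
  · exact absurd hd (by decide)
  · exact ch_3_9_2_5_8
  · exact absurd hb (by decide)
  · exact ch_3_9_2_5_10

set_option maxRecDepth 100000 in
theorem ch_3_9_2_6_1 : enum 11 ck11 3 5 1452336 591 6 1 = true := by
  decide +kernel

set_option maxRecDepth 100000 in
theorem ch_3_9_2_6_4 : enum 11 ck11 3 5 4598064 605 6 4 = true := by
  decide +kernel

set_option maxRecDepth 100000 in
theorem ch_3_9_2_6_5 : enum 11 ck11 3 5 5646640 621 6 5 = true := by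
  decide +kernel

set_option maxRecDepth 100000 in
theorem ch_3_9_2_6_10 : enum 11 ck11 3 5 10889520 1613 6 10 = true := by
  decide +kernel

theorem ch_3_9_2_6 : enum 11 ck11 3 6 403760 589 5 6 = true := by
  refine enum_intro 11 ck11 3 5 403760 589 5 6 ?_
  intro v hv hb hd
  interval_cases v
  · exact absurd hb (by decide)
  · exact ch_3_9_2_6_1
  · exact absurd hb (by decide)
  · exact absurd hb (by decide)
  · exact ch_3_9_2_6_4
  · exact ch_3_9_2_6_5
  · exact absurd hb (by decide)
  · exact absurd hd (by decide)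
  · exact absurd hd (by decide)
  · exact absurd hb (by decide)
  · exact ch_3_9_2_6_10

set_option maxRecDepth 100000 in
theorem ch_3_9_2_7_1 : enum 11 ck11 3 5 1517872 655 6 1 = true := by
  decide +kernel

set_option maxRecDepth 100000 in
theorem ch_3_9_2_7_4 : enum 11 ck11 3 5 4663600 669 6 4 = true := by
  decide +kernel

set_option maxRecDepth 100000 in
theorem ch_3_9_2_7_5 : enum 11 ck11 3 5 5712176 685 6 5 = true := by
  decide +kernel

set_option maxRecDepth 100000 in
theorem ch_3_9_2_7_6 : enum 11 ck11 3 5 6760752 717 6 6 = true := by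
  decide +kernel

set_option maxRecDepth 100000 in
theorem ch_3_9_2_7_10 : enum 11 ck11 3 5 10955056 1677 6 10 = true := by
  decide +kernel

theorem ch_3_9_2_7 : enum 11 ck11 3 6 469296 653 5 7 = true := by
  refine enum_intro 11 ck11 3 5 469296 653 5 7 ?_
  intro v hv hb hd
  interval_cases v
  · exact absurd hb (by decide)
  · exact ch_3_9_2_7_1
  · exact absurd hb (by decide)
  · exact absurd hb (by decide)
  · exact ch_3_9_2_7_4
  · exact ch_3_9_2_7_5
  · exact ch_3_9_2_7_6
  · exact absurd hb (by decide)
  · exact absurd hd (by decide)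
  · exact absurd hb (by decide)
  · exact ch_3_9_2_7_10

set_option maxRecDepth 100000 in
theorem ch_3_9_2_8_1 : enum 11 ck11 3 5 1583408 783 6 1 = true := by
  decide +kernel

set_option maxRecDepth 100000 in
theorem ch_3_9_2_8_4 : enum 11 ck11 3 5 4729136 797 6 4 = true := by
  decide +kernel

set_option maxRecDepth 100000 in
theorem ch_3_9_2_8_5 : enum 11 ck11 3 5 5777712 813 6 5 = true := by
  decide +kernel

set_option maxRecDepth 100000 in
theorem ch_3_9_2_8_6 : enum 11 ck11 3 5 6826288 845 6 6 = true := by
  decide +kernel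

set_option maxRecDepth 100000 in
theorem ch_3_9_2_8_7 : enum 11 ck11 3 5 7874864 909 6 7 = true := by
  decide +kernel

theorem ch_3_9_2_8 : enum 11 ck11 3 6 534832 781 5 8 = true := by
  refine enum_intro 11 ck11 3 5 534832 781 5 8 ?_
  intro v hv hb hd
  interval_cases v
  · exact absurd hb (by decide)
  · exact ch_3_9_2_8_1
  · exact absurd hb (by decide)
  · exact absurd hb (by decide)
  · exact ch_3_9_2_8_4
  · exact ch_3_9_2_8_5
  · exact ch_3_9_2_8_6
  · exact ch_3_9_2_8_7
  · exact absurd hb (by decide)
  · exact absurd hb (by decide)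
  · exact absurd hd (by decide)

set_option maxRecDepth 100000 in
theorem ch_3_9_2_10_4 : enum 11 ck11 3 5 4860208 1565 6 4 = true := by
  decide +kernel

set_option maxRecDepth 100000 in
theorem ch_3_9_2_10_5 : enum 11 ck11 3 5 5908784 1581 6 5 = true := by
  decide +kernel

set_option maxRecDepth 100000 in
theorem ch_3_9_2_10_6 : enum 11 ck11 3 5 6957360 1613 6 6 = true := by
  decide +kernel

set_option maxRecDepth 100000 in
theorem ch_3_9_2_10_7 : enum 11 ck11 3 5 8005936 1677 6 7 = true := by
  decide +kernel

set_option maxRecDepth 100000 in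
theorem ch_3_9_2_10_8 : enum 11 ck11 3 5 9054512 1805 6 8 = true := by
  decide +kernel

theorem ch_3_9_2_10 : enum 11 ck11 3 6 665904 1549 5 10 = true := by
  refine enum_intro 11 ck11 3 5 665904 1549 5 10 ?_
  intro v hv hb hd
  interval_cases v
  · exact absurd hb (by decide)
  · exact absurd hd (by decide)
  · exact absurd hb (by decide)
  · exact absurd hb (by decide)
  · exact ch_3_9_2_10_4
  · exact ch_3_9_2_10_5
  · exact ch_3_9_2_10_6
  · exact ch_3_9_2_10_7
  · exact ch_3_9_2_10_8
  · exact absurd hb (by decide)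
  · exact absurd hb (by decide)

theorem ch_3_9_2 : enum 11 ck11 3 7 10544 525 4 2 = true := by
  refine enum_intro 11 ck11 3 6 10544 525 4 2 ?_
  intro v hv hb hd
  interval_cases v
  · exact absurd hb (by decide)
  · exact ch_3_9_2_1
  · exact absurd hb (by decide)
  · exact absurd hb (by decide)
  · exact absurd hd (by decide)
  · exact ch_3_9_2_5
  · exact ch_3_9_2_6
  · exact ch_3_9_2_7
  · exact ch_3_9_2_8
  · exact absurd hb (by decide)
  · exact ch_3_9_2_10

set_option maxRecDepth 100000 in
theorem ch_3_9_4_1_5 : enum 11 ck11 3 5 5327152 571 6 5 = true := by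
  decide +kernel

set_option maxRecDepth 100000 in
theorem ch_3_9_4_1_6 : enum 11 ck11 3 5 6375728 603 6 6 = true := by
  decide +kernel

set_option maxRecDepth 100000 in
theorem ch_3_9_4_1_7 : enum 11 ck11 3 5 7424304 667 6 7 = true := by
  decide +kernel

set_option maxRecDepth 100000 in
theorem ch_3_9_4_1_8 : enum 11 ck11 3 5 8472880 795 6 8 = true := by
  decide +kernel

set_option maxRecDepth 100000 in
theorem ch_3_9_4_1_10 : enum 11 ck11 3 5 10570032 1563 6 10 = true := by
  decide +kernel

theorem ch_3_9_4_1 : enum 11 ck11 3 6 84272 539 5 1 = true := by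
  refine enum_intro 11 ck11 3 5 84272 539 5 1 ?_
  intro v hv hb hd
  interval_cases v
  · exact absurd hb (by decide)
  · exact absurd hb (by decide)
  · exact absurd hd (by decide)
  · exact absurd hb (by decide)
  · exact absurd hb (by decide)
  · exact ch_3_9_4_1_5
  · exact ch_3_9_4_1_6
  · exact ch_3_9_4_1_7
  · exact ch_3_9_4_1_8
  · exact absurd hb (by decide)
  · exact ch_3_9_4_1_10

set_option maxRecDepth 100000 in
theorem ch_3_9_4_2_1 : enum 11 ck11 3 5 1198384 543 6 1 = true := by
  decide +kernel

set_option maxRecDepth 100000 in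
theorem ch_3_9_4_2_5 : enum 11 ck11 3 5 5392688 573 6 5 = true := by
  decide +kernel

set_option maxRecDepth 100000 in
theorem ch_3_9_4_2_6 : enum 11 ck11 3 5 6441264 605 6 6 = true := by
  decide +kernel

set_option maxRecDepth 100000 in
theorem ch_3_9_4_2_7 : enum 11 ck11 3 5 7489840 669 6 7 = true := by
  decide +kernel

set_option maxRecDepth 100000 in
theorem ch_3_9_4_2_8 : enum 11 ck11 3 5 8538416 797 6 8 = true := by
  decide +kernel

set_option maxRecDepth 100000 in
theorem ch_3_9_4_2_10 : enum 11 ck11 3 5 10635568 1565 6 10 = true := by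
  decide +kernel

theorem ch_3_9_4_2 : enum 11 ck11 3 6 149808 541 5 2 = true := by
  refine enum_intro 11 ck11 3 5 149808 541 5 2 ?_
  intro v hv hb hd
  interval_cases v
  · exact absurd hb (by decide)
  · exact ch_3_9_4_2_1
  · exact absurd hb (by decide)
  · exact absurd hb (by decide)
  · exact absurd hb (by decide)
  · exact ch_3_9_4_2_5
  · exact ch_3_9_4_2_6
  · exact ch_3_9_4_2_7
  · exact ch_3_9_4_2_8
  · exact absurd hb (by decide)
  · exact ch_3_9_4_2_10

set_option maxRecDepth 100000 in
theorem ch_3_9_4_7_1 : enum 11 ck11 3 5 1526064 667 6 1 = true := by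
  decide +kernel

set_option maxRecDepth 100000 in
theorem ch_3_9_4_7_2 : enum 11 ck11 3 5 2574640 669 6 2 = true := by
  decide +kernel

set_option maxRecDepth 100000 in
theorem ch_3_9_4_7_5 : enum 11 ck11 3 5 5720368 697 6 5 = true := by
  decide +kernel

set_option maxRecDepth 100000 in
theorem ch_3_9_4_7_6 : enum 11 ck11 3 5 6768944 729 6 6 = true := by
  decide +kernel

set_option maxRecDepth 100000 in
theorem ch_3_9_4_7_10 : enum 11 ck11 3 5 10963248 1689 6 10 = true := by
  decide +kernel

theorem ch_3_9_4_7 : enum 11 ck11 3 6 477488 665 5 7 = true := by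
  refine enum_intro 11 ck11 3 5 477488 665 5 7 ?_
  intro v hv hb hd
  interval_cases v
  · exact absurd hb (by decide)
  · exact ch_3_9_4_7_1
  · exact ch_3_9_4_7_2
  · exact absurd hb (by decide)
  · exact absurd hb (by decide)
  · exact ch_3_9_4_7_5
  · exact ch_3_9_4_7_6
  · exact absurd hb (by decide)
  · exact absurd hd (by decide)
  · exact absurd hb (by decide)
  · exact ch_3_9_4_7_10

set_option maxRecDepth 100000 in
theorem ch_3_9_4_8_1 : enum 11 ck11 3 5 1591600 795 6 1 = true := by
  decide +kernel

set_option maxRecDepth 100000 in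
theorem ch_3_9_4_8_2 : enum 11 ck11 3 5 2640176 797 6 2 = true := by
  decide +kernel

set_option maxRecDepth 100000 in
theorem ch_3_9_4_8_5 : enum 11 ck11 3 5 5785904 825 6 5 = true := by
  decide +kernel

set_option maxRecDepth 100000 in
theorem ch_3_9_4_8_6 : enum 11 ck11 3 5 6834480 857 6 6 = true := by
  decide +kernel

set_option maxRecDepth 100000 in
theorem ch_3_9_4_8_7 : enum 11 ck11 3 5 7883056 921 6 7 = true := by
  decide +kernel

theorem ch_3_9_4_8 : enum 11 ck11 3 6 543024 793 5 8 = true := by
  refine enum_intro 11 ck11 3 5 543024 793 5 8 ?_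
  intro v hv hb hd
  interval_cases v
  · exact absurd hb (by decide)
  · exact ch_3_9_4_8_1
  · exact ch_3_9_4_8_2
  · exact absurd hb (by decide)
  · exact absurd hb (by decide)
  · exact ch_3_9_4_8_5
  · exact ch_3_9_4_8_6
  · exact ch_3_9_4_8_7
  · exact absurd hb (by decide)
  · exact absurd hb (by decide)
  · exact absurd hd (by decide)

set_option maxRecDepth 100000 in
theorem ch_3_9_4_10_2 : enum 11 ck11 3 5 2771248 1565 6 2 = true := by
  decide +kernel

set_option maxRecDepth 100000 in
theorem ch_3_9_4_10_5 : enum 11 ck11 3 5 5916976 1593 6 5 = true := by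
  decide +kernel

set_option maxRecDepth 100000 in
theorem ch_3_9_4_10_6 : enum 11 ck11 3 5 6965552 1625 6 6 = true := by
  decide +kernel

set_option maxRecDepth 100000 in
theorem ch_3_9_4_10_7 : enum 11 ck11 3 5 8014128 1689 6 7 = true := by
  decide +kernel

set_option maxRecDepth 100000 in
theorem ch_3_9_4_10_8 : enum 11 ck11 3 5 9062704 1817 6 8 = true := by
  decide +kernel

theorem ch_3_9_4_10 : enum 11 ck11 3 6 674096 1561 5 10 = true := by
  refine enum_intro 11 ck11 3 5 674096 1561 5 10 ?_
  intro v hv hb hd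
  interval_cases v
  · exact absurd hb (by decide)
  · exact absurd hd (by decide)
  · exact ch_3_9_4_10_2
  · exact absurd hb (by decide)
  · exact absurd hb (by decide)
  · exact ch_3_9_4_10_5
  · exact ch_3_9_4_10_6
  · exact ch_3_9_4_10_7
  · exact ch_3_9_4_10_8
  · exact absurd hb (by decide)
  · exact absurd hb (by decide)

theorem ch_3_9_4 : enum 11 ck11 3 7 18736 537 4 4 = true := by
  refine enum_intro 11 ck11 3 6 18736 537 4 4 ?_
  intro v hv hb hd
  interval_cases v
  · exact absurd hb (by decide)
  · exact ch_3_9_4_1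
  · exact ch_3_9_4_2
  · exact absurd hb (by decide)
  · exact absurd hb (by decide)
  · exact absurd hd (by decide)
  · exact absurd hd (by decide)
  · exact ch_3_9_4_7
  · exact ch_3_9_4_8
  · exact absurd hb (by decide)
  · exact ch_3_9_4_10

set_option maxRecDepth 100000 in
theorem ch_3_9_5_1_4 : enum 11 ck11 3 5 4282672 571 6 4 = true := by
  decide +kernel

set_option maxRecDepth 100000 in
theorem ch_3_9_5_1_6 : enum 11 ck11 3 5 6379824 619 6 6 = true := by
  decide +kernel

set_option maxRecDepth 100000 in
theorem ch_3_9_5_1_7 : enum 11 ck11 3 5 7428400 683 6 7 = true := by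
  decide +kernel

set_option maxRecDepth 100000 in
theorem ch_3_9_5_1_8 : enum 11 ck11 3 5 8476976 811 6 8 = true := by
  decide +kernel

set_option maxRecDepth 100000 in
theorem ch_3_9_5_1_10 : enum 11 ck11 3 5 10574128 1579 6 10 = true := by
  decide +kernel

theorem ch_3_9_5_1 : enum 11 ck11 3 6 88368 555 5 1 = true := by
  refine enum_intro 11 ck11 3 5 88368 555 5 1 ?_
  intro v hv hb hd
  interval_cases v
  · exact absurd hb (by decide)
  · exact absurd hb (by decide)
  · exact absurd hd (by decide)
  · exact absurd hb (by decide)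
  · exact ch_3_9_5_1_4
  · exact absurd hb (by decide)
  · exact ch_3_9_5_1_6
  · exact ch_3_9_5_1_7
  · exact ch_3_9_5_1_8
  · exact absurd hb (by decide)
  · exact ch_3_9_5_1_10

set_option maxRecDepth 100000 in
theorem ch_3_9_5_2_1 : enum 11 ck11 3 5 1202480 559 6 1 = true := by
  decide +kernel

set_option maxRecDepth 100000 in
theorem ch_3_9_5_2_6 : enum 11 ck11 3 5 6445360 621 6 6 = true := by
  decide +kernel

set_option maxRecDepth 100000 in
theorem ch_3_9_5_2_7 : enum 11 ck11 3 5 7493936 685 6 7 = true := by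
  decide +kernel

set_option maxRecDepth 100000 in
theorem ch_3_9_5_2_8 : enum 11 ck11 3 5 8542512 813 6 8 = true := by
  decide +kernel

set_option maxRecDepth 100000 in
theorem ch_3_9_5_2_10 : enum 11 ck11 3 5 10639664 1581 6 10 = true := by
  decide +kernel

theorem ch_3_9_5_2 : enum 11 ck11 3 6 153904 557 5 2 = true := by
  refine enum_intro 11 ck11 3 5 153904 557 5 2 ?_
  intro v hv hb hd
  interval_cases v
  · exact absurd hb (by decide)
  · exact ch_3_9_5_2_1
  · exact absurd hb (by decide)
  · exact absurd hb (by decide)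
  · exact absurd hd (by decide)
  · exact absurd hb (by decide)
  · exact ch_3_9_5_2_6
  · exact ch_3_9_5_2_7
  · exact ch_3_9_5_2_8
  · exact absurd hb (by decide)
  · exact ch_3_9_5_2_10

set_option maxRecDepth 100000 in
theorem ch_3_9_5_4_1 : enum 11 ck11 3 5 1333552 571 6 1 = true := by
  decide +kernel

set_option maxRecDepth 100000 in
theorem ch_3_9_5_4_2 : enum 11 ck11 3 5 2382128 573 6 2 = true := by
  decide +kernel

set_option maxRecDepth 100000 in
theorem ch_3_9_5_4_7 : enum 11 ck11 3 5 7625008 697 6 7 = true := by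
  decide +kernel

set_option maxRecDepth 100000 in
theorem ch_3_9_5_4_8 : enum 11 ck11 3 5 8673584 825 6 8 = true := by
  decide +kernel

set_option maxRecDepth 100000 in
theorem ch_3_9_5_4_10 : enum 11 ck11 3 5 10770736 1593 6 10 = true := by
  decide +kernel

theorem ch_3_9_5_4 : enum 11 ck11 3 6 284976 569 5 4 = true := by
  refine enum_intro 11 ck11 3 5 284976 569 5 4 ?_
  intro v hv hb hd
  interval_cases v
  · exact absurd hb (by decide)
  · exact ch_3_9_5_4_1
  · exact ch_3_9_5_4_2
  · exact absurd hb (by decide)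
  · exact absurd hb (by decide)
  · exact absurd hb (by decide)
  · exact absurd hd (by decide)
  · exact ch_3_9_5_4_7
  · exact ch_3_9_5_4_8
  · exact absurd hb (by decide)
  · exact ch_3_9_5_4_10

set_option maxRecDepth 100000 in
theorem ch_3_9_5_8_1 : enum 11 ck11 3 5 1595696 811 6 1 = true := by
  decide +kernel

set_option maxRecDepth 100000 in
theorem ch_3_9_5_8_2 : enum 11 ck11 3 5 2644272 813 6 2 = true := by
  decide +kernel

set_option maxRecDepth 100000 in
theorem ch_3_9_5_8_4 : enum 11 ck11 3 5 4741424 825 6 4 = true := by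
  decide +kernel

set_option maxRecDepth 100000 in
theorem ch_3_9_5_8_6 : enum 11 ck11 3 5 6838576 873 6 6 = true := by
  decide +kernel

set_option maxRecDepth 100000 in
theorem ch_3_9_5_8_7 : enum 11 ck11 3 5 7887152 937 6 7 = true := by
  decide +kernel

theorem ch_3_9_5_8 : enum 11 ck11 3 6 547120 809 5 8 = true := by
  refine enum_intro 11 ck11 3 5 547120 809 5 8 ?_
  intro v hv hb hd
  interval_cases v
  · exact absurd hb (by decide)
  · exact ch_3_9_5_8_1
  · exact ch_3_9_5_8_2
  · exact absurd hb (by decide)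
  · exact ch_3_9_5_8_4
  · exact absurd hb (by decide)
  · exact ch_3_9_5_8_6
  · exact ch_3_9_5_8_7
  · exact absurd hb (by decide)
  · exact absurd hb (by decide)
  · exact absurd hd (by decide)

set_option maxRecDepth 100000 in
theorem ch_3_9_5_10_2 : enum 11 ck11 3 5 2775344 1581 6 2 = true := by
  decide +kernel

set_option maxRecDepth 100000 in
theorem ch_3_9_5_10_4 : enum 11 ck11 3 5 4872496 1593 6 4 = true := by
  decide +kernel

set_option maxRecDepth 100000 in
theorem ch_3_9_5_10_6 : enum 11 ck11 3 5 6969648 1641 6 6 = true := by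
  decide +kernel

set_option maxRecDepth 100000 in
theorem ch_3_9_5_10_7 : enum 11 ck11 3 5 8018224 1705 6 7 = true := by
  decide +kernel

set_option maxRecDepth 100000 in
theorem ch_3_9_5_10_8 : enum 11 ck11 3 5 9066800 1833 6 8 = true := by
  decide +kernel

theorem ch_3_9_5_10 : enum 11 ck11 3 6 678192 1577 5 10 = true := by
  refine enum_intro 11 ck11 3 5 678192 1577 5 10 ?_
  intro v hv hb hd
  interval_cases v
  · exact absurd hb (by decide)
  · exact absurd hd (by decide)
  · exact ch_3_9_5_10_2
  · exact absurd hb (by decide)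
  · exact ch_3_9_5_10_4
  · exact absurd hb (by decide)
  · exact ch_3_9_5_10_6
  · exact ch_3_9_5_10_7
  · exact ch_3_9_5_10_8
  · exact absurd hb (by decide)
  · exact absurd hb (by decide)

theorem ch_3_9_5 : enum 11 ck11 3 7 22832 553 4 5 = true := by
  refine enum_intro 11 ck11 3 6 22832 553 4 5 ?_
  intro v hv hb hd
  interval_cases v
  · exact absurd hb (by decide)
  · exact ch_3_9_5_1
  · exact ch_3_9_5_2
  · exact absurd hb (by decide)
  · exact ch_3_9_5_4
  · exact absurd hb (by decide)
  · exact absurd hd (by decide)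
  · exact absurd hd (by decide)
  · exact ch_3_9_5_8
  · exact absurd hb (by decide)
  · exact ch_3_9_5_10

set_option maxRecDepth 100000 in
theorem ch_3_9_6_1_4 : enum 11 ck11 3 5 4286768 603 6 4 = true := by
  decide +kernel

set_option maxRecDepth 100000 in
theorem ch_3_9_6_1_5 : enum 11 ck11 3 5 5335344 619 6 5 = true := by
  decide +kernel

set_option maxRecDepth 100000 in
theorem ch_3_9_6_1_7 : enum 11 ck11 3 5 7432496 715 6 7 = true := by
  decide +kernel

set_option maxRecDepth 100000 in
theorem ch_3_9_6_1_8 : enum 11 ck11 3 5 8481072 843 6 8 = true := by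
  decide +kernel

set_option maxRecDepth 100000 in
theorem ch_3_9_6_1_10 : enum 11 ck11 3 5 10578224 1611 6 10 = true := by
  decide +kernel

theorem ch_3_9_6_1 : enum 11 ck11 3 6 92464 587 5 1 = true := by
  refine enum_intro 11 ck11 3 5 92464 587 5 1 ?_
  intro v hv hb hd
  interval_cases v
  · exact absurd hb (by decide)
  · exact absurd hb (by decide)
  · exact absurd hd (by decide)
  · exact absurd hb (by decide)
  · exact ch_3_9_6_1_4
  · exact ch_3_9_6_1_5
  · exact absurd hb (by decide)
  · exact ch_3_9_6_1_7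
  · exact ch_3_9_6_1_8
  · exact absurd hb (by decide)
  · exact ch_3_9_6_1_10

set_option maxRecDepth 100000 in
theorem ch_3_9_6_2_1 : enum 11 ck11 3 5 1206576 591 6 1 = true := by
  decide +kernel

set_option maxRecDepth 100000 in
theorem ch_3_9_6_2_5 : enum 11 ck11 3 5 5400880 621 6 5 = true := by
  decide +kernel

set_option maxRecDepth 100000 in
theorem ch_3_9_6_2_7 : enum 11 ck11 3 5 7498032 717 6 7 = true := by
  decide +kernel

set_option maxRecDepth 100000 in
theorem ch_3_9_6_2_8 : enum 11 ck11 3 5 8546608 845 6 8 = true := by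
  decide +kernel

set_option maxRecDepth 100000 in
theorem ch_3_9_6_2_10 : enum 11 ck11 3 5 10643760 1613 6 10 = true := by
  decide +kernel

theorem ch_3_9_6_2 : enum 11 ck11 3 6 158000 589 5 2 = true := by
  refine enum_intro 11 ck11 3 5 158000 589 5 2 ?_
  intro v hv hb hd
  interval_cases v
  · exact absurd hb (by decide)
  · exact ch_3_9_6_2_1
  · exact absurd hb (by decide)
  · exact absurd hb (by decide)
  · exact absurd hd (by decide)
  · exact ch_3_9_6_2_5
  · exact absurd hb (by decide)
  · exact ch_3_9_6_2_7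
  · exact ch_3_9_6_2_8
  · exact absurd hb (by decide)
  · exact ch_3_9_6_2_10

set_option maxRecDepth 100000 in
theorem ch_3_9_6_4_1 : enum 11 ck11 3 5 1337648 603 6 1 = true := by
  decide +kernel

set_option maxRecDepth 100000 in
theorem ch_3_9_6_4_2 : enum 11 ck11 3 5 2386224 605 6 2 = true := by
  decide +kernel

set_option maxRecDepth 100000 in
theorem ch_3_9_6_4_7 : enum 11 ck11 3 5 7629104 729 6 7 = true := by
  decide +kernel

set_option maxRecDepth 100000 in
theorem ch_3_9_6_4_8 : enum 11 ck11 3 5 8677680 857 6 8 = true := by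
  decide +kernel

set_option maxRecDepth 100000 in
theorem ch_3_9_6_4_10 : enum 11 ck11 3 5 10774832 1625 6 10 = true := by
  decide +kernel

theorem ch_3_9_6_4 : enum 11 ck11 3 6 289072 601 5 4 = true := by
  refine enum_intro 11 ck11 3 5 289072 601 5 4 ?_
  intro v hv hb hd
  interval_cases v
  · exact absurd hb (by decide)
  · exact ch_3_9_6_4_1
  · exact ch_3_9_6_4_2
  · exact absurd hb (by decide)
  · exact absurd hb (by decide)
  · exact absurd hd (by decide)
  · exact absurd hb (by decide)
  · exact ch_3_9_6_4_7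
  · exact ch_3_9_6_4_8
  · exact absurd hb (by decide)
  · exact ch_3_9_6_4_10

set_option maxRecDepth 100000 in
theorem ch_3_9_6_5_1 : enum 11 ck11 3 5 1403184 619 6 1 = true := by
  decide +kernel

set_option maxRecDepth 100000 in
theorem ch_3_9_6_5_2 : enum 11 ck11 3 5 2451760 621 6 2 = true := by
  decide +kernel

set_option maxRecDepth 100000 in
theorem ch_3_9_6_5_4 : enum 11 ck11 3 5 4548912 633 6 4 = true := by
  decide +kernel

set_option maxRecDepth 100000 in
theorem ch_3_9_6_5_8 : enum 11 ck11 3 5 8743216 873 6 8 = true := by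
  decide +kernel

set_option maxRecDepth 100000 in
theorem ch_3_9_6_5_10 : enum 11 ck11 3 5 10840368 1641 6 10 = true := by
  decide +kernel

theorem ch_3_9_6_5 : enum 11 ck11 3 6 354608 617 5 5 = true := by
  refine enum_intro 11 ck11 3 5 354608 617 5 5 ?_
  intro v hv hb hd
  interval_cases v
  · exact absurd hb (by decide)
  · exact ch_3_9_6_5_1
  · exact ch_3_9_6_5_2
  · exact absurd hb (by decide)
  · exact ch_3_9_6_5_4
  · exact absurd hb (by decide)
  · exact absurd hb (by decide)
  · exact absurd hd (by decide)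
  · exact ch_3_9_6_5_8
  · exact absurd hb (by decide)
  · exact ch_3_9_6_5_10

set_option maxRecDepth 100000 in
theorem ch_3_9_6_10_2 : enum 11 ck11 3 5 2779440 1613 6 2 = true := by
  decide +kernel

set_option maxRecDepth 100000 in
theorem ch_3_9_6_10_4 : enum 11 ck11 3 5 4876592 1625 6 4 = true := by
  decide +kernel

set_option maxRecDepth 100000 in
theorem ch_3_9_6_10_5 : enum 11 ck11 3 5 5925168 1641 6 5 = true := by
  decide +kernel

set_option maxRecDepth 100000 in
theorem ch_3_9_6_10_7 : enum 11 ck11 3 5 8022320 1737 6 7 = true := by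
  decide +kernel

set_option maxRecDepth 100000 in
theorem ch_3_9_6_10_8 : enum 11 ck11 3 5 9070896 1865 6 8 = true := by
  decide +kernel

theorem ch_3_9_6_10 : enum 11 ck11 3 6 682288 1609 5 10 = true := by
  refine enum_intro 11 ck11 3 5 682288 1609 5 10 ?_
  intro v hv hb hd
  interval_cases v
  · exact absurd hb (by decide)
  · exact absurd hd (by decide)
  · exact ch_3_9_6_10_2
  · exact absurd hb (by decide)
  · exact ch_3_9_6_10_4
  · exact ch_3_9_6_10_5
  · exact absurd hb (by decide)
  · exact ch_3_9_6_10_7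
  · exact ch_3_9_6_10_8
  · exact absurd hb (by decide)
  · exact absurd hb (by decide)

theorem ch_3_9_6 : enum 11 ck11 3 7 26928 585 4 6 = true := by
  refine enum_intro 11 ck11 3 6 26928 585 4 6 ?_
  intro v hv hb hd
  interval_cases v
  · exact absurd hb (by decide)
  · exact ch_3_9_6_1
  · exact ch_3_9_6_2
  · exact absurd hb (by decide)
  · exact ch_3_9_6_4
  · exact ch_3_9_6_5
  · exact absurd hb (by decide)
  · exact absurd hd (by decide)
  · exact absurd hd (by decide)
  · exact absurd hb (by decide)
  · exact ch_3_9_6_10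

set_option maxRecDepth 100000 in
theorem ch_3_9_7_1_4 : enum 11 ck11 3 5 4290864 667 6 4 = true := by
  decide +kernel

set_option maxRecDepth 100000 in
theorem ch_3_9_7_1_5 : enum 11 ck11 3 5 5339440 683 6 5 = true := by
  decide +kernel

set_option maxRecDepth 100000 in
theorem ch_3_9_7_1_6 : enum 11 ck11 3 5 6388016 715 6 6 = true := by
  decide +kernel

set_option maxRecDepth 100000 in
theorem ch_3_9_7_1_8 : enum 11 ck11 3 5 8485168 907 6 8 = true := by
  decide +kernel

set_option maxRecDepth 100000 in
theorem ch_3_9_7_1_10 : enum 11 ck11 3 5 10582320 1675 6 10 = true := by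
  decide +kernel

theorem ch_3_9_7_1 : enum 11 ck11 3 6 96560 651 5 1 = true := by
  refine enum_intro 11 ck11 3 5 96560 651 5 1 ?_
  intro v hv hb hd
  interval_cases v
  · exact absurd hb (by decide)
  · exact absurd hb (by decide)
  · exact absurd hd (by decide)
  · exact absurd hb (by decide)
  · exact ch_3_9_7_1_4
  · exact ch_3_9_7_1_5
  · exact ch_3_9_7_1_6
  · exact absurd hb (by decide)
  · exact ch_3_9_7_1_8
  · exact absurd hb (by decide)
  · exact ch_3_9_7_1_10

set_option maxRecDepth 100000 in
theorem ch_3_9_7_2_1 : enum 11 ck11 3 5 1210672 655 6 1 = true := by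
  decide +kernel

set_option maxRecDepth 100000 in
theorem ch_3_9_7_2_5 : enum 11 ck11 3 5 5404976 685 6 5 = true := by
  decide +kernel

set_option maxRecDepth 100000 in
theorem ch_3_9_7_2_6 : enum 11 ck11 3 5 6453552 717 6 6 = true := by
  decide +kernel

set_option maxRecDepth 100000 in
theorem ch_3_9_7_2_8 : enum 11 ck11 3 5 8550704 909 6 8 = true := by
  decide +kernel

set_option maxRecDepth 100000 in
theorem ch_3_9_7_2_10 : enum 11 ck11 3 5 10647856 1677 6 10 = true := by
  decide +kernel

theorem ch_3_9_7_2 : enum 11 ck11 3 6 162096 653 5 2 = true := by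
  refine enum_intro 11 ck11 3 5 162096 653 5 2 ?_
  intro v hv hb hd
  interval_cases v
  · exact absurd hb (by decide)
  · exact ch_3_9_7_2_1
  · exact absurd hb (by decide)
  · exact absurd hb (by decide)
  · exact absurd hd (by decide)
  · exact ch_3_9_7_2_5
  · exact ch_3_9_7_2_6
  · exact absurd hb (by decide)
  · exact ch_3_9_7_2_8
  · exact absurd hb (by decide)
  · exact ch_3_9_7_2_10

set_option maxRecDepth 100000 in
theorem ch_3_9_7_4_1 : enum 11 ck11 3 5 1341744 667 6 1 = true := by
  decide +kernel

set_option maxRecDepth 100000 in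
theorem ch_3_9_7_4_2 : enum 11 ck11 3 5 2390320 669 6 2 = true := by
  decide +kernel

set_option maxRecDepth 100000 in
theorem ch_3_9_7_4_8 : enum 11 ck11 3 5 8681776 921 6 8 = true := by
  decide +kernel

set_option maxRecDepth 100000 in
theorem ch_3_9_7_4_10 : enum 11 ck11 3 5 10778928 1689 6 10 = true := by
  decide +kernel

theorem ch_3_9_7_4 : enum 11 ck11 3 6 293168 665 5 4 = true := by
  refine enum_intro 11 ck11 3 5 293168 665 5 4 ?_
  intro v hv hb hd
  interval_cases v
  · exact absurd hb (by decide)
  · exact ch_3_9_7_4_1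
  · exact ch_3_9_7_4_2
  · exact absurd hb (by decide)
  · exact absurd hb (by decide)
  · exact absurd hd (by decide)
  · exact absurd hd (by decide)
  · exact absurd hb (by decide)
  · exact ch_3_9_7_4_8
  · exact absurd hb (by decide)
  · exact ch_3_9_7_4_10

set_option maxRecDepth 100000 in
theorem ch_3_9_7_5_1 : enum 11 ck11 3 5 1407280 683 6 1 = true := by
  decide +kernel

set_option maxRecDepth 100000 in
theorem ch_3_9_7_5_2 : enum 11 ck11 3 5 2455856 685 6 2 = true := by
  decide +kernel

set_option maxRecDepth 100000 in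
theorem ch_3_9_7_5_4 : enum 11 ck11 3 5 4553008 697 6 4 = true := by
  decide +kernel

set_option maxRecDepth 100000 in
theorem ch_3_9_7_5_8 : enum 11 ck11 3 5 8747312 937 6 8 = true := by
  decide +kernel

set_option maxRecDepth 100000 in
theorem ch_3_9_7_5_10 : enum 11 ck11 3 5 10844464 1705 6 10 = true := by
  decide +kernel

theorem ch_3_9_7_5 : enum 11 ck11 3 6 358704 681 5 5 = true := by
  refine enum_intro 11 ck11 3 5 358704 681 5 5 ?_
  intro v hv hb hd
  interval_cases v
  · exact absurd hb (by decide)
  · exact ch_3_9_7_5_1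
  · exact ch_3_9_7_5_2
  · exact absurd hb (by decide)
  · exact ch_3_9_7_5_4
  · exact absurd hb (by decide)
  · exact absurd hd (by decide)
  · exact absurd hb (by decide)
  · exact ch_3_9_7_5_8
  · exact absurd hb (by decide)
  · exact ch_3_9_7_5_10

set_option maxRecDepth 100000 in
theorem ch_3_9_7_6_1 : enum 11 ck11 3 5 1472816 715 6 1 = true := by
  decide +kernel

set_option maxRecDepth 100000 in
theorem ch_3_9_7_6_2 : enum 11 ck11 3 5 2521392 717 6 2 = true := by
  decide +kernel

set_option maxRecDepth 100000 in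
theorem ch_3_9_7_6_4 : enum 11 ck11 3 5 4618544 729 6 4 = true := by
  decide +kernel

set_option maxRecDepth 100000 in
theorem ch_3_9_7_6_5 : enum 11 ck11 3 5 5667120 745 6 5 = true := by
  decide +kernel

set_option maxRecDepth 100000 in
theorem ch_3_9_7_6_10 : enum 11 ck11 3 5 10910000 1737 6 10 = true := by
  decide +kernel

theorem ch_3_9_7_6 : enum 11 ck11 3 6 424240 713 5 6 = true := by
  refine enum_intro 11 ck11 3 5 424240 713 5 6 ?_
  intro v hv hb hd
  interval_cases v
  · exact absurd hb (by decide)
  · exact ch_3_9_7_6_1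
  · exact ch_3_9_7_6_2
  · exact absurd hb (by decide)
  · exact ch_3_9_7_6_4
  · exact ch_3_9_7_6_5
  · exact absurd hb (by decide)
  · exact absurd hb (by decide)
  · exact absurd hd (by decide)
  · exact absurd hb (by decide)
  · exact ch_3_9_7_6_10

set_option maxRecDepth 100000 in
theorem ch_3_9_7_10_2 : enum 11 ck11 3 5 2783536 1677 6 2 = true := by
  decide +kernel

set_option maxRecDepth 100000 in
theorem ch_3_9_7_10_4 : enum 11 ck11 3 5 4880688 1689 6 4 = true := by
  decide +kernel

set_option maxRecDepth 100000 in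
theorem ch_3_9_7_10_5 : enum 11 ck11 3 5 5929264 1705 6 5 = true := by
  decide +kernel

set_option maxRecDepth 100000 in
theorem ch_3_9_7_10_6 : enum 11 ck11 3 5 6977840 1737 6 6 = true := by
  decide +kernel

set_option maxRecDepth 100000 in
theorem ch_3_9_7_10_8 : enum 11 ck11 3 5 9074992 1929 6 8 = true := by
  decide +kernel

theorem ch_3_9_7_10 : enum 11 ck11 3 6 686384 1673 5 10 = true := by
  refine enum_intro 11 ck11 3 5 686384 1673 5 10 ?_
  intro v hv hb hd
  interval_cases v
  · exact absurd hb (by decide)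
  · exact absurd hd (by decide)
  · exact ch_3_9_7_10_2
  · exact absurd hb (by decide)
  · exact ch_3_9_7_10_4
  · exact ch_3_9_7_10_5
  · exact ch_3_9_7_10_6
  · exact absurd hb (by decide)
  · exact ch_3_9_7_10_8
  · exact absurd hb (by decide)
  · exact absurd hb (by decide)

theorem ch_3_9_7 : enum 11 ck11 3 7 31024 649 4 7 = true := by
  refine enum_intro 11 ck11 3 6 31024 649 4 7 ?_
  intro v hv hb hd
  interval_cases v
  · exact absurd hb (by decide)
  · exact ch_3_9_7_1
  · exact ch_3_9_7_2
  · exact absurd hb (by decide)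
  · exact ch_3_9_7_4
  · exact ch_3_9_7_5
  · exact ch_3_9_7_6
  · exact absurd hb (by decide)
  · exact absurd hd (by decide)
  · exact absurd hb (by decide)
  · exact ch_3_9_7_10

set_option maxRecDepth 100000 in
theorem ch_3_9_8_1_4 : enum 11 ck11 3 5 4294960 795 6 4 = true := by
  decide +kernel

set_option maxRecDepth 100000 in
theorem ch_3_9_8_1_5 : enum 11 ck11 3 5 5343536 811 6 5 = true := by
  decide +kernel

set_option maxRecDepth 100000 in
theorem ch_3_9_8_1_6 : enum 11 ck11 3 5 6392112 843 6 6 = true := by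
  decide +kernel

set_option maxRecDepth 100000 in
theorem ch_3_9_8_1_7 : enum 11 ck11 3 5 7440688 907 6 7 = true := by
  decide +kernel

set_option maxRecDepth 100000 in
theorem ch_3_9_8_1_10 : enum 11 ck11 3 5 10586416 1803 6 10 = true := by
  decide +kernel

theorem ch_3_9_8_1 : enum 11 ck11 3 6 100656 779 5 1 = true := by
  refine enum_intro 11 ck11 3 5 100656 779 5 1 ?_
  intro v hv hb hd
  interval_cases v
  · exact absurd hb (by decide)
  · exact absurd hb (by decide)
  · exact absurd hd (by decide)
  · exact absurd hb (by decide)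
  · exact ch_3_9_8_1_4
  · exact ch_3_9_8_1_5
  · exact ch_3_9_8_1_6
  · exact ch_3_9_8_1_7
  · exact absurd hb (by decide)
  · exact absurd hb (by decide)
  · exact ch_3_9_8_1_10

set_option maxRecDepth 100000 in
theorem ch_3_9_8_2_1 : enum 11 ck11 3 5 1214768 783 6 1 = true := by
  decide +kernel

set_option maxRecDepth 100000 in
theorem ch_3_9_8_2_5 : enum 11 ck11 3 5 5409072 813 6 5 = true := by
  decide +kernel

set_option maxRecDepth 100000 in
theorem ch_3_9_8_2_6 : enum 11 ck11 3 5 6457648 845 6 6 = true := by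
  decide +kernel

set_option maxRecDepth 100000 in
theorem ch_3_9_8_2_7 : enum 11 ck11 3 5 7506224 909 6 7 = true := by
  decide +kernel

set_option maxRecDepth 100000 in
theorem ch_3_9_8_2_10 : enum 11 ck11 3 5 10651952 1805 6 10 = true := by
  decide +kernel

theorem ch_3_9_8_2 : enum 11 ck11 3 6 166192 781 5 2 = true := by
  refine enum_intro 11 ck11 3 5 166192 781 5 2 ?_
  intro v hv hb hd
  interval_cases v
  · exact absurd hb (by decide)
  · exact ch_3_9_8_2_1
  · exact absurd hb (by decide)
  · exact absurd hb (by decide)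
  · exact absurd hd (by decide)
  · exact ch_3_9_8_2_5
  · exact ch_3_9_8_2_6
  · exact ch_3_9_8_2_7
  · exact absurd hb (by decide)
  · exact absurd hb (by decide)
  · exact ch_3_9_8_2_10

set_option maxRecDepth 100000 in
theorem ch_3_9_8_4_1 : enum 11 ck11 3 5 1345840 795 6 1 = true := by
  decide +kernel

set_option maxRecDepth 100000 in
theorem ch_3_9_8_4_2 : enum 11 ck11 3 5 2394416 797 6 2 = true := by
  decide +kernel

set_option maxRecDepth 100000 in
theorem ch_3_9_8_4_7 : enum 11 ck11 3 5 7637296 921 6 7 = true := by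
  decide +kernel

set_option maxRecDepth 100000 in
theorem ch_3_9_8_4_10 : enum 11 ck11 3 5 10783024 1817 6 10 = true := by
  decide +kernel

theorem ch_3_9_8_4 : enum 11 ck11 3 6 297264 793 5 4 = true := by
  refine enum_intro 11 ck11 3 5 297264 793 5 4 ?_
  intro v hv hb hd
  interval_cases v
  · exact absurd hb (by decide)
  · exact ch_3_9_8_4_1
  · exact ch_3_9_8_4_2
  · exact absurd hb (by decide)
  · exact absurd hb (by decide)
  · exact absurd hd (by decide)
  · exact absurd hd (by decide)
  · exact ch_3_9_8_4_7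
  · exact absurd hb (by decide)
  · exact absurd hb (by decide)
  · exact ch_3_9_8_4_10

set_option maxRecDepth 100000 in
theorem ch_3_9_8_5_1 : enum 11 ck11 3 5 1411376 811 6 1 = true := by
  decide +kernel

set_option maxRecDepth 100000 in
theorem ch_3_9_8_5_2 : enum 11 ck11 3 5 2459952 813 6 2 = true := by
  decide +kernel

set_option maxRecDepth 100000 in
theorem ch_3_9_8_5_4 : enum 11 ck11 3 5 4557104 825 6 4 = true := by
  decide +kernel

set_option maxRecDepth 100000 in
theorem ch_3_9_8_5_10 : enum 11 ck11 3 5 10848560 1833 6 10 = true := by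
  decide +kernel

theorem ch_3_9_8_5 : enum 11 ck11 3 6 362800 809 5 5 = true := by
  refine enum_intro 11 ck11 3 5 362800 809 5 5 ?_
  intro v hv hb hd
  interval_cases v
  · exact absurd hb (by decide)
  · exact ch_3_9_8_5_1
  · exact ch_3_9_8_5_2
  · exact absurd hb (by decide)
  · exact ch_3_9_8_5_4
  · exact absurd hb (by decide)
  · exact absurd hd (by decide)
  · exact absurd hd (by decide)
  · exact absurd hb (by decide)
  · exact absurd hb (by decide)
  · exact ch_3_9_8_5_10

set_option maxRecDepth 100000 in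
theorem ch_3_9_8_6_1 : enum 11 ck11 3 5 1476912 843 6 1 = true := by
  decide +kernel

set_option maxRecDepth 100000 in
theorem ch_3_9_8_6_2 : enum 11 ck11 3 5 2525488 845 6 2 = true := by
  decide +kernel

set_option maxRecDepth 100000 in
theorem ch_3_9_8_6_4 : enum 11 ck11 3 5 4622640 857 6 4 = true := by
  decide +kernel

set_option maxRecDepth 100000 in
theorem ch_3_9_8_6_5 : enum 11 ck11 3 5 5671216 873 6 5 = true := by
  decide +kernel

set_option maxRecDepth 100000 in
theorem ch_3_9_8_6_10 : enum 11 ck11 3 5 10914096 1865 6 10 = true := by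
  decide +kernel

theorem ch_3_9_8_6 : enum 11 ck11 3 6 428336 841 5 6 = true := by
  refine enum_intro 11 ck11 3 5 428336 841 5 6 ?_
  intro v hv hb hd
  interval_cases v
  · exact absurd hb (by decide)
  · exact ch_3_9_8_6_1
  · exact ch_3_9_8_6_2
  · exact absurd hb (by decide)
  · exact ch_3_9_8_6_4
  · exact ch_3_9_8_6_5
  · exact absurd hb (by decide)
  · exact absurd hd (by decide)
  · exact absurd hb (by decide)
  · exact absurd hb (by decide)
  · exact ch_3_9_8_6_10

set_option maxRecDepth 100000 in
theorem ch_3_9_8_7_1 : enum 11 ck11 3 5 1542448 907 6 1 = true := by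
  decide +kernel

set_option maxRecDepth 100000 in
theorem ch_3_9_8_7_2 : enum 11 ck11 3 5 2591024 909 6 2 = true := by
  decide +kernel

set_option maxRecDepth 100000 in
theorem ch_3_9_8_7_4 : enum 11 ck11 3 5 4688176 921 6 4 = true := by
  decide +kernel

set_option maxRecDepth 100000 in
theorem ch_3_9_8_7_5 : enum 11 ck11 3 5 5736752 937 6 5 = true := by
  decide +kernel

set_option maxRecDepth 100000 in
theorem ch_3_9_8_7_6 : enum 11 ck11 3 5 6785328 969 6 6 = true := by
  decide +kernel

set_option maxRecDepth 100000 in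
theorem ch_3_9_8_7_10 : enum 11 ck11 3 5 10979632 1929 6 10 = true := by
  decide +kernel

theorem ch_3_9_8_7 : enum 11 ck11 3 6 493872 905 5 7 = true := by
  refine enum_intro 11 ck11 3 5 493872 905 5 7 ?_
  intro v hv hb hd
  interval_cases v
  · exact absurd hb (by decide)
  · exact ch_3_9_8_7_1
  · exact ch_3_9_8_7_2
  · exact absurd hb (by decide)
  · exact ch_3_9_8_7_4
  · exact ch_3_9_8_7_5
  · exact ch_3_9_8_7_6
  · exact absurd hb (by decide)
  · exact absurd hb (by decide)
  · exact absurd hb (by decide)
  · exact ch_3_9_8_7_10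

theorem ch_3_9_8 : enum 11 ck11 3 7 35120 777 4 8 = true := by
  refine enum_intro 11 ck11 3 6 35120 777 4 8 ?_
  intro v hv hb hd
  interval_cases v
  · exact absurd hb (by decide)
  · exact ch_3_9_8_1
  · exact ch_3_9_8_2
  · exact absurd hb (by decide)
  · exact ch_3_9_8_4
  · exact ch_3_9_8_5
  · exact ch_3_9_8_6
  · exact ch_3_9_8_7
  · exact absurd hb (by decide)
  · exact absurd hb (by decide)
  · exact absurd hd (by decide)

theorem ch_3_9 : enum 11 ck11 3 8 2352 521 3 9 = true := by
  refine enum_intro 11 ck11 3 7 2352 521 3 9 ?_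
  intro v hv hb hd
  interval_cases v
  · exact absurd hb (by decide)
  · exact ch_3_9_1
  · exact ch_3_9_2
  · exact absurd hb (by decide)
  · exact ch_3_9_4
  · exact ch_3_9_5
  · exact ch_3_9_6
  · exact ch_3_9_7
  · exact ch_3_9_8
  · exact absurd hb (by decide)
  · exact absurd hd (by decide)

end Cfsg.Agent.Helper9.T11
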