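import Mathlib
import Cfsg.Agent.Helper9.T11.Chk

set_option autoImplicit false
set_option Elab.async false

/-!
A part of the enumeration on 11 points: the test holds at every permutation of the part.
-/

namespace Cfsg.Agent.Helper9.T11

set_option maxRecDepth 100000 in
theorem ch_3_10_2_1 : enum 11 ck11 3 6 76336 1039 5 1 = true := by
  decide +kernel

set_option maxRecDepth 100000 in
theorem ch_3_10_2_5_1 : enum 11 ck11 3 5 1387056 1071 6 1 = true := by
  decide +kernel

set_option maxRecDepth 100000 in
theorem ch_3_10_2_5_4 : enum 11 ck11 3 5 4532784 1085 6 4 = true := by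
  decide +kernel

set_option maxRecDepth 100000 in
theorem ch_3_10_2_5_8 : enum 11 ck11 3 5 8727088 1325 6 8 = true := by
  decide +kernel

set_option maxRecDepth 100000 in
theorem ch_3_10_2_5_9 : enum 11 ck11 3 5 9775664 1581 6 9 = true := by
  decide +kernel

theorem ch_3_10_2_5 : enum 11 ck11 3 6 338480 1069 5 5 = true := by
  refine enum_intro 11 ck11 3 5 338480 1069 5 5 ?_
  intro v hv hb hd
  interval_cases v
  · exact absurd hb (by decide)
  · exact ch_3_10_2_5_1
  · exact absurd hb (by decide)
  · exact absurd hb (by decide)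
  · exact ch_3_10_2_5_4
  · exact absurd hb (by decide)
  · exact absurd hd (by decide)
  · exact absurd hd (by decide)
  · exact ch_3_10_2_5_8
  · exact ch_3_10_2_5_9
  · exact absurd hb (by decide)

set_option maxRecDepth 100000 in
theorem ch_3_10_2_6_1 : enum 11 ck11 3 5 1452592 1103 6 1 = true := by
  decide +kernel

set_option maxRecDepth 100000 in
theorem ch_3_10_2_6_4 : enum 11 ck11 3 5 4598320 1117 6 4 = true := by
  decide +kernel

set_option maxRecDepth 100000 in
theorem ch_3_10_2_6_5 : enum 11 ck11 3 5 5646896 1133 6 5 = true := by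
  decide +kernel

set_option maxRecDepth 100000 in
theorem ch_3_10_2_6_9 : enum 11 ck11 3 5 9841200 1613 6 9 = true := by
  decide +kernel

theorem ch_3_10_2_6 : enum 11 ck11 3 6 404016 1101 5 6 = true := by
  refine enum_intro 11 ck11 3 5 404016 1101 5 6 ?_
  intro v hv hb hd
  interval_cases v
  · exact absurd hb (by decide)
  · exact ch_3_10_2_6_1
  · exact absurd hb (by decide)
  · exact absurd hb (by decide)
  · exact ch_3_10_2_6_4
  · exact ch_3_10_2_6_5
  · exact absurd hb (by decide)
  · exact absurd hd (by decide)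
  · exact absurd hd (by decide)
  · exact ch_3_10_2_6_9
  · exact absurd hb (by decide)

set_option maxRecDepth 100000 in
theorem ch_3_10_2_7_1 : enum 11 ck11 3 5 1518128 1167 6 1 = true := by
  decide +kernel

set_option maxRecDepth 100000 in
theorem ch_3_10_2_7_4 : enum 11 ck11 3 5 4663856 1181 6 4 = true := by
  decide +kernel

set_option maxRecDepth 100000 in
theorem ch_3_10_2_7_5 : enum 11 ck11 3 5 5712432 1197 6 5 = true := by
  decide +kernel

set_option maxRecDepth 100000 in
theorem ch_3_10_2_7_6 : enum 11 ck11 3 5 6761008 1229 6 6 = true := by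
  decide +kernel

theorem ch_3_10_2_7 : enum 11 ck11 3 6 469552 1165 5 7 = true := by
  refine enum_intro 11 ck11 3 5 469552 1165 5 7 ?_
  intro v hv hb hd
  interval_cases v
  · exact absurd hb (by decide)
  · exact ch_3_10_2_7_1
  · exact absurd hb (by decide)
  · exact absurd hb (by decide)
  · exact ch_3_10_2_7_4
  · exact ch_3_10_2_7_5
  · exact ch_3_10_2_7_6
  · exact absurd hb (by decide)
  · exact absurd hd (by decide)
  · exact absurd hd (by decide)
  · exact absurd hb (by decide)

set_option maxRecDepth 100000 in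
theorem ch_3_10_2_8_1 : enum 11 ck11 3 5 1583664 1295 6 1 = true := by
  decide +kernel

set_option maxRecDepth 100000 in
theorem ch_3_10_2_8_4 : enum 11 ck11 3 5 4729392 1309 6 4 = true := by
  decide +kernel

set_option maxRecDepth 100000 in
theorem ch_3_10_2_8_5 : enum 11 ck11 3 5 5777968 1325 6 5 = true := by
  decide +kernel

set_option maxRecDepth 100000 in
theorem ch_3_10_2_8_6 : enum 11 ck11 3 5 6826544 1357 6 6 = true := by
  decide +kernel

set_option maxRecDepth 100000 in
theorem ch_3_10_2_8_7 : enum 11 ck11 3 5 7875120 1421 6 7 = true := by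
  decide +kernel

theorem ch_3_10_2_8 : enum 11 ck11 3 6 535088 1293 5 8 = true := by
  refine enum_intro 11 ck11 3 5 535088 1293 5 8 ?_
  intro v hv hb hd
  interval_cases v
  · exact absurd hb (by decide)
  · exact ch_3_10_2_8_1
  · exact absurd hb (by decide)
  · exact absurd hb (by decide)
  · exact ch_3_10_2_8_4
  · exact ch_3_10_2_8_5
  · exact ch_3_10_2_8_6
  · exact ch_3_10_2_8_7
  · exact absurd hb (by decide)
  · exact absurd hd (by decide)
  · exact absurd hb (by decide)

set_option maxRecDepth 100000 in
theorem ch_3_10_2_9_1 : enum 11 ck11 3 5 1649200 1551 6 1 = true := by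
  decide +kernel

set_option maxRecDepth 100000 in
theorem ch_3_10_2_9_4 : enum 11 ck11 3 5 4794928 1565 6 4 = true := by
  decide +kernel

set_option maxRecDepth 100000 in
theorem ch_3_10_2_9_5 : enum 11 ck11 3 5 5843504 1581 6 5 = true := by
  decide +kernel

set_option maxRecDepth 100000 in
theorem ch_3_10_2_9_6 : enum 11 ck11 3 5 6892080 1613 6 6 = true := by
  decide +kernel

set_option maxRecDepth 100000 in
theorem ch_3_10_2_9_7 : enum 11 ck11 3 5 7940656 1677 6 7 = true := by
  decide +kernel

set_option maxRecDepth 100000 in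
theorem ch_3_10_2_9_8 : enum 11 ck11 3 5 8989232 1805 6 8 = true := by
  decide +kernel

theorem ch_3_10_2_9 : enum 11 ck11 3 6 600624 1549 5 9 = true := by
  refine enum_intro 11 ck11 3 5 600624 1549 5 9 ?_
  intro v hv hb hd
  interval_cases v
  · exact absurd hb (by decide)
  · exact ch_3_10_2_9_1
  · exact absurd hb (by decide)
  · exact absurd hb (by decide)
  · exact ch_3_10_2_9_4
  · exact ch_3_10_2_9_5
  · exact ch_3_10_2_9_6
  · exact ch_3_10_2_9_7
  · exact ch_3_10_2_9_8
  · exact absurd hb (by decide)
  · exact absurd hb (by decide)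

theorem ch_3_10_2 : enum 11 ck11 3 7 10800 1037 4 2 = true := by
  refine enum_intro 11 ck11 3 6 10800 1037 4 2 ?_
  intro v hv hb hd
  interval_cases v
  · exact absurd hb (by decide)
  · exact ch_3_10_2_1
  · exact absurd hb (by decide)
  · exact absurd hb (by decide)
  · exact absurd hd (by decide)
  · exact ch_3_10_2_5
  · exact ch_3_10_2_6
  · exact ch_3_10_2_7
  · exact ch_3_10_2_8
  · exact ch_3_10_2_9
  · exact absurd hb (by decide)

set_option maxRecDepth 100000 in
theorem ch_3_10_4_1_5 : enum 11 ck11 3 5 5327408 1083 6 5 = true := by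
  decide +kernel

set_option maxRecDepth 100000 in
theorem ch_3_10_4_1_6 : enum 11 ck11 3 5 6375984 1115 6 6 = true := by
  decide +kernel

set_option maxRecDepth 100000 in
theorem ch_3_10_4_1_7 : enum 11 ck11 3 5 7424560 1179 6 7 = true := by
  decide +kernel

set_option maxRecDepth 100000 in
theorem ch_3_10_4_1_8 : enum 11 ck11 3 5 8473136 1307 6 8 = true := by
  decide +kernel

set_option maxRecDepth 100000 in
theorem ch_3_10_4_1_9 : enum 11 ck11 3 5 9521712 1563 6 9 = true := by
  decide +kernel

theorem ch_3_10_4_1 : enum 11 ck11 3 6 84528 1051 5 1 = true := by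
  refine enum_intro 11 ck11 3 5 84528 1051 5 1 ?_
  intro v hv hb hd
  interval_cases v
  · exact absurd hb (by decide)
  · exact absurd hb (by decide)
  · exact absurd hd (by decide)
  · exact absurd hb (by decide)
  · exact absurd hb (by decide)
  · exact ch_3_10_4_1_5
  · exact ch_3_10_4_1_6
  · exact ch_3_10_4_1_7
  · exact ch_3_10_4_1_8
  · exact ch_3_10_4_1_9
  · exact absurd hb (by decide)

set_option maxRecDepth 100000 in
theorem ch_3_10_4_2_1 : enum 11 ck11 3 5 1198640 1055 6 1 = true := by
  decide +kernel

set_option maxRecDepth 100000 in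
theorem ch_3_10_4_2_5 : enum 11 ck11 3 5 5392944 1085 6 5 = true := by
  decide +kernel

set_option maxRecDepth 100000 in
theorem ch_3_10_4_2_6 : enum 11 ck11 3 5 6441520 1117 6 6 = true := by
  decide +kernel

set_option maxRecDepth 100000 in
theorem ch_3_10_4_2_7 : enum 11 ck11 3 5 7490096 1181 6 7 = true := by
  decide +kernel

set_option maxRecDepth 100000 in
theorem ch_3_10_4_2_8 : enum 11 ck11 3 5 8538672 1309 6 8 = true := by
  decide +kernel

set_option maxRecDepth 100000 in
theorem ch_3_10_4_2_9 : enum 11 ck11 3 5 9587248 1565 6 9 = true := by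
  decide +kernel

theorem ch_3_10_4_2 : enum 11 ck11 3 6 150064 1053 5 2 = true := by
  refine enum_intro 11 ck11 3 5 150064 1053 5 2 ?_
  intro v hv hb hd
  interval_cases v
  · exact absurd hb (by decide)
  · exact ch_3_10_4_2_1
  · exact absurd hb (by decide)
  · exact absurd hb (by decide)
  · exact absurd hb (by decide)
  · exact ch_3_10_4_2_5
  · exact ch_3_10_4_2_6
  · exact ch_3_10_4_2_7
  · exact ch_3_10_4_2_8
  · exact ch_3_10_4_2_9
  · exact absurd hb (by decide)

set_option maxRecDepth 100000 in
theorem ch_3_10_4_7_1 : enum 11 ck11 3 5 1526320 1179 6 1 = true := by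
  decide +kernel

set_option maxRecDepth 100000 in
theorem ch_3_10_4_7_2 : enum 11 ck11 3 5 2574896 1181 6 2 = true := by
  decide +kernel

set_option maxRecDepth 100000 in
theorem ch_3_10_4_7_5 : enum 11 ck11 3 5 5720624 1209 6 5 = true := by
  decide +kernel

set_option maxRecDepth 100000 in
theorem ch_3_10_4_7_6 : enum 11 ck11 3 5 6769200 1241 6 6 = true := by
  decide +kernel

theorem ch_3_10_4_7 : enum 11 ck11 3 6 477744 1177 5 7 = true := by
  refine enum_intro 11 ck11 3 5 477744 1177 5 7 ?_
  intro v hv hb hd
  interval_cases v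
  · exact absurd hb (by decide)
  · exact ch_3_10_4_7_1
  · exact ch_3_10_4_7_2
  · exact absurd hb (by decide)
  · exact absurd hb (by decide)
  · exact ch_3_10_4_7_5
  · exact ch_3_10_4_7_6
  · exact absurd hb (by decide)
  · exact absurd hd (by decide)
  · exact absurd hd (by decide)
  · exact absurd hb (by decide)

set_option maxRecDepth 100000 in
theorem ch_3_10_4_8_1 : enum 11 ck11 3 5 1591856 1307 6 1 = true := by
  decide +kernel

set_option maxRecDepth 100000 in
theorem ch_3_10_4_8_2 : enum 11 ck11 3 5 2640432 1309 6 2 = true := by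
  decide +kernel

set_option maxRecDepth 100000 in
theorem ch_3_10_4_8_5 : enum 11 ck11 3 5 5786160 1337 6 5 = true := by
  decide +kernel

set_option maxRecDepth 100000 in
theorem ch_3_10_4_8_6 : enum 11 ck11 3 5 6834736 1369 6 6 = true := by
  decide +kernel

set_option maxRecDepth 100000 in
theorem ch_3_10_4_8_7 : enum 11 ck11 3 5 7883312 1433 6 7 = true := by
  decide +kernel

theorem ch_3_10_4_8 : enum 11 ck11 3 6 543280 1305 5 8 = true := by
  refine enum_intro 11 ck11 3 5 543280 1305 5 8 ?_
  intro v hv hb hd
  interval_cases v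
  · exact absurd hb (by decide)
  · exact ch_3_10_4_8_1
  · exact ch_3_10_4_8_2
  · exact absurd hb (by decide)
  · exact absurd hb (by decide)
  · exact ch_3_10_4_8_5
  · exact ch_3_10_4_8_6
  · exact ch_3_10_4_8_7
  · exact absurd hb (by decide)
  · exact absurd hd (by decide)
  · exact absurd hb (by decide)

set_option maxRecDepth 100000 in
theorem ch_3_10_4_9_1 : enum 11 ck11 3 5 1657392 1563 6 1 = true := by
  decide +kernel

set_option maxRecDepth 100000 in
theorem ch_3_10_4_9_2 : enum 11 ck11 3 5 2705968 1565 6 2 = true := by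
  decide +kernel

set_option maxRecDepth 100000 in
theorem ch_3_10_4_9_5 : enum 11 ck11 3 5 5851696 1593 6 5 = true := by
  decide +kernel

set_option maxRecDepth 100000 in
theorem ch_3_10_4_9_6 : enum 11 ck11 3 5 6900272 1625 6 6 = true := by
  decide +kernel

set_option maxRecDepth 100000 in
theorem ch_3_10_4_9_7 : enum 11 ck11 3 5 7948848 1689 6 7 = true := by
  decide +kernel

set_option maxRecDepth 100000 in
theorem ch_3_10_4_9_8 : enum 11 ck11 3 5 8997424 1817 6 8 = true := by
  decide +kernel

theorem ch_3_10_4_9 : enum 11 ck11 3 6 608816 1561 5 9 = true := by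
  refine enum_intro 11 ck11 3 5 608816 1561 5 9 ?_
  intro v hv hb hd
  interval_cases v
  · exact absurd hb (by decide)
  · exact ch_3_10_4_9_1
  · exact ch_3_10_4_9_2
  · exact absurd hb (by decide)
  · exact absurd hb (by decide)
  · exact ch_3_10_4_9_5
  · exact ch_3_10_4_9_6
  · exact ch_3_10_4_9_7
  · exact ch_3_10_4_9_8
  · exact absurd hb (by decide)
  · exact absurd hb (by decide)

theorem ch_3_10_4 : enum 11 ck11 3 7 18992 1049 4 4 = true := by
  refine enum_intro 11 ck11 3 6 18992 1049 4 4 ?_
  intro v hv hb hd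
  interval_cases v
  · exact absurd hb (by decide)
  · exact ch_3_10_4_1
  · exact ch_3_10_4_2
  · exact absurd hb (by decide)
  · exact absurd hb (by decide)
  · exact absurd hd (by decide)
  · exact absurd hd (by decide)
  · exact ch_3_10_4_7
  · exact ch_3_10_4_8
  · exact ch_3_10_4_9
  · exact absurd hb (by decide)

set_option maxRecDepth 100000 in
theorem ch_3_10_5_1_4 : enum 11 ck11 3 5 4282928 1083 6 4 = true := by
  decide +kernel

set_option maxRecDepth 100000 in
theorem ch_3_10_5_1_6 : enum 11 ck11 3 5 6380080 1131 6 6 = true := by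
  decide +kernel

set_option maxRecDepth 100000 in
theorem ch_3_10_5_1_7 : enum 11 ck11 3 5 7428656 1195 6 7 = true := by
  decide +kernel

set_option maxRecDepth 100000 in
theorem ch_3_10_5_1_8 : enum 11 ck11 3 5 8477232 1323 6 8 = true := by
  decide +kernel

set_option maxRecDepth 100000 in
theorem ch_3_10_5_1_9 : enum 11 ck11 3 5 9525808 1579 6 9 = true := by
  decide +kernel

theorem ch_3_10_5_1 : enum 11 ck11 3 6 88624 1067 5 1 = true := by
  refine enum_intro 11 ck11 3 5 88624 1067 5 1 ?_
  intro v hv hb hd
  interval_cases v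
  · exact absurd hb (by decide)
  · exact absurd hb (by decide)
  · exact absurd hd (by decide)
  · exact absurd hb (by decide)
  · exact ch_3_10_5_1_4
  · exact absurd hb (by decide)
  · exact ch_3_10_5_1_6
  · exact ch_3_10_5_1_7
  · exact ch_3_10_5_1_8
  · exact ch_3_10_5_1_9
  · exact absurd hb (by decide)

set_option maxRecDepth 100000 in
theorem ch_3_10_5_2_1 : enum 11 ck11 3 5 1202736 1071 6 1 = true := by
  decide +kernel

set_option maxRecDepth 100000 in
theorem ch_3_10_5_2_6 : enum 11 ck11 3 5 6445616 1133 6 6 = true := by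
  decide +kernel

set_option maxRecDepth 100000 in
theorem ch_3_10_5_2_7 : enum 11 ck11 3 5 7494192 1197 6 7 = true := by
  decide +kernel

set_option maxRecDepth 100000 in
theorem ch_3_10_5_2_8 : enum 11 ck11 3 5 8542768 1325 6 8 = true := by
  decide +kernel

set_option maxRecDepth 100000 in
theorem ch_3_10_5_2_9 : enum 11 ck11 3 5 9591344 1581 6 9 = true := by
  decide +kernel

theorem ch_3_10_5_2 : enum 11 ck11 3 6 154160 1069 5 2 = true := by
  refine enum_intro 11 ck11 3 5 154160 1069 5 2 ?_
  intro v hv hb hd
  interval_cases v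
  · exact absurd hb (by decide)
  · exact ch_3_10_5_2_1
  · exact absurd hb (by decide)
  · exact absurd hb (by decide)
  · exact absurd hd (by decide)
  · exact absurd hb (by decide)
  · exact ch_3_10_5_2_6
  · exact ch_3_10_5_2_7
  · exact ch_3_10_5_2_8
  · exact ch_3_10_5_2_9
  · exact absurd hb (by decide)

set_option maxRecDepth 100000 in
theorem ch_3_10_5_4_1 : enum 11 ck11 3 5 1333808 1083 6 1 = true := by
  decide +kernel

set_option maxRecDepth 100000 in
theorem ch_3_10_5_4_2 : enum 11 ck11 3 5 2382384 1085 6 2 = true := by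
  decide +kernel

set_option maxRecDepth 100000 in
theorem ch_3_10_5_4_7 : enum 11 ck11 3 5 7625264 1209 6 7 = true := by
  decide +kernel

set_option maxRecDepth 100000 in
theorem ch_3_10_5_4_8 : enum 11 ck11 3 5 8673840 1337 6 8 = true := by
  decide +kernel

set_option maxRecDepth 100000 in
theorem ch_3_10_5_4_9 : enum 11 ck11 3 5 9722416 1593 6 9 = true := by
  decide +kernel

theorem ch_3_10_5_4 : enum 11 ck11 3 6 285232 1081 5 4 = true := by
  refine enum_intro 11 ck11 3 5 285232 1081 5 4 ?_
  intro v hv hb hd
  interval_cases v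
  · exact absurd hb (by decide)
  · exact ch_3_10_5_4_1
  · exact ch_3_10_5_4_2
  · exact absurd hb (by decide)
  · exact absurd hb (by decide)
  · exact absurd hb (by decide)
  · exact absurd hd (by decide)
  · exact ch_3_10_5_4_7
  · exact ch_3_10_5_4_8
  · exact ch_3_10_5_4_9
  · exact absurd hb (by decide)

set_option maxRecDepth 100000 in
theorem ch_3_10_5_8_1 : enum 11 ck11 3 5 1595952 1323 6 1 = true := by
  decide +kernel

set_option maxRecDepth 100000 in
theorem ch_3_10_5_8_2 : enum 11 ck11 3 5 2644528 1325 6 2 = true := by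
  decide +kernel

set_option maxRecDepth 100000 in
theorem ch_3_10_5_8_4 : enum 11 ck11 3 5 4741680 1337 6 4 = true := by
  decide +kernel

set_option maxRecDepth 100000 in
theorem ch_3_10_5_8_6 : enum 11 ck11 3 5 6838832 1385 6 6 = true := by
  decide +kernel

set_option maxRecDepth 100000 in
theorem ch_3_10_5_8_7 : enum 11 ck11 3 5 7887408 1449 6 7 = true := by
  decide +kernel

theorem ch_3_10_5_8 : enum 11 ck11 3 6 547376 1321 5 8 = true := by
  refine enum_intro 11 ck11 3 5 547376 1321 5 8 ?_
  intro v hv hb hd
  interval_cases v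
  · exact absurd hb (by decide)
  · exact ch_3_10_5_8_1
  · exact ch_3_10_5_8_2
  · exact absurd hb (by decide)
  · exact ch_3_10_5_8_4
  · exact absurd hb (by decide)
  · exact ch_3_10_5_8_6
  · exact ch_3_10_5_8_7
  · exact absurd hb (by decide)
  · exact absurd hd (by decide)
  · exact absurd hb (by decide)

set_option maxRecDepth 100000 in
theorem ch_3_10_5_9_1 : enum 11 ck11 3 5 1661488 1579 6 1 = true := by
  decide +kernel

set_option maxRecDepth 100000 in
theorem ch_3_10_5_9_2 : enum 11 ck11 3 5 2710064 1581 6 2 = true := by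
  decide +kernel

set_option maxRecDepth 100000 in
theorem ch_3_10_5_9_4 : enum 11 ck11 3 5 4807216 1593 6 4 = true := by
  decide +kernel

set_option maxRecDepth 100000 in
theorem ch_3_10_5_9_6 : enum 11 ck11 3 5 6904368 1641 6 6 = true := by
  decide +kernel

set_option maxRecDepth 100000 in
theorem ch_3_10_5_9_7 : enum 11 ck11 3 5 7952944 1705 6 7 = true := by
  decide +kernel

set_option maxRecDepth 100000 in
theorem ch_3_10_5_9_8 : enum 11 ck11 3 5 9001520 1833 6 8 = true := by
  decide +kernel

theorem ch_3_10_5_9 : enum 11 ck11 3 6 612912 1577 5 9 = true := by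
  refine enum_intro 11 ck11 3 5 612912 1577 5 9 ?_
  intro v hv hb hd
  interval_cases v
  · exact absurd hb (by decide)
  · exact ch_3_10_5_9_1
  · exact ch_3_10_5_9_2
  · exact absurd hb (by decide)
  · exact ch_3_10_5_9_4
  · exact absurd hb (by decide)
  · exact ch_3_10_5_9_6
  · exact ch_3_10_5_9_7
  · exact ch_3_10_5_9_8
  · exact absurd hb (by decide)
  · exact absurd hb (by decide)

theorem ch_3_10_5 : enum 11 ck11 3 7 23088 1065 4 5 = true := by
  refine enum_intro 11 ck11 3 6 23088 1065 4 5 ?_
  intro v hv hb hd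
  interval_cases v
  · exact absurd hb (by decide)
  · exact ch_3_10_5_1
  · exact ch_3_10_5_2
  · exact absurd hb (by decide)
  · exact ch_3_10_5_4
  · exact absurd hb (by decide)
  · exact absurd hd (by decide)
  · exact absurd hd (by decide)
  · exact ch_3_10_5_8
  · exact ch_3_10_5_9
  · exact absurd hb (by decide)

set_option maxRecDepth 100000 in
theorem ch_3_10_6_1_4 : enum 11 ck11 3 5 4287024 1115 6 4 = true := by
  decide +kernel

set_option maxRecDepth 100000 in
theorem ch_3_10_6_1_5 : enum 11 ck11 3 5 5335600 1131 6 5 = true := by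
  decide +kernel

set_option maxRecDepth 100000 in
theorem ch_3_10_6_1_7 : enum 11 ck11 3 5 7432752 1227 6 7 = true := by
  decide +kernel

set_option maxRecDepth 100000 in
theorem ch_3_10_6_1_8 : enum 11 ck11 3 5 8481328 1355 6 8 = true := by
  decide +kernel

set_option maxRecDepth 100000 in
theorem ch_3_10_6_1_9 : enum 11 ck11 3 5 9529904 1611 6 9 = true := by
  decide +kernel

theorem ch_3_10_6_1 : enum 11 ck11 3 6 92720 1099 5 1 = true := by
  refine enum_intro 11 ck11 3 5 92720 1099 5 1 ?_
  intro v hv hb hd
  interval_cases v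
  · exact absurd hb (by decide)
  · exact absurd hb (by decide)
  · exact absurd hd (by decide)
  · exact absurd hb (by decide)
  · exact ch_3_10_6_1_4
  · exact ch_3_10_6_1_5
  · exact absurd hb (by decide)
  · exact ch_3_10_6_1_7
  · exact ch_3_10_6_1_8
  · exact ch_3_10_6_1_9
  · exact absurd hb (by decide)

set_option maxRecDepth 100000 in
theorem ch_3_10_6_2_1 : enum 11 ck11 3 5 1206832 1103 6 1 = true := by
  decide +kernel

set_option maxRecDepth 100000 in
theorem ch_3_10_6_2_5 : enum 11 ck11 3 5 5401136 1133 6 5 = true := by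
  decide +kernel

set_option maxRecDepth 100000 in
theorem ch_3_10_6_2_7 : enum 11 ck11 3 5 7498288 1229 6 7 = true := by
  decide +kernel

set_option maxRecDepth 100000 in
theorem ch_3_10_6_2_8 : enum 11 ck11 3 5 8546864 1357 6 8 = true := by
  decide +kernel

set_option maxRecDepth 100000 in
theorem ch_3_10_6_2_9 : enum 11 ck11 3 5 9595440 1613 6 9 = true := by
  decide +kernel

theorem ch_3_10_6_2 : enum 11 ck11 3 6 158256 1101 5 2 = true := by
  refine enum_intro 11 ck11 3 5 158256 1101 5 2 ?_
  intro v hv hb hd
  interval_cases v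
  · exact absurd hb (by decide)
  · exact ch_3_10_6_2_1
  · exact absurd hb (by decide)
  · exact absurd hb (by decide)
  · exact absurd hd (by decide)
  · exact ch_3_10_6_2_5
  · exact absurd hb (by decide)
  · exact ch_3_10_6_2_7
  · exact ch_3_10_6_2_8
  · exact ch_3_10_6_2_9
  · exact absurd hb (by decide)

set_option maxRecDepth 100000 in
theorem ch_3_10_6_4_1 : enum 11 ck11 3 5 1337904 1115 6 1 = true := by
  decide +kernel

set_option maxRecDepth 100000 in
theorem ch_3_10_6_4_2 : enum 11 ck11 3 5 2386480 1117 6 2 = true := by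
  decide +kernel

set_option maxRecDepth 100000 in
theorem ch_3_10_6_4_7 : enum 11 ck11 3 5 7629360 1241 6 7 = true := by
  decide +kernel

set_option maxRecDepth 100000 in
theorem ch_3_10_6_4_8 : enum 11 ck11 3 5 8677936 1369 6 8 = true := by
  decide +kernel

set_option maxRecDepth 100000 in
theorem ch_3_10_6_4_9 : enum 11 ck11 3 5 9726512 1625 6 9 = true := by
  decide +kernel

theorem ch_3_10_6_4 : enum 11 ck11 3 6 289328 1113 5 4 = true := by
  refine enum_intro 11 ck11 3 5 289328 1113 5 4 ?_
  intro v hv hb hd
  interval_cases v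
  · exact absurd hb (by decide)
  · exact ch_3_10_6_4_1
  · exact ch_3_10_6_4_2
  · exact absurd hb (by decide)
  · exact absurd hb (by decide)
  · exact absurd hd (by decide)
  · exact absurd hb (by decide)
  · exact ch_3_10_6_4_7
  · exact ch_3_10_6_4_8
  · exact ch_3_10_6_4_9
  · exact absurd hb (by decide)

set_option maxRecDepth 100000 in
theorem ch_3_10_6_5_1 : enum 11 ck11 3 5 1403440 1131 6 1 = true := by
  decide +kernel

set_option maxRecDepth 100000 in
theorem ch_3_10_6_5_2 : enum 11 ck11 3 5 2452016 1133 6 2 = true := by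
  decide +kernel

set_option maxRecDepth 100000 in
theorem ch_3_10_6_5_4 : enum 11 ck11 3 5 4549168 1145 6 4 = true := by
  decide +kernel

set_option maxRecDepth 100000 in
theorem ch_3_10_6_5_8 : enum 11 ck11 3 5 8743472 1385 6 8 = true := by
  decide +kernel

set_option maxRecDepth 100000 in
theorem ch_3_10_6_5_9 : enum 11 ck11 3 5 9792048 1641 6 9 = true := by
  decide +kernel

theorem ch_3_10_6_5 : enum 11 ck11 3 6 354864 1129 5 5 = true := by
  refine enum_intro 11 ck11 3 5 354864 1129 5 5 ?_
  intro v hv hb hd
  interval_cases v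
  · exact absurd hb (by decide)
  · exact ch_3_10_6_5_1
  · exact ch_3_10_6_5_2
  · exact absurd hb (by decide)
  · exact ch_3_10_6_5_4
  · exact absurd hb (by decide)
  · exact absurd hb (by decide)
  · exact absurd hd (by decide)
  · exact ch_3_10_6_5_8
  · exact ch_3_10_6_5_9
  · exact absurd hb (by decide)

set_option maxRecDepth 100000 in
theorem ch_3_10_6_9_1 : enum 11 ck11 3 5 1665584 1611 6 1 = true := by
  decide +kernel

set_option maxRecDepth 100000 in
theorem ch_3_10_6_9_2 : enum 11 ck11 3 5 2714160 1613 6 2 = true := by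
  decide +kernel

set_option maxRecDepth 100000 in
theorem ch_3_10_6_9_4 : enum 11 ck11 3 5 4811312 1625 6 4 = true := by
  decide +kernel

set_option maxRecDepth 100000 in
theorem ch_3_10_6_9_5 : enum 11 ck11 3 5 5859888 1641 6 5 = true := by
  decide +kernel

set_option maxRecDepth 100000 in
theorem ch_3_10_6_9_7 : enum 11 ck11 3 5 7957040 1737 6 7 = true := by
  decide +kernel

set_option maxRecDepth 100000 in
theorem ch_3_10_6_9_8 : enum 11 ck11 3 5 9005616 1865 6 8 = true := by
  decide +kernel

theorem ch_3_10_6_9 : enum 11 ck11 3 6 617008 1609 5 9 = true := by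
  refine enum_intro 11 ck11 3 5 617008 1609 5 9 ?_
  intro v hv hb hd
  interval_cases v
  · exact absurd hb (by decide)
  · exact ch_3_10_6_9_1
  · exact ch_3_10_6_9_2
  · exact absurd hb (by decide)
  · exact ch_3_10_6_9_4
  · exact ch_3_10_6_9_5
  · exact absurd hb (by decide)
  · exact ch_3_10_6_9_7
  · exact ch_3_10_6_9_8
  · exact absurd hb (by decide)
  · exact absurd hb (by decide)

theorem ch_3_10_6 : enum 11 ck11 3 7 27184 1097 4 6 = true := by
  refine enum_intro 11 ck11 3 6 27184 1097 4 6 ?_
  intro v hv hb hd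
  interval_cases v
  · exact absurd hb (by decide)
  · exact ch_3_10_6_1
  · exact ch_3_10_6_2
  · exact absurd hb (by decide)
  · exact ch_3_10_6_4
  · exact ch_3_10_6_5
  · exact absurd hb (by decide)
  · exact absurd hd (by decide)
  · exact absurd hd (by decide)
  · exact ch_3_10_6_9
  · exact absurd hb (by decide)

set_option maxRecDepth 100000 in
theorem ch_3_10_7_1_4 : enum 11 ck11 3 5 4291120 1179 6 4 = true := by
  decide +kernel

set_option maxRecDepth 100000 in
theorem ch_3_10_7_1_5 : enum 11 ck11 3 5 5339696 1195 6 5 = true := by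
  decide +kernel

set_option maxRecDepth 100000 in
theorem ch_3_10_7_1_6 : enum 11 ck11 3 5 6388272 1227 6 6 = true := by
  decide +kernel

set_option maxRecDepth 100000 in
theorem ch_3_10_7_1_8 : enum 11 ck11 3 5 8485424 1419 6 8 = true := by
  decide +kernel

set_option maxRecDepth 100000 in
theorem ch_3_10_7_1_9 : enum 11 ck11 3 5 9534000 1675 6 9 = true := by
  decide +kernel

theorem ch_3_10_7_1 : enum 11 ck11 3 6 96816 1163 5 1 = true := by
  refine enum_intro 11 ck11 3 5 96816 1163 5 1 ?_
  intro v hv hb hd
  interval_cases v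
  · exact absurd hb (by decide)
  · exact absurd hb (by decide)
  · exact absurd hd (by decide)
  · exact absurd hb (by decide)
  · exact ch_3_10_7_1_4
  · exact ch_3_10_7_1_5
  · exact ch_3_10_7_1_6
  · exact absurd hb (by decide)
  · exact ch_3_10_7_1_8
  · exact ch_3_10_7_1_9
  · exact absurd hb (by decide)

set_option maxRecDepth 100000 in
theorem ch_3_10_7_2_1 : enum 11 ck11 3 5 1210928 1167 6 1 = true := by
  decide +kernel

set_option maxRecDepth 100000 in
theorem ch_3_10_7_2_5 : enum 11 ck11 3 5 5405232 1197 6 5 = true := by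
  decide +kernel

set_option maxRecDepth 100000 in
theorem ch_3_10_7_2_6 : enum 11 ck11 3 5 6453808 1229 6 6 = true := by
  decide +kernel

set_option maxRecDepth 100000 in
theorem ch_3_10_7_2_8 : enum 11 ck11 3 5 8550960 1421 6 8 = true := by
  decide +kernel

set_option maxRecDepth 100000 in
theorem ch_3_10_7_2_9 : enum 11 ck11 3 5 9599536 1677 6 9 = true := by
  decide +kernel

theorem ch_3_10_7_2 : enum 11 ck11 3 6 162352 1165 5 2 = true := by
  refine enum_intro 11 ck11 3 5 162352 1165 5 2 ?_
  intro v hv hb hd
  interval_cases v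
  · exact absurd hb (by decide)
  · exact ch_3_10_7_2_1
  · exact absurd hb (by decide)
  · exact absurd hb (by decide)
  · exact absurd hd (by decide)
  · exact ch_3_10_7_2_5
  · exact ch_3_10_7_2_6
  · exact absurd hb (by decide)
  · exact ch_3_10_7_2_8
  · exact ch_3_10_7_2_9
  · exact absurd hb (by decide)

set_option maxRecDepth 100000 in
theorem ch_3_10_7_4_1 : enum 11 ck11 3 5 1342000 1179 6 1 = true := by
  decide +kernel

set_option maxRecDepth 100000 in
theorem ch_3_10_7_4_2 : enum 11 ck11 3 5 2390576 1181 6 2 = true := by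
  decide +kernel

set_option maxRecDepth 100000 in
theorem ch_3_10_7_4_8 : enum 11 ck11 3 5 8682032 1433 6 8 = true := by
  decide +kernel

set_option maxRecDepth 100000 in
theorem ch_3_10_7_4_9 : enum 11 ck11 3 5 9730608 1689 6 9 = true := by
  decide +kernel

theorem ch_3_10_7_4 : enum 11 ck11 3 6 293424 1177 5 4 = true := by
  refine enum_intro 11 ck11 3 5 293424 1177 5 4 ?_
  intro v hv hb hd
  interval_cases v
  · exact absurd hb (by decide)
  · exact ch_3_10_7_4_1
  · exact ch_3_10_7_4_2
  · exact absurd hb (by decide)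
  · exact absurd hb (by decide)
  · exact absurd hd (by decide)
  · exact absurd hd (by decide)
  · exact absurd hb (by decide)
  · exact ch_3_10_7_4_8
  · exact ch_3_10_7_4_9
  · exact absurd hb (by decide)

set_option maxRecDepth 100000 in
theorem ch_3_10_7_5_1 : enum 11 ck11 3 5 1407536 1195 6 1 = true := by
  decide +kernel

set_option maxRecDepth 100000 in
theorem ch_3_10_7_5_2 : enum 11 ck11 3 5 2456112 1197 6 2 = true := by
  decide +kernel

set_option maxRecDepth 100000 in
theorem ch_3_10_7_5_4 : enum 11 ck11 3 5 4553264 1209 6 4 = true := by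
  decide +kernel

set_option maxRecDepth 100000 in
theorem ch_3_10_7_5_8 : enum 11 ck11 3 5 8747568 1449 6 8 = true := by
  decide +kernel

set_option maxRecDepth 100000 in
theorem ch_3_10_7_5_9 : enum 11 ck11 3 5 9796144 1705 6 9 = true := by
  decide +kernel

theorem ch_3_10_7_5 : enum 11 ck11 3 6 358960 1193 5 5 = true := by
  refine enum_intro 11 ck11 3 5 358960 1193 5 5 ?_
  intro v hv hb hd
  interval_cases v
  · exact absurd hb (by decide)
  · exact ch_3_10_7_5_1
  · exact ch_3_10_7_5_2
  · exact absurd hb (by decide)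
  · exact ch_3_10_7_5_4
  · exact absurd hb (by decide)
  · exact absurd hd (by decide)
  · exact absurd hb (by decide)
  · exact ch_3_10_7_5_8
  · exact ch_3_10_7_5_9
  · exact absurd hb (by decide)

set_option maxRecDepth 100000 in
theorem ch_3_10_7_6_1 : enum 11 ck11 3 5 1473072 1227 6 1 = true := by
  decide +kernel

set_option maxRecDepth 100000 in
theorem ch_3_10_7_6_2 : enum 11 ck11 3 5 2521648 1229 6 2 = true := by
  decide +kernel

set_option maxRecDepth 100000 in
theorem ch_3_10_7_6_4 : enum 11 ck11 3 5 4618800 1241 6 4 = true := by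
  decide +kernel

set_option maxRecDepth 100000 in
theorem ch_3_10_7_6_5 : enum 11 ck11 3 5 5667376 1257 6 5 = true := by
  decide +kernel

set_option maxRecDepth 100000 in
theorem ch_3_10_7_6_9 : enum 11 ck11 3 5 9861680 1737 6 9 = true := by
  decide +kernel

theorem ch_3_10_7_6 : enum 11 ck11 3 6 424496 1225 5 6 = true := by
  refine enum_intro 11 ck11 3 5 424496 1225 5 6 ?_
  intro v hv hb hd
  interval_cases v
  · exact absurd hb (by decide)
  · exact ch_3_10_7_6_1
  · exact ch_3_10_7_6_2
  · exact absurd hb (by decide)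
  · exact ch_3_10_7_6_4
  · exact ch_3_10_7_6_5
  · exact absurd hb (by decide)
  · exact absurd hb (by decide)
  · exact absurd hd (by decide)
  · exact ch_3_10_7_6_9
  · exact absurd hb (by decide)

theorem ch_3_10_7 : enum 11 ck11 3 7 31280 1161 4 7 = true := by
  refine enum_intro 11 ck11 3 6 31280 1161 4 7 ?_
  intro v hv hb hd
  interval_cases v
  · exact absurd hb (by decide)
  · exact ch_3_10_7_1
  · exact ch_3_10_7_2
  · exact absurd hb (by decide)
  · exact ch_3_10_7_4
  · exact ch_3_10_7_5
  · exact ch_3_10_7_6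
  · exact absurd hb (by decide)
  · exact absurd hd (by decide)
  · exact absurd hd (by decide)
  · exact absurd hb (by decide)

set_option maxRecDepth 100000 in
theorem ch_3_10_8_1_4 : enum 11 ck11 3 5 4295216 1307 6 4 = true := by
  decide +kernel

set_option maxRecDepth 100000 in
theorem ch_3_10_8_1_5 : enum 11 ck11 3 5 5343792 1323 6 5 = true := by
  decide +kernel

set_option maxRecDepth 100000 in
theorem ch_3_10_8_1_6 : enum 11 ck11 3 5 6392368 1355 6 6 = true := by
  decide +kernel

set_option maxRecDepth 100000 in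
theorem ch_3_10_8_1_7 : enum 11 ck11 3 5 7440944 1419 6 7 = true := by
  decide +kernel

set_option maxRecDepth 100000 in
theorem ch_3_10_8_1_9 : enum 11 ck11 3 5 9538096 1803 6 9 = true := by
  decide +kernel

theorem ch_3_10_8_1 : enum 11 ck11 3 6 100912 1291 5 1 = true := by
  refine enum_intro 11 ck11 3 5 100912 1291 5 1 ?_
  intro v hv hb hd
  interval_cases v
  · exact absurd hb (by decide)
  · exact absurd hb (by decide)
  · exact absurd hd (by decide)
  · exact absurd hb (by decide)
  · exact ch_3_10_8_1_4
  · exact ch_3_10_8_1_5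
  · exact ch_3_10_8_1_6
  · exact ch_3_10_8_1_7
  · exact absurd hb (by decide)
  · exact ch_3_10_8_1_9
  · exact absurd hb (by decide)

set_option maxRecDepth 100000 in
theorem ch_3_10_8_2_1 : enum 11 ck11 3 5 1215024 1295 6 1 = true := by
  decide +kernel

set_option maxRecDepth 100000 in
theorem ch_3_10_8_2_5 : enum 11 ck11 3 5 5409328 1325 6 5 = true := by
  decide +kernel

set_option maxRecDepth 100000 in
theorem ch_3_10_8_2_6 : enum 11 ck11 3 5 6457904 1357 6 6 = true := by
  decide +kernel

set_option maxRecDepth 100000 in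
theorem ch_3_10_8_2_7 : enum 11 ck11 3 5 7506480 1421 6 7 = true := by
  decide +kernel

set_option maxRecDepth 100000 in
theorem ch_3_10_8_2_9 : enum 11 ck11 3 5 9603632 1805 6 9 = true := by
  decide +kernel

theorem ch_3_10_8_2 : enum 11 ck11 3 6 166448 1293 5 2 = true := by
  refine enum_intro 11 ck11 3 5 166448 1293 5 2 ?_
  intro v hv hb hd
  interval_cases v
  · exact absurd hb (by decide)
  · exact ch_3_10_8_2_1
  · exact absurd hb (by decide)
  · exact absurd hb (by decide)
  · exact absurd hd (by decide)
  · exact ch_3_10_8_2_5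
  · exact ch_3_10_8_2_6
  · exact ch_3_10_8_2_7
  · exact absurd hb (by decide)
  · exact ch_3_10_8_2_9
  · exact absurd hb (by decide)

set_option maxRecDepth 100000 in
theorem ch_3_10_8_4_1 : enum 11 ck11 3 5 1346096 1307 6 1 = true := by
  decide +kernel

set_option maxRecDepth 100000 in
theorem ch_3_10_8_4_2 : enum 11 ck11 3 5 2394672 1309 6 2 = true := by
  decide +kernel

set_option maxRecDepth 100000 in
theorem ch_3_10_8_4_7 : enum 11 ck11 3 5 7637552 1433 6 7 = true := by
  decide +kernel

set_option maxRecDepth 100000 in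
theorem ch_3_10_8_4_9 : enum 11 ck11 3 5 9734704 1817 6 9 = true := by
  decide +kernel

theorem ch_3_10_8_4 : enum 11 ck11 3 6 297520 1305 5 4 = true := by
  refine enum_intro 11 ck11 3 5 297520 1305 5 4 ?_
  intro v hv hb hd
  interval_cases v
  · exact absurd hb (by decide)
  · exact ch_3_10_8_4_1
  · exact ch_3_10_8_4_2
  · exact absurd hb (by decide)
  · exact absurd hb (by decide)
  · exact absurd hd (by decide)
  · exact absurd hd (by decide)
  · exact ch_3_10_8_4_7
  · exact absurd hb (by decide)
  · exact ch_3_10_8_4_9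
  · exact absurd hb (by decide)

set_option maxRecDepth 100000 in
theorem ch_3_10_8_5_1 : enum 11 ck11 3 5 1411632 1323 6 1 = true := by
  decide +kernel

set_option maxRecDepth 100000 in
theorem ch_3_10_8_5_2 : enum 11 ck11 3 5 2460208 1325 6 2 = true := by
  decide +kernel

set_option maxRecDepth 100000 in
theorem ch_3_10_8_5_4 : enum 11 ck11 3 5 4557360 1337 6 4 = true := by
  decide +kernel

set_option maxRecDepth 100000 in
theorem ch_3_10_8_5_9 : enum 11 ck11 3 5 9800240 1833 6 9 = true := by
  decide +kernel

theorem ch_3_10_8_5 : enum 11 ck11 3 6 363056 1321 5 5 = true := by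
  refine enum_intro 11 ck11 3 5 363056 1321 5 5 ?_
  intro v hv hb hd
  interval_cases v
  · exact absurd hb (by decide)
  · exact ch_3_10_8_5_1
  · exact ch_3_10_8_5_2
  · exact absurd hb (by decide)
  · exact ch_3_10_8_5_4
  · exact absurd hb (by decide)
  · exact absurd hd (by decide)
  · exact absurd hd (by decide)
  · exact absurd hb (by decide)
  · exact ch_3_10_8_5_9
  · exact absurd hb (by decide)

set_option maxRecDepth 100000 in
theorem ch_3_10_8_6_1 : enum 11 ck11 3 5 1477168 1355 6 1 = true := by
  decide +kernel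

set_option maxRecDepth 100000 in
theorem ch_3_10_8_6_2 : enum 11 ck11 3 5 2525744 1357 6 2 = true := by
  decide +kernel

set_option maxRecDepth 100000 in
theorem ch_3_10_8_6_4 : enum 11 ck11 3 5 4622896 1369 6 4 = true := by
  decide +kernel

set_option maxRecDepth 100000 in
theorem ch_3_10_8_6_5 : enum 11 ck11 3 5 5671472 1385 6 5 = true := by
  decide +kernel

set_option maxRecDepth 100000 in
theorem ch_3_10_8_6_9 : enum 11 ck11 3 5 9865776 1865 6 9 = true := by
  decide +kernel

theorem ch_3_10_8_6 : enum 11 ck11 3 6 428592 1353 5 6 = true := by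
  refine enum_intro 11 ck11 3 5 428592 1353 5 6 ?_
  intro v hv hb hd
  interval_cases v
  · exact absurd hb (by decide)
  · exact ch_3_10_8_6_1
  · exact ch_3_10_8_6_2
  · exact absurd hb (by decide)
  · exact ch_3_10_8_6_4
  · exact ch_3_10_8_6_5
  · exact absurd hb (by decide)
  · exact absurd hd (by decide)
  · exact absurd hb (by decide)
  · exact ch_3_10_8_6_9
  · exact absurd hb (by decide)

set_option maxRecDepth 100000 in
theorem ch_3_10_8_7_1 : enum 11 ck11 3 5 1542704 1419 6 1 = true := by
  decide +kernel

set_option maxRecDepth 100000 in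
theorem ch_3_10_8_7_2 : enum 11 ck11 3 5 2591280 1421 6 2 = true := by
  decide +kernel

set_option maxRecDepth 100000 in
theorem ch_3_10_8_7_4 : enum 11 ck11 3 5 4688432 1433 6 4 = true := by
  decide +kernel

set_option maxRecDepth 100000 in
theorem ch_3_10_8_7_5 : enum 11 ck11 3 5 5737008 1449 6 5 = true := by
  decide +kernel

set_option maxRecDepth 100000 in
theorem ch_3_10_8_7_6 : enum 11 ck11 3 5 6785584 1481 6 6 = true := by
  decide +kernel

theorem ch_3_10_8_7 : enum 11 ck11 3 6 494128 1417 5 7 = true := by
  refine enum_intro 11 ck11 3 5 494128 1417 5 7 ?_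
  intro v hv hb hd
  interval_cases v
  · exact absurd hb (by decide)
  · exact ch_3_10_8_7_1
  · exact ch_3_10_8_7_2
  · exact absurd hb (by decide)
  · exact ch_3_10_8_7_4
  · exact ch_3_10_8_7_5
  · exact ch_3_10_8_7_6
  · exact absurd hb (by decide)
  · exact absurd hb (by decide)
  · exact absurd hd (by decide)
  · exact absurd hb (by decide)

theorem ch_3_10_8 : enum 11 ck11 3 7 35376 1289 4 8 = true := by
  refine enum_intro 11 ck11 3 6 35376 1289 4 8 ?_
  intro v hv hb hd
  interval_cases v
  · exact absurd hb (by decide)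
  · exact ch_3_10_8_1
  · exact ch_3_10_8_2
  · exact absurd hb (by decide)
  · exact ch_3_10_8_4
  · exact ch_3_10_8_5
  · exact ch_3_10_8_6
  · exact ch_3_10_8_7
  · exact absurd hb (by decide)
  · exact absurd hd (by decide)
  · exact absurd hb (by decide)

set_option maxRecDepth 100000 in
theorem ch_3_10_9_1_4 : enum 11 ck11 3 5 4299312 1563 6 4 = true := by
  decide +kernel

set_option maxRecDepth 100000 in
theorem ch_3_10_9_1_5 : enum 11 ck11 3 5 5347888 1579 6 5 = true := by
  decide +kernel

set_option maxRecDepth 100000 in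
theorem ch_3_10_9_1_6 : enum 11 ck11 3 5 6396464 1611 6 6 = true := by
  decide +kernel

set_option maxRecDepth 100000 in
theorem ch_3_10_9_1_7 : enum 11 ck11 3 5 7445040 1675 6 7 = true := by
  decide +kernel

set_option maxRecDepth 100000 in
theorem ch_3_10_9_1_8 : enum 11 ck11 3 5 8493616 1803 6 8 = true := by
  decide +kernel

theorem ch_3_10_9_1 : enum 11 ck11 3 6 105008 1547 5 1 = true := by
  refine enum_intro 11 ck11 3 5 105008 1547 5 1 ?_
  intro v hv hb hd
  interval_cases v
  · exact absurd hb (by decide)
  · exact absurd hb (by decide)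
  · exact absurd hd (by decide)
  · exact absurd hb (by decide)
  · exact ch_3_10_9_1_4
  · exact ch_3_10_9_1_5
  · exact ch_3_10_9_1_6
  · exact ch_3_10_9_1_7
  · exact ch_3_10_9_1_8
  · exact absurd hb (by decide)
  · exact absurd hb (by decide)

set_option maxRecDepth 100000 in
theorem ch_3_10_9_2_1 : enum 11 ck11 3 5 1219120 1551 6 1 = true := by
  decide +kernel

set_option maxRecDepth 100000 in
theorem ch_3_10_9_2_5 : enum 11 ck11 3 5 5413424 1581 6 5 = true := by
  decide +kernel

set_option maxRecDepth 100000 in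
theorem ch_3_10_9_2_6 : enum 11 ck11 3 5 6462000 1613 6 6 = true := by
  decide +kernel

set_option maxRecDepth 100000 in
theorem ch_3_10_9_2_7 : enum 11 ck11 3 5 7510576 1677 6 7 = true := by
  decide +kernel

set_option maxRecDepth 100000 in
theorem ch_3_10_9_2_8 : enum 11 ck11 3 5 8559152 1805 6 8 = true := by
  decide +kernel

theorem ch_3_10_9_2 : enum 11 ck11 3 6 170544 1549 5 2 = true := by
  refine enum_intro 11 ck11 3 5 170544 1549 5 2 ?_
  intro v hv hb hd
  interval_cases v
  · exact absurd hb (by decide)
  · exact ch_3_10_9_2_1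
  · exact absurd hb (by decide)
  · exact absurd hb (by decide)
  · exact absurd hd (by decide)
  · exact ch_3_10_9_2_5
  · exact ch_3_10_9_2_6
  · exact ch_3_10_9_2_7
  · exact ch_3_10_9_2_8
  · exact absurd hb (by decide)
  · exact absurd hb (by decide)

set_option maxRecDepth 100000 in
theorem ch_3_10_9_4_1 : enum 11 ck11 3 5 1350192 1563 6 1 = true := by
  decide +kernel

set_option maxRecDepth 100000 in
theorem ch_3_10_9_4_2 : enum 11 ck11 3 5 2398768 1565 6 2 = true := by
  decide +kernel

set_option maxRecDepth 100000 in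
theorem ch_3_10_9_4_7 : enum 11 ck11 3 5 7641648 1689 6 7 = true := by
  decide +kernel

set_option maxRecDepth 100000 in
theorem ch_3_10_9_4_8 : enum 11 ck11 3 5 8690224 1817 6 8 = true := by
  decide +kernel

theorem ch_3_10_9_4 : enum 11 ck11 3 6 301616 1561 5 4 = true := by
  refine enum_intro 11 ck11 3 5 301616 1561 5 4 ?_
  intro v hv hb hd
  interval_cases v
  · exact absurd hb (by decide)
  · exact ch_3_10_9_4_1
  · exact ch_3_10_9_4_2
  · exact absurd hb (by decide)
  · exact absurd hb (by decide)
  · exact absurd hd (by decide)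
  · exact absurd hd (by decide)
  · exact ch_3_10_9_4_7
  · exact ch_3_10_9_4_8
  · exact absurd hb (by decide)
  · exact absurd hb (by decide)

set_option maxRecDepth 100000 in
theorem ch_3_10_9_5_1 : enum 11 ck11 3 5 1415728 1579 6 1 = true := by
  decide +kernel

set_option maxRecDepth 100000 in
theorem ch_3_10_9_5_2 : enum 11 ck11 3 5 2464304 1581 6 2 = true := by
  decide +kernel

set_option maxRecDepth 100000 in
theorem ch_3_10_9_5_4 : enum 11 ck11 3 5 4561456 1593 6 4 = true := by
  decide +kernel

set_option maxRecDepth 100000 in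
theorem ch_3_10_9_5_8 : enum 11 ck11 3 5 8755760 1833 6 8 = true := by
  decide +kernel

theorem ch_3_10_9_5 : enum 11 ck11 3 6 367152 1577 5 5 = true := by
  refine enum_intro 11 ck11 3 5 367152 1577 5 5 ?_
  intro v hv hb hd
  interval_cases v
  · exact absurd hb (by decide)
  · exact ch_3_10_9_5_1
  · exact ch_3_10_9_5_2
  · exact absurd hb (by decide)
  · exact ch_3_10_9_5_4
  · exact absurd hb (by decide)
  · exact absurd hd (by decide)
  · exact absurd hd (by decide)
  · exact ch_3_10_9_5_8
  · exact absurd hb (by decide)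
  · exact absurd hb (by decide)

set_option maxRecDepth 100000 in
theorem ch_3_10_9_6_1 : enum 11 ck11 3 5 1481264 1611 6 1 = true := by
  decide +kernel

set_option maxRecDepth 100000 in
theorem ch_3_10_9_6_2 : enum 11 ck11 3 5 2529840 1613 6 2 = true := by
  decide +kernel

set_option maxRecDepth 100000 in
theorem ch_3_10_9_6_4 : enum 11 ck11 3 5 4626992 1625 6 4 = true := by
  decide +kernel

set_option maxRecDepth 100000 in
theorem ch_3_10_9_6_5 : enum 11 ck11 3 5 5675568 1641 6 5 = true := by
  decide +kernel

theorem ch_3_10_9_6 : enum 11 ck11 3 6 432688 1609 5 6 = true := by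
  refine enum_intro 11 ck11 3 5 432688 1609 5 6 ?_
  intro v hv hb hd
  interval_cases v
  · exact absurd hb (by decide)
  · exact ch_3_10_9_6_1
  · exact ch_3_10_9_6_2
  · exact absurd hb (by decide)
  · exact ch_3_10_9_6_4
  · exact ch_3_10_9_6_5
  · exact absurd hb (by decide)
  · exact absurd hd (by decide)
  · exact absurd hd (by decide)
  · exact absurd hb (by decide)
  · exact absurd hb (by decide)

set_option maxRecDepth 100000 in
theorem ch_3_10_9_7_1 : enum 11 ck11 3 5 1546800 1675 6 1 = true := by
  decide +kernel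

set_option maxRecDepth 100000 in
theorem ch_3_10_9_7_2 : enum 11 ck11 3 5 2595376 1677 6 2 = true := by
  decide +kernel

set_option maxRecDepth 100000 in
theorem ch_3_10_9_7_4 : enum 11 ck11 3 5 4692528 1689 6 4 = true := by
  decide +kernel

set_option maxRecDepth 100000 in
theorem ch_3_10_9_7_5 : enum 11 ck11 3 5 5741104 1705 6 5 = true := by
  decide +kernel

set_option maxRecDepth 100000 in
theorem ch_3_10_9_7_6 : enum 11 ck11 3 5 6789680 1737 6 6 = true := by
  decide +kernel

theorem ch_3_10_9_7 : enum 11 ck11 3 6 498224 1673 5 7 = true := by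
  refine enum_intro 11 ck11 3 5 498224 1673 5 7 ?_
  intro v hv hb hd
  interval_cases v
  · exact absurd hb (by decide)
  · exact ch_3_10_9_7_1
  · exact ch_3_10_9_7_2
  · exact absurd hb (by decide)
  · exact ch_3_10_9_7_4
  · exact ch_3_10_9_7_5
  · exact ch_3_10_9_7_6
  · exact absurd hb (by decide)
  · exact absurd hd (by decide)
  · exact absurd hb (by decide)
  · exact absurd hb (by decide)

set_option maxRecDepth 100000 in
theorem ch_3_10_9_8_1 : enum 11 ck11 3 5 1612336 1803 6 1 = true := by
  decide +kernel

set_option maxRecDepth 100000 in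
theorem ch_3_10_9_8_2 : enum 11 ck11 3 5 2660912 1805 6 2 = true := by
  decide +kernel

set_option maxRecDepth 100000 in
theorem ch_3_10_9_8_4 : enum 11 ck11 3 5 4758064 1817 6 4 = true := by
  decide +kernel

set_option maxRecDepth 100000 in
theorem ch_3_10_9_8_5 : enum 11 ck11 3 5 5806640 1833 6 5 = true := by
  decide +kernel

set_option maxRecDepth 100000 in
theorem ch_3_10_9_8_6 : enum 11 ck11 3 5 6855216 1865 6 6 = true := by
  decide +kernel

set_option maxRecDepth 100000 in
theorem ch_3_10_9_8_7 : enum 11 ck11 3 5 7903792 1929 6 7 = true := by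
  decide +kernel

theorem ch_3_10_9_8 : enum 11 ck11 3 6 563760 1801 5 8 = true := by
  refine enum_intro 11 ck11 3 5 563760 1801 5 8 ?_
  intro v hv hb hd
  interval_cases v
  · exact absurd hb (by decide)
  · exact ch_3_10_9_8_1
  · exact ch_3_10_9_8_2
  · exact absurd hb (by decide)
  · exact ch_3_10_9_8_4
  · exact ch_3_10_9_8_5
  · exact ch_3_10_9_8_6
  · exact ch_3_10_9_8_7
  · exact absurd hb (by decide)
  · exact absurd hb (by decide)
  · exact absurd hb (by decide)

theorem ch_3_10_9 : enum 11 ck11 3 7 39472 1545 4 9 = true := by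
  refine enum_intro 11 ck11 3 6 39472 1545 4 9 ?_
  intro v hv hb hd
  interval_cases v
  · exact absurd hb (by decide)
  · exact ch_3_10_9_1
  · exact ch_3_10_9_2
  · exact absurd hb (by decide)
  · exact ch_3_10_9_4
  · exact ch_3_10_9_5
  · exact ch_3_10_9_6
  · exact ch_3_10_9_7
  · exact ch_3_10_9_8
  · exact absurd hb (by decide)
  · exact absurd hb (by decide)

theorem ch_3_10 : enum 11 ck11 3 8 2608 1033 3 10 = true := by
  refine enum_intro 11 ck11 3 7 2608 1033 3 10 ?_
  intro v hv hb hd
  interval_cases v
  · exact absurd hb (by decide)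
  · exact absurd hd (by decide)
  · exact ch_3_10_2
  · exact absurd hb (by decide)
  · exact ch_3_10_4
  · exact ch_3_10_5
  · exact ch_3_10_6
  · exact ch_3_10_7
  · exact ch_3_10_8
  · exact ch_3_10_9
  · exact absurd hb (by decide)

set_option maxRecDepth 100000 in
theorem ch_4_1_5_2 : enum 11 ck11 4 6 151872 55 5 2 = true := by
  decide +kernel

set_option maxRecDepth 100000 in
theorem ch_4_1_5_3 : enum 11 ck11 4 6 217408 59 5 3 = true := by
  decide +kernel

set_option maxRecDepth 100000 in
theorem ch_4_1_5_9 : enum 11 ck11 4 6 610624 563 5 9 = true := by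
  decide +kernel

set_option maxRecDepth 100000 in
theorem ch_4_1_5_10 : enum 11 ck11 4 6 676160 1075 5 10 = true := by
  decide +kernel

theorem ch_4_1_5 : enum 11 ck11 4 7 20800 51 4 5 = true := by
  refine enum_intro 11 ck11 4 6 20800 51 4 5 ?_
  intro v hv hb hd
  interval_cases v
  · exact absurd hb (by decide)
  · exact absurd hb (by decide)
  · exact ch_4_1_5_2
  · exact ch_4_1_5_3
  · exact absurd hb (by decide)
  · exact absurd hb (by decide)
  · exact absurd hd (by decide)
  · exact absurd hd (by decide)
  · exact absurd hd (by decide)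
  · exact ch_4_1_5_9
  · exact ch_4_1_5_10

set_option maxRecDepth 100000 in
theorem ch_4_1_6_2 : enum 11 ck11 4 6 155968 87 5 2 = true := by
  decide +kernel

set_option maxRecDepth 100000 in
theorem ch_4_1_6_3 : enum 11 ck11 4 6 221504 91 5 3 = true := by
  decide +kernel

set_option maxRecDepth 100000 in
theorem ch_4_1_6_5 : enum 11 ck11 4 6 352576 115 5 5 = true := by
  decide +kernel

set_option maxRecDepth 100000 in
theorem ch_4_1_6_10 : enum 11 ck11 4 6 680256 1107 5 10 = true := by
  decide +kernel

theorem ch_4_1_6 : enum 11 ck11 4 7 24896 83 4 6 = true := by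
  refine enum_intro 11 ck11 4 6 24896 83 4 6 ?_
  intro v hv hb hd
  interval_cases v
  · exact absurd hb (by decide)
  · exact absurd hb (by decide)
  · exact ch_4_1_6_2
  · exact ch_4_1_6_3
  · exact absurd hb (by decide)
  · exact ch_4_1_6_5
  · exact absurd hb (by decide)
  · exact absurd hd (by decide)
  · exact absurd hd (by decide)
  · exact absurd hd (by decide)
  · exact ch_4_1_6_10

set_option maxRecDepth 100000 in
theorem ch_4_1_7_2 : enum 11 ck11 4 6 160064 151 5 2 = true := by
  decide +kernel

set_option maxRecDepth 100000 in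
theorem ch_4_1_7_3 : enum 11 ck11 4 6 225600 155 5 3 = true := by
  decide +kernel

set_option maxRecDepth 100000 in
theorem ch_4_1_7_5 : enum 11 ck11 4 6 356672 179 5 5 = true := by
  decide +kernel

set_option maxRecDepth 100000 in
theorem ch_4_1_7_6 : enum 11 ck11 4 6 422208 211 5 6 = true := by
  decide +kernel

theorem ch_4_1_7 : enum 11 ck11 4 7 28992 147 4 7 = true := by
  refine enum_intro 11 ck11 4 6 28992 147 4 7 ?_
  intro v hv hb hd
  interval_cases v
  · exact absurd hb (by decide)
  · exact absurd hb (by decide)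
  · exact ch_4_1_7_2
  · exact ch_4_1_7_3
  · exact absurd hb (by decide)
  · exact ch_4_1_7_5
  · exact ch_4_1_7_6
  · exact absurd hb (by decide)
  · exact absurd hd (by decide)
  · exact absurd hd (by decide)
  · exact absurd hd (by decide)

set_option maxRecDepth 100000 in
theorem ch_4_1_8_2 : enum 11 ck11 4 6 164160 279 5 2 = true := by
  decide +kernel

set_option maxRecDepth 100000 in
theorem ch_4_1_8_3 : enum 11 ck11 4 6 229696 283 5 3 = true := by
  decide +kernel

set_option maxRecDepth 100000 in
theorem ch_4_1_8_5 : enum 11 ck11 4 6 360768 307 5 5 = true := by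
  decide +kernel

set_option maxRecDepth 100000 in
theorem ch_4_1_8_6 : enum 11 ck11 4 6 426304 339 5 6 = true := by
  decide +kernel

set_option maxRecDepth 100000 in
theorem ch_4_1_8_7 : enum 11 ck11 4 6 491840 403 5 7 = true := by
  decide +kernel

theorem ch_4_1_8 : enum 11 ck11 4 7 33088 275 4 8 = true := by
  refine enum_intro 11 ck11 4 6 33088 275 4 8 ?_
  intro v hv hb hd
  interval_cases v
  · exact absurd hb (by decide)
  · exact absurd hb (by decide)
  · exact ch_4_1_8_2
  · exact ch_4_1_8_3
  · exact absurd hb (by decide)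
  · exact ch_4_1_8_5
  · exact ch_4_1_8_6
  · exact ch_4_1_8_7
  · exact absurd hb (by decide)
  · exact absurd hd (by decide)
  · exact absurd hd (by decide)

set_option maxRecDepth 100000 in
theorem ch_4_1_9_2 : enum 11 ck11 4 6 168256 535 5 2 = true := by
  decide +kernel

set_option maxRecDepth 100000 in
theorem ch_4_1_9_3 : enum 11 ck11 4 6 233792 539 5 3 = true := by
  decide +kernel

set_option maxRecDepth 100000 in
theorem ch_4_1_9_5 : enum 11 ck11 4 6 364864 563 5 5 = true := by
  decide +kernel

set_option maxRecDepth 100000 in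
theorem ch_4_1_9_6 : enum 11 ck11 4 6 430400 595 5 6 = true := by
  decide +kernel

set_option maxRecDepth 100000 in
theorem ch_4_1_9_7 : enum 11 ck11 4 6 495936 659 5 7 = true := by
  decide +kernel

set_option maxRecDepth 100000 in
theorem ch_4_1_9_8 : enum 11 ck11 4 6 561472 787 5 8 = true := by
  decide +kernel

theorem ch_4_1_9 : enum 11 ck11 4 7 37184 531 4 9 = true := by
  refine enum_intro 11 ck11 4 6 37184 531 4 9 ?_
  intro v hv hb hd
  interval_cases v
  · exact absurd hb (by decide)
  · exact absurd hb (by decide)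
  · exact ch_4_1_9_2
  · exact ch_4_1_9_3
  · exact absurd hb (by decide)
  · exact ch_4_1_9_5
  · exact ch_4_1_9_6
  · exact ch_4_1_9_7
  · exact ch_4_1_9_8
  · exact absurd hb (by decide)
  · exact absurd hd (by decide)

set_option maxRecDepth 100000 in
theorem ch_4_1_10_3 : enum 11 ck11 4 6 237888 1051 5 3 = true := by
  decide +kernel

set_option maxRecDepth 100000 in
theorem ch_4_1_10_5 : enum 11 ck11 4 6 368960 1075 5 5 = true := by
  decide +kernel

set_option maxRecDepth 100000 in
theorem ch_4_1_10_6 : enum 11 ck11 4 6 434496 1107 5 6 = true := by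
  decide +kernel

set_option maxRecDepth 100000 in
theorem ch_4_1_10_7 : enum 11 ck11 4 6 500032 1171 5 7 = true := by
  decide +kernel

set_option maxRecDepth 100000 in
theorem ch_4_1_10_8 : enum 11 ck11 4 6 565568 1299 5 8 = true := by
  decide +kernel

set_option maxRecDepth 100000 in
theorem ch_4_1_10_9 : enum 11 ck11 4 6 631104 1555 5 9 = true := by
  decide +kernel

theorem ch_4_1_10 : enum 11 ck11 4 7 41280 1043 4 10 = true := by
  refine enum_intro 11 ck11 4 6 41280 1043 4 10 ?_
  intro v hv hb hd
  interval_cases v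
  · exact absurd hb (by decide)
  · exact absurd hb (by decide)
  · exact absurd hd (by decide)
  · exact ch_4_1_10_3
  · exact absurd hb (by decide)
  · exact ch_4_1_10_5
  · exact ch_4_1_10_6
  · exact ch_4_1_10_7
  · exact ch_4_1_10_8
  · exact ch_4_1_10_9
  · exact absurd hb (by decide)

theorem ch_4_1 : enum 11 ck11 4 8 320 19 3 1 = true := by
  refine enum_intro 11 ck11 4 7 320 19 3 1 ?_
  intro v hv hb hd
  interval_cases v
  · exact absurd hb (by decide)
  · exact absurd hb (by decide)
  · exact absurd hd (by decide)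
  · exact absurd hd (by decide)
  · exact absurd hb (by decide)
  · exact ch_4_1_5
  · exact ch_4_1_6
  · exact ch_4_1_7
  · exact ch_4_1_8
  · exact ch_4_1_9
  · exact ch_4_1_10

set_option maxRecDepth 100000 in
theorem ch_4_2_1_5 : enum 11 ck11 4 6 332352 55 5 5 = true := by
  decide +kernel

set_option maxRecDepth 100000 in
theorem ch_4_2_1_6 : enum 11 ck11 4 6 397888 87 5 6 = true := by
  decide +kernel

set_option maxRecDepth 100000 in
theorem ch_4_2_1_7 : enum 11 ck11 4 6 463424 151 5 7 = true := by
  decide +kernel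

set_option maxRecDepth 100000 in
theorem ch_4_2_1_8 : enum 11 ck11 4 6 528960 279 5 8 = true := by
  decide +kernel

set_option maxRecDepth 100000 in
theorem ch_4_2_1_9 : enum 11 ck11 4 6 594496 535 5 9 = true := by
  decide +kernel

set_option maxRecDepth 100000 in
theorem ch_4_2_1_10 : enum 11 ck11 4 6 660032 1047 5 10 = true := by
  decide +kernel

theorem ch_4_2_1 : enum 11 ck11 4 7 4672 23 4 1 = true := by
  refine enum_intro 11 ck11 4 6 4672 23 4 1 ?_
  intro v hv hb hd
  interval_cases v
  · exact absurd hb (by decide)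
  · exact absurd hb (by decide)
  · exact absurd hb (by decide)
  · exact absurd hd (by decide)
  · exact absurd hb (by decide)
  · exact ch_4_2_1_5
  · exact ch_4_2_1_6
  · exact ch_4_2_1_7
  · exact ch_4_2_1_8
  · exact ch_4_2_1_9
  · exact ch_4_2_1_10

set_option maxRecDepth 100000 in
theorem ch_4_2_6_1 : enum 11 ck11 4 6 90688 87 5 1 = true := by
  decide +kernel

set_option maxRecDepth 100000 in
theorem ch_4_2_6_3 : enum 11 ck11 4 6 221760 93 5 3 = true := by
  decide +kernel

set_option maxRecDepth 100000 in
theorem ch_4_2_6_5 : enum 11 ck11 4 6 352832 117 5 5 = true := by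
  decide +kernel

set_option maxRecDepth 100000 in
theorem ch_4_2_6_10 : enum 11 ck11 4 6 680512 1109 5 10 = true := by
  decide +kernel

theorem ch_4_2_6 : enum 11 ck11 4 7 25152 85 4 6 = true := by
  refine enum_intro 11 ck11 4 6 25152 85 4 6 ?_
  intro v hv hb hd
  interval_cases v
  · exact absurd hb (by decide)
  · exact ch_4_2_6_1
  · exact absurd hb (by decide)
  · exact ch_4_2_6_3
  · exact absurd hb (by decide)
  · exact ch_4_2_6_5
  · exact absurd hb (by decide)
  · exact absurd hd (by decide)
  · exact absurd hd (by decide)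
  · exact absurd hd (by decide)
  · exact ch_4_2_6_10

set_option maxRecDepth 100000 in
theorem ch_4_2_7_1 : enum 11 ck11 4 6 94784 151 5 1 = true := by
  decide +kernel

set_option maxRecDepth 100000 in
theorem ch_4_2_7_3 : enum 11 ck11 4 6 225856 157 5 3 = true := by
  decide +kernel

set_option maxRecDepth 100000 in
theorem ch_4_2_7_5 : enum 11 ck11 4 6 356928 181 5 5 = true := by
  decide +kernel

set_option maxRecDepth 100000 in
theorem ch_4_2_7_6 : enum 11 ck11 4 6 422464 213 5 6 = true := by
  decide +kernel

theorem ch_4_2_7 : enum 11 ck11 4 7 29248 149 4 7 = true := by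
  refine enum_intro 11 ck11 4 6 29248 149 4 7 ?_
  intro v hv hb hd
  interval_cases v
  · exact absurd hb (by decide)
  · exact ch_4_2_7_1
  · exact absurd hb (by decide)
  · exact ch_4_2_7_3
  · exact absurd hb (by decide)
  · exact ch_4_2_7_5
  · exact ch_4_2_7_6
  · exact absurd hb (by decide)
  · exact absurd hd (by decide)
  · exact absurd hd (by decide)
  · exact absurd hd (by decide)

set_option maxRecDepth 100000 in
theorem ch_4_2_8_1 : enum 11 ck11 4 6 98880 279 5 1 = true := by
  decide +kernel

set_option maxRecDepth 100000 in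
theorem ch_4_2_8_3 : enum 11 ck11 4 6 229952 285 5 3 = true := by
  decide +kernel

set_option maxRecDepth 100000 in
theorem ch_4_2_8_5 : enum 11 ck11 4 6 361024 309 5 5 = true := by
  decide +kernel

set_option maxRecDepth 100000 in
theorem ch_4_2_8_6 : enum 11 ck11 4 6 426560 341 5 6 = true := by
  decide +kernel

set_option maxRecDepth 100000 in
theorem ch_4_2_8_7 : enum 11 ck11 4 6 492096 405 5 7 = true := by
  decide +kernel

theorem ch_4_2_8 : enum 11 ck11 4 7 33344 277 4 8 = true := by
  refine enum_intro 11 ck11 4 6 33344 277 4 8 ?_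
  intro v hv hb hd
  interval_cases v
  · exact absurd hb (by decide)
  · exact ch_4_2_8_1
  · exact absurd hb (by decide)
  · exact ch_4_2_8_3
  · exact absurd hb (by decide)
  · exact ch_4_2_8_5
  · exact ch_4_2_8_6
  · exact ch_4_2_8_7
  · exact absurd hb (by decide)
  · exact absurd hd (by decide)
  · exact absurd hd (by decide)

set_option maxRecDepth 100000 in
theorem ch_4_2_9_3 : enum 11 ck11 4 6 234048 541 5 3 = true := by
  decide +kernel

set_option maxRecDepth 100000 in
theorem ch_4_2_9_5 : enum 11 ck11 4 6 365120 565 5 5 = true := by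
  decide +kernel

set_option maxRecDepth 100000 in
theorem ch_4_2_9_6 : enum 11 ck11 4 6 430656 597 5 6 = true := by
  decide +kernel

set_option maxRecDepth 100000 in
theorem ch_4_2_9_7 : enum 11 ck11 4 6 496192 661 5 7 = true := by
  decide +kernel

set_option maxRecDepth 100000 in
theorem ch_4_2_9_8_1 : enum 11 ck11 4 5 1610304 791 6 1 = true := by
  decide +kernel

set_option maxRecDepth 100000 in
theorem ch_4_2_9_8_3 : enum 11 ck11 4 5 3707456 797 6 3 = true := by
  decide +kernel

set_option maxRecDepth 100000 in
theorem ch_4_2_9_8_5 : enum 11 ck11 4 5 5804608 821 6 5 = true := by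
  decide +kernel

set_option maxRecDepth 100000 in
theorem ch_4_2_9_8_6 : enum 11 ck11 4 5 6853184 853 6 6 = true := by
  decide +kernel

set_option maxRecDepth 100000 in
theorem ch_4_2_9_8_7 : enum 11 ck11 4 5 7901760 917 6 7 = true := by
  decide +kernel

theorem ch_4_2_9_8 : enum 11 ck11 4 6 561728 789 5 8 = true := by
  refine enum_intro 11 ck11 4 5 561728 789 5 8 ?_
  intro v hv hb hd
  interval_cases v
  · exact absurd hb (by decide)
  · exact ch_4_2_9_8_1
  · exact absurd hb (by decide)
  · exact ch_4_2_9_8_3
  · exact absurd hb (by decide)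
  · exact ch_4_2_9_8_5
  · exact ch_4_2_9_8_6
  · exact ch_4_2_9_8_7
  · exact absurd hb (by decide)
  · exact absurd hb (by decide)
  · exact absurd hd (by decide)

theorem ch_4_2_9 : enum 11 ck11 4 7 37440 533 4 9 = true := by
  refine enum_intro 11 ck11 4 6 37440 533 4 9 ?_
  intro v hv hb hd
  interval_cases v
  · exact absurd hb (by decide)
  · exact absurd hd (by decide)
  · exact absurd hb (by decide)
  · exact ch_4_2_9_3
  · exact absurd hb (by decide)
  · exact ch_4_2_9_5
  · exact ch_4_2_9_6
  · exact ch_4_2_9_7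
  · exact ch_4_2_9_8
  · exact absurd hb (by decide)
  · exact absurd hd (by decide)

set_option maxRecDepth 100000 in
theorem ch_4_2_10_3 : enum 11 ck11 4 6 238144 1053 5 3 = true := by
  decide +kernel

set_option maxRecDepth 100000 in
theorem ch_4_2_10_5 : enum 11 ck11 4 6 369216 1077 5 5 = true := by
  decide +kernel

set_option maxRecDepth 100000 in
theorem ch_4_2_10_6 : enum 11 ck11 4 6 434752 1109 5 6 = true := by
  decide +kernel

set_option maxRecDepth 100000 in
theorem ch_4_2_10_7 : enum 11 ck11 4 6 500288 1173 5 7 = true := by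
  decide +kernel

set_option maxRecDepth 100000 in
theorem ch_4_2_10_8 : enum 11 ck11 4 6 565824 1301 5 8 = true := by
  decide +kernel

set_option maxRecDepth 100000 in
theorem ch_4_2_10_9 : enum 11 ck11 4 6 631360 1557 5 9 = true := by
  decide +kernel

theorem ch_4_2_10 : enum 11 ck11 4 7 41536 1045 4 10 = true := by
  refine enum_intro 11 ck11 4 6 41536 1045 4 10 ?_
  intro v hv hb hd
  interval_cases v
  · exact absurd hb (by decide)
  · exact absurd hd (by decide)
  · exact absurd hb (by decide)
  · exact ch_4_2_10_3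
  · exact absurd hb (by decide)
  · exact ch_4_2_10_5
  · exact ch_4_2_10_6
  · exact ch_4_2_10_7
  · exact ch_4_2_10_8
  · exact ch_4_2_10_9
  · exact absurd hb (by decide)

theorem ch_4_2 : enum 11 ck11 4 8 576 21 3 2 = true := by
  refine enum_intro 11 ck11 4 7 576 21 3 2 ?_
  intro v hv hb hd
  interval_cases v
  · exact absurd hb (by decide)
  · exact ch_4_2_1
  · exact absurd hb (by decide)
  · exact absurd hd (by decide)
  · exact absurd hb (by decide)
  · exact absurd hd (by decide)
  · exact ch_4_2_6
  · exact ch_4_2_7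
  · exact ch_4_2_8
  · exact ch_4_2_9
  · exact ch_4_2_10

set_option maxRecDepth 100000 in
theorem ch_4_3_1_5 : enum 11 ck11 4 6 332608 59 5 5 = true := by
  decide +kernel

set_option maxRecDepth 100000 in
theorem ch_4_3_1_6 : enum 11 ck11 4 6 398144 91 5 6 = true := by
  decide +kernel

set_option maxRecDepth 100000 in
theorem ch_4_3_1_7 : enum 11 ck11 4 6 463680 155 5 7 = true := by
  decide +kernel

set_option maxRecDepth 100000 in
theorem ch_4_3_1_8 : enum 11 ck11 4 6 529216 283 5 8 = true := by
  decide +kernel

set_option maxRecDepth 100000 in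
theorem ch_4_3_1_9 : enum 11 ck11 4 6 594752 539 5 9 = true := by
  decide +kernel

set_option maxRecDepth 100000 in
theorem ch_4_3_1_10 : enum 11 ck11 4 6 660288 1051 5 10 = true := by
  decide +kernel

theorem ch_4_3_1 : enum 11 ck11 4 7 4928 27 4 1 = true := by
  refine enum_intro 11 ck11 4 6 4928 27 4 1 ?_
  intro v hv hb hd
  interval_cases v
  · exact absurd hb (by decide)
  · exact absurd hb (by decide)
  · exact absurd hd (by decide)
  · exact absurd hb (by decide)
  · exact absurd hb (by decide)
  · exact ch_4_3_1_5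
  · exact ch_4_3_1_6
  · exact ch_4_3_1_7
  · exact ch_4_3_1_8
  · exact ch_4_3_1_9
  · exact ch_4_3_1_10

set_option maxRecDepth 100000 in
theorem ch_4_3_2_1 : enum 11 ck11 4 6 74560 31 5 1 = true := by
  decide +kernel

set_option maxRecDepth 100000 in
theorem ch_4_3_2_6 : enum 11 ck11 4 6 402240 93 5 6 = true := by
  decide +kernel

set_option maxRecDepth 100000 in
theorem ch_4_3_2_7 : enum 11 ck11 4 6 467776 157 5 7 = true := by
  decide +kernel

set_option maxRecDepth 100000 in
theorem ch_4_3_2_8 : enum 11 ck11 4 6 533312 285 5 8 = true := by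
  decide +kernel

set_option maxRecDepth 100000 in
theorem ch_4_3_2_9 : enum 11 ck11 4 6 598848 541 5 9 = true := by
  decide +kernel

set_option maxRecDepth 100000 in
theorem ch_4_3_2_10 : enum 11 ck11 4 6 664384 1053 5 10 = true := by
  decide +kernel

theorem ch_4_3_2 : enum 11 ck11 4 7 9024 29 4 2 = true := by
  refine enum_intro 11 ck11 4 6 9024 29 4 2 ?_
  intro v hv hb hd
  interval_cases v
  · exact absurd hb (by decide)
  · exact ch_4_3_2_1
  · exact absurd hb (by decide)
  · exact absurd hb (by decide)
  · exact absurd hb (by decide)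
  · exact absurd hd (by decide)
  · exact ch_4_3_2_6
  · exact ch_4_3_2_7
  · exact ch_4_3_2_8
  · exact ch_4_3_2_9
  · exact ch_4_3_2_10

set_option maxRecDepth 100000 in
theorem ch_4_3_7_1 : enum 11 ck11 4 6 95040 155 5 1 = true := by
  decide +kernel

set_option maxRecDepth 100000 in
theorem ch_4_3_7_2 : enum 11 ck11 4 6 160576 157 5 2 = true := by
  decide +kernel

set_option maxRecDepth 100000 in
theorem ch_4_3_7_5 : enum 11 ck11 4 6 357184 185 5 5 = true := by
  decide +kernel

set_option maxRecDepth 100000 in
theorem ch_4_3_7_6 : enum 11 ck11 4 6 422720 217 5 6 = true := by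
  decide +kernel

theorem ch_4_3_7 : enum 11 ck11 4 7 29504 153 4 7 = true := by
  refine enum_intro 11 ck11 4 6 29504 153 4 7 ?_
  intro v hv hb hd
  interval_cases v
  · exact absurd hb (by decide)
  · exact ch_4_3_7_1
  · exact ch_4_3_7_2
  · exact absurd hb (by decide)
  · exact absurd hb (by decide)
  · exact ch_4_3_7_5
  · exact ch_4_3_7_6
  · exact absurd hb (by decide)
  · exact absurd hd (by decide)
  · exact absurd hd (by decide)
  · exact absurd hd (by decide)

set_option maxRecDepth 100000 in
theorem ch_4_3_8_1 : enum 11 ck11 4 6 99136 283 5 1 = true := by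
  decide +kernel

set_option maxRecDepth 100000 in
theorem ch_4_3_8_2 : enum 11 ck11 4 6 164672 285 5 2 = true := by
  decide +kernel

set_option maxRecDepth 100000 in
theorem ch_4_3_8_5 : enum 11 ck11 4 6 361280 313 5 5 = true := by
  decide +kernel

set_option maxRecDepth 100000 in
theorem ch_4_3_8_6 : enum 11 ck11 4 6 426816 345 5 6 = true := by
  decide +kernel

set_option maxRecDepth 100000 in
theorem ch_4_3_8_7 : enum 11 ck11 4 6 492352 409 5 7 = true := by
  decide +kernel

theorem ch_4_3_8 : enum 11 ck11 4 7 33600 281 4 8 = true := by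
  refine enum_intro 11 ck11 4 6 33600 281 4 8 ?_
  intro v hv hb hd
  interval_cases v
  · exact absurd hb (by decide)
  · exact ch_4_3_8_1
  · exact ch_4_3_8_2
  · exact absurd hb (by decide)
  · exact absurd hb (by decide)
  · exact ch_4_3_8_5
  · exact ch_4_3_8_6
  · exact ch_4_3_8_7
  · exact absurd hb (by decide)
  · exact absurd hd (by decide)
  · exact absurd hd (by decide)

set_option maxRecDepth 100000 in
theorem ch_4_3_9_2 : enum 11 ck11 4 6 168768 541 5 2 = true := by
  decide +kernel

set_option maxRecDepth 100000 in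
theorem ch_4_3_9_5 : enum 11 ck11 4 6 365376 569 5 5 = true := by
  decide +kernel

set_option maxRecDepth 100000 in
theorem ch_4_3_9_6 : enum 11 ck11 4 6 430912 601 5 6 = true := by
  decide +kernel

set_option maxRecDepth 100000 in
theorem ch_4_3_9_7 : enum 11 ck11 4 6 496448 665 5 7 = true := by
  decide +kernel

set_option maxRecDepth 100000 in
theorem ch_4_3_9_8 : enum 11 ck11 4 6 561984 793 5 8 = true := by
  decide +kernel

theorem ch_4_3_9 : enum 11 ck11 4 7 37696 537 4 9 = true := by
  refine enum_intro 11 ck11 4 6 37696 537 4 9 ?_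
  intro v hv hb hd
  interval_cases v
  · exact absurd hb (by decide)
  · exact absurd hd (by decide)
  · exact ch_4_3_9_2
  · exact absurd hb (by decide)
  · exact absurd hb (by decide)
  · exact ch_4_3_9_5
  · exact ch_4_3_9_6
  · exact ch_4_3_9_7
  · exact ch_4_3_9_8
  · exact absurd hb (by decide)
  · exact absurd hd (by decide)

set_option maxRecDepth 100000 in
theorem ch_4_3_10_5 : enum 11 ck11 4 6 369472 1081 5 5 = true := by
  decide +kernel

set_option maxRecDepth 100000 in
theorem ch_4_3_10_6 : enum 11 ck11 4 6 435008 1113 5 6 = true := by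
  decide +kernel

set_option maxRecDepth 100000 in
theorem ch_4_3_10_7 : enum 11 ck11 4 6 500544 1177 5 7 = true := by
  decide +kernel

set_option maxRecDepth 100000 in
theorem ch_4_3_10_8 : enum 11 ck11 4 6 566080 1305 5 8 = true := by
  decide +kernel

set_option maxRecDepth 100000 in
theorem ch_4_3_10_9 : enum 11 ck11 4 6 631616 1561 5 9 = true := by
  decide +kernel

theorem ch_4_3_10 : enum 11 ck11 4 7 41792 1049 4 10 = true := by
  refine enum_intro 11 ck11 4 6 41792 1049 4 10 ?_
  intro v hv hb hd
  interval_cases v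
  · exact absurd hb (by decide)
  · exact absurd hd (by decide)
  · exact absurd hd (by decide)
  · exact absurd hb (by decide)
  · exact absurd hb (by decide)
  · exact ch_4_3_10_5
  · exact ch_4_3_10_6
  · exact ch_4_3_10_7
  · exact ch_4_3_10_8
  · exact ch_4_3_10_9
  · exact absurd hb (by decide)

theorem ch_4_3 : enum 11 ck11 4 8 832 25 3 3 = true := by
  refine enum_intro 11 ck11 4 7 832 25 3 3 ?_
  intro v hv hb hd
  interval_cases v
  · exact absurd hb (by decide)
  · exact ch_4_3_1
  · exact ch_4_3_2
  · exact absurd hb (by decide)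
  · exact absurd hb (by decide)
  · exact absurd hd (by decide)
  · exact absurd hd (by decide)
  · exact ch_4_3_7
  · exact ch_4_3_8
  · exact ch_4_3_9
  · exact ch_4_3_10

set_option maxRecDepth 100000 in
theorem ch_4_8_1_5 : enum 11 ck11 4 6 333888 307 5 5 = true := by
  decide +kernel

set_option maxRecDepth 100000 in
theorem ch_4_8_1_6 : enum 11 ck11 4 6 399424 339 5 6 = true := by
  decide +kernel

set_option maxRecDepth 100000 in
theorem ch_4_8_1_7 : enum 11 ck11 4 6 464960 403 5 7 = true := by
  decide +kernel

set_option maxRecDepth 100000 in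
theorem ch_4_8_1_9 : enum 11 ck11 4 6 596032 787 5 9 = true := by
  decide +kernel

set_option maxRecDepth 100000 in
theorem ch_4_8_1_10 : enum 11 ck11 4 6 661568 1299 5 10 = true := by
  decide +kernel

theorem ch_4_8_1 : enum 11 ck11 4 7 6208 275 4 1 = true := by
  refine enum_intro 11 ck11 4 6 6208 275 4 1 ?_
  intro v hv hb hd
  interval_cases v
  · exact absurd hb (by decide)
  · exact absurd hb (by decide)
  · exact absurd hd (by decide)
  · exact absurd hd (by decide)
  · exact absurd hb (by decide)
  · exact ch_4_8_1_5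
  · exact ch_4_8_1_6
  · exact ch_4_8_1_7
  · exact absurd hb (by decide)
  · exact ch_4_8_1_9
  · exact ch_4_8_1_10

set_option maxRecDepth 100000 in
theorem ch_4_8_2_1 : enum 11 ck11 4 6 75840 279 5 1 = true := by
  decide +kernel

set_option maxRecDepth 100000 in
theorem ch_4_8_2_6 : enum 11 ck11 4 6 403520 341 5 6 = true := by
  decide +kernel

set_option maxRecDepth 100000 in
theorem ch_4_8_2_7 : enum 11 ck11 4 6 469056 405 5 7 = true := by
  decide +kernel

set_option maxRecDepth 100000 in
theorem ch_4_8_2_9 : enum 11 ck11 4 6 600128 789 5 9 = true := by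
  decide +kernel

set_option maxRecDepth 100000 in
theorem ch_4_8_2_10 : enum 11 ck11 4 6 665664 1301 5 10 = true := by
  decide +kernel

theorem ch_4_8_2 : enum 11 ck11 4 7 10304 277 4 2 = true := by
  refine enum_intro 11 ck11 4 6 10304 277 4 2 ?_
  intro v hv hb hd
  interval_cases v
  · exact absurd hb (by decide)
  · exact ch_4_8_2_1
  · exact absurd hb (by decide)
  · exact absurd hd (by decide)
  · exact absurd hb (by decide)
  · exact absurd hd (by decide)
  · exact ch_4_8_2_6
  · exact ch_4_8_2_7
  · exact absurd hb (by decide)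
  · exact ch_4_8_2_9
  · exact ch_4_8_2_10

set_option maxRecDepth 100000 in
theorem ch_4_8_3_1 : enum 11 ck11 4 6 79936 283 5 1 = true := by
  decide +kernel

set_option maxRecDepth 100000 in
theorem ch_4_8_3_2 : enum 11 ck11 4 6 145472 285 5 2 = true := by
  decide +kernel

set_option maxRecDepth 100000 in
theorem ch_4_8_3_7 : enum 11 ck11 4 6 473152 409 5 7 = true := by
  decide +kernel

set_option maxRecDepth 100000 in
theorem ch_4_8_3_9 : enum 11 ck11 4 6 604224 793 5 9 = true := by
  decide +kernel

set_option maxRecDepth 100000 in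
theorem ch_4_8_3_10 : enum 11 ck11 4 6 669760 1305 5 10 = true := by
  decide +kernel

theorem ch_4_8_3 : enum 11 ck11 4 7 14400 281 4 3 = true := by
  refine enum_intro 11 ck11 4 6 14400 281 4 3 ?_
  intro v hv hb hd
  interval_cases v
  · exact absurd hb (by decide)
  · exact ch_4_8_3_1
  · exact ch_4_8_3_2
  · exact absurd hb (by decide)
  · exact absurd hb (by decide)
  · exact absurd hd (by decide)
  · exact absurd hd (by decide)
  · exact ch_4_8_3_7
  · exact absurd hb (by decide)
  · exact ch_4_8_3_9
  · exact ch_4_8_3_10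

set_option maxRecDepth 100000 in
theorem ch_4_8_5_1 : enum 11 ck11 4 6 88128 307 5 1 = true := by
  decide +kernel

set_option maxRecDepth 100000 in
theorem ch_4_8_5_2 : enum 11 ck11 4 6 153664 309 5 2 = true := by
  decide +kernel

set_option maxRecDepth 100000 in
theorem ch_4_8_5_3 : enum 11 ck11 4 6 219200 313 5 3 = true := by
  decide +kernel

set_option maxRecDepth 100000 in
theorem ch_4_8_5_9 : enum 11 ck11 4 6 612416 817 5 9 = true := by
  decide +kernel

set_option maxRecDepth 100000 in
theorem ch_4_8_5_10 : enum 11 ck11 4 6 677952 1329 5 10 = true := by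
  decide +kernel

theorem ch_4_8_5 : enum 11 ck11 4 7 22592 305 4 5 = true := by
  refine enum_intro 11 ck11 4 6 22592 305 4 5 ?_
  intro v hv hb hd
  interval_cases v
  · exact absurd hb (by decide)
  · exact ch_4_8_5_1
  · exact ch_4_8_5_2
  · exact ch_4_8_5_3
  · exact absurd hb (by decide)
  · exact absurd hb (by decide)
  · exact absurd hd (by decide)
  · exact absurd hd (by decide)
  · exact absurd hb (by decide)
  · exact ch_4_8_5_9
  · exact ch_4_8_5_10

set_option maxRecDepth 100000 in
theorem ch_4_8_6_1 : enum 11 ck11 4 6 92224 339 5 1 = true := by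
  decide +kernel

set_option maxRecDepth 100000 in
theorem ch_4_8_6_2 : enum 11 ck11 4 6 157760 341 5 2 = true := by
  decide +kernel

set_option maxRecDepth 100000 in
theorem ch_4_8_6_3 : enum 11 ck11 4 6 223296 345 5 3 = true := by
  decide +kernel

set_option maxRecDepth 100000 in
theorem ch_4_8_6_5 : enum 11 ck11 4 6 354368 369 5 5 = true := by
  decide +kernel

set_option maxRecDepth 100000 in
theorem ch_4_8_6_10 : enum 11 ck11 4 6 682048 1361 5 10 = true := by
  decide +kernel

theorem ch_4_8_6 : enum 11 ck11 4 7 26688 337 4 6 = true := by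
  refine enum_intro 11 ck11 4 6 26688 337 4 6 ?_
  intro v hv hb hd
  interval_cases v
  · exact absurd hb (by decide)
  · exact ch_4_8_6_1
  · exact ch_4_8_6_2
  · exact ch_4_8_6_3
  · exact absurd hb (by decide)
  · exact ch_4_8_6_5
  · exact absurd hb (by decide)
  · exact absurd hd (by decide)
  · exact absurd hb (by decide)
  · exact absurd hd (by decide)
  · exact ch_4_8_6_10

set_option maxRecDepth 100000 in
theorem ch_4_8_7_1 : enum 11 ck11 4 6 96320 403 5 1 = true := by
  decide +kernel

set_option maxRecDepth 100000 in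
theorem ch_4_8_7_2 : enum 11 ck11 4 6 161856 405 5 2 = true := by
  decide +kernel

set_option maxRecDepth 100000 in
theorem ch_4_8_7_3 : enum 11 ck11 4 6 227392 409 5 3 = true := by
  decide +kernel

set_option maxRecDepth 100000 in
theorem ch_4_8_7_5 : enum 11 ck11 4 6 358464 433 5 5 = true := by
  decide +kernel

set_option maxRecDepth 100000 in
theorem ch_4_8_7_6 : enum 11 ck11 4 6 424000 465 5 6 = true := by
  decide +kernel

theorem ch_4_8_7 : enum 11 ck11 4 7 30784 401 4 7 = true := by
  refine enum_intro 11 ck11 4 6 30784 401 4 7 ?_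
  intro v hv hb hd
  interval_cases v
  · exact absurd hb (by decide)
  · exact ch_4_8_7_1
  · exact ch_4_8_7_2
  · exact ch_4_8_7_3
  · exact absurd hb (by decide)
  · exact ch_4_8_7_5
  · exact ch_4_8_7_6
  · exact absurd hb (by decide)
  · exact absurd hb (by decide)
  · exact absurd hd (by decide)
  · exact absurd hd (by decide)

theorem ch_4_8 : enum 11 ck11 4 8 2112 273 3 8 = true := by
  refine enum_intro 11 ck11 4 7 2112 273 3 8 ?_
  intro v hv hb hd
  interval_cases v
  · exact absurd hb (by decide)
  · exact ch_4_8_1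
  · exact ch_4_8_2
  · exact ch_4_8_3
  · exact absurd hb (by decide)
  · exact ch_4_8_5
  · exact ch_4_8_6
  · exact ch_4_8_7
  · exact absurd hb (by decide)
  · exact absurd hd (by decide)
  · exact absurd hd (by decide)

end Cfsg.Agent.Helper9.T11
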