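import Mathlib
import Cfsg.Agent.Helper9.T11.Chk

set_option autoImplicit false
set_option Elab.async false

/-!
A part of the enumeration on 11 points: the test holds at every permutation of the part.
-/

namespace Cfsg.Agent.Helper9.T11

set_option maxRecDepth 100000 in
theorem ch_4_9_2_1 : enum 11 ck11 4 6 76096 535 5 1 = true := by
  decide +kernel

set_option maxRecDepth 100000 in
theorem ch_4_9_2_6 : enum 11 ck11 4 6 403776 597 5 6 = true := by
  decide +kernel

set_option maxRecDepth 100000 in
theorem ch_4_9_2_7 : enum 11 ck11 4 6 469312 661 5 7 = true := by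
  decide +kernel

set_option maxRecDepth 100000 in
theorem ch_4_9_2_8_1 : enum 11 ck11 4 5 1583424 791 6 1 = true := by
  decide +kernel

set_option maxRecDepth 100000 in
theorem ch_4_9_2_8_3 : enum 11 ck11 4 5 3680576 797 6 3 = true := by
  decide +kernel

set_option maxRecDepth 100000 in
theorem ch_4_9_2_8_5 : enum 11 ck11 4 5 5777728 821 6 5 = true := by
  decide +kernel

set_option maxRecDepth 100000 in
theorem ch_4_9_2_8_6 : enum 11 ck11 4 5 6826304 853 6 6 = true := by
  decide +kernel

set_option maxRecDepth 100000 in
theorem ch_4_9_2_8_7 : enum 11 ck11 4 5 7874880 917 6 7 = true := by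
  decide +kernel

theorem ch_4_9_2_8 : enum 11 ck11 4 6 534848 789 5 8 = true := by
  refine enum_intro 11 ck11 4 5 534848 789 5 8 ?_
  intro v hv hb hd
  interval_cases v
  · exact absurd hb (by decide)
  · exact ch_4_9_2_8_1
  · exact absurd hb (by decide)
  · exact ch_4_9_2_8_3
  · exact absurd hb (by decide)
  · exact ch_4_9_2_8_5
  · exact ch_4_9_2_8_6
  · exact ch_4_9_2_8_7
  · exact absurd hb (by decide)
  · exact absurd hb (by decide)
  · exact absurd hd (by decide)

set_option maxRecDepth 100000 in
theorem ch_4_9_2_10 : enum 11 ck11 4 6 665920 1557 5 10 = true := by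
  decide +kernel

theorem ch_4_9_2 : enum 11 ck11 4 7 10560 533 4 2 = true := by
  refine enum_intro 11 ck11 4 6 10560 533 4 2 ?_
  intro v hv hb hd
  interval_cases v
  · exact absurd hb (by decide)
  · exact ch_4_9_2_1
  · exact absurd hb (by decide)
  · exact absurd hd (by decide)
  · exact absurd hb (by decide)
  · exact absurd hd (by decide)
  · exact ch_4_9_2_6
  · exact ch_4_9_2_7
  · exact ch_4_9_2_8
  · exact absurd hb (by decide)
  · exact ch_4_9_2_10

set_option maxRecDepth 100000 in
theorem ch_4_9_3_1 : enum 11 ck11 4 6 80192 539 5 1 = true := by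
  decide +kernel

set_option maxRecDepth 100000 in
theorem ch_4_9_3_2 : enum 11 ck11 4 6 145728 541 5 2 = true := by
  decide +kernel

set_option maxRecDepth 100000 in
theorem ch_4_9_3_7 : enum 11 ck11 4 6 473408 665 5 7 = true := by
  decide +kernel

set_option maxRecDepth 100000 in
theorem ch_4_9_3_8 : enum 11 ck11 4 6 538944 793 5 8 = true := by
  decide +kernel

set_option maxRecDepth 100000 in
theorem ch_4_9_3_10 : enum 11 ck11 4 6 670016 1561 5 10 = true := by
  decide +kernel

theorem ch_4_9_3 : enum 11 ck11 4 7 14656 537 4 3 = true := by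
  refine enum_intro 11 ck11 4 6 14656 537 4 3 ?_
  intro v hv hb hd
  interval_cases v
  · exact absurd hb (by decide)
  · exact ch_4_9_3_1
  · exact ch_4_9_3_2
  · exact absurd hb (by decide)
  · exact absurd hb (by decide)
  · exact absurd hd (by decide)
  · exact absurd hd (by decide)
  · exact ch_4_9_3_7
  · exact ch_4_9_3_8
  · exact absurd hb (by decide)
  · exact ch_4_9_3_10

set_option maxRecDepth 100000 in
theorem ch_4_9_5_1 : enum 11 ck11 4 6 88384 563 5 1 = true := by
  decide +kernel

set_option maxRecDepth 100000 in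
theorem ch_4_9_5_2 : enum 11 ck11 4 6 153920 565 5 2 = true := by
  decide +kernel

set_option maxRecDepth 100000 in
theorem ch_4_9_5_3 : enum 11 ck11 4 6 219456 569 5 3 = true := by
  decide +kernel

set_option maxRecDepth 100000 in
theorem ch_4_9_5_10_3 : enum 11 ck11 4 5 3823936 1593 6 3 = true := by
  decide +kernel

set_option maxRecDepth 100000 in
theorem ch_4_9_5_10_6 : enum 11 ck11 4 5 6969664 1649 6 6 = true := by
  decide +kernel

set_option maxRecDepth 100000 in
theorem ch_4_9_5_10_7 : enum 11 ck11 4 5 8018240 1713 6 7 = true := by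
  decide +kernel

set_option maxRecDepth 100000 in
theorem ch_4_9_5_10_8 : enum 11 ck11 4 5 9066816 1841 6 8 = true := by
  decide +kernel

theorem ch_4_9_5_10 : enum 11 ck11 4 6 678208 1585 5 10 = true := by
  refine enum_intro 11 ck11 4 5 678208 1585 5 10 ?_
  intro v hv hb hd
  interval_cases v
  · exact absurd hb (by decide)
  · exact absurd hd (by decide)
  · exact absurd hd (by decide)
  · exact ch_4_9_5_10_3
  · exact absurd hb (by decide)
  · exact absurd hb (by decide)
  · exact ch_4_9_5_10_6
  · exact ch_4_9_5_10_7
  · exact ch_4_9_5_10_8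
  · exact absurd hb (by decide)
  · exact absurd hb (by decide)

theorem ch_4_9_5 : enum 11 ck11 4 7 22848 561 4 5 = true := by
  refine enum_intro 11 ck11 4 6 22848 561 4 5 ?_
  intro v hv hb hd
  interval_cases v
  · exact absurd hb (by decide)
  · exact ch_4_9_5_1
  · exact ch_4_9_5_2
  · exact ch_4_9_5_3
  · exact absurd hb (by decide)
  · exact absurd hb (by decide)
  · exact absurd hd (by decide)
  · exact absurd hd (by decide)
  · exact absurd hd (by decide)
  · exact absurd hb (by decide)
  · exact ch_4_9_5_10

set_option maxRecDepth 100000 in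
theorem ch_4_9_6_1 : enum 11 ck11 4 6 92480 595 5 1 = true := by
  decide +kernel

set_option maxRecDepth 100000 in
theorem ch_4_9_6_2 : enum 11 ck11 4 6 158016 597 5 2 = true := by
  decide +kernel

set_option maxRecDepth 100000 in
theorem ch_4_9_6_3 : enum 11 ck11 4 6 223552 601 5 3 = true := by
  decide +kernel

set_option maxRecDepth 100000 in
theorem ch_4_9_6_5 : enum 11 ck11 4 6 354624 625 5 5 = true := by
  decide +kernel

set_option maxRecDepth 100000 in
theorem ch_4_9_6_10 : enum 11 ck11 4 6 682304 1617 5 10 = true := by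
  decide +kernel

theorem ch_4_9_6 : enum 11 ck11 4 7 26944 593 4 6 = true := by
  refine enum_intro 11 ck11 4 6 26944 593 4 6 ?_
  intro v hv hb hd
  interval_cases v
  · exact absurd hb (by decide)
  · exact ch_4_9_6_1
  · exact ch_4_9_6_2
  · exact ch_4_9_6_3
  · exact absurd hb (by decide)
  · exact ch_4_9_6_5
  · exact absurd hb (by decide)
  · exact absurd hd (by decide)
  · exact absurd hd (by decide)
  · exact absurd hb (by decide)
  · exact ch_4_9_6_10

set_option maxRecDepth 100000 in
theorem ch_4_9_7_1 : enum 11 ck11 4 6 96576 659 5 1 = true := by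
  decide +kernel

set_option maxRecDepth 100000 in
theorem ch_4_9_7_2 : enum 11 ck11 4 6 162112 661 5 2 = true := by
  decide +kernel

set_option maxRecDepth 100000 in
theorem ch_4_9_7_3 : enum 11 ck11 4 6 227648 665 5 3 = true := by
  decide +kernel

set_option maxRecDepth 100000 in
theorem ch_4_9_7_5 : enum 11 ck11 4 6 358720 689 5 5 = true := by
  decide +kernel

set_option maxRecDepth 100000 in
theorem ch_4_9_7_6 : enum 11 ck11 4 6 424256 721 5 6 = true := by
  decide +kernel

theorem ch_4_9_7 : enum 11 ck11 4 7 31040 657 4 7 = true := by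
  refine enum_intro 11 ck11 4 6 31040 657 4 7 ?_
  intro v hv hb hd
  interval_cases v
  · exact absurd hb (by decide)
  · exact ch_4_9_7_1
  · exact ch_4_9_7_2
  · exact ch_4_9_7_3
  · exact absurd hb (by decide)
  · exact ch_4_9_7_5
  · exact ch_4_9_7_6
  · exact absurd hb (by decide)
  · exact absurd hd (by decide)
  · exact absurd hb (by decide)
  · exact absurd hd (by decide)

set_option maxRecDepth 100000 in
theorem ch_4_9_8_1 : enum 11 ck11 4 6 100672 787 5 1 = true := by
  decide +kernel

set_option maxRecDepth 100000 in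
theorem ch_4_9_8_2 : enum 11 ck11 4 6 166208 789 5 2 = true := by
  decide +kernel

set_option maxRecDepth 100000 in
theorem ch_4_9_8_3 : enum 11 ck11 4 6 231744 793 5 3 = true := by
  decide +kernel

set_option maxRecDepth 100000 in
theorem ch_4_9_8_5 : enum 11 ck11 4 6 362816 817 5 5 = true := by
  decide +kernel

set_option maxRecDepth 100000 in
theorem ch_4_9_8_6 : enum 11 ck11 4 6 428352 849 5 6 = true := by
  decide +kernel

set_option maxRecDepth 100000 in
theorem ch_4_9_8_7 : enum 11 ck11 4 6 493888 913 5 7 = true := by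
  decide +kernel

theorem ch_4_9_8 : enum 11 ck11 4 7 35136 785 4 8 = true := by
  refine enum_intro 11 ck11 4 6 35136 785 4 8 ?_
  intro v hv hb hd
  interval_cases v
  · exact absurd hb (by decide)
  · exact ch_4_9_8_1
  · exact ch_4_9_8_2
  · exact ch_4_9_8_3
  · exact absurd hb (by decide)
  · exact ch_4_9_8_5
  · exact ch_4_9_8_6
  · exact ch_4_9_8_7
  · exact absurd hb (by decide)
  · exact absurd hb (by decide)
  · exact absurd hd (by decide)

theorem ch_4_9 : enum 11 ck11 4 8 2368 529 3 9 = true := by
  refine enum_intro 11 ck11 4 7 2368 529 3 9 ?_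
  intro v hv hb hd
  interval_cases v
  · exact absurd hb (by decide)
  · exact absurd hd (by decide)
  · exact ch_4_9_2
  · exact ch_4_9_3
  · exact absurd hb (by decide)
  · exact ch_4_9_5
  · exact ch_4_9_6
  · exact ch_4_9_7
  · exact ch_4_9_8
  · exact absurd hb (by decide)
  · exact absurd hd (by decide)

set_option maxRecDepth 100000 in
theorem ch_4_10_3_1 : enum 11 ck11 4 6 80448 1051 5 1 = true := by
  decide +kernel

set_option maxRecDepth 100000 in
theorem ch_4_10_3_2 : enum 11 ck11 4 6 145984 1053 5 2 = true := by
  decide +kernel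

set_option maxRecDepth 100000 in
theorem ch_4_10_3_7 : enum 11 ck11 4 6 473664 1177 5 7 = true := by
  decide +kernel

set_option maxRecDepth 100000 in
theorem ch_4_10_3_8 : enum 11 ck11 4 6 539200 1305 5 8 = true := by
  decide +kernel

set_option maxRecDepth 100000 in
theorem ch_4_10_3_9 : enum 11 ck11 4 6 604736 1561 5 9 = true := by
  decide +kernel

theorem ch_4_10_3 : enum 11 ck11 4 7 14912 1049 4 3 = true := by
  refine enum_intro 11 ck11 4 6 14912 1049 4 3 ?_
  intro v hv hb hd
  interval_cases v
  · exact absurd hb (by decide)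
  · exact ch_4_10_3_1
  · exact ch_4_10_3_2
  · exact absurd hb (by decide)
  · exact absurd hb (by decide)
  · exact absurd hd (by decide)
  · exact absurd hd (by decide)
  · exact ch_4_10_3_7
  · exact ch_4_10_3_8
  · exact ch_4_10_3_9
  · exact absurd hb (by decide)

set_option maxRecDepth 100000 in
theorem ch_4_10_5_1 : enum 11 ck11 4 6 88640 1075 5 1 = true := by
  decide +kernel

set_option maxRecDepth 100000 in
theorem ch_4_10_5_2 : enum 11 ck11 4 6 154176 1077 5 2 = true := by
  decide +kernel

set_option maxRecDepth 100000 in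
theorem ch_4_10_5_3 : enum 11 ck11 4 6 219712 1081 5 3 = true := by
  decide +kernel

set_option maxRecDepth 100000 in
theorem ch_4_10_5_9_2 : enum 11 ck11 4 5 2710080 1589 6 2 = true := by
  decide +kernel

set_option maxRecDepth 100000 in
theorem ch_4_10_5_9_3 : enum 11 ck11 4 5 3758656 1593 6 3 = true := by
  decide +kernel

set_option maxRecDepth 100000 in
theorem ch_4_10_5_9_6 : enum 11 ck11 4 5 6904384 1649 6 6 = true := by
  decide +kernel

set_option maxRecDepth 100000 in
theorem ch_4_10_5_9_7 : enum 11 ck11 4 5 7952960 1713 6 7 = true := by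
  decide +kernel

set_option maxRecDepth 100000 in
theorem ch_4_10_5_9_8 : enum 11 ck11 4 5 9001536 1841 6 8 = true := by
  decide +kernel

theorem ch_4_10_5_9 : enum 11 ck11 4 6 612928 1585 5 9 = true := by
  refine enum_intro 11 ck11 4 5 612928 1585 5 9 ?_
  intro v hv hb hd
  interval_cases v
  · exact absurd hb (by decide)
  · exact absurd hd (by decide)
  · exact ch_4_10_5_9_2
  · exact ch_4_10_5_9_3
  · exact absurd hb (by decide)
  · exact absurd hb (by decide)
  · exact ch_4_10_5_9_6
  · exact ch_4_10_5_9_7
  · exact ch_4_10_5_9_8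
  · exact absurd hb (by decide)
  · exact absurd hb (by decide)

theorem ch_4_10_5 : enum 11 ck11 4 7 23104 1073 4 5 = true := by
  refine enum_intro 11 ck11 4 6 23104 1073 4 5 ?_
  intro v hv hb hd
  interval_cases v
  · exact absurd hb (by decide)
  · exact ch_4_10_5_1
  · exact ch_4_10_5_2
  · exact ch_4_10_5_3
  · exact absurd hb (by decide)
  · exact absurd hb (by decide)
  · exact absurd hd (by decide)
  · exact absurd hd (by decide)
  · exact absurd hd (by decide)
  · exact ch_4_10_5_9
  · exact absurd hb (by decide)

set_option maxRecDepth 100000 in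
theorem ch_4_10_6_1 : enum 11 ck11 4 6 92736 1107 5 1 = true := by
  decide +kernel

set_option maxRecDepth 100000 in
theorem ch_4_10_6_2 : enum 11 ck11 4 6 158272 1109 5 2 = true := by
  decide +kernel

set_option maxRecDepth 100000 in
theorem ch_4_10_6_3 : enum 11 ck11 4 6 223808 1113 5 3 = true := by
  decide +kernel

set_option maxRecDepth 100000 in
theorem ch_4_10_6_5 : enum 11 ck11 4 6 354880 1137 5 5 = true := by
  decide +kernel

theorem ch_4_10_6 : enum 11 ck11 4 7 27200 1105 4 6 = true := by
  refine enum_intro 11 ck11 4 6 27200 1105 4 6 ?_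
  intro v hv hb hd
  interval_cases v
  · exact absurd hb (by decide)
  · exact ch_4_10_6_1
  · exact ch_4_10_6_2
  · exact ch_4_10_6_3
  · exact absurd hb (by decide)
  · exact ch_4_10_6_5
  · exact absurd hb (by decide)
  · exact absurd hd (by decide)
  · exact absurd hd (by decide)
  · exact absurd hd (by decide)
  · exact absurd hb (by decide)

set_option maxRecDepth 100000 in
theorem ch_4_10_7_1 : enum 11 ck11 4 6 96832 1171 5 1 = true := by
  decide +kernel

set_option maxRecDepth 100000 in
theorem ch_4_10_7_2 : enum 11 ck11 4 6 162368 1173 5 2 = true := by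
  decide +kernel

set_option maxRecDepth 100000 in
theorem ch_4_10_7_3 : enum 11 ck11 4 6 227904 1177 5 3 = true := by
  decide +kernel

set_option maxRecDepth 100000 in
theorem ch_4_10_7_5 : enum 11 ck11 4 6 358976 1201 5 5 = true := by
  decide +kernel

set_option maxRecDepth 100000 in
theorem ch_4_10_7_6 : enum 11 ck11 4 6 424512 1233 5 6 = true := by
  decide +kernel

theorem ch_4_10_7 : enum 11 ck11 4 7 31296 1169 4 7 = true := by
  refine enum_intro 11 ck11 4 6 31296 1169 4 7 ?_
  intro v hv hb hd
  interval_cases v
  · exact absurd hb (by decide)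
  · exact ch_4_10_7_1
  · exact ch_4_10_7_2
  · exact ch_4_10_7_3
  · exact absurd hb (by decide)
  · exact ch_4_10_7_5
  · exact ch_4_10_7_6
  · exact absurd hb (by decide)
  · exact absurd hd (by decide)
  · exact absurd hd (by decide)
  · exact absurd hb (by decide)

set_option maxRecDepth 100000 in
theorem ch_4_10_8_1 : enum 11 ck11 4 6 100928 1299 5 1 = true := by
  decide +kernel

set_option maxRecDepth 100000 in
theorem ch_4_10_8_2 : enum 11 ck11 4 6 166464 1301 5 2 = true := by
  decide +kernel

set_option maxRecDepth 100000 in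
theorem ch_4_10_8_3 : enum 11 ck11 4 6 232000 1305 5 3 = true := by
  decide +kernel

set_option maxRecDepth 100000 in
theorem ch_4_10_8_5 : enum 11 ck11 4 6 363072 1329 5 5 = true := by
  decide +kernel

set_option maxRecDepth 100000 in
theorem ch_4_10_8_6 : enum 11 ck11 4 6 428608 1361 5 6 = true := by
  decide +kernel

set_option maxRecDepth 100000 in
theorem ch_4_10_8_7 : enum 11 ck11 4 6 494144 1425 5 7 = true := by
  decide +kernel

theorem ch_4_10_8 : enum 11 ck11 4 7 35392 1297 4 8 = true := by
  refine enum_intro 11 ck11 4 6 35392 1297 4 8 ?_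
  intro v hv hb hd
  interval_cases v
  · exact absurd hb (by decide)
  · exact ch_4_10_8_1
  · exact ch_4_10_8_2
  · exact ch_4_10_8_3
  · exact absurd hb (by decide)
  · exact ch_4_10_8_5
  · exact ch_4_10_8_6
  · exact ch_4_10_8_7
  · exact absurd hb (by decide)
  · exact absurd hd (by decide)
  · exact absurd hb (by decide)

set_option maxRecDepth 100000 in
theorem ch_4_10_9_2 : enum 11 ck11 4 6 170560 1557 5 2 = true := by
  decide +kernel

set_option maxRecDepth 100000 in
theorem ch_4_10_9_3 : enum 11 ck11 4 6 236096 1561 5 3 = true := by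
  decide +kernel

set_option maxRecDepth 100000 in
theorem ch_4_10_9_5 : enum 11 ck11 4 6 367168 1585 5 5 = true := by
  decide +kernel

set_option maxRecDepth 100000 in
theorem ch_4_10_9_6 : enum 11 ck11 4 6 432704 1617 5 6 = true := by
  decide +kernel

set_option maxRecDepth 100000 in
theorem ch_4_10_9_7 : enum 11 ck11 4 6 498240 1681 5 7 = true := by
  decide +kernel

set_option maxRecDepth 100000 in
theorem ch_4_10_9_8_1 : enum 11 ck11 4 5 1612352 1811 6 1 = true := by
  decide +kernel

set_option maxRecDepth 100000 in
theorem ch_4_10_9_8_2 : enum 11 ck11 4 5 2660928 1813 6 2 = true := by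
  decide +kernel

set_option maxRecDepth 100000 in
theorem ch_4_10_9_8_3 : enum 11 ck11 4 5 3709504 1817 6 3 = true := by
  decide +kernel

set_option maxRecDepth 100000 in
theorem ch_4_10_9_8_5 : enum 11 ck11 4 5 5806656 1841 6 5 = true := by
  decide +kernel

set_option maxRecDepth 100000 in
theorem ch_4_10_9_8_6 : enum 11 ck11 4 5 6855232 1873 6 6 = true := by
  decide +kernel

set_option maxRecDepth 100000 in
theorem ch_4_10_9_8_7 : enum 11 ck11 4 5 7903808 1937 6 7 = true := by
  decide +kernel

theorem ch_4_10_9_8 : enum 11 ck11 4 6 563776 1809 5 8 = true := by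
  refine enum_intro 11 ck11 4 5 563776 1809 5 8 ?_
  intro v hv hb hd
  interval_cases v
  · exact absurd hb (by decide)
  · exact ch_4_10_9_8_1
  · exact ch_4_10_9_8_2
  · exact ch_4_10_9_8_3
  · exact absurd hb (by decide)
  · exact ch_4_10_9_8_5
  · exact ch_4_10_9_8_6
  · exact ch_4_10_9_8_7
  · exact absurd hb (by decide)
  · exact absurd hb (by decide)
  · exact absurd hb (by decide)

theorem ch_4_10_9 : enum 11 ck11 4 7 39488 1553 4 9 = true := by
  refine enum_intro 11 ck11 4 6 39488 1553 4 9 ?_
  intro v hv hb hd
  interval_cases v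
  · exact absurd hb (by decide)
  · exact absurd hd (by decide)
  · exact ch_4_10_9_2
  · exact ch_4_10_9_3
  · exact absurd hb (by decide)
  · exact ch_4_10_9_5
  · exact ch_4_10_9_6
  · exact ch_4_10_9_7
  · exact ch_4_10_9_8
  · exact absurd hb (by decide)
  · exact absurd hb (by decide)

theorem ch_4_10 : enum 11 ck11 4 8 2624 1041 3 10 = true := by
  refine enum_intro 11 ck11 4 7 2624 1041 3 10 ?_
  intro v hv hb hd
  interval_cases v
  · exact absurd hb (by decide)
  · exact absurd hd (by decide)
  · exact absurd hd (by decide)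
  · exact ch_4_10_3
  · exact absurd hb (by decide)
  · exact ch_4_10_5
  · exact ch_4_10_6
  · exact ch_4_10_7
  · exact ch_4_10_8
  · exact ch_4_10_9
  · exact absurd hb (by decide)

set_option maxRecDepth 100000 in
theorem ch_5_1_6 : enum 11 ck11 5 7 24912 99 4 6 = true := by
  decide +kernel

set_option maxRecDepth 100000 in
theorem ch_5_1_7_2 : enum 11 ck11 5 6 160080 167 5 2 = true := by
  decide +kernel

set_option maxRecDepth 100000 in
theorem ch_5_1_7_3 : enum 11 ck11 5 6 225616 171 5 3 = true := by
  decide +kernel

set_option maxRecDepth 100000 in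
theorem ch_5_1_7_4 : enum 11 ck11 5 6 291152 179 5 4 = true := by
  decide +kernel

set_option maxRecDepth 100000 in
theorem ch_5_1_7_6 : enum 11 ck11 5 6 422224 227 5 6 = true := by
  decide +kernel

theorem ch_5_1_7 : enum 11 ck11 5 7 29008 163 4 7 = true := by
  refine enum_intro 11 ck11 5 6 29008 163 4 7 ?_
  intro v hv hb hd
  interval_cases v
  · exact absurd hb (by decide)
  · exact absurd hb (by decide)
  · exact ch_5_1_7_2
  · exact ch_5_1_7_3
  · exact ch_5_1_7_4
  · exact absurd hb (by decide)
  · exact ch_5_1_7_6
  · exact absurd hb (by decide)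
  · exact absurd hd (by decide)
  · exact absurd hd (by decide)
  · exact absurd hd (by decide)

set_option maxRecDepth 100000 in
theorem ch_5_1_8_2 : enum 11 ck11 5 6 164176 295 5 2 = true := by
  decide +kernel

set_option maxRecDepth 100000 in
theorem ch_5_1_8_3 : enum 11 ck11 5 6 229712 299 5 3 = true := by
  decide +kernel

set_option maxRecDepth 100000 in
theorem ch_5_1_8_4 : enum 11 ck11 5 6 295248 307 5 4 = true := by
  decide +kernel

set_option maxRecDepth 100000 in
theorem ch_5_1_8_6 : enum 11 ck11 5 6 426320 355 5 6 = true := by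
  decide +kernel

set_option maxRecDepth 100000 in
theorem ch_5_1_8_7 : enum 11 ck11 5 6 491856 419 5 7 = true := by
  decide +kernel

theorem ch_5_1_8 : enum 11 ck11 5 7 33104 291 4 8 = true := by
  refine enum_intro 11 ck11 5 6 33104 291 4 8 ?_
  intro v hv hb hd
  interval_cases v
  · exact absurd hb (by decide)
  · exact absurd hb (by decide)
  · exact ch_5_1_8_2
  · exact ch_5_1_8_3
  · exact ch_5_1_8_4
  · exact absurd hb (by decide)
  · exact ch_5_1_8_6
  · exact ch_5_1_8_7
  · exact absurd hb (by decide)
  · exact absurd hd (by decide)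
  · exact absurd hd (by decide)

set_option maxRecDepth 100000 in
theorem ch_5_1_9_3 : enum 11 ck11 5 6 233808 555 5 3 = true := by
  decide +kernel

set_option maxRecDepth 100000 in
theorem ch_5_1_9_4 : enum 11 ck11 5 6 299344 563 5 4 = true := by
  decide +kernel

set_option maxRecDepth 100000 in
theorem ch_5_1_9_6 : enum 11 ck11 5 6 430416 611 5 6 = true := by
  decide +kernel

set_option maxRecDepth 100000 in
theorem ch_5_1_9_7 : enum 11 ck11 5 6 495952 675 5 7 = true := by
  decide +kernel

set_option maxRecDepth 100000 in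
theorem ch_5_1_9_8 : enum 11 ck11 5 6 561488 803 5 8 = true := by
  decide +kernel

theorem ch_5_1_9 : enum 11 ck11 5 7 37200 547 4 9 = true := by
  refine enum_intro 11 ck11 5 6 37200 547 4 9 ?_
  intro v hv hb hd
  interval_cases v
  · exact absurd hb (by decide)
  · exact absurd hb (by decide)
  · exact absurd hd (by decide)
  · exact ch_5_1_9_3
  · exact ch_5_1_9_4
  · exact absurd hb (by decide)
  · exact ch_5_1_9_6
  · exact ch_5_1_9_7
  · exact ch_5_1_9_8
  · exact absurd hb (by decide)
  · exact absurd hd (by decide)

set_option maxRecDepth 100000 in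
theorem ch_5_1_10_4 : enum 11 ck11 5 6 303440 1075 5 4 = true := by
  decide +kernel

set_option maxRecDepth 100000 in
theorem ch_5_1_10_6 : enum 11 ck11 5 6 434512 1123 5 6 = true := by
  decide +kernel

set_option maxRecDepth 100000 in
theorem ch_5_1_10_7 : enum 11 ck11 5 6 500048 1187 5 7 = true := by
  decide +kernel

set_option maxRecDepth 100000 in
theorem ch_5_1_10_8 : enum 11 ck11 5 6 565584 1315 5 8 = true := by
  decide +kernel

set_option maxRecDepth 100000 in
theorem ch_5_1_10_9 : enum 11 ck11 5 6 631120 1571 5 9 = true := by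
  decide +kernel

theorem ch_5_1_10 : enum 11 ck11 5 7 41296 1059 4 10 = true := by
  refine enum_intro 11 ck11 5 6 41296 1059 4 10 ?_
  intro v hv hb hd
  interval_cases v
  · exact absurd hb (by decide)
  · exact absurd hb (by decide)
  · exact absurd hd (by decide)
  · exact absurd hd (by decide)
  · exact ch_5_1_10_4
  · exact absurd hb (by decide)
  · exact ch_5_1_10_6
  · exact ch_5_1_10_7
  · exact ch_5_1_10_8
  · exact ch_5_1_10_9
  · exact absurd hb (by decide)

theorem ch_5_1 : enum 11 ck11 5 8 336 35 3 1 = true := by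
  refine enum_intro 11 ck11 5 7 336 35 3 1 ?_
  intro v hv hb hd
  interval_cases v
  · exact absurd hb (by decide)
  · exact absurd hb (by decide)
  · exact absurd hd (by decide)
  · exact absurd hd (by decide)
  · exact absurd hd (by decide)
  · exact absurd hb (by decide)
  · exact ch_5_1_6
  · exact ch_5_1_7
  · exact ch_5_1_8
  · exact ch_5_1_9
  · exact ch_5_1_10

set_option maxRecDepth 100000 in
theorem ch_5_2_1 : enum 11 ck11 5 7 4688 39 4 1 = true := by
  decide +kernel

set_option maxRecDepth 100000 in
theorem ch_5_2_7 : enum 11 ck11 5 7 29264 165 4 7 = true := by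
  decide +kernel

set_option maxRecDepth 100000 in
theorem ch_5_2_8_3 : enum 11 ck11 5 6 229968 301 5 3 = true := by
  decide +kernel

set_option maxRecDepth 100000 in
theorem ch_5_2_8_4 : enum 11 ck11 5 6 295504 309 5 4 = true := by
  decide +kernel

set_option maxRecDepth 100000 in
theorem ch_5_2_8_6 : enum 11 ck11 5 6 426576 357 5 6 = true := by
  decide +kernel

set_option maxRecDepth 100000 in
theorem ch_5_2_8_7 : enum 11 ck11 5 6 492112 421 5 7 = true := by
  decide +kernel

theorem ch_5_2_8 : enum 11 ck11 5 7 33360 293 4 8 = true := by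
  refine enum_intro 11 ck11 5 6 33360 293 4 8 ?_
  intro v hv hb hd
  interval_cases v
  · exact absurd hb (by decide)
  · exact absurd hd (by decide)
  · exact absurd hb (by decide)
  · exact ch_5_2_8_3
  · exact ch_5_2_8_4
  · exact absurd hb (by decide)
  · exact ch_5_2_8_6
  · exact ch_5_2_8_7
  · exact absurd hb (by decide)
  · exact absurd hd (by decide)
  · exact absurd hd (by decide)

set_option maxRecDepth 100000 in
theorem ch_5_2_9_3 : enum 11 ck11 5 6 234064 557 5 3 = true := by
  decide +kernel

set_option maxRecDepth 100000 in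
theorem ch_5_2_9_4 : enum 11 ck11 5 6 299600 565 5 4 = true := by
  decide +kernel

set_option maxRecDepth 100000 in
theorem ch_5_2_9_6 : enum 11 ck11 5 6 430672 613 5 6 = true := by
  decide +kernel

set_option maxRecDepth 100000 in
theorem ch_5_2_9_7 : enum 11 ck11 5 6 496208 677 5 7 = true := by
  decide +kernel

set_option maxRecDepth 100000 in
theorem ch_5_2_9_8 : enum 11 ck11 5 6 561744 805 5 8 = true := by
  decide +kernel

theorem ch_5_2_9 : enum 11 ck11 5 7 37456 549 4 9 = true := by
  refine enum_intro 11 ck11 5 6 37456 549 4 9 ?_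
  intro v hv hb hd
  interval_cases v
  · exact absurd hb (by decide)
  · exact absurd hd (by decide)
  · exact absurd hb (by decide)
  · exact ch_5_2_9_3
  · exact ch_5_2_9_4
  · exact absurd hb (by decide)
  · exact ch_5_2_9_6
  · exact ch_5_2_9_7
  · exact ch_5_2_9_8
  · exact absurd hb (by decide)
  · exact absurd hd (by decide)

set_option maxRecDepth 100000 in
theorem ch_5_2_10_4 : enum 11 ck11 5 6 303696 1077 5 4 = true := by
  decide +kernel

set_option maxRecDepth 100000 in
theorem ch_5_2_10_6 : enum 11 ck11 5 6 434768 1125 5 6 = true := by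
  decide +kernel

set_option maxRecDepth 100000 in
theorem ch_5_2_10_7 : enum 11 ck11 5 6 500304 1189 5 7 = true := by
  decide +kernel

set_option maxRecDepth 100000 in
theorem ch_5_2_10_8 : enum 11 ck11 5 6 565840 1317 5 8 = true := by
  decide +kernel

set_option maxRecDepth 100000 in
theorem ch_5_2_10_9 : enum 11 ck11 5 6 631376 1573 5 9 = true := by
  decide +kernel

theorem ch_5_2_10 : enum 11 ck11 5 7 41552 1061 4 10 = true := by
  refine enum_intro 11 ck11 5 6 41552 1061 4 10 ?_
  intro v hv hb hd
  interval_cases v
  · exact absurd hb (by decide)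
  · exact absurd hd (by decide)
  · exact absurd hb (by decide)
  · exact absurd hd (by decide)
  · exact ch_5_2_10_4
  · exact absurd hb (by decide)
  · exact ch_5_2_10_6
  · exact ch_5_2_10_7
  · exact ch_5_2_10_8
  · exact ch_5_2_10_9
  · exact absurd hb (by decide)

theorem ch_5_2 : enum 11 ck11 5 8 592 37 3 2 = true := by
  refine enum_intro 11 ck11 5 7 592 37 3 2 ?_
  intro v hv hb hd
  interval_cases v
  · exact absurd hb (by decide)
  · exact ch_5_2_1
  · exact absurd hb (by decide)
  · exact absurd hd (by decide)
  · exact absurd hd (by decide)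
  · exact absurd hb (by decide)
  · exact absurd hd (by decide)
  · exact ch_5_2_7
  · exact ch_5_2_8
  · exact ch_5_2_9
  · exact ch_5_2_10

set_option maxRecDepth 100000 in
theorem ch_5_3_1 : enum 11 ck11 5 7 4944 43 4 1 = true := by
  decide +kernel

set_option maxRecDepth 100000 in
theorem ch_5_3_2 : enum 11 ck11 5 7 9040 45 4 2 = true := by
  decide +kernel

set_option maxRecDepth 100000 in
theorem ch_5_3_8_2 : enum 11 ck11 5 6 164688 301 5 2 = true := by
  decide +kernel

set_option maxRecDepth 100000 in
theorem ch_5_3_8_4 : enum 11 ck11 5 6 295760 313 5 4 = true := by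
  decide +kernel

set_option maxRecDepth 100000 in
theorem ch_5_3_8_6 : enum 11 ck11 5 6 426832 361 5 6 = true := by
  decide +kernel

set_option maxRecDepth 100000 in
theorem ch_5_3_8_7 : enum 11 ck11 5 6 492368 425 5 7 = true := by
  decide +kernel

theorem ch_5_3_8 : enum 11 ck11 5 7 33616 297 4 8 = true := by
  refine enum_intro 11 ck11 5 6 33616 297 4 8 ?_
  intro v hv hb hd
  interval_cases v
  · exact absurd hb (by decide)
  · exact absurd hd (by decide)
  · exact ch_5_3_8_2
  · exact absurd hb (by decide)
  · exact ch_5_3_8_4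
  · exact absurd hb (by decide)
  · exact ch_5_3_8_6
  · exact ch_5_3_8_7
  · exact absurd hb (by decide)
  · exact absurd hd (by decide)
  · exact absurd hd (by decide)

set_option maxRecDepth 100000 in
theorem ch_5_3_9_4 : enum 11 ck11 5 6 299856 569 5 4 = true := by
  decide +kernel

set_option maxRecDepth 100000 in
theorem ch_5_3_9_6 : enum 11 ck11 5 6 430928 617 5 6 = true := by
  decide +kernel

set_option maxRecDepth 100000 in
theorem ch_5_3_9_7 : enum 11 ck11 5 6 496464 681 5 7 = true := by
  decide +kernel

set_option maxRecDepth 100000 in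
theorem ch_5_3_9_8 : enum 11 ck11 5 6 562000 809 5 8 = true := by
  decide +kernel

theorem ch_5_3_9 : enum 11 ck11 5 7 37712 553 4 9 = true := by
  refine enum_intro 11 ck11 5 6 37712 553 4 9 ?_
  intro v hv hb hd
  interval_cases v
  · exact absurd hb (by decide)
  · exact absurd hd (by decide)
  · exact absurd hd (by decide)
  · exact absurd hb (by decide)
  · exact ch_5_3_9_4
  · exact absurd hb (by decide)
  · exact ch_5_3_9_6
  · exact ch_5_3_9_7
  · exact ch_5_3_9_8
  · exact absurd hb (by decide)
  · exact absurd hd (by decide)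

set_option maxRecDepth 100000 in
theorem ch_5_3_10_4 : enum 11 ck11 5 6 303952 1081 5 4 = true := by
  decide +kernel

set_option maxRecDepth 100000 in
theorem ch_5_3_10_6 : enum 11 ck11 5 6 435024 1129 5 6 = true := by
  decide +kernel

set_option maxRecDepth 100000 in
theorem ch_5_3_10_7 : enum 11 ck11 5 6 500560 1193 5 7 = true := by
  decide +kernel

set_option maxRecDepth 100000 in
theorem ch_5_3_10_8 : enum 11 ck11 5 6 566096 1321 5 8 = true := by
  decide +kernel

set_option maxRecDepth 100000 in
theorem ch_5_3_10_9 : enum 11 ck11 5 6 631632 1577 5 9 = true := by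
  decide +kernel

theorem ch_5_3_10 : enum 11 ck11 5 7 41808 1065 4 10 = true := by
  refine enum_intro 11 ck11 5 6 41808 1065 4 10 ?_
  intro v hv hb hd
  interval_cases v
  · exact absurd hb (by decide)
  · exact absurd hd (by decide)
  · exact absurd hd (by decide)
  · exact absurd hb (by decide)
  · exact ch_5_3_10_4
  · exact absurd hb (by decide)
  · exact ch_5_3_10_6
  · exact ch_5_3_10_7
  · exact ch_5_3_10_8
  · exact ch_5_3_10_9
  · exact absurd hb (by decide)

theorem ch_5_3 : enum 11 ck11 5 8 848 41 3 3 = true := by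
  refine enum_intro 11 ck11 5 7 848 41 3 3 ?_
  intro v hv hb hd
  interval_cases v
  · exact absurd hb (by decide)
  · exact ch_5_3_1
  · exact ch_5_3_2
  · exact absurd hb (by decide)
  · exact absurd hd (by decide)
  · exact absurd hb (by decide)
  · exact absurd hd (by decide)
  · exact absurd hd (by decide)
  · exact ch_5_3_8
  · exact ch_5_3_9
  · exact ch_5_3_10

set_option maxRecDepth 100000 in
theorem ch_5_4_1 : enum 11 ck11 5 7 5200 51 4 1 = true := by
  decide +kernel

set_option maxRecDepth 100000 in
theorem ch_5_4_2 : enum 11 ck11 5 7 9296 53 4 2 = true := by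
  decide +kernel

set_option maxRecDepth 100000 in
theorem ch_5_4_3 : enum 11 ck11 5 7 13392 57 4 3 = true := by
  decide +kernel

set_option maxRecDepth 100000 in
theorem ch_5_4_9_3 : enum 11 ck11 5 6 234576 569 5 3 = true := by
  decide +kernel

set_option maxRecDepth 100000 in
theorem ch_5_4_9_6 : enum 11 ck11 5 6 431184 625 5 6 = true := by
  decide +kernel

set_option maxRecDepth 100000 in
theorem ch_5_4_9_7 : enum 11 ck11 5 6 496720 689 5 7 = true := by
  decide +kernel

set_option maxRecDepth 100000 in
theorem ch_5_4_9_8 : enum 11 ck11 5 6 562256 817 5 8 = true := by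
  decide +kernel

theorem ch_5_4_9 : enum 11 ck11 5 7 37968 561 4 9 = true := by
  refine enum_intro 11 ck11 5 6 37968 561 4 9 ?_
  intro v hv hb hd
  interval_cases v
  · exact absurd hb (by decide)
  · exact absurd hd (by decide)
  · exact absurd hd (by decide)
  · exact ch_5_4_9_3
  · exact absurd hb (by decide)
  · exact absurd hb (by decide)
  · exact ch_5_4_9_6
  · exact ch_5_4_9_7
  · exact ch_5_4_9_8
  · exact absurd hb (by decide)
  · exact absurd hd (by decide)

set_option maxRecDepth 100000 in
theorem ch_5_4_10_6 : enum 11 ck11 5 6 435280 1137 5 6 = true := by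
  decide +kernel

set_option maxRecDepth 100000 in
theorem ch_5_4_10_7 : enum 11 ck11 5 6 500816 1201 5 7 = true := by
  decide +kernel

set_option maxRecDepth 100000 in
theorem ch_5_4_10_8 : enum 11 ck11 5 6 566352 1329 5 8 = true := by
  decide +kernel

set_option maxRecDepth 100000 in
theorem ch_5_4_10_9 : enum 11 ck11 5 6 631888 1585 5 9 = true := by
  decide +kernel

theorem ch_5_4_10 : enum 11 ck11 5 7 42064 1073 4 10 = true := by
  refine enum_intro 11 ck11 5 6 42064 1073 4 10 ?_
  intro v hv hb hd
  interval_cases v
  · exact absurd hb (by decide)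
  · exact absurd hd (by decide)
  · exact absurd hd (by decide)
  · exact absurd hd (by decide)
  · exact absurd hb (by decide)
  · exact absurd hb (by decide)
  · exact ch_5_4_10_6
  · exact ch_5_4_10_7
  · exact ch_5_4_10_8
  · exact ch_5_4_10_9
  · exact absurd hb (by decide)

theorem ch_5_4 : enum 11 ck11 5 8 1104 49 3 4 = true := by
  refine enum_intro 11 ck11 5 7 1104 49 3 4 ?_
  intro v hv hb hd
  interval_cases v
  · exact absurd hb (by decide)
  · exact ch_5_4_1
  · exact ch_5_4_2
  · exact ch_5_4_3
  · exact absurd hb (by decide)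
  · exact absurd hb (by decide)
  · exact absurd hd (by decide)
  · exact absurd hd (by decide)
  · exact absurd hd (by decide)
  · exact ch_5_4_9
  · exact ch_5_4_10

set_option maxRecDepth 100000 in
theorem ch_5_10_4_1 : enum 11 ck11 5 6 84560 1075 5 1 = true := by
  decide +kernel

set_option maxRecDepth 100000 in
theorem ch_5_10_4_2 : enum 11 ck11 5 6 150096 1077 5 2 = true := by
  decide +kernel

set_option maxRecDepth 100000 in
theorem ch_5_10_4_3 : enum 11 ck11 5 6 215632 1081 5 3 = true := by
  decide +kernel

set_option maxRecDepth 100000 in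
theorem ch_5_10_4_9 : enum 11 ck11 5 6 608848 1585 5 9 = true := by
  decide +kernel

theorem ch_5_10_4 : enum 11 ck11 5 7 19024 1073 4 4 = true := by
  refine enum_intro 11 ck11 5 6 19024 1073 4 4 ?_
  intro v hv hb hd
  interval_cases v
  · exact absurd hb (by decide)
  · exact ch_5_10_4_1
  · exact ch_5_10_4_2
  · exact ch_5_10_4_3
  · exact absurd hb (by decide)
  · exact absurd hb (by decide)
  · exact absurd hd (by decide)
  · exact absurd hd (by decide)
  · exact absurd hd (by decide)
  · exact ch_5_10_4_9
  · exact absurd hb (by decide)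

set_option maxRecDepth 100000 in
theorem ch_5_10_6_1 : enum 11 ck11 5 6 92752 1123 5 1 = true := by
  decide +kernel

set_option maxRecDepth 100000 in
theorem ch_5_10_6_2 : enum 11 ck11 5 6 158288 1125 5 2 = true := by
  decide +kernel

set_option maxRecDepth 100000 in
theorem ch_5_10_6_3 : enum 11 ck11 5 6 223824 1129 5 3 = true := by
  decide +kernel

set_option maxRecDepth 100000 in
theorem ch_5_10_6_4 : enum 11 ck11 5 6 289360 1137 5 4 = true := by
  decide +kernel

theorem ch_5_10_6 : enum 11 ck11 5 7 27216 1121 4 6 = true := by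
  refine enum_intro 11 ck11 5 6 27216 1121 4 6 ?_
  intro v hv hb hd
  interval_cases v
  · exact absurd hb (by decide)
  · exact ch_5_10_6_1
  · exact ch_5_10_6_2
  · exact ch_5_10_6_3
  · exact ch_5_10_6_4
  · exact absurd hb (by decide)
  · exact absurd hb (by decide)
  · exact absurd hd (by decide)
  · exact absurd hd (by decide)
  · exact absurd hd (by decide)
  · exact absurd hb (by decide)

set_option maxRecDepth 100000 in
theorem ch_5_10_7_1 : enum 11 ck11 5 6 96848 1187 5 1 = true := by
  decide +kernel

set_option maxRecDepth 100000 in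
theorem ch_5_10_7_2 : enum 11 ck11 5 6 162384 1189 5 2 = true := by
  decide +kernel

set_option maxRecDepth 100000 in
theorem ch_5_10_7_3 : enum 11 ck11 5 6 227920 1193 5 3 = true := by
  decide +kernel

set_option maxRecDepth 100000 in
theorem ch_5_10_7_4 : enum 11 ck11 5 6 293456 1201 5 4 = true := by
  decide +kernel

set_option maxRecDepth 100000 in
theorem ch_5_10_7_6 : enum 11 ck11 5 6 424528 1249 5 6 = true := by
  decide +kernel

theorem ch_5_10_7 : enum 11 ck11 5 7 31312 1185 4 7 = true := by
  refine enum_intro 11 ck11 5 6 31312 1185 4 7 ?_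
  intro v hv hb hd
  interval_cases v
  · exact absurd hb (by decide)
  · exact ch_5_10_7_1
  · exact ch_5_10_7_2
  · exact ch_5_10_7_3
  · exact ch_5_10_7_4
  · exact absurd hb (by decide)
  · exact ch_5_10_7_6
  · exact absurd hb (by decide)
  · exact absurd hd (by decide)
  · exact absurd hd (by decide)
  · exact absurd hb (by decide)

set_option maxRecDepth 100000 in
theorem ch_5_10_8_2 : enum 11 ck11 5 6 166480 1317 5 2 = true := by
  decide +kernel

set_option maxRecDepth 100000 in
theorem ch_5_10_8_3 : enum 11 ck11 5 6 232016 1321 5 3 = true := by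
  decide +kernel

set_option maxRecDepth 100000 in
theorem ch_5_10_8_4 : enum 11 ck11 5 6 297552 1329 5 4 = true := by
  decide +kernel

set_option maxRecDepth 100000 in
theorem ch_5_10_8_6 : enum 11 ck11 5 6 428624 1377 5 6 = true := by
  decide +kernel

set_option maxRecDepth 100000 in
theorem ch_5_10_8_7 : enum 11 ck11 5 6 494160 1441 5 7 = true := by
  decide +kernel

theorem ch_5_10_8 : enum 11 ck11 5 7 35408 1313 4 8 = true := by
  refine enum_intro 11 ck11 5 6 35408 1313 4 8 ?_
  intro v hv hb hd
  interval_cases v
  · exact absurd hb (by decide)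
  · exact absurd hd (by decide)
  · exact ch_5_10_8_2
  · exact ch_5_10_8_3
  · exact ch_5_10_8_4
  · exact absurd hb (by decide)
  · exact ch_5_10_8_6
  · exact ch_5_10_8_7
  · exact absurd hb (by decide)
  · exact absurd hd (by decide)
  · exact absurd hb (by decide)

set_option maxRecDepth 100000 in
theorem ch_5_10_9_3 : enum 11 ck11 5 6 236112 1577 5 3 = true := by
  decide +kernel

set_option maxRecDepth 100000 in
theorem ch_5_10_9_4 : enum 11 ck11 5 6 301648 1585 5 4 = true := by
  decide +kernel

set_option maxRecDepth 100000 in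
theorem ch_5_10_9_6 : enum 11 ck11 5 6 432720 1633 5 6 = true := by
  decide +kernel

set_option maxRecDepth 100000 in
theorem ch_5_10_9_7 : enum 11 ck11 5 6 498256 1697 5 7 = true := by
  decide +kernel

set_option maxRecDepth 100000 in
theorem ch_5_10_9_8 : enum 11 ck11 5 6 563792 1825 5 8 = true := by
  decide +kernel

theorem ch_5_10_9 : enum 11 ck11 5 7 39504 1569 4 9 = true := by
  refine enum_intro 11 ck11 5 6 39504 1569 4 9 ?_
  intro v hv hb hd
  interval_cases v
  · exact absurd hb (by decide)
  · exact absurd hd (by decide)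
  · exact absurd hd (by decide)
  · exact ch_5_10_9_3
  · exact ch_5_10_9_4
  · exact absurd hb (by decide)
  · exact ch_5_10_9_6
  · exact ch_5_10_9_7
  · exact ch_5_10_9_8
  · exact absurd hb (by decide)
  · exact absurd hb (by decide)

theorem ch_5_10 : enum 11 ck11 5 8 2640 1057 3 10 = true := by
  refine enum_intro 11 ck11 5 7 2640 1057 3 10 ?_
  intro v hv hb hd
  interval_cases v
  · exact absurd hb (by decide)
  · exact absurd hd (by decide)
  · exact absurd hd (by decide)
  · exact absurd hd (by decide)
  · exact ch_5_10_4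
  · exact absurd hb (by decide)
  · exact ch_5_10_6
  · exact ch_5_10_7
  · exact ch_5_10_8
  · exact ch_5_10_9
  · exact absurd hb (by decide)

set_option maxRecDepth 100000 in
theorem ch_6_1_7 : enum 11 ck11 6 7 29024 195 4 7 = true := by
  decide +kernel

set_option maxRecDepth 100000 in
theorem ch_6_1_8 : enum 11 ck11 6 7 33120 323 4 8 = true := by
  decide +kernel

set_option maxRecDepth 100000 in
theorem ch_6_1_9 : enum 11 ck11 6 7 37216 579 4 9 = true := by
  decide +kernel

set_option maxRecDepth 100000 in
theorem ch_6_1_10 : enum 11 ck11 6 7 41312 1091 4 10 = true := by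
  decide +kernel

theorem ch_6_1 : enum 11 ck11 6 8 352 67 3 1 = true := by
  refine enum_intro 11 ck11 6 7 352 67 3 1 ?_
  intro v hv hb hd
  interval_cases v
  · exact absurd hb (by decide)
  · exact absurd hb (by decide)
  · exact absurd hd (by decide)
  · exact absurd hd (by decide)
  · exact absurd hd (by decide)
  · exact absurd hd (by decide)
  · exact absurd hb (by decide)
  · exact ch_6_1_7
  · exact ch_6_1_8
  · exact ch_6_1_9
  · exact ch_6_1_10

set_option maxRecDepth 100000 in
theorem ch_6_2_1 : enum 11 ck11 6 7 4704 71 4 1 = true := by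
  decide +kernel

set_option maxRecDepth 100000 in
theorem ch_6_2_8 : enum 11 ck11 6 7 33376 325 4 8 = true := by
  decide +kernel

set_option maxRecDepth 100000 in
theorem ch_6_2_9 : enum 11 ck11 6 7 37472 581 4 9 = true := by
  decide +kernel

set_option maxRecDepth 100000 in
theorem ch_6_2_10 : enum 11 ck11 6 7 41568 1093 4 10 = true := by
  decide +kernel

theorem ch_6_2 : enum 11 ck11 6 8 608 69 3 2 = true := by
  refine enum_intro 11 ck11 6 7 608 69 3 2 ?_
  intro v hv hb hd
  interval_cases v
  · exact absurd hb (by decide)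
  · exact ch_6_2_1
  · exact absurd hb (by decide)
  · exact absurd hd (by decide)
  · exact absurd hd (by decide)
  · exact absurd hd (by decide)
  · exact absurd hb (by decide)
  · exact absurd hd (by decide)
  · exact ch_6_2_8
  · exact ch_6_2_9
  · exact ch_6_2_10

set_option maxRecDepth 100000 in
theorem ch_6_3_1 : enum 11 ck11 6 7 4960 75 4 1 = true := by
  decide +kernel

set_option maxRecDepth 100000 in
theorem ch_6_3_2 : enum 11 ck11 6 7 9056 77 4 2 = true := by
  decide +kernel

set_option maxRecDepth 100000 in
theorem ch_6_3_9 : enum 11 ck11 6 7 37728 585 4 9 = true := by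
  decide +kernel

set_option maxRecDepth 100000 in
theorem ch_6_3_10 : enum 11 ck11 6 7 41824 1097 4 10 = true := by
  decide +kernel

theorem ch_6_3 : enum 11 ck11 6 8 864 73 3 3 = true := by
  refine enum_intro 11 ck11 6 7 864 73 3 3 ?_
  intro v hv hb hd
  interval_cases v
  · exact absurd hb (by decide)
  · exact ch_6_3_1
  · exact ch_6_3_2
  · exact absurd hb (by decide)
  · exact absurd hd (by decide)
  · exact absurd hd (by decide)
  · exact absurd hb (by decide)
  · exact absurd hd (by decide)
  · exact absurd hd (by decide)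
  · exact ch_6_3_9
  · exact ch_6_3_10

set_option maxRecDepth 100000 in
theorem ch_6_4_1 : enum 11 ck11 6 7 5216 83 4 1 = true := by
  decide +kernel

set_option maxRecDepth 100000 in
theorem ch_6_4_2 : enum 11 ck11 6 7 9312 85 4 2 = true := by
  decide +kernel

set_option maxRecDepth 100000 in
theorem ch_6_4_3 : enum 11 ck11 6 7 13408 89 4 3 = true := by
  decide +kernel

set_option maxRecDepth 100000 in
theorem ch_6_4_10 : enum 11 ck11 6 7 42080 1105 4 10 = true := by
  decide +kernel

theorem ch_6_4 : enum 11 ck11 6 8 1120 81 3 4 = true := by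
  refine enum_intro 11 ck11 6 7 1120 81 3 4 ?_
  intro v hv hb hd
  interval_cases v
  · exact absurd hb (by decide)
  · exact ch_6_4_1
  · exact ch_6_4_2
  · exact ch_6_4_3
  · exact absurd hb (by decide)
  · exact absurd hd (by decide)
  · exact absurd hb (by decide)
  · exact absurd hd (by decide)
  · exact absurd hd (by decide)
  · exact absurd hd (by decide)
  · exact ch_6_4_10

set_option maxRecDepth 100000 in
theorem ch_6_5_1 : enum 11 ck11 6 7 5472 99 4 1 = true := by
  decide +kernel

set_option maxRecDepth 100000 in
theorem ch_6_5_2 : enum 11 ck11 6 7 9568 101 4 2 = true := by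
  decide +kernel

set_option maxRecDepth 100000 in
theorem ch_6_5_3 : enum 11 ck11 6 7 13664 105 4 3 = true := by
  decide +kernel

set_option maxRecDepth 100000 in
theorem ch_6_5_4 : enum 11 ck11 6 7 17760 113 4 4 = true := by
  decide +kernel

theorem ch_6_5 : enum 11 ck11 6 8 1376 97 3 5 = true := by
  refine enum_intro 11 ck11 6 7 1376 97 3 5 ?_
  intro v hv hb hd
  interval_cases v
  · exact absurd hb (by decide)
  · exact ch_6_5_1
  · exact ch_6_5_2
  · exact ch_6_5_3
  · exact ch_6_5_4
  · exact absurd hb (by decide)
  · exact absurd hb (by decide)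
  · exact absurd hd (by decide)
  · exact absurd hd (by decide)
  · exact absurd hd (by decide)
  · exact absurd hd (by decide)

set_option maxRecDepth 100000 in
theorem ch_7_3 : enum 11 ck11 7 8 880 137 3 3 = true := by
  decide +kernel

set_option maxRecDepth 100000 in
theorem ch_7_4 : enum 11 ck11 7 8 1136 145 3 4 = true := by
  decide +kernel

set_option maxRecDepth 100000 in
theorem ch_7_5 : enum 11 ck11 7 8 1392 161 3 5 = true := by
  decide +kernel

set_option maxRecDepth 100000 in
theorem ch_7_6 : enum 11 ck11 7 8 1648 193 3 6 = true := by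
  decide +kernel

set_option maxRecDepth 100000 in
theorem ch_8_5 : enum 11 ck11 8 8 1408 289 3 5 = true := by
  decide +kernel

set_option maxRecDepth 100000 in
theorem ch_8_6 : enum 11 ck11 8 8 1664 321 3 6 = true := by
  decide +kernel

set_option maxRecDepth 100000 in
theorem ch_8_7 : enum 11 ck11 8 8 1920 385 3 7 = true := by
  decide +kernel

set_option maxRecDepth 100000 in
theorem ch_9_7 : enum 11 ck11 9 8 1936 641 3 7 = true := by
  decide +kernel

set_option maxRecDepth 100000 in
theorem ch_9_8 : enum 11 ck11 9 8 2192 769 3 8 = true := by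
  decide +kernel

set_option maxRecDepth 100000 in
theorem ch_10_9 : enum 11 ck11 10 8 2464 1537 3 9 = true := by
  decide +kernel

end Cfsg.Agent.Helper9.T11
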