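import Mathlib
import Cfsg.Agent.Helper9.T11.Chk

set_option autoImplicit false
set_option Elab.async false

/-!
A part of the enumeration on 11 points: the test holds at every permutation of the part.
-/

namespace Cfsg.Agent.Helper9.T11

set_option maxRecDepth 100000 in
theorem ch_2_6_1_3_5 : enum 11 ck11 2 5 5445152 111 6 5 = true := by
  decide +kernel

set_option maxRecDepth 100000 in
theorem ch_2_6_1_3_7 : enum 11 ck11 2 5 7542304 207 6 7 = true := by
  decide +kernel

set_option maxRecDepth 100000 in
theorem ch_2_6_1_3_8 : enum 11 ck11 2 5 8590880 335 6 8 = true := by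
  decide +kernel

set_option maxRecDepth 100000 in
theorem ch_2_6_1_3_9 : enum 11 ck11 2 5 9639456 591 6 9 = true := by
  decide +kernel

set_option maxRecDepth 100000 in
theorem ch_2_6_1_3_10 : enum 11 ck11 2 5 10688032 1103 6 10 = true := by
  decide +kernel

theorem ch_2_6_1_3 : enum 11 ck11 2 6 202272 79 5 3 = true := by
  refine enum_intro 11 ck11 2 5 202272 79 5 3 ?_
  intro v hv hb hd
  interval_cases v
  · exact absurd hb (by decide)
  · exact absurd hb (by decide)
  · exact absurd hb (by decide)
  · exact absurd hb (by decide)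
  · exact absurd hd (by decide)
  · exact ch_2_6_1_3_5
  · exact absurd hb (by decide)
  · exact ch_2_6_1_3_7
  · exact ch_2_6_1_3_8
  · exact ch_2_6_1_3_9
  · exact ch_2_6_1_3_10

set_option maxRecDepth 100000 in
theorem ch_2_6_1_4_3 : enum 11 ck11 2 5 3413536 95 6 3 = true := by
  decide +kernel

set_option maxRecDepth 100000 in
theorem ch_2_6_1_4_7 : enum 11 ck11 2 5 7607840 215 6 7 = true := by
  decide +kernel

set_option maxRecDepth 100000 in
theorem ch_2_6_1_4_8 : enum 11 ck11 2 5 8656416 343 6 8 = true := by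
  decide +kernel

set_option maxRecDepth 100000 in
theorem ch_2_6_1_4_9 : enum 11 ck11 2 5 9704992 599 6 9 = true := by
  decide +kernel

set_option maxRecDepth 100000 in
theorem ch_2_6_1_4_10 : enum 11 ck11 2 5 10753568 1111 6 10 = true := by
  decide +kernel

theorem ch_2_6_1_4 : enum 11 ck11 2 6 267808 87 5 4 = true := by
  refine enum_intro 11 ck11 2 5 267808 87 5 4 ?_
  intro v hv hb hd
  interval_cases v
  · exact absurd hb (by decide)
  · exact absurd hb (by decide)
  · exact absurd hb (by decide)
  · exact ch_2_6_1_4_3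
  · exact absurd hb (by decide)
  · exact absurd hd (by decide)
  · exact absurd hb (by decide)
  · exact ch_2_6_1_4_7
  · exact ch_2_6_1_4_8
  · exact ch_2_6_1_4_9
  · exact ch_2_6_1_4_10

set_option maxRecDepth 100000 in
theorem ch_2_6_1_5_3 : enum 11 ck11 2 5 3479072 111 6 3 = true := by
  decide +kernel

set_option maxRecDepth 100000 in
theorem ch_2_6_1_5_4 : enum 11 ck11 2 5 4527648 119 6 4 = true := by
  decide +kernel

set_option maxRecDepth 100000 in
theorem ch_2_6_1_5_7 : enum 11 ck11 2 5 7673376 231 6 7 = true := by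
  decide +kernel

set_option maxRecDepth 100000 in
theorem ch_2_6_1_5_8 : enum 11 ck11 2 5 8721952 359 6 8 = true := by
  decide +kernel

set_option maxRecDepth 100000 in
theorem ch_2_6_1_5_9 : enum 11 ck11 2 5 9770528 615 6 9 = true := by
  decide +kernel

set_option maxRecDepth 100000 in
theorem ch_2_6_1_5_10 : enum 11 ck11 2 5 10819104 1127 6 10 = true := by
  decide +kernel

theorem ch_2_6_1_5 : enum 11 ck11 2 6 333344 103 5 5 = true := by
  refine enum_intro 11 ck11 2 5 333344 103 5 5 ?_
  intro v hv hb hd
  interval_cases v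
  · exact absurd hb (by decide)
  · exact absurd hb (by decide)
  · exact absurd hb (by decide)
  · exact ch_2_6_1_5_3
  · exact ch_2_6_1_5_4
  · exact absurd hb (by decide)
  · exact absurd hb (by decide)
  · exact ch_2_6_1_5_7
  · exact ch_2_6_1_5_8
  · exact ch_2_6_1_5_9
  · exact ch_2_6_1_5_10

set_option maxRecDepth 100000 in
theorem ch_2_6_1_7_3 : enum 11 ck11 2 5 3610144 207 6 3 = true := by
  decide +kernel

set_option maxRecDepth 100000 in
theorem ch_2_6_1_7_4 : enum 11 ck11 2 5 4658720 215 6 4 = true := by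
  decide +kernel

set_option maxRecDepth 100000 in
theorem ch_2_6_1_7_5 : enum 11 ck11 2 5 5707296 231 6 5 = true := by
  decide +kernel

set_option maxRecDepth 100000 in
theorem ch_2_6_1_7_9 : enum 11 ck11 2 5 9901600 711 6 9 = true := by
  decide +kernel

set_option maxRecDepth 100000 in
theorem ch_2_6_1_7_10 : enum 11 ck11 2 5 10950176 1223 6 10 = true := by
  decide +kernel

theorem ch_2_6_1_7 : enum 11 ck11 2 6 464416 199 5 7 = true := by
  refine enum_intro 11 ck11 2 5 464416 199 5 7 ?_
  intro v hv hb hd
  interval_cases v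
  · exact absurd hb (by decide)
  · exact absurd hb (by decide)
  · exact absurd hb (by decide)
  · exact ch_2_6_1_7_3
  · exact ch_2_6_1_7_4
  · exact ch_2_6_1_7_5
  · exact absurd hb (by decide)
  · exact absurd hb (by decide)
  · exact absurd hd (by decide)
  · exact ch_2_6_1_7_9
  · exact ch_2_6_1_7_10

set_option maxRecDepth 100000 in
theorem ch_2_6_1_8_3 : enum 11 ck11 2 5 3675680 335 6 3 = true := by
  decide +kernel

set_option maxRecDepth 100000 in
theorem ch_2_6_1_8_4 : enum 11 ck11 2 5 4724256 343 6 4 = true := by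
  decide +kernel

set_option maxRecDepth 100000 in
theorem ch_2_6_1_8_5 : enum 11 ck11 2 5 5772832 359 6 5 = true := by
  decide +kernel

set_option maxRecDepth 100000 in
theorem ch_2_6_1_8_7 : enum 11 ck11 2 5 7869984 455 6 7 = true := by
  decide +kernel

set_option maxRecDepth 100000 in
theorem ch_2_6_1_8_10 : enum 11 ck11 2 5 11015712 1351 6 10 = true := by
  decide +kernel

theorem ch_2_6_1_8 : enum 11 ck11 2 6 529952 327 5 8 = true := by
  refine enum_intro 11 ck11 2 5 529952 327 5 8 ?_
  intro v hv hb hd
  interval_cases v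
  · exact absurd hb (by decide)
  · exact absurd hb (by decide)
  · exact absurd hb (by decide)
  · exact ch_2_6_1_8_3
  · exact ch_2_6_1_8_4
  · exact ch_2_6_1_8_5
  · exact absurd hb (by decide)
  · exact ch_2_6_1_8_7
  · exact absurd hb (by decide)
  · exact absurd hd (by decide)
  · exact ch_2_6_1_8_10

set_option maxRecDepth 100000 in
theorem ch_2_6_1_9_3 : enum 11 ck11 2 5 3741216 591 6 3 = true := by
  decide +kernel

set_option maxRecDepth 100000 in
theorem ch_2_6_1_9_4 : enum 11 ck11 2 5 4789792 599 6 4 = true := by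
  decide +kernel

set_option maxRecDepth 100000 in
theorem ch_2_6_1_9_5 : enum 11 ck11 2 5 5838368 615 6 5 = true := by
  decide +kernel

set_option maxRecDepth 100000 in
theorem ch_2_6_1_9_7 : enum 11 ck11 2 5 7935520 711 6 7 = true := by
  decide +kernel

set_option maxRecDepth 100000 in
theorem ch_2_6_1_9_8 : enum 11 ck11 2 5 8984096 839 6 8 = true := by
  decide +kernel

theorem ch_2_6_1_9 : enum 11 ck11 2 6 595488 583 5 9 = true := by
  refine enum_intro 11 ck11 2 5 595488 583 5 9 ?_
  intro v hv hb hd
  interval_cases v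
  · exact absurd hb (by decide)
  · exact absurd hb (by decide)
  · exact absurd hb (by decide)
  · exact ch_2_6_1_9_3
  · exact ch_2_6_1_9_4
  · exact ch_2_6_1_9_5
  · exact absurd hb (by decide)
  · exact ch_2_6_1_9_7
  · exact ch_2_6_1_9_8
  · exact absurd hb (by decide)
  · exact absurd hd (by decide)

set_option maxRecDepth 100000 in
theorem ch_2_6_1_10_3 : enum 11 ck11 2 5 3806752 1103 6 3 = true := by
  decide +kernel

set_option maxRecDepth 100000 in
theorem ch_2_6_1_10_4 : enum 11 ck11 2 5 4855328 1111 6 4 = true := by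
  decide +kernel

set_option maxRecDepth 100000 in
theorem ch_2_6_1_10_5 : enum 11 ck11 2 5 5903904 1127 6 5 = true := by
  decide +kernel

set_option maxRecDepth 100000 in
theorem ch_2_6_1_10_7 : enum 11 ck11 2 5 8001056 1223 6 7 = true := by
  decide +kernel

set_option maxRecDepth 100000 in
theorem ch_2_6_1_10_8 : enum 11 ck11 2 5 9049632 1351 6 8 = true := by
  decide +kernel

set_option maxRecDepth 100000 in
theorem ch_2_6_1_10_9 : enum 11 ck11 2 5 10098208 1607 6 9 = true := by
  decide +kernel

theorem ch_2_6_1_10 : enum 11 ck11 2 6 661024 1095 5 10 = true := by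
  refine enum_intro 11 ck11 2 5 661024 1095 5 10 ?_
  intro v hv hb hd
  interval_cases v
  · exact absurd hb (by decide)
  · exact absurd hb (by decide)
  · exact absurd hb (by decide)
  · exact ch_2_6_1_10_3
  · exact ch_2_6_1_10_4
  · exact ch_2_6_1_10_5
  · exact absurd hb (by decide)
  · exact ch_2_6_1_10_7
  · exact ch_2_6_1_10_8
  · exact ch_2_6_1_10_9
  · exact absurd hb (by decide)

theorem ch_2_6_1 : enum 11 ck11 2 7 5664 71 4 1 = true := by
  refine enum_intro 11 ck11 2 6 5664 71 4 1 ?_
  intro v hv hb hd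
  interval_cases v
  · exact absurd hb (by decide)
  · exact absurd hb (by decide)
  · exact absurd hb (by decide)
  · exact ch_2_6_1_3
  · exact ch_2_6_1_4
  · exact ch_2_6_1_5
  · exact absurd hb (by decide)
  · exact ch_2_6_1_7
  · exact ch_2_6_1_8
  · exact ch_2_6_1_9
  · exact ch_2_6_1_10

set_option maxRecDepth 100000 in
theorem ch_2_6_3_1_4 : enum 11 ck11 2 5 4273696 95 6 4 = true := by
  decide +kernel

set_option maxRecDepth 100000 in
theorem ch_2_6_3_1_5 : enum 11 ck11 2 5 5322272 111 6 5 = true := by
  decide +kernel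

set_option maxRecDepth 100000 in
theorem ch_2_6_3_1_7 : enum 11 ck11 2 5 7419424 207 6 7 = true := by
  decide +kernel

set_option maxRecDepth 100000 in
theorem ch_2_6_3_1_8 : enum 11 ck11 2 5 8468000 335 6 8 = true := by
  decide +kernel

set_option maxRecDepth 100000 in
theorem ch_2_6_3_1_9 : enum 11 ck11 2 5 9516576 591 6 9 = true := by
  decide +kernel

set_option maxRecDepth 100000 in
theorem ch_2_6_3_1_10 : enum 11 ck11 2 5 10565152 1103 6 10 = true := by
  decide +kernel

theorem ch_2_6_3_1 : enum 11 ck11 2 6 79392 79 5 1 = true := by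
  refine enum_intro 11 ck11 2 5 79392 79 5 1 ?_
  intro v hv hb hd
  interval_cases v
  · exact absurd hb (by decide)
  · exact absurd hb (by decide)
  · exact absurd hb (by decide)
  · exact absurd hb (by decide)
  · exact ch_2_6_3_1_4
  · exact ch_2_6_3_1_5
  · exact absurd hb (by decide)
  · exact ch_2_6_3_1_7
  · exact ch_2_6_3_1_8
  · exact ch_2_6_3_1_9
  · exact ch_2_6_3_1_10

set_option maxRecDepth 100000 in
theorem ch_2_6_3_5_1 : enum 11 ck11 2 5 1390112 111 6 1 = true := by
  decide +kernel

set_option maxRecDepth 100000 in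
theorem ch_2_6_3_5_4 : enum 11 ck11 2 5 4535840 125 6 4 = true := by
  decide +kernel

set_option maxRecDepth 100000 in
theorem ch_2_6_3_5_7 : enum 11 ck11 2 5 7681568 237 6 7 = true := by
  decide +kernel

set_option maxRecDepth 100000 in
theorem ch_2_6_3_5_8 : enum 11 ck11 2 5 8730144 365 6 8 = true := by
  decide +kernel

set_option maxRecDepth 100000 in
theorem ch_2_6_3_5_9 : enum 11 ck11 2 5 9778720 621 6 9 = true := by
  decide +kernel

set_option maxRecDepth 100000 in
theorem ch_2_6_3_5_10 : enum 11 ck11 2 5 10827296 1133 6 10 = true := by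
  decide +kernel

theorem ch_2_6_3_5 : enum 11 ck11 2 6 341536 109 5 5 = true := by
  refine enum_intro 11 ck11 2 5 341536 109 5 5 ?_
  intro v hv hb hd
  interval_cases v
  · exact absurd hb (by decide)
  · exact ch_2_6_3_5_1
  · exact absurd hb (by decide)
  · exact absurd hb (by decide)
  · exact ch_2_6_3_5_4
  · exact absurd hb (by decide)
  · exact absurd hb (by decide)
  · exact ch_2_6_3_5_7
  · exact ch_2_6_3_5_8
  · exact ch_2_6_3_5_9
  · exact ch_2_6_3_5_10

set_option maxRecDepth 100000 in
theorem ch_2_6_3_7_1 : enum 11 ck11 2 5 1521184 207 6 1 = true := by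
  decide +kernel

set_option maxRecDepth 100000 in
theorem ch_2_6_3_7_4 : enum 11 ck11 2 5 4666912 221 6 4 = true := by
  decide +kernel

set_option maxRecDepth 100000 in
theorem ch_2_6_3_7_5 : enum 11 ck11 2 5 5715488 237 6 5 = true := by
  decide +kernel

set_option maxRecDepth 100000 in
theorem ch_2_6_3_7_9 : enum 11 ck11 2 5 9909792 717 6 9 = true := by
  decide +kernel

set_option maxRecDepth 100000 in
theorem ch_2_6_3_7_10 : enum 11 ck11 2 5 10958368 1229 6 10 = true := by
  decide +kernel

theorem ch_2_6_3_7 : enum 11 ck11 2 6 472608 205 5 7 = true := by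
  refine enum_intro 11 ck11 2 5 472608 205 5 7 ?_
  intro v hv hb hd
  interval_cases v
  · exact absurd hb (by decide)
  · exact ch_2_6_3_7_1
  · exact absurd hb (by decide)
  · exact absurd hb (by decide)
  · exact ch_2_6_3_7_4
  · exact ch_2_6_3_7_5
  · exact absurd hb (by decide)
  · exact absurd hb (by decide)
  · exact absurd hd (by decide)
  · exact ch_2_6_3_7_9
  · exact ch_2_6_3_7_10

set_option maxRecDepth 100000 in
theorem ch_2_6_3_8_1 : enum 11 ck11 2 5 1586720 335 6 1 = true := by
  decide +kernel

set_option maxRecDepth 100000 in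
theorem ch_2_6_3_8_4 : enum 11 ck11 2 5 4732448 349 6 4 = true := by
  decide +kernel

set_option maxRecDepth 100000 in
theorem ch_2_6_3_8_5 : enum 11 ck11 2 5 5781024 365 6 5 = true := by
  decide +kernel

set_option maxRecDepth 100000 in
theorem ch_2_6_3_8_7 : enum 11 ck11 2 5 7878176 461 6 7 = true := by
  decide +kernel

set_option maxRecDepth 100000 in
theorem ch_2_6_3_8_10 : enum 11 ck11 2 5 11023904 1357 6 10 = true := by
  decide +kernel

theorem ch_2_6_3_8 : enum 11 ck11 2 6 538144 333 5 8 = true := by
  refine enum_intro 11 ck11 2 5 538144 333 5 8 ?_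
  intro v hv hb hd
  interval_cases v
  · exact absurd hb (by decide)
  · exact ch_2_6_3_8_1
  · exact absurd hb (by decide)
  · exact absurd hb (by decide)
  · exact ch_2_6_3_8_4
  · exact ch_2_6_3_8_5
  · exact absurd hb (by decide)
  · exact ch_2_6_3_8_7
  · exact absurd hb (by decide)
  · exact absurd hd (by decide)
  · exact ch_2_6_3_8_10

set_option maxRecDepth 100000 in
theorem ch_2_6_3_9_1 : enum 11 ck11 2 5 1652256 591 6 1 = true := by
  decide +kernel

set_option maxRecDepth 100000 in
theorem ch_2_6_3_9_4 : enum 11 ck11 2 5 4797984 605 6 4 = true := by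
  decide +kernel

set_option maxRecDepth 100000 in
theorem ch_2_6_3_9_5 : enum 11 ck11 2 5 5846560 621 6 5 = true := by
  decide +kernel

set_option maxRecDepth 100000 in
theorem ch_2_6_3_9_7 : enum 11 ck11 2 5 7943712 717 6 7 = true := by
  decide +kernel

set_option maxRecDepth 100000 in
theorem ch_2_6_3_9_8 : enum 11 ck11 2 5 8992288 845 6 8 = true := by
  decide +kernel

theorem ch_2_6_3_9 : enum 11 ck11 2 6 603680 589 5 9 = true := by
  refine enum_intro 11 ck11 2 5 603680 589 5 9 ?_
  intro v hv hb hd
  interval_cases v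
  · exact absurd hb (by decide)
  · exact ch_2_6_3_9_1
  · exact absurd hb (by decide)
  · exact absurd hb (by decide)
  · exact ch_2_6_3_9_4
  · exact ch_2_6_3_9_5
  · exact absurd hb (by decide)
  · exact ch_2_6_3_9_7
  · exact ch_2_6_3_9_8
  · exact absurd hb (by decide)
  · exact absurd hd (by decide)

set_option maxRecDepth 100000 in
theorem ch_2_6_3_10_1 : enum 11 ck11 2 5 1717792 1103 6 1 = true := by
  decide +kernel

set_option maxRecDepth 100000 in
theorem ch_2_6_3_10_4 : enum 11 ck11 2 5 4863520 1117 6 4 = true := by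
  decide +kernel

set_option maxRecDepth 100000 in
theorem ch_2_6_3_10_5 : enum 11 ck11 2 5 5912096 1133 6 5 = true := by
  decide +kernel

set_option maxRecDepth 100000 in
theorem ch_2_6_3_10_7 : enum 11 ck11 2 5 8009248 1229 6 7 = true := by
  decide +kernel

set_option maxRecDepth 100000 in
theorem ch_2_6_3_10_8 : enum 11 ck11 2 5 9057824 1357 6 8 = true := by
  decide +kernel

set_option maxRecDepth 100000 in
theorem ch_2_6_3_10_9 : enum 11 ck11 2 5 10106400 1613 6 9 = true := by
  decide +kernel

theorem ch_2_6_3_10 : enum 11 ck11 2 6 669216 1101 5 10 = true := by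
  refine enum_intro 11 ck11 2 5 669216 1101 5 10 ?_
  intro v hv hb hd
  interval_cases v
  · exact absurd hb (by decide)
  · exact ch_2_6_3_10_1
  · exact absurd hb (by decide)
  · exact absurd hb (by decide)
  · exact ch_2_6_3_10_4
  · exact ch_2_6_3_10_5
  · exact absurd hb (by decide)
  · exact ch_2_6_3_10_7
  · exact ch_2_6_3_10_8
  · exact ch_2_6_3_10_9
  · exact absurd hb (by decide)

theorem ch_2_6_3 : enum 11 ck11 2 7 13856 77 4 3 = true := by
  refine enum_intro 11 ck11 2 6 13856 77 4 3 ?_
  intro v hv hb hd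
  interval_cases v
  · exact absurd hb (by decide)
  · exact ch_2_6_3_1
  · exact absurd hb (by decide)
  · exact absurd hb (by decide)
  · exact absurd hd (by decide)
  · exact ch_2_6_3_5
  · exact absurd hb (by decide)
  · exact ch_2_6_3_7
  · exact ch_2_6_3_8
  · exact ch_2_6_3_9
  · exact ch_2_6_3_10

set_option maxRecDepth 100000 in
theorem ch_2_6_4_1_3 : enum 11 ck11 2 5 3229216 95 6 3 = true := by
  decide +kernel

set_option maxRecDepth 100000 in
theorem ch_2_6_4_1_5 : enum 11 ck11 2 5 5326368 119 6 5 = true := by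
  decide +kernel

set_option maxRecDepth 100000 in
theorem ch_2_6_4_1_7 : enum 11 ck11 2 5 7423520 215 6 7 = true := by
  decide +kernel

set_option maxRecDepth 100000 in
theorem ch_2_6_4_1_8 : enum 11 ck11 2 5 8472096 343 6 8 = true := by
  decide +kernel

set_option maxRecDepth 100000 in
theorem ch_2_6_4_1_9 : enum 11 ck11 2 5 9520672 599 6 9 = true := by
  decide +kernel

set_option maxRecDepth 100000 in
theorem ch_2_6_4_1_10 : enum 11 ck11 2 5 10569248 1111 6 10 = true := by
  decide +kernel

theorem ch_2_6_4_1 : enum 11 ck11 2 6 83488 87 5 1 = true := by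
  refine enum_intro 11 ck11 2 5 83488 87 5 1 ?_
  intro v hv hb hd
  interval_cases v
  · exact absurd hb (by decide)
  · exact absurd hb (by decide)
  · exact absurd hb (by decide)
  · exact ch_2_6_4_1_3
  · exact absurd hb (by decide)
  · exact ch_2_6_4_1_5
  · exact absurd hb (by decide)
  · exact ch_2_6_4_1_7
  · exact ch_2_6_4_1_8
  · exact ch_2_6_4_1_9
  · exact ch_2_6_4_1_10

set_option maxRecDepth 100000 in
theorem ch_2_6_4_3_1 : enum 11 ck11 2 5 1263136 95 6 1 = true := by
  decide +kernel

set_option maxRecDepth 100000 in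
theorem ch_2_6_4_3_5 : enum 11 ck11 2 5 5457440 125 6 5 = true := by
  decide +kernel

set_option maxRecDepth 100000 in
theorem ch_2_6_4_3_7 : enum 11 ck11 2 5 7554592 221 6 7 = true := by
  decide +kernel

set_option maxRecDepth 100000 in
theorem ch_2_6_4_3_8 : enum 11 ck11 2 5 8603168 349 6 8 = true := by
  decide +kernel

set_option maxRecDepth 100000 in
theorem ch_2_6_4_3_9 : enum 11 ck11 2 5 9651744 605 6 9 = true := by
  decide +kernel

set_option maxRecDepth 100000 in
theorem ch_2_6_4_3_10 : enum 11 ck11 2 5 10700320 1117 6 10 = true := by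
  decide +kernel

theorem ch_2_6_4_3 : enum 11 ck11 2 6 214560 93 5 3 = true := by
  refine enum_intro 11 ck11 2 5 214560 93 5 3 ?_
  intro v hv hb hd
  interval_cases v
  · exact absurd hb (by decide)
  · exact ch_2_6_4_3_1
  · exact absurd hb (by decide)
  · exact absurd hb (by decide)
  · exact absurd hb (by decide)
  · exact ch_2_6_4_3_5
  · exact absurd hb (by decide)
  · exact ch_2_6_4_3_7
  · exact ch_2_6_4_3_8
  · exact ch_2_6_4_3_9
  · exact ch_2_6_4_3_10

set_option maxRecDepth 100000 in
theorem ch_2_6_4_7_1 : enum 11 ck11 2 5 1525280 215 6 1 = true := by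
  decide +kernel

set_option maxRecDepth 100000 in
theorem ch_2_6_4_7_3 : enum 11 ck11 2 5 3622432 221 6 3 = true := by
  decide +kernel

set_option maxRecDepth 100000 in
theorem ch_2_6_4_7_5 : enum 11 ck11 2 5 5719584 245 6 5 = true := by
  decide +kernel

set_option maxRecDepth 100000 in
theorem ch_2_6_4_7_9 : enum 11 ck11 2 5 9913888 725 6 9 = true := by
  decide +kernel

set_option maxRecDepth 100000 in
theorem ch_2_6_4_7_10 : enum 11 ck11 2 5 10962464 1237 6 10 = true := by
  decide +kernel

theorem ch_2_6_4_7 : enum 11 ck11 2 6 476704 213 5 7 = true := by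
  refine enum_intro 11 ck11 2 5 476704 213 5 7 ?_
  intro v hv hb hd
  interval_cases v
  · exact absurd hb (by decide)
  · exact ch_2_6_4_7_1
  · exact absurd hb (by decide)
  · exact ch_2_6_4_7_3
  · exact absurd hb (by decide)
  · exact ch_2_6_4_7_5
  · exact absurd hb (by decide)
  · exact absurd hb (by decide)
  · exact absurd hd (by decide)
  · exact ch_2_6_4_7_9
  · exact ch_2_6_4_7_10

set_option maxRecDepth 100000 in
theorem ch_2_6_4_8_1 : enum 11 ck11 2 5 1590816 343 6 1 = true := by
  decide +kernel

set_option maxRecDepth 100000 in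
theorem ch_2_6_4_8_3 : enum 11 ck11 2 5 3687968 349 6 3 = true := by
  decide +kernel

set_option maxRecDepth 100000 in
theorem ch_2_6_4_8_5 : enum 11 ck11 2 5 5785120 373 6 5 = true := by
  decide +kernel

set_option maxRecDepth 100000 in
theorem ch_2_6_4_8_7 : enum 11 ck11 2 5 7882272 469 6 7 = true := by
  decide +kernel

set_option maxRecDepth 100000 in
theorem ch_2_6_4_8_10 : enum 11 ck11 2 5 11028000 1365 6 10 = true := by
  decide +kernel

theorem ch_2_6_4_8 : enum 11 ck11 2 6 542240 341 5 8 = true := by
  refine enum_intro 11 ck11 2 5 542240 341 5 8 ?_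
  intro v hv hb hd
  interval_cases v
  · exact absurd hb (by decide)
  · exact ch_2_6_4_8_1
  · exact absurd hb (by decide)
  · exact ch_2_6_4_8_3
  · exact absurd hb (by decide)
  · exact ch_2_6_4_8_5
  · exact absurd hb (by decide)
  · exact ch_2_6_4_8_7
  · exact absurd hb (by decide)
  · exact absurd hd (by decide)
  · exact ch_2_6_4_8_10

set_option maxRecDepth 100000 in
theorem ch_2_6_4_9_1 : enum 11 ck11 2 5 1656352 599 6 1 = true := by
  decide +kernel

set_option maxRecDepth 100000 in
theorem ch_2_6_4_9_3 : enum 11 ck11 2 5 3753504 605 6 3 = true := by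
  decide +kernel

set_option maxRecDepth 100000 in
theorem ch_2_6_4_9_5 : enum 11 ck11 2 5 5850656 629 6 5 = true := by
  decide +kernel

set_option maxRecDepth 100000 in
theorem ch_2_6_4_9_7 : enum 11 ck11 2 5 7947808 725 6 7 = true := by
  decide +kernel

set_option maxRecDepth 100000 in
theorem ch_2_6_4_9_8 : enum 11 ck11 2 5 8996384 853 6 8 = true := by
  decide +kernel

theorem ch_2_6_4_9 : enum 11 ck11 2 6 607776 597 5 9 = true := by
  refine enum_intro 11 ck11 2 5 607776 597 5 9 ?_
  intro v hv hb hd
  interval_cases v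
  · exact absurd hb (by decide)
  · exact ch_2_6_4_9_1
  · exact absurd hb (by decide)
  · exact ch_2_6_4_9_3
  · exact absurd hb (by decide)
  · exact ch_2_6_4_9_5
  · exact absurd hb (by decide)
  · exact ch_2_6_4_9_7
  · exact ch_2_6_4_9_8
  · exact absurd hb (by decide)
  · exact absurd hd (by decide)

set_option maxRecDepth 100000 in
theorem ch_2_6_4_10_1 : enum 11 ck11 2 5 1721888 1111 6 1 = true := by
  decide +kernel

set_option maxRecDepth 100000 in
theorem ch_2_6_4_10_3 : enum 11 ck11 2 5 3819040 1117 6 3 = true := by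
  decide +kernel

set_option maxRecDepth 100000 in
theorem ch_2_6_4_10_5 : enum 11 ck11 2 5 5916192 1141 6 5 = true := by
  decide +kernel

set_option maxRecDepth 100000 in
theorem ch_2_6_4_10_7 : enum 11 ck11 2 5 8013344 1237 6 7 = true := by
  decide +kernel

set_option maxRecDepth 100000 in
theorem ch_2_6_4_10_8 : enum 11 ck11 2 5 9061920 1365 6 8 = true := by
  decide +kernel

set_option maxRecDepth 100000 in
theorem ch_2_6_4_10_9 : enum 11 ck11 2 5 10110496 1621 6 9 = true := by
  decide +kernel

theorem ch_2_6_4_10 : enum 11 ck11 2 6 673312 1109 5 10 = true := by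
  refine enum_intro 11 ck11 2 5 673312 1109 5 10 ?_
  intro v hv hb hd
  interval_cases v
  · exact absurd hb (by decide)
  · exact ch_2_6_4_10_1
  · exact absurd hb (by decide)
  · exact ch_2_6_4_10_3
  · exact absurd hb (by decide)
  · exact ch_2_6_4_10_5
  · exact absurd hb (by decide)
  · exact ch_2_6_4_10_7
  · exact ch_2_6_4_10_8
  · exact ch_2_6_4_10_9
  · exact absurd hb (by decide)

theorem ch_2_6_4 : enum 11 ck11 2 7 17952 85 4 4 = true := by
  refine enum_intro 11 ck11 2 6 17952 85 4 4 ?_
  intro v hv hb hd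
  interval_cases v
  · exact absurd hb (by decide)
  · exact ch_2_6_4_1
  · exact absurd hb (by decide)
  · exact ch_2_6_4_3
  · exact absurd hb (by decide)
  · exact absurd hd (by decide)
  · exact absurd hb (by decide)
  · exact ch_2_6_4_7
  · exact ch_2_6_4_8
  · exact ch_2_6_4_9
  · exact ch_2_6_4_10

set_option maxRecDepth 100000 in
theorem ch_2_6_5_1_3 : enum 11 ck11 2 5 3233312 111 6 3 = true := by
  decide +kernel

set_option maxRecDepth 100000 in
theorem ch_2_6_5_1_4 : enum 11 ck11 2 5 4281888 119 6 4 = true := by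
  decide +kernel

set_option maxRecDepth 100000 in
theorem ch_2_6_5_1_7 : enum 11 ck11 2 5 7427616 231 6 7 = true := by
  decide +kernel

set_option maxRecDepth 100000 in
theorem ch_2_6_5_1_8 : enum 11 ck11 2 5 8476192 359 6 8 = true := by
  decide +kernel

set_option maxRecDepth 100000 in
theorem ch_2_6_5_1_9 : enum 11 ck11 2 5 9524768 615 6 9 = true := by
  decide +kernel

set_option maxRecDepth 100000 in
theorem ch_2_6_5_1_10 : enum 11 ck11 2 5 10573344 1127 6 10 = true := by
  decide +kernel

theorem ch_2_6_5_1 : enum 11 ck11 2 6 87584 103 5 1 = true := by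
  refine enum_intro 11 ck11 2 5 87584 103 5 1 ?_
  intro v hv hb hd
  interval_cases v
  · exact absurd hb (by decide)
  · exact absurd hb (by decide)
  · exact absurd hb (by decide)
  · exact ch_2_6_5_1_3
  · exact ch_2_6_5_1_4
  · exact absurd hb (by decide)
  · exact absurd hb (by decide)
  · exact ch_2_6_5_1_7
  · exact ch_2_6_5_1_8
  · exact ch_2_6_5_1_9
  · exact ch_2_6_5_1_10

set_option maxRecDepth 100000 in
theorem ch_2_6_5_3_1 : enum 11 ck11 2 5 1267232 111 6 1 = true := by
  decide +kernel

set_option maxRecDepth 100000 in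
theorem ch_2_6_5_3_7 : enum 11 ck11 2 5 7558688 237 6 7 = true := by
  decide +kernel

set_option maxRecDepth 100000 in
theorem ch_2_6_5_3_8 : enum 11 ck11 2 5 8607264 365 6 8 = true := by
  decide +kernel

set_option maxRecDepth 100000 in
theorem ch_2_6_5_3_9 : enum 11 ck11 2 5 9655840 621 6 9 = true := by
  decide +kernel

set_option maxRecDepth 100000 in
theorem ch_2_6_5_3_10 : enum 11 ck11 2 5 10704416 1133 6 10 = true := by
  decide +kernel

theorem ch_2_6_5_3 : enum 11 ck11 2 6 218656 109 5 3 = true := by
  refine enum_intro 11 ck11 2 5 218656 109 5 3 ?_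
  intro v hv hb hd
  interval_cases v
  · exact absurd hb (by decide)
  · exact ch_2_6_5_3_1
  · exact absurd hb (by decide)
  · exact absurd hb (by decide)
  · exact absurd hd (by decide)
  · exact absurd hb (by decide)
  · exact absurd hb (by decide)
  · exact ch_2_6_5_3_7
  · exact ch_2_6_5_3_8
  · exact ch_2_6_5_3_9
  · exact ch_2_6_5_3_10

set_option maxRecDepth 100000 in
theorem ch_2_6_5_4_1 : enum 11 ck11 2 5 1332768 119 6 1 = true := by
  decide +kernel

set_option maxRecDepth 100000 in
theorem ch_2_6_5_4_3 : enum 11 ck11 2 5 3429920 125 6 3 = true := by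
  decide +kernel

set_option maxRecDepth 100000 in
theorem ch_2_6_5_4_7 : enum 11 ck11 2 5 7624224 245 6 7 = true := by
  decide +kernel

set_option maxRecDepth 100000 in
theorem ch_2_6_5_4_8 : enum 11 ck11 2 5 8672800 373 6 8 = true := by
  decide +kernel

set_option maxRecDepth 100000 in
theorem ch_2_6_5_4_9 : enum 11 ck11 2 5 9721376 629 6 9 = true := by
  decide +kernel

set_option maxRecDepth 100000 in
theorem ch_2_6_5_4_10 : enum 11 ck11 2 5 10769952 1141 6 10 = true := by
  decide +kernel

theorem ch_2_6_5_4 : enum 11 ck11 2 6 284192 117 5 4 = true := by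
  refine enum_intro 11 ck11 2 5 284192 117 5 4 ?_
  intro v hv hb hd
  interval_cases v
  · exact absurd hb (by decide)
  · exact ch_2_6_5_4_1
  · exact absurd hb (by decide)
  · exact ch_2_6_5_4_3
  · exact absurd hb (by decide)
  · exact absurd hb (by decide)
  · exact absurd hb (by decide)
  · exact ch_2_6_5_4_7
  · exact ch_2_6_5_4_8
  · exact ch_2_6_5_4_9
  · exact ch_2_6_5_4_10

set_option maxRecDepth 100000 in
theorem ch_2_6_5_7_1 : enum 11 ck11 2 5 1529376 231 6 1 = true := by
  decide +kernel

set_option maxRecDepth 100000 in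
theorem ch_2_6_5_7_3 : enum 11 ck11 2 5 3626528 237 6 3 = true := by
  decide +kernel

set_option maxRecDepth 100000 in
theorem ch_2_6_5_7_4 : enum 11 ck11 2 5 4675104 245 6 4 = true := by
  decide +kernel

set_option maxRecDepth 100000 in
theorem ch_2_6_5_7_9 : enum 11 ck11 2 5 9917984 741 6 9 = true := by
  decide +kernel

set_option maxRecDepth 100000 in
theorem ch_2_6_5_7_10 : enum 11 ck11 2 5 10966560 1253 6 10 = true := by
  decide +kernel

theorem ch_2_6_5_7 : enum 11 ck11 2 6 480800 229 5 7 = true := by
  refine enum_intro 11 ck11 2 5 480800 229 5 7 ?_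
  intro v hv hb hd
  interval_cases v
  · exact absurd hb (by decide)
  · exact ch_2_6_5_7_1
  · exact absurd hb (by decide)
  · exact ch_2_6_5_7_3
  · exact ch_2_6_5_7_4
  · exact absurd hb (by decide)
  · exact absurd hb (by decide)
  · exact absurd hb (by decide)
  · exact absurd hd (by decide)
  · exact ch_2_6_5_7_9
  · exact ch_2_6_5_7_10

set_option maxRecDepth 100000 in
theorem ch_2_6_5_8_1 : enum 11 ck11 2 5 1594912 359 6 1 = true := by
  decide +kernel

set_option maxRecDepth 100000 in
theorem ch_2_6_5_8_3 : enum 11 ck11 2 5 3692064 365 6 3 = true := by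
  decide +kernel

set_option maxRecDepth 100000 in
theorem ch_2_6_5_8_4 : enum 11 ck11 2 5 4740640 373 6 4 = true := by
  decide +kernel

set_option maxRecDepth 100000 in
theorem ch_2_6_5_8_7 : enum 11 ck11 2 5 7886368 485 6 7 = true := by
  decide +kernel

set_option maxRecDepth 100000 in
theorem ch_2_6_5_8_10 : enum 11 ck11 2 5 11032096 1381 6 10 = true := by
  decide +kernel

theorem ch_2_6_5_8 : enum 11 ck11 2 6 546336 357 5 8 = true := by
  refine enum_intro 11 ck11 2 5 546336 357 5 8 ?_
  intro v hv hb hd
  interval_cases v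
  · exact absurd hb (by decide)
  · exact ch_2_6_5_8_1
  · exact absurd hb (by decide)
  · exact ch_2_6_5_8_3
  · exact ch_2_6_5_8_4
  · exact absurd hb (by decide)
  · exact absurd hb (by decide)
  · exact ch_2_6_5_8_7
  · exact absurd hb (by decide)
  · exact absurd hd (by decide)
  · exact ch_2_6_5_8_10

set_option maxRecDepth 100000 in
theorem ch_2_6_5_9_1 : enum 11 ck11 2 5 1660448 615 6 1 = true := by
  decide +kernel

set_option maxRecDepth 100000 in
theorem ch_2_6_5_9_3 : enum 11 ck11 2 5 3757600 621 6 3 = true := by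
  decide +kernel

set_option maxRecDepth 100000 in
theorem ch_2_6_5_9_4 : enum 11 ck11 2 5 4806176 629 6 4 = true := by
  decide +kernel

set_option maxRecDepth 100000 in
theorem ch_2_6_5_9_7 : enum 11 ck11 2 5 7951904 741 6 7 = true := by
  decide +kernel

set_option maxRecDepth 100000 in
theorem ch_2_6_5_9_8 : enum 11 ck11 2 5 9000480 869 6 8 = true := by
  decide +kernel

theorem ch_2_6_5_9 : enum 11 ck11 2 6 611872 613 5 9 = true := by
  refine enum_intro 11 ck11 2 5 611872 613 5 9 ?_
  intro v hv hb hd
  interval_cases v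
  · exact absurd hb (by decide)
  · exact ch_2_6_5_9_1
  · exact absurd hb (by decide)
  · exact ch_2_6_5_9_3
  · exact ch_2_6_5_9_4
  · exact absurd hb (by decide)
  · exact absurd hb (by decide)
  · exact ch_2_6_5_9_7
  · exact ch_2_6_5_9_8
  · exact absurd hb (by decide)
  · exact absurd hd (by decide)

set_option maxRecDepth 100000 in
theorem ch_2_6_5_10_1 : enum 11 ck11 2 5 1725984 1127 6 1 = true := by
  decide +kernel

set_option maxRecDepth 100000 in
theorem ch_2_6_5_10_3 : enum 11 ck11 2 5 3823136 1133 6 3 = true := by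
  decide +kernel

set_option maxRecDepth 100000 in
theorem ch_2_6_5_10_4 : enum 11 ck11 2 5 4871712 1141 6 4 = true := by
  decide +kernel

set_option maxRecDepth 100000 in
theorem ch_2_6_5_10_7 : enum 11 ck11 2 5 8017440 1253 6 7 = true := by
  decide +kernel

set_option maxRecDepth 100000 in
theorem ch_2_6_5_10_8 : enum 11 ck11 2 5 9066016 1381 6 8 = true := by
  decide +kernel

set_option maxRecDepth 100000 in
theorem ch_2_6_5_10_9 : enum 11 ck11 2 5 10114592 1637 6 9 = true := by
  decide +kernel

theorem ch_2_6_5_10 : enum 11 ck11 2 6 677408 1125 5 10 = true := by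
  refine enum_intro 11 ck11 2 5 677408 1125 5 10 ?_
  intro v hv hb hd
  interval_cases v
  · exact absurd hb (by decide)
  · exact ch_2_6_5_10_1
  · exact absurd hb (by decide)
  · exact ch_2_6_5_10_3
  · exact ch_2_6_5_10_4
  · exact absurd hb (by decide)
  · exact absurd hb (by decide)
  · exact ch_2_6_5_10_7
  · exact ch_2_6_5_10_8
  · exact ch_2_6_5_10_9
  · exact absurd hb (by decide)

theorem ch_2_6_5 : enum 11 ck11 2 7 22048 101 4 5 = true := by
  refine enum_intro 11 ck11 2 6 22048 101 4 5 ?_
  intro v hv hb hd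
  interval_cases v
  · exact absurd hb (by decide)
  · exact ch_2_6_5_1
  · exact absurd hb (by decide)
  · exact ch_2_6_5_3
  · exact ch_2_6_5_4
  · exact absurd hb (by decide)
  · exact absurd hb (by decide)
  · exact ch_2_6_5_7
  · exact ch_2_6_5_8
  · exact ch_2_6_5_9
  · exact ch_2_6_5_10

set_option maxRecDepth 100000 in
theorem ch_2_6_8_1_3 : enum 11 ck11 2 5 3245600 335 6 3 = true := by
  decide +kernel

set_option maxRecDepth 100000 in
theorem ch_2_6_8_1_4 : enum 11 ck11 2 5 4294176 343 6 4 = true := by
  decide +kernel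

set_option maxRecDepth 100000 in
theorem ch_2_6_8_1_5 : enum 11 ck11 2 5 5342752 359 6 5 = true := by
  decide +kernel

set_option maxRecDepth 100000 in
theorem ch_2_6_8_1_7 : enum 11 ck11 2 5 7439904 455 6 7 = true := by
  decide +kernel

set_option maxRecDepth 100000 in
theorem ch_2_6_8_1_9 : enum 11 ck11 2 5 9537056 839 6 9 = true := by
  decide +kernel

set_option maxRecDepth 100000 in
theorem ch_2_6_8_1_10 : enum 11 ck11 2 5 10585632 1351 6 10 = true := by
  decide +kernel

theorem ch_2_6_8_1 : enum 11 ck11 2 6 99872 327 5 1 = true := by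
  refine enum_intro 11 ck11 2 5 99872 327 5 1 ?_
  intro v hv hb hd
  interval_cases v
  · exact absurd hb (by decide)
  · exact absurd hb (by decide)
  · exact absurd hb (by decide)
  · exact ch_2_6_8_1_3
  · exact ch_2_6_8_1_4
  · exact ch_2_6_8_1_5
  · exact absurd hb (by decide)
  · exact ch_2_6_8_1_7
  · exact absurd hb (by decide)
  · exact ch_2_6_8_1_9
  · exact ch_2_6_8_1_10

set_option maxRecDepth 100000 in
theorem ch_2_6_8_3_1 : enum 11 ck11 2 5 1279520 335 6 1 = true := by
  decide +kernel

set_option maxRecDepth 100000 in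
theorem ch_2_6_8_3_5 : enum 11 ck11 2 5 5473824 365 6 5 = true := by
  decide +kernel

set_option maxRecDepth 100000 in
theorem ch_2_6_8_3_7 : enum 11 ck11 2 5 7570976 461 6 7 = true := by
  decide +kernel

set_option maxRecDepth 100000 in
theorem ch_2_6_8_3_9 : enum 11 ck11 2 5 9668128 845 6 9 = true := by
  decide +kernel

set_option maxRecDepth 100000 in
theorem ch_2_6_8_3_10 : enum 11 ck11 2 5 10716704 1357 6 10 = true := by
  decide +kernel

theorem ch_2_6_8_3 : enum 11 ck11 2 6 230944 333 5 3 = true := by
  refine enum_intro 11 ck11 2 5 230944 333 5 3 ?_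
  intro v hv hb hd
  interval_cases v
  · exact absurd hb (by decide)
  · exact ch_2_6_8_3_1
  · exact absurd hb (by decide)
  · exact absurd hb (by decide)
  · exact absurd hd (by decide)
  · exact ch_2_6_8_3_5
  · exact absurd hb (by decide)
  · exact ch_2_6_8_3_7
  · exact absurd hb (by decide)
  · exact ch_2_6_8_3_9
  · exact ch_2_6_8_3_10

set_option maxRecDepth 100000 in
theorem ch_2_6_8_4_1 : enum 11 ck11 2 5 1345056 343 6 1 = true := by
  decide +kernel

set_option maxRecDepth 100000 in
theorem ch_2_6_8_4_3 : enum 11 ck11 2 5 3442208 349 6 3 = true := by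
  decide +kernel

set_option maxRecDepth 100000 in
theorem ch_2_6_8_4_7 : enum 11 ck11 2 5 7636512 469 6 7 = true := by
  decide +kernel

set_option maxRecDepth 100000 in
theorem ch_2_6_8_4_9 : enum 11 ck11 2 5 9733664 853 6 9 = true := by
  decide +kernel

set_option maxRecDepth 100000 in
theorem ch_2_6_8_4_10 : enum 11 ck11 2 5 10782240 1365 6 10 = true := by
  decide +kernel

theorem ch_2_6_8_4 : enum 11 ck11 2 6 296480 341 5 4 = true := by
  refine enum_intro 11 ck11 2 5 296480 341 5 4 ?_
  intro v hv hb hd
  interval_cases v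
  · exact absurd hb (by decide)
  · exact ch_2_6_8_4_1
  · exact absurd hb (by decide)
  · exact ch_2_6_8_4_3
  · exact absurd hb (by decide)
  · exact absurd hd (by decide)
  · exact absurd hb (by decide)
  · exact ch_2_6_8_4_7
  · exact absurd hb (by decide)
  · exact ch_2_6_8_4_9
  · exact ch_2_6_8_4_10

set_option maxRecDepth 100000 in
theorem ch_2_6_8_5_1 : enum 11 ck11 2 5 1410592 359 6 1 = true := by
  decide +kernel

set_option maxRecDepth 100000 in
theorem ch_2_6_8_5_3 : enum 11 ck11 2 5 3507744 365 6 3 = true := by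
  decide +kernel

set_option maxRecDepth 100000 in
theorem ch_2_6_8_5_4 : enum 11 ck11 2 5 4556320 373 6 4 = true := by
  decide +kernel

set_option maxRecDepth 100000 in
theorem ch_2_6_8_5_7 : enum 11 ck11 2 5 7702048 485 6 7 = true := by
  decide +kernel

set_option maxRecDepth 100000 in
theorem ch_2_6_8_5_9 : enum 11 ck11 2 5 9799200 869 6 9 = true := by
  decide +kernel

set_option maxRecDepth 100000 in
theorem ch_2_6_8_5_10 : enum 11 ck11 2 5 10847776 1381 6 10 = true := by
  decide +kernel

theorem ch_2_6_8_5 : enum 11 ck11 2 6 362016 357 5 5 = true := by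
  refine enum_intro 11 ck11 2 5 362016 357 5 5 ?_
  intro v hv hb hd
  interval_cases v
  · exact absurd hb (by decide)
  · exact ch_2_6_8_5_1
  · exact absurd hb (by decide)
  · exact ch_2_6_8_5_3
  · exact ch_2_6_8_5_4
  · exact absurd hb (by decide)
  · exact absurd hb (by decide)
  · exact ch_2_6_8_5_7
  · exact absurd hb (by decide)
  · exact ch_2_6_8_5_9
  · exact ch_2_6_8_5_10

set_option maxRecDepth 100000 in
theorem ch_2_6_8_7_1 : enum 11 ck11 2 5 1541664 455 6 1 = true := by
  decide +kernel

set_option maxRecDepth 100000 in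
theorem ch_2_6_8_7_3 : enum 11 ck11 2 5 3638816 461 6 3 = true := by
  decide +kernel

set_option maxRecDepth 100000 in
theorem ch_2_6_8_7_4 : enum 11 ck11 2 5 4687392 469 6 4 = true := by
  decide +kernel

set_option maxRecDepth 100000 in
theorem ch_2_6_8_7_5 : enum 11 ck11 2 5 5735968 485 6 5 = true := by
  decide +kernel

set_option maxRecDepth 100000 in
theorem ch_2_6_8_7_9 : enum 11 ck11 2 5 9930272 965 6 9 = true := by
  decide +kernel

set_option maxRecDepth 100000 in
theorem ch_2_6_8_7_10 : enum 11 ck11 2 5 10978848 1477 6 10 = true := by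
  decide +kernel

theorem ch_2_6_8_7 : enum 11 ck11 2 6 493088 453 5 7 = true := by
  refine enum_intro 11 ck11 2 5 493088 453 5 7 ?_
  intro v hv hb hd
  interval_cases v
  · exact absurd hb (by decide)
  · exact ch_2_6_8_7_1
  · exact absurd hb (by decide)
  · exact ch_2_6_8_7_3
  · exact ch_2_6_8_7_4
  · exact ch_2_6_8_7_5
  · exact absurd hb (by decide)
  · exact absurd hb (by decide)
  · exact absurd hb (by decide)
  · exact ch_2_6_8_7_9
  · exact ch_2_6_8_7_10

set_option maxRecDepth 100000 in
theorem ch_2_6_8_10_1 : enum 11 ck11 2 5 1738272 1351 6 1 = true := by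
  decide +kernel

set_option maxRecDepth 100000 in
theorem ch_2_6_8_10_3 : enum 11 ck11 2 5 3835424 1357 6 3 = true := by
  decide +kernel

set_option maxRecDepth 100000 in
theorem ch_2_6_8_10_4 : enum 11 ck11 2 5 4884000 1365 6 4 = true := by
  decide +kernel

set_option maxRecDepth 100000 in
theorem ch_2_6_8_10_5 : enum 11 ck11 2 5 5932576 1381 6 5 = true := by
  decide +kernel

set_option maxRecDepth 100000 in
theorem ch_2_6_8_10_7 : enum 11 ck11 2 5 8029728 1477 6 7 = true := by
  decide +kernel

set_option maxRecDepth 100000 in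
theorem ch_2_6_8_10_9 : enum 11 ck11 2 5 10126880 1861 6 9 = true := by
  decide +kernel

theorem ch_2_6_8_10 : enum 11 ck11 2 6 689696 1349 5 10 = true := by
  refine enum_intro 11 ck11 2 5 689696 1349 5 10 ?_
  intro v hv hb hd
  interval_cases v
  · exact absurd hb (by decide)
  · exact ch_2_6_8_10_1
  · exact absurd hb (by decide)
  · exact ch_2_6_8_10_3
  · exact ch_2_6_8_10_4
  · exact ch_2_6_8_10_5
  · exact absurd hb (by decide)
  · exact ch_2_6_8_10_7
  · exact absurd hb (by decide)
  · exact ch_2_6_8_10_9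
  · exact absurd hb (by decide)

theorem ch_2_6_8 : enum 11 ck11 2 7 34336 325 4 8 = true := by
  refine enum_intro 11 ck11 2 6 34336 325 4 8 ?_
  intro v hv hb hd
  interval_cases v
  · exact absurd hb (by decide)
  · exact ch_2_6_8_1
  · exact absurd hb (by decide)
  · exact ch_2_6_8_3
  · exact ch_2_6_8_4
  · exact ch_2_6_8_5
  · exact absurd hb (by decide)
  · exact ch_2_6_8_7
  · exact absurd hb (by decide)
  · exact absurd hd (by decide)
  · exact ch_2_6_8_10

set_option maxRecDepth 100000 in
theorem ch_2_6_9_1_3 : enum 11 ck11 2 5 3249696 591 6 3 = true := by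
  decide +kernel

set_option maxRecDepth 100000 in
theorem ch_2_6_9_1_4 : enum 11 ck11 2 5 4298272 599 6 4 = true := by
  decide +kernel

set_option maxRecDepth 100000 in
theorem ch_2_6_9_1_5 : enum 11 ck11 2 5 5346848 615 6 5 = true := by
  decide +kernel

set_option maxRecDepth 100000 in
theorem ch_2_6_9_1_7 : enum 11 ck11 2 5 7444000 711 6 7 = true := by
  decide +kernel

set_option maxRecDepth 100000 in
theorem ch_2_6_9_1_8 : enum 11 ck11 2 5 8492576 839 6 8 = true := by
  decide +kernel

set_option maxRecDepth 100000 in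
theorem ch_2_6_9_1_10 : enum 11 ck11 2 5 10589728 1607 6 10 = true := by
  decide +kernel

theorem ch_2_6_9_1 : enum 11 ck11 2 6 103968 583 5 1 = true := by
  refine enum_intro 11 ck11 2 5 103968 583 5 1 ?_
  intro v hv hb hd
  interval_cases v
  · exact absurd hb (by decide)
  · exact absurd hb (by decide)
  · exact absurd hb (by decide)
  · exact ch_2_6_9_1_3
  · exact ch_2_6_9_1_4
  · exact ch_2_6_9_1_5
  · exact absurd hb (by decide)
  · exact ch_2_6_9_1_7
  · exact ch_2_6_9_1_8
  · exact absurd hb (by decide)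
  · exact ch_2_6_9_1_10

set_option maxRecDepth 100000 in
theorem ch_2_6_9_3_1 : enum 11 ck11 2 5 1283616 591 6 1 = true := by
  decide +kernel

set_option maxRecDepth 100000 in
theorem ch_2_6_9_3_5 : enum 11 ck11 2 5 5477920 621 6 5 = true := by
  decide +kernel

set_option maxRecDepth 100000 in
theorem ch_2_6_9_3_7 : enum 11 ck11 2 5 7575072 717 6 7 = true := by
  decide +kernel

set_option maxRecDepth 100000 in
theorem ch_2_6_9_3_8 : enum 11 ck11 2 5 8623648 845 6 8 = true := by
  decide +kernel

set_option maxRecDepth 100000 in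
theorem ch_2_6_9_3_10 : enum 11 ck11 2 5 10720800 1613 6 10 = true := by
  decide +kernel

theorem ch_2_6_9_3 : enum 11 ck11 2 6 235040 589 5 3 = true := by
  refine enum_intro 11 ck11 2 5 235040 589 5 3 ?_
  intro v hv hb hd
  interval_cases v
  · exact absurd hb (by decide)
  · exact ch_2_6_9_3_1
  · exact absurd hb (by decide)
  · exact absurd hb (by decide)
  · exact absurd hd (by decide)
  · exact ch_2_6_9_3_5
  · exact absurd hb (by decide)
  · exact ch_2_6_9_3_7
  · exact ch_2_6_9_3_8
  · exact absurd hb (by decide)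
  · exact ch_2_6_9_3_10

set_option maxRecDepth 100000 in
theorem ch_2_6_9_4_1 : enum 11 ck11 2 5 1349152 599 6 1 = true := by
  decide +kernel

set_option maxRecDepth 100000 in
theorem ch_2_6_9_4_3 : enum 11 ck11 2 5 3446304 605 6 3 = true := by
  decide +kernel

set_option maxRecDepth 100000 in
theorem ch_2_6_9_4_7 : enum 11 ck11 2 5 7640608 725 6 7 = true := by
  decide +kernel

set_option maxRecDepth 100000 in
theorem ch_2_6_9_4_8 : enum 11 ck11 2 5 8689184 853 6 8 = true := by
  decide +kernel

set_option maxRecDepth 100000 in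
theorem ch_2_6_9_4_10 : enum 11 ck11 2 5 10786336 1621 6 10 = true := by
  decide +kernel

theorem ch_2_6_9_4 : enum 11 ck11 2 6 300576 597 5 4 = true := by
  refine enum_intro 11 ck11 2 5 300576 597 5 4 ?_
  intro v hv hb hd
  interval_cases v
  · exact absurd hb (by decide)
  · exact ch_2_6_9_4_1
  · exact absurd hb (by decide)
  · exact ch_2_6_9_4_3
  · exact absurd hb (by decide)
  · exact absurd hd (by decide)
  · exact absurd hb (by decide)
  · exact ch_2_6_9_4_7
  · exact ch_2_6_9_4_8
  · exact absurd hb (by decide)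
  · exact ch_2_6_9_4_10

set_option maxRecDepth 100000 in
theorem ch_2_6_9_5_1 : enum 11 ck11 2 5 1414688 615 6 1 = true := by
  decide +kernel

set_option maxRecDepth 100000 in
theorem ch_2_6_9_5_3 : enum 11 ck11 2 5 3511840 621 6 3 = true := by
  decide +kernel

set_option maxRecDepth 100000 in
theorem ch_2_6_9_5_4 : enum 11 ck11 2 5 4560416 629 6 4 = true := by
  decide +kernel

set_option maxRecDepth 100000 in
theorem ch_2_6_9_5_7 : enum 11 ck11 2 5 7706144 741 6 7 = true := by
  decide +kernel

set_option maxRecDepth 100000 in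
theorem ch_2_6_9_5_8 : enum 11 ck11 2 5 8754720 869 6 8 = true := by
  decide +kernel

set_option maxRecDepth 100000 in
theorem ch_2_6_9_5_10 : enum 11 ck11 2 5 10851872 1637 6 10 = true := by
  decide +kernel

theorem ch_2_6_9_5 : enum 11 ck11 2 6 366112 613 5 5 = true := by
  refine enum_intro 11 ck11 2 5 366112 613 5 5 ?_
  intro v hv hb hd
  interval_cases v
  · exact absurd hb (by decide)
  · exact ch_2_6_9_5_1
  · exact absurd hb (by decide)
  · exact ch_2_6_9_5_3
  · exact ch_2_6_9_5_4
  · exact absurd hb (by decide)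
  · exact absurd hb (by decide)
  · exact ch_2_6_9_5_7
  · exact ch_2_6_9_5_8
  · exact absurd hb (by decide)
  · exact ch_2_6_9_5_10

set_option maxRecDepth 100000 in
theorem ch_2_6_9_7_1 : enum 11 ck11 2 5 1545760 711 6 1 = true := by
  decide +kernel

set_option maxRecDepth 100000 in
theorem ch_2_6_9_7_3 : enum 11 ck11 2 5 3642912 717 6 3 = true := by
  decide +kernel

set_option maxRecDepth 100000 in
theorem ch_2_6_9_7_4 : enum 11 ck11 2 5 4691488 725 6 4 = true := by
  decide +kernel

set_option maxRecDepth 100000 in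
theorem ch_2_6_9_7_5 : enum 11 ck11 2 5 5740064 741 6 5 = true := by
  decide +kernel

set_option maxRecDepth 100000 in
theorem ch_2_6_9_7_10 : enum 11 ck11 2 5 10982944 1733 6 10 = true := by
  decide +kernel

theorem ch_2_6_9_7 : enum 11 ck11 2 6 497184 709 5 7 = true := by
  refine enum_intro 11 ck11 2 5 497184 709 5 7 ?_
  intro v hv hb hd
  interval_cases v
  · exact absurd hb (by decide)
  · exact ch_2_6_9_7_1
  · exact absurd hb (by decide)
  · exact ch_2_6_9_7_3
  · exact ch_2_6_9_7_4
  · exact ch_2_6_9_7_5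
  · exact absurd hb (by decide)
  · exact absurd hb (by decide)
  · exact absurd hd (by decide)
  · exact absurd hb (by decide)
  · exact ch_2_6_9_7_10

set_option maxRecDepth 100000 in
theorem ch_2_6_9_8_1 : enum 11 ck11 2 5 1611296 839 6 1 = true := by
  decide +kernel

set_option maxRecDepth 100000 in
theorem ch_2_6_9_8_3 : enum 11 ck11 2 5 3708448 845 6 3 = true := by
  decide +kernel

set_option maxRecDepth 100000 in
theorem ch_2_6_9_8_4 : enum 11 ck11 2 5 4757024 853 6 4 = true := by
  decide +kernel

set_option maxRecDepth 100000 in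
theorem ch_2_6_9_8_5 : enum 11 ck11 2 5 5805600 869 6 5 = true := by
  decide +kernel

set_option maxRecDepth 100000 in
theorem ch_2_6_9_8_7 : enum 11 ck11 2 5 7902752 965 6 7 = true := by
  decide +kernel

set_option maxRecDepth 100000 in
theorem ch_2_6_9_8_10 : enum 11 ck11 2 5 11048480 1861 6 10 = true := by
  decide +kernel

theorem ch_2_6_9_8 : enum 11 ck11 2 6 562720 837 5 8 = true := by
  refine enum_intro 11 ck11 2 5 562720 837 5 8 ?_
  intro v hv hb hd
  interval_cases v
  · exact absurd hb (by decide)
  · exact ch_2_6_9_8_1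
  · exact absurd hb (by decide)
  · exact ch_2_6_9_8_3
  · exact ch_2_6_9_8_4
  · exact ch_2_6_9_8_5
  · exact absurd hb (by decide)
  · exact ch_2_6_9_8_7
  · exact absurd hb (by decide)
  · exact absurd hb (by decide)
  · exact ch_2_6_9_8_10

theorem ch_2_6_9 : enum 11 ck11 2 7 38432 581 4 9 = true := by
  refine enum_intro 11 ck11 2 6 38432 581 4 9 ?_
  intro v hv hb hd
  interval_cases v
  · exact absurd hb (by decide)
  · exact ch_2_6_9_1
  · exact absurd hb (by decide)
  · exact ch_2_6_9_3
  · exact ch_2_6_9_4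
  · exact ch_2_6_9_5
  · exact absurd hb (by decide)
  · exact ch_2_6_9_7
  · exact ch_2_6_9_8
  · exact absurd hb (by decide)
  · exact absurd hd (by decide)

end Cfsg.Agent.Helper9.T11
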