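import Mathlib
import Cfsg.Agent.Helper9.T11.Chk

set_option autoImplicit false
set_option Elab.async false

/-!
A part of the enumeration on 11 points: the test holds at every permutation of the part.
-/

namespace Cfsg.Agent.Helper9.T11

set_option maxRecDepth 100000 in
theorem ch_2_6_10_1_3 : enum 11 ck11 2 5 3253792 1103 6 3 = true := by
  decide +kernel

set_option maxRecDepth 100000 in
theorem ch_2_6_10_1_4 : enum 11 ck11 2 5 4302368 1111 6 4 = true := by
  decide +kernel

set_option maxRecDepth 100000 in
theorem ch_2_6_10_1_5 : enum 11 ck11 2 5 5350944 1127 6 5 = true := by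
  decide +kernel

set_option maxRecDepth 100000 in
theorem ch_2_6_10_1_7 : enum 11 ck11 2 5 7448096 1223 6 7 = true := by
  decide +kernel

set_option maxRecDepth 100000 in
theorem ch_2_6_10_1_8 : enum 11 ck11 2 5 8496672 1351 6 8 = true := by
  decide +kernel

set_option maxRecDepth 100000 in
theorem ch_2_6_10_1_9 : enum 11 ck11 2 5 9545248 1607 6 9 = true := by
  decide +kernel

theorem ch_2_6_10_1 : enum 11 ck11 2 6 108064 1095 5 1 = true := by
  refine enum_intro 11 ck11 2 5 108064 1095 5 1 ?_
  intro v hv hb hd
  interval_cases v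
  · exact absurd hb (by decide)
  · exact absurd hb (by decide)
  · exact absurd hb (by decide)
  · exact ch_2_6_10_1_3
  · exact ch_2_6_10_1_4
  · exact ch_2_6_10_1_5
  · exact absurd hb (by decide)
  · exact ch_2_6_10_1_7
  · exact ch_2_6_10_1_8
  · exact ch_2_6_10_1_9
  · exact absurd hb (by decide)

set_option maxRecDepth 100000 in
theorem ch_2_6_10_3_1 : enum 11 ck11 2 5 1287712 1103 6 1 = true := by
  decide +kernel

set_option maxRecDepth 100000 in
theorem ch_2_6_10_3_5 : enum 11 ck11 2 5 5482016 1133 6 5 = true := by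
  decide +kernel

set_option maxRecDepth 100000 in
theorem ch_2_6_10_3_7 : enum 11 ck11 2 5 7579168 1229 6 7 = true := by
  decide +kernel

set_option maxRecDepth 100000 in
theorem ch_2_6_10_3_8 : enum 11 ck11 2 5 8627744 1357 6 8 = true := by
  decide +kernel

set_option maxRecDepth 100000 in
theorem ch_2_6_10_3_9 : enum 11 ck11 2 5 9676320 1613 6 9 = true := by
  decide +kernel

theorem ch_2_6_10_3 : enum 11 ck11 2 6 239136 1101 5 3 = true := by
  refine enum_intro 11 ck11 2 5 239136 1101 5 3 ?_
  intro v hv hb hd
  interval_cases v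
  · exact absurd hb (by decide)
  · exact ch_2_6_10_3_1
  · exact absurd hb (by decide)
  · exact absurd hb (by decide)
  · exact absurd hd (by decide)
  · exact ch_2_6_10_3_5
  · exact absurd hb (by decide)
  · exact ch_2_6_10_3_7
  · exact ch_2_6_10_3_8
  · exact ch_2_6_10_3_9
  · exact absurd hb (by decide)

set_option maxRecDepth 100000 in
theorem ch_2_6_10_4_1 : enum 11 ck11 2 5 1353248 1111 6 1 = true := by
  decide +kernel

set_option maxRecDepth 100000 in
theorem ch_2_6_10_4_3 : enum 11 ck11 2 5 3450400 1117 6 3 = true := by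
  decide +kernel

set_option maxRecDepth 100000 in
theorem ch_2_6_10_4_7 : enum 11 ck11 2 5 7644704 1237 6 7 = true := by
  decide +kernel

set_option maxRecDepth 100000 in
theorem ch_2_6_10_4_8 : enum 11 ck11 2 5 8693280 1365 6 8 = true := by
  decide +kernel

set_option maxRecDepth 100000 in
theorem ch_2_6_10_4_9 : enum 11 ck11 2 5 9741856 1621 6 9 = true := by
  decide +kernel

theorem ch_2_6_10_4 : enum 11 ck11 2 6 304672 1109 5 4 = true := by
  refine enum_intro 11 ck11 2 5 304672 1109 5 4 ?_
  intro v hv hb hd
  interval_cases v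
  · exact absurd hb (by decide)
  · exact ch_2_6_10_4_1
  · exact absurd hb (by decide)
  · exact ch_2_6_10_4_3
  · exact absurd hb (by decide)
  · exact absurd hd (by decide)
  · exact absurd hb (by decide)
  · exact ch_2_6_10_4_7
  · exact ch_2_6_10_4_8
  · exact ch_2_6_10_4_9
  · exact absurd hb (by decide)

set_option maxRecDepth 100000 in
theorem ch_2_6_10_5_1 : enum 11 ck11 2 5 1418784 1127 6 1 = true := by
  decide +kernel

set_option maxRecDepth 100000 in
theorem ch_2_6_10_5_3 : enum 11 ck11 2 5 3515936 1133 6 3 = true := by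
  decide +kernel

set_option maxRecDepth 100000 in
theorem ch_2_6_10_5_4 : enum 11 ck11 2 5 4564512 1141 6 4 = true := by
  decide +kernel

set_option maxRecDepth 100000 in
theorem ch_2_6_10_5_7 : enum 11 ck11 2 5 7710240 1253 6 7 = true := by
  decide +kernel

set_option maxRecDepth 100000 in
theorem ch_2_6_10_5_8 : enum 11 ck11 2 5 8758816 1381 6 8 = true := by
  decide +kernel

set_option maxRecDepth 100000 in
theorem ch_2_6_10_5_9 : enum 11 ck11 2 5 9807392 1637 6 9 = true := by
  decide +kernel

theorem ch_2_6_10_5 : enum 11 ck11 2 6 370208 1125 5 5 = true := by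
  refine enum_intro 11 ck11 2 5 370208 1125 5 5 ?_
  intro v hv hb hd
  interval_cases v
  · exact absurd hb (by decide)
  · exact ch_2_6_10_5_1
  · exact absurd hb (by decide)
  · exact ch_2_6_10_5_3
  · exact ch_2_6_10_5_4
  · exact absurd hb (by decide)
  · exact absurd hb (by decide)
  · exact ch_2_6_10_5_7
  · exact ch_2_6_10_5_8
  · exact ch_2_6_10_5_9
  · exact absurd hb (by decide)

set_option maxRecDepth 100000 in
theorem ch_2_6_10_7_1 : enum 11 ck11 2 5 1549856 1223 6 1 = true := by
  decide +kernel

set_option maxRecDepth 100000 in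
theorem ch_2_6_10_7_3 : enum 11 ck11 2 5 3647008 1229 6 3 = true := by
  decide +kernel

set_option maxRecDepth 100000 in
theorem ch_2_6_10_7_4 : enum 11 ck11 2 5 4695584 1237 6 4 = true := by
  decide +kernel

set_option maxRecDepth 100000 in
theorem ch_2_6_10_7_5 : enum 11 ck11 2 5 5744160 1253 6 5 = true := by
  decide +kernel

set_option maxRecDepth 100000 in
theorem ch_2_6_10_7_9 : enum 11 ck11 2 5 9938464 1733 6 9 = true := by
  decide +kernel

theorem ch_2_6_10_7 : enum 11 ck11 2 6 501280 1221 5 7 = true := by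
  refine enum_intro 11 ck11 2 5 501280 1221 5 7 ?_
  intro v hv hb hd
  interval_cases v
  · exact absurd hb (by decide)
  · exact ch_2_6_10_7_1
  · exact absurd hb (by decide)
  · exact ch_2_6_10_7_3
  · exact ch_2_6_10_7_4
  · exact ch_2_6_10_7_5
  · exact absurd hb (by decide)
  · exact absurd hb (by decide)
  · exact absurd hd (by decide)
  · exact ch_2_6_10_7_9
  · exact absurd hb (by decide)

set_option maxRecDepth 100000 in
theorem ch_2_6_10_8_1 : enum 11 ck11 2 5 1615392 1351 6 1 = true := by
  decide +kernel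

set_option maxRecDepth 100000 in
theorem ch_2_6_10_8_3 : enum 11 ck11 2 5 3712544 1357 6 3 = true := by
  decide +kernel

set_option maxRecDepth 100000 in
theorem ch_2_6_10_8_4 : enum 11 ck11 2 5 4761120 1365 6 4 = true := by
  decide +kernel

set_option maxRecDepth 100000 in
theorem ch_2_6_10_8_5 : enum 11 ck11 2 5 5809696 1381 6 5 = true := by
  decide +kernel

set_option maxRecDepth 100000 in
theorem ch_2_6_10_8_7 : enum 11 ck11 2 5 7906848 1477 6 7 = true := by
  decide +kernel

theorem ch_2_6_10_8 : enum 11 ck11 2 6 566816 1349 5 8 = true := by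
  refine enum_intro 11 ck11 2 5 566816 1349 5 8 ?_
  intro v hv hb hd
  interval_cases v
  · exact absurd hb (by decide)
  · exact ch_2_6_10_8_1
  · exact absurd hb (by decide)
  · exact ch_2_6_10_8_3
  · exact ch_2_6_10_8_4
  · exact ch_2_6_10_8_5
  · exact absurd hb (by decide)
  · exact ch_2_6_10_8_7
  · exact absurd hb (by decide)
  · exact absurd hd (by decide)
  · exact absurd hb (by decide)

set_option maxRecDepth 100000 in
theorem ch_2_6_10_9_1 : enum 11 ck11 2 5 1680928 1607 6 1 = true := by
  decide +kernel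

set_option maxRecDepth 100000 in
theorem ch_2_6_10_9_3 : enum 11 ck11 2 5 3778080 1613 6 3 = true := by
  decide +kernel

set_option maxRecDepth 100000 in
theorem ch_2_6_10_9_4 : enum 11 ck11 2 5 4826656 1621 6 4 = true := by
  decide +kernel

set_option maxRecDepth 100000 in
theorem ch_2_6_10_9_5 : enum 11 ck11 2 5 5875232 1637 6 5 = true := by
  decide +kernel

set_option maxRecDepth 100000 in
theorem ch_2_6_10_9_7 : enum 11 ck11 2 5 7972384 1733 6 7 = true := by
  decide +kernel

set_option maxRecDepth 100000 in
theorem ch_2_6_10_9_8 : enum 11 ck11 2 5 9020960 1861 6 8 = true := by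
  decide +kernel

theorem ch_2_6_10_9 : enum 11 ck11 2 6 632352 1605 5 9 = true := by
  refine enum_intro 11 ck11 2 5 632352 1605 5 9 ?_
  intro v hv hb hd
  interval_cases v
  · exact absurd hb (by decide)
  · exact ch_2_6_10_9_1
  · exact absurd hb (by decide)
  · exact ch_2_6_10_9_3
  · exact ch_2_6_10_9_4
  · exact ch_2_6_10_9_5
  · exact absurd hb (by decide)
  · exact ch_2_6_10_9_7
  · exact ch_2_6_10_9_8
  · exact absurd hb (by decide)
  · exact absurd hb (by decide)

theorem ch_2_6_10 : enum 11 ck11 2 7 42528 1093 4 10 = true := by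
  refine enum_intro 11 ck11 2 6 42528 1093 4 10 ?_
  intro v hv hb hd
  interval_cases v
  · exact absurd hb (by decide)
  · exact ch_2_6_10_1
  · exact absurd hb (by decide)
  · exact ch_2_6_10_3
  · exact ch_2_6_10_4
  · exact ch_2_6_10_5
  · exact absurd hb (by decide)
  · exact ch_2_6_10_7
  · exact ch_2_6_10_8
  · exact ch_2_6_10_9
  · exact absurd hb (by decide)

end Cfsg.Agent.Helper9.T11
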