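import Mathlib
import Cfsg.Agent.Helper9.T11.Ch.C2x6p0
import Cfsg.Agent.Helper9.T11.Ch.C2x6p1

set_option autoImplicit false
set_option Elab.async false

/-!
A part of the enumeration on 11 points: the test holds at every permutation of the part.
-/

namespace Cfsg.Agent.Helper9.T11

theorem ch_2_6 : enum 11 ck11 2 8 1568 69 3 6 = true := by
  refine enum_intro 11 ck11 2 7 1568 69 3 6 ?_
  intro v hv hb hd
  interval_cases v
  · exact absurd hb (by decide)
  · exact ch_2_6_1
  · exact absurd hb (by decide)
  · exact ch_2_6_3
  · exact ch_2_6_4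
  · exact ch_2_6_5
  · exact absurd hb (by decide)
  · exact absurd hd (by decide)
  · exact ch_2_6_8
  · exact ch_2_6_9
  · exact ch_2_6_10

end Cfsg.Agent.Helper9.T11
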